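import Cfsg.Agent.SM.Sp.Defs
import Cfsg.Agent.H180.MElNum

/-!
# SM (S3570), sporadic socles: the boxes `BoxRed` and `BoxLc` (helper33)
-/

set_option autoImplicit false

namespace Cfsg.Agent.SM.Sp

open Cfsg Subgroup

namespace Rd

theorem char_comap {A B : Type} [Group A] [Group B] (e : A ≃* B) {C : Subgroup B} (hC : C.Characteristic) :
    (C.comap e.toMonoidHom).Characteristic := by
  rw [characteristic_iff_le_comap] at hC ⊢
  intro φ x hx
  have h1 := hC ((e.symm.trans φ).trans e) hx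
  simpa using h1

/-- `Lc` is inherited along an injective homomorphism -/
theorem lc_of_map {K K' : Type} [Group K] [Group K'] (f : K →* K') (hf : Function.Injective f) {U V : Subgroup K}
    (h : Lc (U.map f) (V.map f)) : Lc U V := by
  intro C hC hne x hx
  let e : V ≃* V.map f := V.equivMapOfInjective f hf
  have he : ∀ v : V, ((e v : V.map f) : K') = f v := fun v => rfl
  have h1 : C.comap e.symm.toMonoidHom ≠ ⊥ := by
    intro h0
    apply hne
    rw [eq_bot_iff]
    intro c hc
    have h2 : e c ∈ C.comap e.symm.toMonoidHom := by simpa using hc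
    rw [h0, mem_bot] at h2
    exact mem_bot.2 (e.injective (h2.trans (map_one e).symm))
  have h2 : (C.comap e.symm.toMonoidHom).map (V.map f).subtype = (C.map V.subtype).map f := by
    ext y
    constructor
    · rintro ⟨z, hz, rfl⟩
      refine ⟨e.symm z, ⟨e.symm z, hz, rfl⟩, ?_⟩
      rw [← he, e.apply_symm_apply]
      rfl
    · rintro ⟨_, ⟨c, hc, rfl⟩, rfl⟩
      exact ⟨e c, by simpa using hc, rfl⟩
  have h3 := h _ (char_comap e.symm hC) h1 (x := f x) ⟨⟨x, hx.1, rfl⟩, by
    rw [h2]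
    exact le_normalizer_map f ⟨x, hx.2, rfl⟩⟩
  obtain ⟨y, hy, h4⟩ := h3
  exact hf h4 ▸ hy

theorem lc_map {K K' : Type} [Group K] [Group K'] (e : K ≃* K') {U V : Subgroup K} (h : Lc U V) :
    Lc (U.map e.toMonoidHom) (V.map e.toMonoidHom) := by
  have h1 : ∀ W : Subgroup K, (W.map e.toMonoidHom).map e.symm.toMonoidHom = W := fun W => by
    rw [map_map]
    simp
  refine lc_of_map e.symm.toMonoidHom e.symm.injective ?_
  rwa [h1, h1]

theorem Lc.mono {K : Type} [Group K] {U U' V : Subgroup K} (h : Lc U V) (hU : U' ≤ U) : Lc U' V :=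
  fun C hC hne => (inf_le_inf_right _ hU).trans (h C hC hne)

/-- a maximal subgroup of an almost simple group which does not contain the socle -/
theorem lc_of_cov {Γ : Type} [Group Γ] {G N D : Subgroup Γ} (hAS : AS G N) (hD : D ⋖ G) (hND : ¬ N ≤ D) :
    Lc N (N ⊓ D) := by
  intro C hC hne x hx
  set C' := C.map (N ⊓ D).subtype with hC'
  have hCN : C' ≤ N ⊓ D := map_subtype_le _
  have h1 : D ≤ normalizer (C' : Set Γ) := by
    have h2 : ∀ d ∈ D, ∀ c ∈ C', d * c * d⁻¹ ∈ C' := by
      rintro d hd _ ⟨c, hc, rfl⟩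
      have h3 : ∀ d ∈ D, ∀ v ∈ N ⊓ D, d * v * d⁻¹ ∈ N ⊓ D := fun d hd v hv =>
        ⟨hAS.conj d (hD.le hd) v hv.1, D.mul_mem (D.mul_mem hd hv.2) (D.inv_mem hd)⟩
      let φ : ↥(N ⊓ D) ≃* ↥(N ⊓ D) :=
        { toFun := fun v => ⟨d * v * d⁻¹, h3 d hd v v.2⟩
          invFun := fun v => ⟨d⁻¹ * v * d⁻¹⁻¹, h3 d⁻¹ (D.inv_mem hd) v v.2⟩
          left_inv := fun v => Subtype.ext (by simp [mul_assoc])
          right_inv := fun v => Subtype.ext (by simp [mul_assoc])
          map_mul' := fun v w => Subtype.ext (by simp [mul_assoc]) }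
      exact ⟨φ c, characteristic_iff_le_comap.1 hC φ hc, rfl⟩
    intro d hd
    rw [mem_normalizer_iff]
    intro c
    refine ⟨h2 d hd c, fun hc => ?_⟩
    have h4 := h2 d⁻¹ (D.inv_mem hd) _ hc
    simpa [mul_assoc] using h4
  rcases hD.eq_or_eq (le_inf hD.le h1) (inf_le_left : G ⊓ normalizer (C' : Set Γ) ≤ G) with h2 | h2
  · refine ⟨hx.1, ?_⟩
    have h3 : x ∈ G ⊓ normalizer (C' : Set Γ) := ⟨hAS.le hx.1, hx.2⟩
    rwa [h2] at h3
  · exfalso
    have h3 : G ≤ normalizer (C' : Set Γ) := h2 ▸ inf_le_right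
    have hs := hAS.simple
    have h4 : (C'.subgroupOf N).Normal := ⟨fun c hc g => by
      rw [mem_subgroupOf] at hc ⊢
      exact (mem_normalizer_iff.1 (h3 (hAS.le g.2)) c).1 hc⟩
    rcases h4.eq_bot_or_eq_top with h5 | h5
    · apply hne
      rw [subgroupOf_eq_bot] at h5
      have h6 : C' = ⊥ := h5.eq_bot_of_le (hCN.trans inf_le_left)
      exact (map_eq_bot_iff_of_injective _ (N ⊓ D).subtype_injective).1 h6
    · rw [subgroupOf_eq_top] at h5
      exact hND (h5.trans (hCN.trans inf_le_right))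

theorem lc_sub {Γ : Type} [Group Γ] {S U V : Subgroup Γ} (h : Lc U V) (hV : V ≤ S) :
    Lc (U.subgroupOf S) (V.subgroupOf S) := by
  refine lc_of_map S.subtype S.subtype_injective ?_
  rw [map_subgroupOf_eq_of_le hV, subgroupOf_map_subtype]
  exact Lc.mono h inf_le_left

theorem fa_of {Γ : Type} [Group Γ] {M S H T B : Subgroup Γ} (h : Fac M S H T B) :
    Fa (T.subgroupOf S) (B.subgroupOf S) := by
  have e : T.subgroupOf S ≃* T := subgroupOfEquivOfLe h.le
  have hs := h.asH.simple
  refine ⟨e.isSimpleGroup, fun hc => h.asH.nab ⟨⟨fun a b => ?_⟩⟩, fun h1 => h.ne (le_antisymm h.le ?_), fun h1 => h.nB ?_,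
    fun g => ?_, fun h1 => h.nb ?_, ?_, ?_⟩
  · obtain ⟨a, rfl⟩ := e.surjective a
    obtain ⟨b, rfl⟩ := e.surjective b
    rw [← map_mul, ← map_mul, hc.is_comm.comm a b]
  · exact subgroupOf_eq_top.1 h1
  · exact subgroupOf_eq_top.1 h1
  · obtain ⟨t, ht, b, hb, h1⟩ := h.fac g g.2
    have hbS : b ∈ S := by
      have h2 : b = t⁻¹ * g := by rw [h1, inv_mul_cancel_left]
      exact h2 ▸ S.mul_mem (S.inv_mem (h.le ht)) g.2
    exact ⟨⟨t, h.le ht⟩, ht, ⟨b, hbS⟩, hb, Subtype.ext h1⟩
  · rw [eq_bot_iff]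
    intro x hx
    have h2 : (⟨x, h.le hx.1⟩ : S) ∈ T.subgroupOf S ⊓ B.subgroupOf S := ⟨hx.1, hx.2⟩
    rw [h1, mem_bot] at h2
    exact mem_bot.2 (congrArg Subtype.val h2)
  · have h1 := lc_of_cov h.asH h.pr fun h1 => h.nT (h1.trans inf_le_right)
    have h2 : T ⊓ (H ⊓ B) = T ⊓ B := by rw [← inf_assoc, inf_eq_left.2 h.asH.le]
    rw [h2] at h1
    exact lc_sub h1 (inf_le_left.trans h.le)
  · have h1 := lc_sub (lc_of_cov h.asM h.bm h.nB) (inf_le_left : S ⊓ B ≤ S)
    rwa [subgroupOf_self, inf_subgroupOf_left] at h1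

theorem fa_map {K K' : Type} [Group K] [Group K'] (e : K ≃* K') {X Y : Subgroup K} (h : Fa X Y) :
    Fa (X.map e.toMonoidHom) (Y.map e.toMonoidHom) := by
  have f : X ≃* X.map e.toMonoidHom := X.equivMapOfInjective _ e.injective
  have hs := h.simple
  have ht : ∀ Z : Subgroup K, Z.map e.toMonoidHom = ⊤ → Z = ⊤ := fun Z hZ =>
    map_injective (f := e.toMonoidHom) e.injective (hZ.trans (map_top_of_surjective _ e.surjective).symm)
  have hi : X.map e.toMonoidHom ⊓ Y.map e.toMonoidHom = (X ⊓ Y).map e.toMonoidHom := (map_inf _ _ _ e.injective).symm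
  refine ⟨f.symm.isSimpleGroup, fun hc => h.nab ⟨⟨fun a b => f.injective ?_⟩⟩, fun h1 => h.neX (ht _ h1),
    fun h1 => h.neY (ht _ h1), h.pd.map _ e.surjective, fun h1 => h.nb ?_, ?_, ?_⟩
  · rw [map_mul, map_mul, hc.is_comm.comm]
  · rw [hi] at h1
    exact (map_eq_bot_iff_of_injective _ e.injective).1 h1
  · rw [hi]
    exact lc_map e h.lcX
  · have h1 := lc_map e h.lcY
    rwa [map_top_of_surjective _ e.surjective] at h1

/-! ### the consequences of `Lc` -/

section

variable {G : Type} [Group G] [Finite G] {V : Subgroup G}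

/-- a normal Sylow subgroup of `V` has normaliser `V` and is a Sylow subgroup of `G` -/
theorem core (h : Lc ⊤ V) {p k m : ℕ} (hp : p.Prime) (hk : 0 < k) (hm : ¬ p ∣ m) (hV : Nat.card V = p ^ k * m)
    (P : Subgroup V) (hP : Nat.card P = p ^ k) (hn : P.Normal) :
    normalizer (P.map V.subtype : Set G) = V ∧ V.index % p = 1 := by
  have := Fact.mk hp
  have hi : P.index = m := by
    have h1 := P.card_mul_index
    rw [hP, hV] at h1
    exact Nat.eq_of_mul_eq_mul_left (pow_pos hp.pos k) h1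
  let Q : Sylow p V := (IsPGroup.of_card hP).toSylow (hi ▸ hm)
  have hc : P.Characteristic := Q.characteristic_of_normal hn
  have hne : P ≠ ⊥ := by
    rintro rfl
    rw [card_bot] at hP
    exact (Nat.one_lt_pow hk.ne' hp.one_lt).ne hP
  have h1 : normalizer (P.map V.subtype : Set G) = V := by
    refine le_antisymm (fun x hx => h P hc hne ⟨mem_top x, hx⟩) fun v hv => ?_
    exact le_normalizer_map V.subtype ⟨⟨v, hv⟩, (normalizer_eq_top_iff.2 hn).symm ▸ mem_top _, rfl⟩
  refine ⟨h1, ?_⟩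
  have hP' : Nat.card (P.map V.subtype) = p ^ k := by rw [card_map_of_injective V.subtype_injective, hP]
  have h2 := Sylow.card_normalizer_modEq_card hP'
  rw [h1, ← V.card_mul_index, hV, pow_succ, mul_assoc] at h2
  have h3 : m ≡ m * V.index [MOD p] := Nat.ModEq.mul_left_cancel' (pow_pos hp.pos k).ne' h2
  have h4 : 1 ≡ V.index [MOD p] :=
    Nat.ModEq.cancel_left_of_coprime ((Nat.Prime.coprime_iff_not_dvd hp).2 hm) (by rwa [mul_one])
  rw [← h4, Nat.mod_eq_of_lt hp.one_lt]

theorem exists_syl {A : Type} [Group A] [Finite A] {p k m : ℕ} [hp : Fact p.Prime] (hm : ¬ p ∣ m)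
    (hV : Nat.card A = p ^ k * m) :
    ∃ P : Sylow p A, Nat.card P = p ^ k ∧ Nat.card (Sylow p A) ∣ m ∧ Nat.card (Sylow p A) % p = 1 ∧ P.index = m := by
  obtain ⟨P⟩ : Nonempty (Sylow p A) := inferInstance
  have hm0 : m ≠ 0 := by
    rintro rfl
    exact hm (dvd_zero p)
  have h1 : Nat.card P = p ^ k := by
    rw [P.card_eq_multiplicity, hV, Nat.factorization_mul (pow_pos hp.out.pos k).ne' hm0, Finsupp.add_apply,
      Nat.factorization_eq_zero_of_not_dvd hm, hp.out.factorization_pow, Finsupp.single_eq_same, add_zero]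
  have hi : P.index = m := by
    have h2 := (P : Subgroup A).card_mul_index
    rw [h1, hV] at h2
    exact Nat.eq_of_mul_eq_mul_left (pow_pos hp.out.pos k) h2
  refine ⟨P, h1, hi ▸ P.card_dvd_index, ?_, hi⟩
  rw [card_sylow_modEq_one p A, Nat.mod_eq_of_lt hp.out.one_lt]

theorem normal_of_card {A : Type} [Group A] [Finite A] {p : ℕ} [Fact p.Prime] (h : Nat.card (Sylow p A) = 1)
    (P : Sylow p A) : P.Normal := by
  have := (Nat.card_eq_one_iff_unique.1 h).1
  exact P.normal_of_subsingleton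

theorem comm_of_card {A : Type} [Group A] [Finite A] {p k : ℕ} [Fact p.Prime] (hA : Nat.card A = p ^ k) (hk : k ≤ 2)
    (a b : A) : a * b = b * a := by
  rcases Nat.lt_or_ge k 2 with h | h
  · have h1 : IsCyclic A := isCyclic_of_card_dvd_prime (p := p) (by
      rw [hA]
      exact (pow_dvd_pow p (by omega : k ≤ 1)).trans (pow_one p).dvd)
    exact (IsCyclic.isMulCommutative (α := A)).is_comm.comm a b
  · exact (IsPGroup.isMulCommutative_of_card_eq_prime_sq (p := p) (by rw [hA, le_antisymm hk h])).is_comm.comm a b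

theorem card_pow_eq_one {p : ℕ} [hp : Fact p.Prime] :
    Nat.card {x : G // x ^ p = 1} = 1 + Nat.card {x : G // orderOf x = p} := by
  have h1 : {x : G | x ^ p = 1} = insert 1 {x : G | orderOf x = p} := by
    ext x
    constructor
    · intro hx
      by_cases h : x = 1
      · exact Or.inl h
      · exact Or.inr (orderOf_eq_prime hx h)
    · rintro (rfl | hx)
      · exact one_pow p
      · exact (show orderOf x = p from hx) ▸ pow_orderOf_eq_one x
  have h2 : (1 : G) ∉ {x : G | orderOf x = p} := fun h => hp.out.one_lt.ne ((orderOf_one (G := G)).symm.trans h)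
  change Set.ncard {x : G | x ^ p = 1} = 1 + Set.ncard {x : G | orderOf x = p}
  rw [h1, Set.ncard_insert_of_notMem h2, add_comm]

theorem lc_top (h : Lc ⊤ V) {p k m : ℕ} (hp : p.Prime) (hk : 0 < k) (hm : ¬ p ∣ m) (hV : Nat.card V = p ^ k * m) :
    (Cl p m → V.index % p = 1) ∧
      (Cl p m → k = 1 → Nat.card {x : G // x ^ p = 1} = 1 + (p - 1) * V.index) ∧
      (m = 1 → k ≤ 2 → IsSimpleGroup G → IsMulCommutative G) ∧
      ∀ q j : ℕ, q.Prime → k = 1 → m = q ^ j → (∀ d, d ∣ m → d % p = 1 → d = 1 ∨ d = m) →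
        V.index % p = 1 ∨ V.index % q = 1 := by
  have := Fact.mk hp
  obtain ⟨P, h1, h2, h3, h4⟩ := exists_syl hm hV
  have hc := fun h5 : Nat.card (Sylow p V) = 1 => core h hp hk hm hV P h1 (normal_of_card h5 P)
  have hP' : Nat.card ((P : Subgroup V).map V.subtype) = p ^ k := by rw [card_map_of_injective V.subtype_injective, h1]
  have hs : Nat.card (Sylow p V) = 1 → ¬ p ∣ ((P : Subgroup V).map V.subtype).index := fun h5 hd => by
    rw [index_map_subtype, h4] at hd
    rcases hp.dvd_mul.1 hd with h6 | h6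
    · exact hm h6
    · have h7 := (hc h5).2
      rw [Nat.mod_eq_zero_of_dvd h6] at h7
      exact zero_ne_one h7
  refine ⟨fun h5 => (hc (h5 _ h2 h3)).2, fun h5 h6 => ?_, fun h5 h6 hG => ?_, fun q j hq h5 h6 h7 => ?_⟩
  · let Q : Sylow p G := (IsPGroup.of_card hP').toSylow (hs (h5 _ h2 h3))
    have h8 : (Nat.card G).factorization p = 1 := by
      have h9 := Q.card_eq_multiplicity
      rw [show Nat.card Q = p ^ k from hP', h6] at h9
      exact (Nat.pow_right_injective hp.two_le h9).symm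
    rw [card_pow_eq_one, H180.MEl.card_order_prime h8, Q.card_eq_index_normalizer, mul_comm]
    congr 3
    exact (hc (h5 _ h2 h3)).1
  · have h8 : Nat.card (Sylow p V) = 1 := Nat.dvd_one.1 (h5 ▸ h2)
    let Q : Sylow p G := (IsPGroup.of_card hP').toSylow (hs h8)
    have h9 : normalizer ((Q : Subgroup G) : Set G) = V := (hc h8).1
    have hcV : ∀ a b : V, a * b = b * a := comm_of_card (p := p) (by rw [hV, h5, mul_one]) h6
    have hQV : (Q : Subgroup G) ≤ V := map_subtype_le _
    have hle : normalizer ((Q : Subgroup G) : Set G) ≤ centralizer ((Q : Subgroup G) : Set G) := by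
      rw [h9]
      intro v hv x hx
      exact congrArg Subtype.val (hcV ⟨x, hQV hx⟩ ⟨v, hv⟩)
    have h10 := MonoidHom.ker_transferSylow_isComplement' Q hle
    rcases (inferInstance : (MonoidHom.transferSylow Q hle).ker.Normal).eq_bot_or_eq_top with h11 | h11
    · rw [h11, isComplement'_bot_left] at h10
      exact ⟨⟨fun a b => congrArg Subtype.val (hcV ⟨a, hQV (h10 ▸ mem_top a)⟩ ⟨b, hQV (h10 ▸ mem_top b)⟩)⟩⟩
    · rw [h11, isComplement'_top_left] at h10
      have h12 : Nat.card Q = p ^ k := hP'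
      rw [h10, card_bot] at h12
      exact absurd h12 (Nat.one_lt_pow hk.ne' hp.one_lt).ne
  · by_cases h8 : Nat.card (Sylow p V) = 1
    · exact Or.inl (hc h8).2
    · right
      have h9 : Nat.card (Sylow p V) = m := (h7 _ h2 h3).resolve_left h8
      have hj : 0 < j := Nat.pos_of_ne_zero fun h0 => h8 (by rw [h9, h6, h0, pow_zero])
      have h10 : normalizer ((P : Subgroup V) : Set V) = P := by
        refine le_antisymm (relIndex_eq_one.1 ?_) le_normalizer
        have h11 := relIndex_mul_index (le_normalizer : (P : Subgroup V) ≤ _)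
        rw [h4, ← h9, P.card_eq_index_normalizer] at h11
        exact Nat.eq_of_mul_eq_mul_right (Nat.pos_of_ne_zero index_ne_zero_of_finite) (h11.trans (one_mul _).symm)
      have hle : normalizer ((P : Subgroup V) : Set V) ≤ centralizer ((P : Subgroup V) : Set V) := by
        rw [h10]
        intro v hv x hx
        exact congrArg Subtype.val (comm_of_card h1 (by omega) (⟨x, hx⟩ : P) ⟨v, hv⟩)
      have h11 := MonoidHom.ker_transferSylow_isComplement' P hle
      have h12 : Nat.card (MonoidHom.transferSylow P hle).ker = q ^ j := by rw [← h11.index_eq_card, h4, h6]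
      refine (core h hq hj (m := p) (fun hd => hm ?_) (by rw [hV, h5, h6, pow_one, mul_comm]) _ h12 inferInstance).2
      rw [h6, ← (Nat.prime_dvd_prime_iff_eq hq hp).1 hd]
      exact dvd_pow_self q hj.ne'

end

end Rd

theorem boxRed : BoxRed := by
  refine ⟨fun Γ _ _ M S H T B h => Rd.fa_of h, fun K K' _ _ L e h X Y hF => ?_⟩
  have h1 := h _ _ (Rd.fa_map e hF)
  rwa [card_map_of_injective e.injective, index_map_of_bijective e.bijective] at h1

theorem boxLc : BoxLc := by
  intro K _ _ U V hVU h p k m hp hk hm hV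
  have h1 := Rd.lc_sub h hVU
  rw [subgroupOf_self] at h1
  exact Rd.lc_top h1 hp hk hm ((Nat.card_congr (subgroupOfEquivOfLe hVU).toEquiv).trans hV)

end Cfsg.Agent.SM.Sp
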