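import Cfsg.Agent.SM.Sp.NFi22
import Cfsg.Agent.TH.Spor.InD

/-!
# SM (S3570), sporadic socles: the list for `Fi22` (helper26)
-/

set_option autoImplicit false

namespace Cfsg.Agent.SM.Sp

open Cfsg Cfsg.Agent.TH.Spor

theorem lst_fi22 (K : Type) [Group K] [Finite K] (h : Spor.IsoFi22 K) : Lst K [(17971200, 3510)] :=
  NFi22.lst (in_fi22 h)

end Cfsg.Agent.SM.Sp
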