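import Cfsg.Agent.SM.Sp.NSuzD

/-!
# SM (S3570), sporadic socles: Suz, certificates (helper26; generated by notes/SM/sp26/gen2.py.txt)
-/

set_option autoImplicit false
set_option Elab.async false

namespace Cfsg.Agent.SM.Sp.NSuz

open Cfsg Cfsg.Agent.TAB.Eng Cfsg.Agent.H940.Eng Cfsg.Agent.TH.Spor

/-- a certificate -/
noncomputable def c0 : Hd × Tr :=
  ((485222400, [], []), (.far (.ofNat 1) [(.ofNat 1, 7), (.negSucc 0, 9), (.negSucc 0, 22), (.ofNat 1, 24), (.ofNat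
  1, 25), (.negSucc 0, 28)]))

/-- a certificate -/
noncomputable def c1 : Hd × Tr :=
  ((90979200, [], []), (.far (.ofNat 1) [(.ofNat 1, 7), (.negSucc 0, 9), (.negSucc 0, 22), (.ofNat 1, 24), (.ofNat 1,
  25), (.negSucc 0, 28)]))

/-- a certificate -/
noncomputable def c2 : Hd × Tr :=
  ((45489600, [], []), (.far (.ofNat 0) [(.ofNat 122, 6), (.ofNat 122, 7), (.negSucc 121, 9), (.negSucc 121, 21),
  (.negSucc 121, 22), (.ofNat 243, 24), (.ofNat 122, 25), (.negSucc 121, 27), (.negSucc 121, 28), (.ofNat 122, 30),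
  (.negSucc 60, 36)]))

/-- a certificate -/
noncomputable def c3 : Hd × Tr :=
  ((479001600, [], []), (.far (.ofNat 27) [(.negSucc 26, 6), (.ofNat 27, 21), (.negSucc 26, 24), (.ofNat 27, 27),
  (.negSucc 26, 30), (.ofNat 13, 36)]))

/-- a certificate -/
noncomputable def c4 : Hd × Tr :=
  ((239500800, [], []), (.far (.ofNat 27) [(.negSucc 26, 6), (.ofNat 27, 21), (.negSucc 26, 24), (.ofNat 27, 27),
  (.negSucc 26, 30), (.ofNat 13, 36)]))

/-- a certificate -/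
noncomputable def c5 : Hd × Tr :=
  ((39916800, [], []), (.far (.negSucc 373) [(.ofNat 171, 7), (.negSucc 202, 8), (.ofNat 670, 9), (.ofNat 343, 10),
  (.ofNat 234, 11), (.ofNat 405, 12), (.ofNat 1325, 13), (.ofNat 1496, 14), (.ofNat 2166, 15), (.ofNat 2688, 16),
  (.ofNat 2088, 17), (.ofNat 1590, 18), (.ofNat 1387, 19), (.ofNat 2930, 20), (.ofNat 4255, 21), (.ofNat 3842, 22),
  (.ofNat 5096, 23), (.ofNat 4387, 24), (.ofNat 5751, 25), (.ofNat 5751, 26), (.ofNat 6234, 27), (.ofNat 5984, 28),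
  (.ofNat 6561, 29), (.ofNat 6413, 30), (.ofNat 109, 32), (.ofNat 842, 33), (.ofNat 1247, 34), (.ofNat 1917, 35),
  (.ofNat 3351, 36)]))

/-- a certificate -/
noncomputable def c6 : Hd × Tr :=
  ((19958400, [], []), (.far (.negSucc 2980) [(.ofNat 1690, 7), (.ofNat 318, 9), (.ofNat 1759, 10), (.ofNat 2981,
  12), (.ofNat 2816, 13), (.ofNat 4506, 14), (.ofNat 4983, 15), (.ofNat 2198, 16), (.ofNat 7562, 17), (.ofNat 3111,
  18), (.ofNat 3111, 19), (.ofNat 9570, 20), (.ofNat 13519, 21), (.ofNat 19683, 22), (.ofNat 16251, 23), (.ofNat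
  18123, 24), (.ofNat 18184, 25), (.ofNat 17618, 26), (.ofNat 18710, 27), (.ofNat 17777, 28), (.ofNat 19536, 29),
  (.ofNat 9772, 30), (.ofNat 604, 32), (.ofNat 2574, 33), (.ofNat 4706, 34), (.ofNat 5873, 35), (.ofNat 10510, 36)]))

/-- a certificate -/
noncomputable def c7 : Hd × Tr :=
  ((232906752, [], []), (.far (.ofNat 27) [(.ofNat 15, 4), (.ofNat 15, 5), (.negSucc 6, 6), (.ofNat 6, 7), (.negSucc
  5, 9), (.negSucc 1, 10), (.negSucc 0, 12), (.negSucc 1, 15), (.negSucc 8, 16), (.negSucc 8, 21), (.ofNat 4, 25),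
  (.ofNat 5, 27), (.ofNat 8, 28), (.ofNat 9, 30), (.negSucc 0, 33), (.negSucc 0, 35), (.ofNat 2, 36)]))

/-- a certificate -/
noncomputable def c8 : Hd × Tr :=
  ((116453376, [], []), (.far (.ofNat 1) [(.ofNat 2, 4), (.ofNat 1, 5), (.negSucc 0, 9), (.negSucc 0, 13), (.negSucc
  0, 16), (.negSucc 4, 21), (.ofNat 8, 24), (.negSucc 1, 27), (.ofNat 2, 28), (.ofNat 9, 30), (.negSucc 0, 36)]))

/-- a certificate -/
noncomputable def c9 : Hd × Tr :=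
  ((77635584, [], []), (.far (.ofNat 0) [(.ofNat 1, 4), (.ofNat 1, 5), (.negSucc 0, 9), (.negSucc 0, 13), (.negSucc
  4, 21), (.ofNat 9, 24), (.negSucc 1, 27), (.ofNat 1, 28), (.ofNat 9, 30), (.negSucc 0, 36)]))

/-- a certificate -/
noncomputable def c10 : Hd × Tr :=
  ((38817792, [], []), (.far (.negSucc 2) [(.ofNat 3, 6), (.negSucc 2, 21), (.ofNat 3, 24), (.negSucc 2, 27), (.ofNat
  3, 30), (.negSucc 0, 36)]))

/-- a certificate -/
noncomputable def c11 : Hd × Tr :=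
  ((17971200, [], []), (.far (.ofNat 0) [(.ofNat 81, 1), (.ofNat 81, 2), (.ofNat 81, 11), (.negSucc 161, 16), (.ofNat
  81, 18), (.ofNat 81, 19), (.negSucc 80, 21), (.negSucc 80, 23), (.ofNat 81, 24), (.negSucc 80, 25), (.negSucc 80,
  26), (.negSucc 80, 27), (.ofNat 243, 30), (.negSucc 39, 36)]))

/-- a certificate -/
noncomputable def c12 : Hd × Tr :=
  ((12130560, [], []), (.far (.ofNat 0) [(.ofNat 81, 1), (.ofNat 81, 2), (.ofNat 81, 11), (.negSucc 161, 16), (.ofNat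
  81, 18), (.ofNat 81, 19), (.negSucc 80, 21), (.negSucc 80, 23), (.ofNat 81, 24), (.negSucc 80, 25), (.negSucc 80,
  26), (.negSucc 80, 27), (.ofNat 243, 30), (.negSucc 39, 36)]))

/-- a certificate -/
noncomputable def c13 : Hd × Tr :=
  ((8626176, [], []), (.far (.ofNat 1) [(.ofNat 1, 4), (.ofNat 1, 5), (.negSucc 0, 18), (.negSucc 0, 21), (.ofNat 1,
  28)]))

/-- a certificate -/
noncomputable def c14 : Hd × Tr :=
  ((6065280, [], []), (.far (.negSucc 80) [(.ofNat 81, 6), (.negSucc 80, 21), (.ofNat 81, 24), (.negSucc 80, 27),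
  (.ofNat 81, 30), (.negSucc 39, 36)]))

/-- a certificate -/
noncomputable def c15 : Hd × Tr :=
  ((4313088, [], []), (.far (.ofNat 0) [(.ofNat 32, 4), (.ofNat 56, 5), (.ofNat 21, 14), (.ofNat 1, 15), (.negSucc 0,
  16), (.negSucc 69, 21), (.ofNat 4, 22), (.ofNat 1, 23), (.ofNat 77, 24), (.negSucc 1, 25), (.negSucc 38, 27),
  (.ofNat 45, 28), (.ofNat 12, 29), (.ofNat 81, 30), (.ofNat 10, 31), (.ofNat 2, 34)]))

/-- a certificate -/
noncomputable def c16 : Hd × Tr :=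
  ((2875392, [], []), (.far (.negSucc 34) [(.ofNat 23, 4), (.ofNat 1, 7), (.ofNat 29, 15), (.ofNat 5, 18), (.negSucc
  50, 21), (.ofNat 29, 22), (.ofNat 28, 23), (.ofNat 209, 24), (.ofNat 25, 26), (.negSucc 29, 27), (.ofNat 50, 28),
  (.ofNat 19, 29), (.ofNat 243, 30), (.ofNat 21, 35)]))

/-- a certificate -/
noncomputable def c17 : Hd × Tr :=
  ((4245696, [], []), (.far (.ofNat 256) [(.ofNat 264, 4), (.ofNat 170, 5), (.ofNat 148, 8), (.ofNat 209, 11),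
  (.ofNat 140, 14), (.ofNat 29, 15), (.ofNat 17, 17), (.ofNat 148, 20), (.negSucc 247, 21), (.ofNat 185, 22), (.ofNat
  194, 23), (.ofNat 152, 24), (.ofNat 177, 25), (.ofNat 202, 26), (.ofNat 177, 27), (.ofNat 729, 28), (.ofNat 202,
  29), (.ofNat 338, 30), (.ofNat 4, 32), (.ofNat 8, 34), (.ofNat 93, 36)]))

/-- a certificate -/
noncomputable def c18 : Hd × Tr :=
  ((1437696, [], []), (.far (.negSucc 33) [(.ofNat 32, 18), (.negSucc 1, 21), (.ofNat 17, 22), (.ofNat 9, 23),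
  (.ofNat 61, 24), (.ofNat 3, 25), (.ofNat 7, 26), (.ofNat 3, 28), (.ofNat 9, 29), (.ofNat 81, 30)]))

/-- a certificate -/
noncomputable def c19 : Hd × Tr :=
  ((328458240, [], []), (.far (.ofNat 3) [(.negSucc 1, 6), (.ofNat 2, 7), (.negSucc 1, 9), (.ofNat 2, 21), (.negSucc
  1, 22), (.ofNat 2, 25), (.ofNat 2, 27), (.negSucc 1, 28), (.negSucc 1, 30), (.ofNat 1, 36)]))

/-- a certificate -/
noncomputable def c20 : Hd × Tr :=
  ((164229120, [], []), (.far (.ofNat 3) [(.negSucc 1, 6), (.ofNat 2, 7), (.negSucc 1, 9), (.ofNat 2, 21), (.negSucc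
  1, 22), (.ofNat 2, 25), (.ofNat 2, 27), (.negSucc 1, 28), (.negSucc 1, 30), (.ofNat 1, 36)]))

/-- a certificate -/
noncomputable def c21 : Hd × Tr :=
  ((27371520, [], []), (.far (.ofNat 168) [(.ofNat 252, 7), (.ofNat 84, 10), (.ofNat 168, 11), (.ofNat 168, 12),
  (.ofNat 421, 13), (.ofNat 505, 14), (.ofNat 673, 15), (.ofNat 757, 16), (.ofNat 673, 17), (.ofNat 589, 18), (.ofNat
  589, 19), (.ofNat 925, 20), (.ofNat 1346, 21), (.ofNat 1093, 22), (.ofNat 1598, 23), (.ofNat 1682, 24), (.ofNat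
  2019, 25), (.ofNat 1851, 26), (.ofNat 2019, 27), (.ofNat 1766, 28), (.ofNat 2187, 29), (.ofNat 2187, 30), (.ofNat
  84, 32), (.ofNat 252, 33), (.ofNat 421, 34), (.ofNat 631, 35), (.ofNat 1009, 36)]))

/-- a certificate -/
noncomputable def c22 : Hd × Tr :=
  ((5474304, [], []), (.far (.ofNat 0) [(.ofNat 7, 4), (.ofNat 21, 8), (.ofNat 2, 14), (.ofNat 1, 17), (.negSucc 26,
  19), (.negSucc 16, 21), (.ofNat 4, 23), (.ofNat 5, 25), (.ofNat 1, 26), (.ofNat 16, 28), (.ofNat 2, 29), (.negSucc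
  21, 30), (.ofNat 2, 36)]))

/-- certificates -/
noncomputable def CL0 : List (Hd × Tr) :=
  [c0, c1, c2, c3, c4, c5, c6, c7, c8, c9, c10, c11, c12, c13, c14, c15, c16, c17, c18, c19, c20, c21, c22]

theorem okC0 : okL TAB.Sz.dat (TAB.Sm2.mkRows TAB.Sz.rowA TAB.Sz.rowB) P Z CL0 = true := by decide +kernel

/-- a certificate -/
noncomputable def c23 : Hd × Tr :=
  ((3849120, [], [(3, 0), (4, 0)]), (.bf 14 20 (.bf 14 5 (.far (.ofNat 20118) [(.negSucc 20117, 3), (.negSucc 9668,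
  4), (.ofNat 5225, 7), (.ofNat 5225, 8), (.ofNat 29787, 13), (.ofNat 9669, 14), (.ofNat 12146, 15), (.ofNat 4444,
  17), (.ofNat 21304, 18), (.ofNat 4444, 19), (.ofNat 9669, 20), (.ofNat 54350, 21), (.negSucc 4038, 22), (.ofNat
  21034, 23), (.negSucc 46106, 24), (.ofNat 56827, 25), (.ofNat 35928, 26), (.ofNat 59049, 27), (.ofNat 10585, 28),
  (.ofNat 35928, 29), (.negSucc 50145, 30), (.ofNat 7447, 34), (.ofNat 458, 35), (.ofNat 28023, 36)]) (.bf 34 30 (.bf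
  4 212 (.bf 6 20 (.bf 36 2156 (.bf 1 1536 (.bf 31 224 (.bm 1 1 (.bm 6 1 (.bm 6 0 (.far (.ofNat 9) [(.ofNat 9, 21),
  (.negSucc 8, 24), (.ofNat 9, 27), (.negSucc 8, 30), (.ofNat 4, 36), (.negSucc 8, 6)]) (.bm 7 0 (.bm 8 1 (.bm 9 1
  (.bm 9 0 (.far (.ofNat 3) [(.negSucc 1, 6), (.ofNat 2, 7), (.ofNat 2, 21), (.negSucc 1, 22), (.ofNat 2, 25),
  (.ofNat 2, 27), (.negSucc 1, 28), (.negSucc 1, 30), (.ofNat 1, 36), (.negSucc 1, 9)]) (.bm 11 0 (.bf 34 15 (.bm 5 0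
  (.bm 31 0 (.bm 33 1 (.bm 13 0 (.bf 14 15 (.bf 4 179 (.bf 6 17 (.bm 15 0 (.bm 35 0 (.bm 16 0 (.bf 6 5 (.far (.ofNat
  1822) [(.negSucc 2550, 6), (.negSucc 728, 13), (.negSucc 1822, 15), (.negSucc 1093, 16), (.ofNat 1823, 21),
  (.negSucc 1821, 23), (.negSucc 6560, 24), (.negSucc 2551, 25), (.negSucc 1821, 26), (.negSucc 1822, 28), (.negSucc
  1822, 29), (.negSucc 5467, 30), (.negSucc 910, 35)]) (.bf 31 112 (.bm 8 0 (.far (.ofNat 538) [(.negSucc 70, 3),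
  (.negSucc 70, 4), (.ofNat 98, 5), (.negSucc 728, 6), (.ofNat 83, 7), (.negSucc 97, 9), (.ofNat 308, 11), (.ofNat
  13, 12), (.negSucc 229, 13), (.negSucc 183, 15), (.negSucc 7, 16), (.ofNat 15, 17), (.ofNat 378, 19), (.ofNat 555,
  21), (.negSucc 166, 23), (.negSucc 330, 25), (.negSucc 181, 26), (.ofNat 401, 27), (.negSucc 264, 28), (.negSucc
  210, 29), (.negSucc 42, 31), (.ofNat 43, 34), (.ofNat 70, 35), (.ofNat 172, 36), (.negSucc 435, 8)]) (.bm 32 1 (.bm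
  32 0 (.far (.ofNat 0) [(.negSucc 1375, 3), (.negSucc 343, 4), (.negSucc 1697, 5), (.negSucc 101, 6), (.ofNat 672,
  7), (.ofNat 2063, 8), (.negSucc 327, 9), (.negSucc 20, 11), (.negSucc 85, 13), (.ofNat 602, 15), (.negSucc 569,
  16), (.ofNat 688, 17), (.ofNat 1392, 21), (.ofNat 1617, 22), (.ofNat 602, 23), (.ofNat 844, 25), (.ofNat 1290, 26),
  (.ofNat 1994, 27), (.ofNat 274, 28), (.ofNat 946, 29), (.ofNat 2187, 30), (.negSucc 1031, 31), (.ofNat 344, 33),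
  (.ofNat 344, 34), (.ofNat 290, 35), (.ofNat 137, 36), (.negSucc 515, 32)]) (.bm 10 0 (.far (.ofNat 0) [(.negSucc
  242, 3), (.ofNat 104, 7), (.ofNat 69, 8), (.negSucc 207, 10), (.ofNat 69, 11), (.ofNat 35, 18), (.ofNat 69, 19),
  (.negSucc 103, 23), (.negSucc 34, 25), (.ofNat 104, 26), (.negSucc 34, 29), (.ofNat 35, 32), (.ofNat 17, 35)])
  (.far (.ofNat 24) [(.negSucc 4, 3), (.negSucc 4, 4), (.negSucc 178, 5), (.negSucc 98, 6), (.ofNat 78, 8), (.ofNat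
  35, 9), (.ofNat 9, 12), (.ofNat 35, 13), (.ofNat 40, 15), (.negSucc 15, 16), (.ofNat 43, 17), (.ofNat 7, 18),
  (.ofNat 78, 20), (.ofNat 148, 21), (.ofNat 142, 22), (.ofNat 118, 23), (.ofNat 49, 25), (.ofNat 49, 26), (.ofNat
  243, 27), (.ofNat 17, 28), (.ofNat 49, 29), (.ofNat 158, 30), (.negSucc 60, 31), (.negSucc 15, 32), (.ofNat 9, 34),
  (.ofNat 59, 35), (.ofNat 17, 36), (.ofNat 144, 10)]))) (.far (.ofNat 39) [(.negSucc 35, 3), (.ofNat 39, 4),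
  (.negSucc 38, 5), (.negSucc 12, 6), (.ofNat 26, 7), (.ofNat 72, 8), (.ofNat 27, 11), (.ofNat 59, 13), (.ofNat 64,
  15), (.ofNat 80, 16), (.ofNat 34, 17), (.ofNat 72, 20), (.ofNat 121, 21), (.ofNat 56, 22), (.ofNat 144, 23),
  (.ofNat 24, 24), (.ofNat 243, 25), (.ofNat 192, 26), (.ofNat 196, 27), (.ofNat 119, 28), (.ofNat 181, 29), (.ofNat
  1, 31), (.ofNat 60, 34), (.ofNat 37, 35), (.ofNat 97, 36), (.ofNat 36, 32)]))) (.far (.ofNat 8) [(.ofNat 6, 5),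
  (.negSucc 15, 6), (.negSucc 5, 11), (.negSucc 7, 13), (.negSucc 7, 15), (.negSucc 2, 16), (.ofNat 8, 21), (.ofNat
  3, 22), (.negSucc 7, 23), (.negSucc 26, 24), (.negSucc 15, 25), (.negSucc 7, 26), (.negSucc 7, 28), (.negSucc 7,
  29), (.negSucc 20, 30), (.negSucc 6, 35)]))) (.far (.negSucc 19) [(.negSucc 21, 4), (.ofNat 14, 5), (.negSucc 5,
  6), (.negSucc 35, 11), (.negSucc 2, 13), (.ofNat 20, 15), (.ofNat 25, 21), (.negSucc 19, 22), (.ofNat 20, 23),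
  (.negSucc 19, 24), (.ofNat 17, 25), (.ofNat 20, 26), (.ofNat 34, 27), (.negSucc 2, 28), (.ofNat 20, 29), (.negSucc
  80, 30), (.negSucc 10, 31), (.negSucc 7, 35), (.ofNat 42, 16)])) (.far (.ofNat 0) [(.negSucc 23, 3), (.negSucc 11,
  4), (.negSucc 39, 5), (.negSucc 40, 6), (.negSucc 15, 7), (.ofNat 40, 9), (.ofNat 28, 11), (.ofNat 12, 13), (.ofNat
  12, 14), (.ofNat 16, 15), (.ofNat 24, 17), (.ofNat 12, 19), (.ofNat 12, 20), (.ofNat 65, 21), (.ofNat 57, 22),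
  (.ofNat 28, 23), (.ofNat 24, 25), (.ofNat 28, 26), (.ofNat 81, 27), (.ofNat 57, 28), (.ofNat 28, 29), (.ofNat 57,
  30), (.ofNat 16, 36), (.ofNat 34, 35)])) (.far (.ofNat 0) [(.negSucc 1, 4), (.negSucc 1, 6), (.negSucc 1, 7),
  (.ofNat 2, 9), (.negSucc 1, 11), (.ofNat 2, 13), (.ofNat 2, 16), (.ofNat 6, 21), (.ofNat 2, 22), (.ofNat 4, 23),
  (.ofNat 4, 25), (.ofNat 4, 26), (.ofNat 9, 27), (.ofNat 4, 28), (.ofNat 4, 29), (.negSucc 0, 31), (.ofNat 1, 35),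
  (.ofNat 3, 36), (.ofNat 4, 15)])) (.far (.ofNat 0) [(.negSucc 278, 3), (.negSucc 1007, 4), (.negSucc 2268, 6),
  (.negSucc 2571, 7), (.ofNat 2691, 9), (.negSucc 409, 11), (.ofNat 1271, 13), (.ofNat 159, 14), (.ofNat 2417, 15),
  (.ofNat 1532, 18), (.ofNat 4428, 21), (.ofNat 3199, 22), (.ofNat 2298, 23), (.ofNat 998, 25), (.ofNat 2338, 26),
  (.ofNat 6561, 27), (.ofNat 4300, 28), (.ofNat 2577, 29), (.ofNat 3199, 30), (.negSucc 443, 31), (.ofNat 725, 35),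
  (.ofNat 2634, 36)])) (.far (.ofNat 1822) [(.negSucc 485, 3), (.negSucc 485, 4), (.negSucc 242, 5), (.negSucc 1700,
  6), (.ofNat 1276, 7), (.negSucc 1518, 9), (.negSucc 910, 13), (.ofNat 911, 15), (.ofNat 243, 17), (.ofNat 2187,
  18), (.ofNat 1276, 21), (.ofNat 1640, 23), (.ofNat 1519, 25), (.ofNat 1883, 26), (.ofNat 2187, 27), (.ofNat 122,
  28), (.ofNat 1397, 29), (.negSucc 363, 31), (.negSucc 242, 33), (.ofNat 121, 34), (.ofNat 820, 35), (.ofNat 972,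
  36)])) (.far (.ofNat 0) [(.negSucc 68, 4), (.negSucc 242, 6), (.negSucc 103, 7), (.negSucc 75, 8), (.ofNat 104, 9),
  (.ofNat 7, 11), (.negSucc 68, 13), (.ofNat 125, 18), (.ofNat 76, 19), (.ofNat 243, 21), (.ofNat 174, 22), (.negSucc
  173, 25), (.ofNat 208, 27), (.ofNat 35, 28), (.ofNat 174, 30), (.negSucc 34, 31), (.ofNat 3, 35), (.ofNat 52,
  36)])) (.far (.ofNat 0) [(.negSucc 332, 3), (.negSucc 193, 4), (.negSucc 800, 6), (.negSucc 983, 7), (.ofNat 970,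
  9), (.ofNat 21, 11), (.ofNat 183, 14), (.ofNat 804, 15), (.ofNat 63, 16), (.ofNat 3, 17), (.ofNat 533, 18), (.ofNat
  1461, 21), (.ofNat 1245, 22), (.ofNat 820, 23), (.ofNat 334, 25), (.ofNat 973, 26), (.ofNat 2187, 27), (.ofNat
  1589, 28), (.ofNat 962, 29), (.ofNat 1182, 30), (.negSucc 153, 31), (.ofNat 65, 34), (.ofNat 248, 35), (.ofNat 915,
  36), (.ofNat 530, 13)])) (.far (.ofNat 0) [(.ofNat 27, 4), (.negSucc 134, 6), (.ofNat 8, 7), (.ofNat 30, 9),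
  (.ofNat 43, 11), (.ofNat 19, 13), (.ofNat 43, 15), (.ofNat 54, 17), (.ofNat 37, 18), (.ofNat 37, 19), (.ofNat 151,
  20), (.ofNat 149, 21), (.ofNat 55, 22), (.ofNat 102, 23), (.ofNat 116, 25), (.ofNat 127, 26), (.ofNat 243, 27),
  (.ofNat 159, 28), (.ofNat 142, 29), (.ofNat 141, 30), (.negSucc 12, 31), (.ofNat 33, 34), (.ofNat 72, 35), (.ofNat
  134, 36), (.ofNat 108, 33)])) (.far (.ofNat 0) [(.negSucc 8, 3), (.negSucc 3, 4), (.ofNat 1, 5), (.negSucc 3, 6),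
  (.ofNat 6, 7), (.negSucc 0, 9), (.negSucc 5, 11), (.ofNat 2, 15), (.ofNat 2, 16), (.ofNat 3, 17), (.ofNat 2, 19),
  (.ofNat 1, 20), (.ofNat 4, 21), (.negSucc 1, 22), (.ofNat 1, 23), (.ofNat 6, 25), (.ofNat 1, 26), (.negSucc 0, 27),
  (.negSucc 0, 28), (.negSucc 0, 29), (.negSucc 3, 30), (.ofNat 1, 35), (.ofNat 5, 36), (.ofNat 7, 31)])) (.far
  (.ofNat 0) [(.negSucc 80, 11), (.ofNat 81, 18), (.negSucc 39, 35), (.ofNat 81, 5)])) (.far (.ofNat 1983) [(.negSucc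
  232, 1), (.negSucc 1195, 3), (.negSucc 393, 4), (.negSucc 1909, 6), (.ofNat 1268, 7), (.ofNat 29, 8), (.negSucc
  509, 9), (.negSucc 888, 11), (.ofNat 583, 17), (.ofNat 1225, 18), (.ofNat 248, 19), (.ofNat 277, 20), (.ofNat 2187,
  21), (.ofNat 102, 23), (.ofNat 1225, 25), (.ofNat 190, 26), (.ofNat 2143, 27), (.negSucc 655, 28), (.negSucc 203,
  29), (.ofNat 95, 35), (.ofNat 277, 36)])) (.far (.ofNat 0) [(.ofNat 72, 2), (.negSucc 101, 3), (.negSucc 267, 4),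
  (.negSucc 658, 6), (.negSucc 452, 7), (.ofNat 284, 9), (.ofNat 5, 14), (.ofNat 146, 17), (.ofNat 255, 19), (.ofNat
  183, 20), (.ofNat 539, 21), (.ofNat 609, 22), (.ofNat 278, 23), (.negSucc 60, 25), (.ofNat 302, 26), (.ofNat 729,
  27), (.ofNat 535, 28), (.ofNat 409, 29), (.ofNat 609, 30), (.ofNat 61, 32), (.ofNat 148, 33), (.ofNat 65, 34),
  (.ofNat 266, 35), (.ofNat 405, 36), (.ofNat 514, 11)]))) (.far (.negSucc 0) [(.negSucc 0, 7), (.ofNat 1, 22),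
  (.negSucc 0, 24), (.negSucc 0, 25), (.ofNat 1, 28), (.ofNat 1, 9)])) (.far (.negSucc 80) [(.negSucc 42, 3),
  (.negSucc 36, 4), (.ofNat 39, 6), (.negSucc 4, 7), (.ofNat 4, 12), (.ofNat 14, 16), (.ofNat 19, 17), (.ofNat 6,
  20), (.negSucc 67, 21), (.negSucc 2, 22), (.ofNat 23, 23), (.ofNat 17, 24), (.negSucc 27, 25), (.ofNat 12, 26),
  (.negSucc 40, 27), (.negSucc 36, 28), (.negSucc 29, 29), (.ofNat 4, 33), (.ofNat 1, 34), (.ofNat 1, 35), (.ofNat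
  14, 36), (.ofNat 66, 8)])) (.far (.ofNat 163) [(.negSucc 48, 3), (.negSucc 5, 4), (.negSucc 191, 6), (.ofNat 29,
  14), (.ofNat 45, 15), (.ofNat 1, 16), (.ofNat 87, 17), (.ofNat 26, 18), (.ofNat 52, 19), (.ofNat 52, 20), (.ofNat
  198, 21), (.negSucc 21, 22), (.ofNat 71, 23), (.ofNat 194, 25), (.ofNat 48, 26), (.ofNat 243, 27), (.ofNat 51, 28),
  (.ofNat 83, 29), (.negSucc 22, 30), (.ofNat 23, 31), (.ofNat 20, 32), (.ofNat 39, 35), (.ofNat 69, 36), (.ofNat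
  113, 7)]))) (.far (.negSucc 40) [(.negSucc 10, 3), (.negSucc 3, 4), (.ofNat 3, 7), (.ofNat 3, 11), (.ofNat 10, 13),
  (.ofNat 4, 14), (.ofNat 18, 15), (.ofNat 9, 16), (.ofNat 3, 17), (.ofNat 7, 18), (.ofNat 7, 19), (.ofNat 5, 20),
  (.negSucc 22, 21), (.ofNat 9, 22), (.ofNat 23, 23), (.ofNat 81, 24), (.ofNat 36, 25), (.ofNat 31, 26), (.negSucc
  13, 27), (.ofNat 18, 28), (.ofNat 30, 29), (.ofNat 80, 30), (.ofNat 4, 31), (.ofNat 5, 34), (.ofNat 8, 35), (.ofNat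
  45, 6)])) (.far (.negSucc 261) [(.negSucc 30, 3), (.negSucc 156, 4), (.ofNat 189, 7), (.ofNat 47, 10), (.ofNat 52,
  11), (.ofNat 52, 13), (.ofNat 157, 14), (.ofNat 210, 15), (.ofNat 189, 17), (.ofNat 52, 20), (.negSucc 51, 21),
  (.negSucc 51, 22), (.ofNat 262, 23), (.ofNat 713, 24), (.ofNat 503, 25), (.ofNat 105, 26), (.ofNat 157, 27),
  (.ofNat 210, 28), (.ofNat 257, 29), (.ofNat 729, 30), (.ofNat 173, 35), (.ofNat 262, 1)])) (.far (.negSucc 192)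
  [(.negSucc 72, 3), (.negSucc 72, 4), (.ofNat 39, 7), (.ofNat 39, 8), (.ofNat 270, 14), (.ofNat 120, 15), (.ofNat
  120, 17), (.ofNat 120, 19), (.ofNat 159, 20), (.ofNat 163, 21), (.ofNat 403, 22), (.ofNat 279, 23), (.ofNat 326,
  24), (.ofNat 210, 25), (.ofNat 399, 26), (.ofNat 202, 27), (.ofNat 253, 28), (.ofNat 562, 29), (.ofNat 729, 30),
  (.ofNat 81, 33), (.ofNat 43, 34), (.ofNat 4, 35), (.ofNat 60, 36)])) (.far (.negSucc 1886) [(.negSucc 2471, 3),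
  (.ofNat 225, 4), (.ofNat 1213, 7), (.ofNat 944, 12), (.ofNat 539, 13), (.ofNat 4179, 15), (.ofNat 4404, 16),
  (.ofNat 4539, 17), (.ofNat 7010, 18), (.ofNat 3595, 19), (.ofNat 3595, 20), (.ofNat 11369, 21), (.ofNat 10021, 22),
  (.ofNat 7774, 23), (.ofNat 14066, 24), (.ofNat 17930, 25), (.ofNat 12852, 26), (.ofNat 9527, 27), (.ofNat 15863,
  28), (.ofNat 17616, 29), (.ofNat 19683, 30), (.ofNat 2382, 33), (.ofNat 4808, 34), (.ofNat 3618, 35), (.ofNat 2966,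
  36)])) (.far (.negSucc 645) [(.negSucc 1353, 3), (.negSucc 686, 4), (.ofNat 707, 13), (.ofNat 687, 14), (.ofNat
  2020, 17), (.ofNat 1043, 18), (.ofNat 2687, 19), (.ofNat 1354, 20), (.ofNat 3414, 21), (.ofNat 1356, 22), (.ofNat
  3374, 23), (.ofNat 5205, 24), (.ofNat 2061, 25), (.ofNat 4728, 26), (.ofNat 2404, 27), (.ofNat 4041, 28), (.ofNat
  4061, 29), (.ofNat 6561, 30), (.ofNat 1010, 34), (.ofNat 1343, 35), (.ofNat 2374, 36)])) (.far (.ofNat 277)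
  [(.negSucc 671, 3), (.negSucc 1483, 4), (.ofNat 69, 7), (.ofNat 1576, 13), (.ofNat 208, 14), (.ofNat 3111, 15),
  (.ofNat 222, 16), (.ofNat 1122, 18), (.ofNat 23, 19), (.ofNat 23, 20), (.ofNat 2642, 21), (.ofNat 556, 22), (.ofNat
  3065, 23), (.ofNat 6226, 24), (.ofNat 4872, 25), (.ofNat 3250, 26), (.ofNat 4895, 27), (.ofNat 2068, 28), (.ofNat
  3481, 29), (.ofNat 6561, 30), (.ofNat 1081, 35), (.ofNat 2587, 36)])) (.far (.negSucc 25959) [(.negSucc 25819, 3),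
  (.negSucc 9490, 4), (.ofNat 7397, 14), (.ofNat 88940, 15), (.ofNat 8884, 16), (.ofNat 40196, 17), (.ofNat 97759,
  18), (.ofNat 55967, 19), (.ofNat 23866, 20), (.ofNat 47174, 21), (.ofNat 123601, 22), (.ofNat 153002, 23), (.ofNat
  34548, 24), (.ofNat 113085, 25), (.ofNat 177147, 26), (.ofNat 116016, 27), (.ofNat 168494, 28), (.ofNat 160120,
  29), (.ofNat 149264, 30), (.ofNat 19679, 34), (.ofNat 73151, 35), (.ofNat 83828, 36)])) (.far (.negSucc 264)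
  [(.ofNat 756, 2), (.negSucc 2079, 3), (.negSucc 226, 4), (.ofNat 1059, 7), (.ofNat 227, 14), (.ofNat 756, 15),
  (.ofNat 1059, 17), (.ofNat 3195, 18), (.ofNat 1853, 19), (.ofNat 1021, 20), (.ofNat 1286, 21), (.ofNat 1550, 22),
  (.ofNat 1021, 23), (.ofNat 5011, 24), (.ofNat 2080, 25), (.ofNat 2042, 26), (.ofNat 1513, 27), (.ofNat 756, 28),
  (.ofNat 2004, 29), (.ofNat 6561, 30), (.ofNat 529, 34), (.ofNat 397, 35)]))) (.far (.negSucc 446) [(.negSucc 660,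
  3), (.negSucc 354, 4), (.ofNat 240, 7), (.ofNat 92, 11), (.ofNat 256, 15), (.ofNat 33, 16), (.ofNat 329, 17),
  (.ofNat 318, 18), (.ofNat 276, 19), (.ofNat 92, 20), (.ofNat 158, 21), (.ofNat 394, 22), (.ofNat 437, 23), (.ofNat
  1826, 24), (.ofNat 825, 25), (.ofNat 503, 26), (.ofNat 335, 27), (.ofNat 79, 28), (.ofNat 293, 29), (.ofNat 2187,
  30), (.ofNat 79, 34), (.ofNat 291, 35)])))

/-- a certificate -/
noncomputable def c24 : Hd × Tr :=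
  ((251596800, [], [(3, 0)]), (.far (.ofNat 1) [(.ofNat 1, 2), (.negSucc 0, 3), (.negSucc 0, 10), (.ofNat 1, 11),
  (.negSucc 0, 16), (.ofNat 1, 18), (.ofNat 1, 19), (.negSucc 0, 23), (.negSucc 0, 25), (.ofNat 1, 30)]))

/-- a certificate -/
noncomputable def c25 : Hd × Tr :=
  ((251596800, [], [(4, 0)]), (.far (.ofNat 61) [(.ofNat 182, 2), (.negSucc 60, 4), (.negSucc 60, 5), (.negSucc 242,
  10), (.ofNat 61, 11), (.negSucc 60, 14), (.ofNat 61, 15), (.negSucc 121, 16), (.ofNat 122, 18), (.ofNat 182, 19),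
  (.ofNat 61, 21), (.negSucc 121, 23), (.negSucc 121, 25), (.negSucc 60, 28), (.ofNat 122, 30), (.ofNat 61, 32)]))

/-- a certificate -/
noncomputable def c26 : Hd × Tr :=
  ((2737152, [], []), (.far (.negSucc 6) [(.ofNat 1, 13), (.ofNat 1, 14), (.negSucc 2, 19), (.ofNat 3, 23), (.ofNat
  4, 25), (.ofNat 2, 26), (.ofNat 2, 27), (.ofNat 2, 29), (.negSucc 8, 30)]))

/-- certificates -/
noncomputable def CL1 : List (Hd × Tr) :=
  [c23, c24, c25, c26]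

theorem okC1 : okL TAB.Sz.dat (TAB.Sm2.mkRows TAB.Sz.rowA TAB.Sz.rowB) P Z CL1 = true := by decide +kernel

end Cfsg.Agent.SM.Sp.NSuz
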