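import Cfsg.Agent.SM.Sp.NSuzA0
import Cfsg.Agent.SM.Sp.NSuzC0

/-!
# SM (S3570), sporadic socles: Suz (helper26; generated by notes/SM/sp26/gen2.py.txt)
-/

set_option autoImplicit false
set_option Elab.async false

namespace Cfsg.Agent.SM.Sp.NSuz

open Cfsg Cfsg.Agent.TAB.Eng Cfsg.Agent.H940.Eng Cfsg.Agent.TH.Spor

/-- the enumeration -/
theorem lst0 {K : Type} [Group K] [Finite K] (h : In K TAB.Sz.dat (TAB.Sm2.mkRows TAB.Sz.rowA TAB.Sz.rowB)) (h2 : ∀ A : Subgroup K, A.index ∉ [144]) :
    Lst K SV :=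
  lst_of_enum (E := E) h ok1 (H940.Eng.D.ords_suz base) h2 List.mem_cons_self (dv_iff.1 (by decide +kernel)) okB1 (l1
  := [(13, 1), (11, 1), (7, 1)]) rfl (W := [W0, W1, W2].flatten) (by decide +kernel) <| forall_flatten <|
    fa_cons (fun _ h => ⟨_, okD0, h⟩) <| fa_cons (fun _ h => ⟨_, okD1, h⟩) <| fa_cons (fun _ h => ⟨_, okD2, h⟩) <| fa_nil

/-- the heads -/
def FL : List Hd :=
  [(485222400, [], []), (90979200, [], []), (45489600, [], []), (479001600, [], []), (239500800, [], []), (39916800,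
  [], []), (19958400, [], []), (232906752, [], []), (116453376, [], []), (77635584, [], []), (38817792, [], []),
  (17971200, [], []), (12130560, [], []), (8626176, [], []), (6065280, [], []), (4313088, [], []), (2875392, [], []),
  (4245696, [], []), (1437696, [], []), (328458240, [], []), (164229120, [], []), (27371520, [], []), (5474304, [],
  []), (3849120, [], [(3, 0), (4, 0)]), (251596800, [], [(3, 0)]), (251596800, [], [(4, 0)]), (2737152, [], [])]

/-- scripts -/
noncomputable def S0 : List ((ℕ × ℕ) × Ps) :=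
  [((443520, 924), (.ky 0)), ((443520, 4928), (.ky 1)), ((443520, 9856), (.ky 2)), ((4245696, 936), (.ky 3)),
  ((4245696, 1872), (.ky 4)), ((6065280, 936), (.ky 3)), ((6065280, 1872), (.ky 4)), ((6065280, 11232), (.ky 5)),
  ((6065280, 22464), (.ky 6)), ((17971200, 936), (.ky 3)), ((17971200, 1872), (.ky 4)), ((17971200, 11232), (.ky 5)),
  ((17971200, 22464), (.ky 6)), ((19958400, 924), (.ky 0)), ((19958400, 1925), (.ky 7)), ((19958400, 3850), (.ky 8)),
  ((19958400, 4928), (.ky 1)), ((19958400, 5775), (.ky 9)), ((19958400, 9856), (.ky 2)), ((19958400, 11550), (.ky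
  10)), ((19958400, 24948), (.ky 11)), ((19958400, 36960), (.ky 12)), ((19958400, 51975), (.ky 13)), ((19958400,
  73920), (.ky 14)), ((19958400, 103950), (.ky 15)), ((19958400, 133056), (.kx 6)), ((19958400, 155925), (.ky 16)),
  ((239500800, 924), (.ky 0)), ((239500800, 1925), (.ky 7)), ((239500800, 3850), (.ky 8)), ((239500800, 4928), (.ky
  1)), ((239500800, 5775), (.ky 9)), ((239500800, 9856), (.ky 2)), ((239500800, 11550), (.ky 10)), ((239500800,
  24948), (.ky 11)), ((239500800, 36960), (.ky 12)), ((239500800, 51975), (.ky 13)), ((239500800, 73920), (.ky 14)),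
  ((239500800, 103950), (.ky 15)), ((239500800, 105600), (.ky 17)), ((239500800, 133056), (.kx 4)), ((239500800,
  155925), (.ky 16)), ((239500800, 266112), (.kx 4)), ((239500800, 311850), (.ky 18)), ((251596800, 1365), (.ky 19)),
  ((251596800, 2730), (.ky 20)), ((251596800, 16380), (.ky 21)), ((251596800, 81900), (.ky 22)), ((251596800,
  116480), (.br 4 (.kx 25) (.br 3 (.kx 24) (.ky 23)))), ((251596800, 163800), (.ky 26))]

theorem okC : ∀ x ∈ FL, ∃ CL, okL TAB.Sz.dat (TAB.Sm2.mkRows TAB.Sz.rowA TAB.Sz.rowB) P Z CL = true ∧ x ∈ CL.map Prod.fst := by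
  rw [show FL = [CL0.map Prod.fst, CL1.map Prod.fst].flatten by decide +kernel]
  exact forall_flatten <| fa_cons (fun _ h => ⟨_, okC0, h⟩) <| fa_cons (fun _ h => ⟨_, okC1, h⟩) <| fa_nil

/-- **the list** -/
theorem lst {K : Type} [Group K] [Finite K] (h : In K TAB.Sz.dat (TAB.Sm2.mkRows TAB.Sz.rowA TAB.Sz.rowB)) (h2 : ∀ A : Subgroup K, A.index ∉ [144]) :
    Lst K L :=
  lst_of_cert h (lst0 h h2) (l := E.l) (by decide +kernel) (SG := [3, 4]) (by decide +kernel) okC (SS :=
  [S0].flatten) (by decide +kernel) (by decide +kernel)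

end Cfsg.Agent.SM.Sp.NSuz
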