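import Cfsg.Agent.H212.SuzFive.Row

/-!
# SM (S3570): the sporadic Suzuki group has no subgroup of index 144 (helper83)
-/

set_option autoImplicit false

namespace Cfsg.Agent.SM.Sp

open Cfsg Subgroup MulAction Cfsg.Agent.H212.SuzFive
open Cfsg.Agent.SuzThree.ThreeWr (y0)

theorem card_cent_y0 : Nat.card (centralizer ({y0} : Set Spor.Suz)) = 9797760 := by
  have h := (centralizer ({y0} : Set Spor.Suz)).card_mul_index
  rw [H812.FullSuz.index_y0, H212.SuzFive.card, show H940.Eng.D.n_suz = 9797760 * 45760 by decide +kernel] at h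
  exact Nat.eq_of_mul_eq_mul_right (by norm_num) h

theorem no144_suz (A : Subgroup Spor.Suz) : A.index ≠ 144 := by
  intro h
  have := H212.SuzFive.fin
  have := H212.SuzFive.simple
  obtain ⟨g, hs, hk⟩ := H811.SuzCov.cov
  have hc : Nat.card (Spor.Suz ⧸ A) = 144 := h
  have h3 : Nat.card g.ker ∣ 3 := by
    rw [← CpAutSuz.Local.orderOf_y0, ← Nat.card_zpowers, ← card_map_of_injective (subtype_injective _)]
    refine card_dvd_of_le ?_
    rintro _ ⟨c, h1, rfl⟩
    exact (hk c).1 h1
  have key : ∀ ω : Spor.Suz ⧸ A, y0 • ω = ω := fun ω => by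
    set St := stabilizer (centralizer ({y0} : Set Spor.Suz)) ω
    have h1 : St.index ≤ 144 := by
      rw [index_stabilizer, ← hc, ← Set.ncard_univ]
      exact Set.ncard_le_ncard (Set.subset_univ _)
    have h2 : Nat.card St ∣ 3113510400 := by
      have h4 := (stabilizer Spor.Suz ω).card_mul_index
      rw [index_stabilizer_of_transitive, hc, H212.SuzFive.card,
        show H940.Eng.D.n_suz = 3113510400 * 144 by decide +kernel] at h4
      rw [← Nat.eq_of_mul_eq_mul_right (by norm_num) h4, ← card_map_of_injective (subtype_injective _)]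
      refine card_dvd_of_le ?_
      rintro _ ⟨c, h1, rfl⟩
      exact h1
    have h5 : (St.map g).index = (St ⊔ g.ker).index := by
      rw [index_map, MonoidHom.range_eq_top.2 hs, index_top, mul_one]
    have h6 : 112 ≤ (St ⊔ g.ker).index := h5 ▸ min_H _ fun e => by
      rw [e, index_top] at h5
      have h7 := H940.Eng.card_sup_mul_card_inf g.ker St
      rw [sup_comm, index_eq_one.1 h5.symm, card_top, card_cent_y0] at h7
      exact absurd ((Dvd.intro _ h7).trans (Nat.mul_dvd_mul h3 h2)) (by norm_num)
    have h8 := relIndex_mul_index (le_sup_left : St ≤ St ⊔ g.ker)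
    have h9 : St.relIndex (St ⊔ g.ker) = 1 := by
      have h0 : St.index ≠ 0 := index_ne_zero_of_finite
      rcases e : St.relIndex (St ⊔ g.ker) with _ | _ | k
      · rw [e, zero_mul] at h8
        exact absurd h8.symm h0
      · rfl
      · rw [e] at h8
        nlinarith
    exact relIndex_eq_one.1 h9 (mem_sup_right (x := ⟨y0, mem_centralizer_singleton_iff.2 rfl⟩)
      (MonoidHom.mem_ker.2 ((hk _).2 (mem_zpowers y0))))
  have h1 : y0 ∈ A.normalCore := by
    rw [normalCore_eq_ker]
    exact Equiv.ext key
  rcases A.normalCore_normal.eq_bot_or_eq_top with e | e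
  · have h2 := CpAutSuz.Local.orderOf_y0
    rw [e, mem_bot] at h1
    rw [h1, orderOf_one] at h2
    omega
  · have h2 : A = ⊤ := top_le_iff.1 (e ▸ A.normalCore_le)
    rw [h2, index_top] at h
    omega

theorem no144 {K : Type} [Group K] (h : Spor.IsoSuz K) (A : Subgroup K) : A.index ≠ 144 := by
  obtain ⟨e⟩ := h
  rw [← index_map_equiv A e]
  exact no144_suz _

end Cfsg.Agent.SM.Sp
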