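import Cfsg.Agent.SM.Sp.NHS
import Cfsg.Agent.SM.Sp.NSuz
import Cfsg.Agent.SM.Sp.No144
import Cfsg.Agent.TH.Spor.InD

/-!
# SM (S3570), sporadic socles: the lists for `HS` and `Suz` (helper26)
-/

set_option autoImplicit false

namespace Cfsg.Agent.SM.Sp

open Cfsg Cfsg.Agent.TH.Spor

theorem lst_hs (K : Type) [Group K] [Finite K] (h : Spor.IsoHS K) : Lst K [(443520, 176), (443520, 3080), (443520, 4928),
    (443520, 6160), (443520, 9240), (443520, 12320), (443520, 18480), (443520, 22176), (443520, 24640)] :=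
  NHS.lst (in_hs h)

theorem lst_suz (K : Type) [Group K] [Finite K] (h : Spor.IsoSuz K) : Lst K [(13685760, 1782), (251596800, 32760),
    (251596800, 232960), (251596800, 1397760), (251596800, 2795520)] :=
  NSuz.lst (in_suz h) fun A h1 => no144 h A (List.mem_singleton.1 h1)

end Cfsg.Agent.SM.Sp
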