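import Cfsg.Agent.SM.Sp.Enum
import Cfsg.Agent.TAB.B.Fin.Virt

/-!
# SM (S3570), sporadic socles: B (helper26; generated by notes/SM/sp26/gen2.py.txt)
-/

set_option autoImplicit false
set_option Elab.async false

namespace Cfsg.Agent.SM.Sp.NB

open Cfsg Cfsg.Agent.TAB.Eng Cfsg.Agent.H940.Eng Cfsg.Agent.TH.Spor

/-- local data -/
def loc : List LD :=
  [⟨47, 47, [(23, 1), (47, 1)]⟩, ⟨31, 31, [(3, 1), (5, 1), (31, 1)]⟩, ⟨23, 46, [(2, 1), (11, 1), (23, 1)]⟩, ⟨19, 76,
  [(2, 2), (3, 2), (19, 1)]⟩, ⟨17, 1088, [(2, 6), (17, 1)]⟩, ⟨13, 3744, [(2, 5), (3, 2), (13, 1)]⟩, ⟨11, 13200, [(2,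
  4), (3, 1), (5, 2), (11, 1)]⟩]

/-- the pairs which remain -/
def L : List (ℕ × ℕ) :=
  []

/-- the candidates -/
def SV : List (ℕ × ℕ) :=
  []

/-- the data -/
def E : Ed :=
  ⟨4154781481226426191177580544000000, [(47, 1), (31, 1), (23, 1), (19, 1), (17, 1), (13, 1), (11, 1), (7, 2), (5,
  6), (3, 13), (2, 41)], H940.Eng.D.o_b, loc, 4371, [], [], [60, 168, 360, 504, 660, 1092, 2448, 2520, 3420, 4080,
  5616, 6048, 6072, 7800, 7920, 9828, 14880, 20160, 25920, 29120, 51888, 58800, 62400, 95040, 126000, 175560, 181440,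
  262080, 372000, 443520, 604800, 979200, 1451520, 1814400, 3265920, 4245696, 4680000, 5515776, 6065280, 9999360,
  10200960, 13685760, 17971200, 19958400, 42456960, 44352000, 50232960, 174182400, 197406720, 211341312, 239500800,
  244823040, 251596800, 898128000, 1056706560, 3113510400, 4585351680, 7254000000, 9196830720, 14742000000,
  20158709760, 43589145600, 47377612800, 448345497600, 495766656000, 653837184000, 4106059776000, 4952179814400,
  10461394944000, 25015379558400, 42305421312000, 64561751654400, 177843714048000, 273030912000000, 3201186852864000,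
  3311126603366400, 60822550204416000, 90745943887872000, 4089470473293004800, 4157776806543360000,
  76532479683774853939200], SV⟩

theorem ok1 : okEd TAB.B.Fin.datF TAB.B.Fin.tabB E = true := by decide +kernel

theorem okB1 : okB E ⟨47, 47, [(23, 1), (47, 1)]⟩ = true := by decide +kernel

/-- pieces -/
def W0 : List (ℕ × ℕ) :=
  [(51888, 1)]

theorem okD0 : okD E [(47, 1), (31, 1), (23, 1), (19, 1), (17, 1), (13, 1), (11, 1), (7, 2), (5, 6), (3, 13), (2, 41)] W0 = true := by decide +kernel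

/-- the enumeration -/
theorem lst0 {K : Type} [Group K] [Finite K] (h : In K TAB.B.Fin.datF TAB.B.Fin.tabB) :
    Lst K SV :=
  lst_of_enum (E := E) h ok1 (H940.Eng.D.ords_b base) (fun _ => List.not_mem_nil) List.mem_cons_self (dv_iff.1
  (by decide +kernel)) okB1 (l1 := []) rfl (W := [W0].flatten) (by decide +kernel) <| forall_flatten <|
    fa_cons (fun _ h => ⟨_, okD0, h⟩) <| fa_nil

end Cfsg.Agent.SM.Sp.NB
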