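import Cfsg.Agent.SM.Sp.Enum
import Cfsg.Agent.TAB.Co2.Dat

/-!
# SM (S3570), sporadic socles: Co2 (helper26; generated by notes/SM/sp26/gen2.py.txt)
-/

set_option autoImplicit false
set_option Elab.async false

namespace Cfsg.Agent.SM.Sp.NCo2

open Cfsg Cfsg.Agent.TAB.Eng Cfsg.Agent.H940.Eng Cfsg.Agent.TH.Spor

/-- local data -/
def loc : List LD :=
  [⟨23, 23, [(11, 1), (23, 1)]⟩, ⟨11, 11, [(2, 1), (5, 1), (11, 1)]⟩, ⟨7, 112, [(2, 4), (3, 1), (7, 1)]⟩]

/-- the pairs which remain -/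
def L : List (ℕ × ℕ) :=
  []

/-- the candidates -/
def SV : List (ℕ × ℕ) :=
  [(1814400, 2025), (10200960, 1771), (10200960, 3542), (10200960, 3795), (10200960, 5313), (10200960, 7084),
  (10200960, 7590), (10200960, 8855), (10200960, 10626), (10200960, 11385), (10200960, 14168), (10200960, 15180),
  (10200960, 15939), (10200960, 17710), (10200960, 21252), (10200960, 22770), (10200960, 26565), (10200960, 28336),
  (10200960, 30360), (10200960, 31878), (10200960, 35420), (10200960, 42504), (10200960, 45540), (10200960, 53130),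
  (10200960, 56672), (10200960, 60720), (10200960, 63756), (10200960, 70840), (10200960, 79695), (10200960, 85008),
  (10200960, 91080), (10200960, 106260), (10200960, 113344), (10200960, 141680), (10200960, 170016), (10200960,
  212520), (10200960, 242880), (10200960, 283360), (10200960, 340032), (10200960, 425040), (10200960, 1020096),
  (174182400, 2025), (174182400, 172800), (174182400, 4147200), (244823040, 1771), (244823040, 3542), (244823040,
  3795), (244823040, 5313), (244823040, 7084), (244823040, 7590), (244823040, 8855), (244823040, 10626), (244823040,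
  11385), (244823040, 14168), (244823040, 15180), (244823040, 15939), (244823040, 17710), (244823040, 21252),
  (244823040, 22770), (244823040, 26565), (244823040, 28336), (244823040, 30360), (244823040, 31878), (244823040,
  34155), (244823040, 35420), (244823040, 42504), (244823040, 45540), (244823040, 47817), (244823040, 53130),
  (244823040, 56672), (244823040, 60720), (244823040, 63756), (244823040, 68310), (244823040, 70840), (244823040,
  79695), (244823040, 85008), (244823040, 91080), (244823040, 95634), (244823040, 106260), (244823040, 113344),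
  (244823040, 121440), (244823040, 127512), (244823040, 136620), (244823040, 141680), (244823040, 159390),
  (244823040, 170016), (244823040, 182160), (244823040, 191268), (244823040, 212520), (244823040, 226688),
  (244823040, 239085), (244823040, 242880), (244823040, 255024), (244823040, 273240), (244823040, 283360),
  (244823040, 318780), (244823040, 340032), (244823040, 364320), (244823040, 382536), (244823040, 425040),
  (244823040, 453376), (244823040, 485760), (244823040, 510048), (244823040, 546480), (244823040, 566720),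
  (244823040, 637560), (244823040, 680064), (244823040, 728640), (244823040, 765072), (244823040, 850080),
  (244823040, 906752), (244823040, 1020096), (244823040, 1092960), (244823040, 1133440), (244823040, 1275120),
  (244823040, 1360128), (244823040, 1457280), (244823040, 1530144), (244823040, 1700160), (244823040, 2040192),
  (244823040, 2185920), (244823040, 2266880), (244823040, 2550240), (244823040, 2720256), (244823040, 3400320),
  (244823040, 4080384), (244823040, 4533760), (244823040, 5100480), (244823040, 6120576), (244823040, 6800640),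
  (244823040, 8160768), (244823040, 8743680), (244823040, 10200960), (898128000, 2025)]

/-- the data -/
def E : Ed :=
  ⟨42305421312000, [(23, 1), (11, 1), (7, 1), (5, 3), (3, 6), (2, 18)], H940.Eng.D.o_co2, loc, 23, [], [(23, 50),
  (11, 32), (7, 21)], [60, 168, 360, 504, 660, 2520, 6048, 6072, 7920, 20160, 25920, 95040, 126000, 181440, 443520,
  604800, 1451520, 1814400, 3265920, 10200960, 13685760, 19958400, 44352000, 174182400, 239500800, 244823040,
  898128000, 9196830720], SV⟩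

theorem ok1 : okEd TAB.Co2.D (TAB.Sm2.mkRows TAB.Co2.A TAB.Co2.B) E = true := by decide +kernel

/-- the types of prime order -/
def P : List (ℕ × ℕ × ℕ) :=
  [(23, 50, 3678732288000), (11, 32, 3845947392000), (7, 21, 755453952000), (5, 13, 14101807104), (5, 14,
  70509035520), (3, 4, 90675200), (3, 5, 272025600), (2, 1, 56925), (2, 2, 1024650), (2, 3, 28690200)]

/-- the types -/
def Z : List Ze :=
  [(1, 2, 56925, [1]), (2, 2, 1024650, [2]), (3, 2, 28690200, [3]), (4, 3, 90675200, [4]), (5, 3, 272025600, [5]),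
  (6, 4, 13662000, [1]), (7, 4, 344282400, [2]), (8, 4, 573804000, [2]), (9, 4, 860706000, [1]), (10, 4, 6885648000,
  [2]), (11, 4, 6885648000, [2]), (12, 4, 33051110400, [3]), (13, 5, 14101807104, [13]), (14, 5, 70509035520, [14]),
  (15, 6, 7344691200, [4, 2]), (16, 6, 8160768000, [4, 1]), (17, 6, 9792921600, [5, 1]), (18, 6, 12241152000, [5,
  1]), (19, 6, 73446912000, [5, 2]), (20, 6, 146893824000, [5, 3]), (21, 7, 755453952000, [21]), (22, 8, 55085184000,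
  [2]), (23, 8, 55085184000, [1]), (24, 8, 82627776000, [1]), (25, 8, 82627776000, [1]), (26, 8, 165255552000, [2]),
  (27, 8, 661022208000, [2]), (28, 9, 783433728000, [4]), (29, 10, 352545177600, [13, 2]), (30, 10, 705090355200,
  [14, 1]), (31, 10, 1057635532800, [14, 3]), (32, 11, 3845947392000, [32]), (33, 12, 48964608000, [4, 1]), (34, 12,
  146893824000, [5, 2]), (35, 12, 146893824000, [4, 2]), (36, 12, 146893824000, [5, 1]), (37, 12, 440681472000, [5,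
  2]), (38, 12, 440681472000, [4, 1]), (39, 12, 881362944000, [5, 2]), (40, 12, 881362944000, [4, 2]), (41, 14,
  755453952000, [21, 1]), (42, 14, 3021815808000, [21, 2]), (43, 15, 1410180710400, [14, 5]), (44, 15, 2820361420800,
  [13, 4]), (45, 16, 1322044416000, [1]), (46, 16, 1322044416000, [1]), (47, 18, 2350301184000, [4, 1]), (48, 20,
  2115271065600, [14, 3]), (49, 20, 2115271065600, [13, 2]), (50, 23, 3678732288000, [50]), (51, 24, 1762725888000,
  [5, 1]), (52, 24, 1762725888000, [4, 2]), (53, 28, 1510907904000, [21, 1]), (54, 30, 1410180710400, [14, 5, 1]),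
  (55, 30, 2820361420800, [13, 4, 2])]

theorem okB1 : okB E ⟨23, 23, [(11, 1), (23, 1)]⟩ = true := by decide +kernel

/-- pieces -/
def W0 : List (ℕ × ℕ) :=
  [(6072, 1), (6072, 11), (6072, 23), (6072, 253), (10200960, 1), (10200960, 7), (10200960, 11), (10200960, 77),
  (10200960, 23), (10200960, 161), (10200960, 253), (10200960, 1771), (244823040, 1), (244823040, 7), (244823040,
  11)]

theorem okD0 : okD E [(5, 3), (3, 6), (2, 18)] W0 = true := by decide +kernel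

/-- pieces -/
def W1 : List (ℕ × ℕ) :=
  [(244823040, 77), (244823040, 23), (244823040, 161), (244823040, 253), (244823040, 1771)]

theorem okD1 : okD E [(5, 3), (3, 6), (2, 18)] W1 = true := by decide +kernel

/-- a certificate -/
noncomputable def c0 : Hd × Tr :=
  ((20891566080, [], []), (.bf 21 2 (.bf 13 0 (.bf 4 0 (.far (.ofNat 81) [(.ofNat 40, 7), (.negSucc 80, 8), (.negSucc
  39, 9), (.negSucc 39, 11), (.ofNat 40, 12), (.negSucc 39, 21), (.ofNat 81, 23), (.ofNat 40, 32), (.negSucc 39, 33),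
  (.ofNat 40, 37), (.ofNat 40, 41), (.negSucc 39, 46), (.ofNat 61, 53), (.negSucc 19, 55)]) (.far (.negSucc 106)
  [(.ofNat 129, 2), (.ofNat 360, 4), (.negSucc 106, 6), (.ofNat 92, 7), (.negSucc 215, 8), (.ofNat 222, 9), (.negSucc
  258, 10), (.negSucc 261, 11), (.negSucc 61, 12), (.negSucc 405, 14), (.negSucc 39, 15), (.negSucc 178, 16),
  (.negSucc 39, 17), (.ofNat 314, 19), (.negSucc 208, 20), (.negSucc 728, 21), (.ofNat 419, 22), (.ofNat 169, 23),
  (.ofNat 46, 24), (.ofNat 24, 25), (.ofNat 295, 26), (.negSucc 196, 27), (.ofNat 255, 29), (.ofNat 255, 30), (.ofNat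
  255, 31), (.ofNat 427, 32), (.negSucc 134, 33), (.negSucc 150, 34), (.negSucc 150, 35), (.ofNat 79, 36), (.negSucc
  531, 37), (.negSucc 398, 38), (.negSucc 129, 40), (.negSucc 110, 41), (.negSucc 24, 42), (.ofNat 530, 43),
  (.negSucc 504, 44), (.negSucc 363, 47), (.negSucc 128, 48), (.ofNat 532, 50), (.negSucc 128, 51), (.negSucc 108,
  52), (.ofNat 75, 53), (.negSucc 200, 55)])) (.far (.negSucc 60) [(.ofNat 29, 3), (.negSucc 31, 6), (.negSucc 7, 7),
  (.negSucc 33, 8), (.negSucc 9, 9), (.negSucc 11, 10), (.ofNat 17, 11), (.ofNat 17, 12), (.negSucc 13, 13),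
  (.negSucc 50, 14), (.ofNat 7, 15), (.ofNat 27, 16), (.negSucc 28, 17), (.ofNat 16, 18), (.negSucc 1, 19), (.negSucc
  35, 20), (.ofNat 15, 21), (.negSucc 2, 22), (.negSucc 28, 23), (.ofNat 24, 24), (.ofNat 14, 25), (.negSucc 5, 27),
  (.negSucc 72, 28), (.ofNat 3, 29), (.ofNat 3, 30), (.negSucc 11, 31), (.ofNat 2, 32), (.ofNat 34, 33), (.negSucc
  62, 34), (.ofNat 18, 35), (.ofNat 5, 36), (.negSucc 0, 37), (.negSucc 0, 38), (.negSucc 0, 39), (.negSucc 12, 40),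
  (.negSucc 32, 41), (.negSucc 34, 42), (.negSucc 23, 43), (.negSucc 31, 44), (.negSucc 15, 46), (.negSucc 26, 47),
  (.negSucc 73, 48), (.negSucc 60, 49), (.ofNat 7, 51), (.ofNat 28, 52), (.ofNat 74, 53), (.ofNat 81, 54), (.negSucc
  22, 55)])) (.far (.negSucc 30) [(.ofNat 6, 3), (.negSucc 24, 6), (.negSucc 24, 7), (.negSucc 11, 8), (.negSucc 11,
  9), (.negSucc 18, 10), (.ofNat 19, 11), (.ofNat 19, 12), (.negSucc 5, 13), (.negSucc 36, 14), (.ofNat 6, 15),
  (.ofNat 31, 16), (.negSucc 30, 17), (.negSucc 17, 18), (.ofNat 1, 19), (.negSucc 11, 20), (.ofNat 1, 21), (.ofNat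
  1, 22), (.negSucc 4, 23), (.ofNat 13, 24), (.ofNat 20, 25), (.ofNat 13, 26), (.ofNat 32, 27), (.negSucc 23, 28),
  (.ofNat 8, 29), (.ofNat 8, 30), (.ofNat 2, 31), (.ofNat 8, 32), (.ofNat 26, 33), (.negSucc 34, 34), (.ofNat 46,
  35), (.negSucc 9, 36), (.ofNat 9, 37), (.ofNat 9, 38), (.ofNat 9, 39), (.negSucc 2, 40), (.negSucc 26, 41), (.ofNat
  5, 42), (.ofNat 6, 43), (.ofNat 1, 46), (.ofNat 7, 47), (.negSucc 17, 48), (.ofNat 13, 49), (.negSucc 17, 50),
  (.ofNat 63, 51), (.ofNat 19, 52), (.ofNat 46, 53), (.ofNat 81, 54), (.ofNat 4, 55)])))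

/-- a certificate -/
noncomputable def c1 : Hd × Tr :=
  ((23887872000, [], []), (.far (.ofNat 1) [(.ofNat 1, 9), (.negSucc 0, 24), (.negSucc 0, 35), (.ofNat 1, 40),
  (.ofNat 1, 46), (.negSucc 0, 48)]))

/-- a certificate -/
noncomputable def c2 : Hd × Tr :=
  ((11943936000, [], []), (.far (.ofNat 1) [(.ofNat 1, 9), (.negSucc 0, 24), (.negSucc 0, 35), (.ofNat 1, 40),
  (.ofNat 1, 46), (.negSucc 0, 48)]))

/-- a certificate -/
noncomputable def c3 : Hd × Tr :=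
  ((11147673600, [], []), (.far (.ofNat 1) [(.ofNat 1, 1), (.negSucc 0, 7), (.negSucc 0, 10), (.ofNat 1, 27), (.ofNat
  1, 35), (.negSucc 0, 41), (.negSucc 0, 45), (.ofNat 1, 51), (.ofNat 1, 54)]))

/-- a certificate -/
noncomputable def c4 : Hd × Tr :=
  ((7962624000, [], []), (.far (.ofNat 1) [(.ofNat 1, 9), (.negSucc 0, 24), (.negSucc 0, 35), (.ofNat 1, 40), (.ofNat
  1, 46), (.negSucc 0, 48)]))

/-- a certificate -/
noncomputable def c5 : Hd × Tr :=
  ((5971968000, [], []), (.far (.ofNat 1) [(.ofNat 1, 9), (.negSucc 0, 24), (.negSucc 0, 35), (.ofNat 1, 40), (.ofNat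
  1, 46), (.negSucc 0, 48)]))

/-- a certificate -/
noncomputable def c6 : Hd × Tr :=
  ((5573836800, [], []), (.far (.ofNat 173) [(.ofNat 1543, 1), (.negSucc 125, 9), (.negSucc 2186, 10), (.negSucc 546,
  11), (.negSucc 817, 12), (.negSucc 139, 13), (.negSucc 1342, 14), (.ofNat 563, 15), (.ofNat 752, 16), (.negSucc
  500, 17), (.ofNat 441, 18), (.ofNat 309, 19), (.negSucc 86, 20), (.ofNat 137, 21), (.ofNat 36, 22), (.ofNat 385,
  23), (.negSucc 198, 24), (.ofNat 351, 25), (.ofNat 749, 26), (.ofNat 1839, 27), (.ofNat 132, 28), (.negSucc 283,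
  29), (.ofNat 407, 32), (.negSucc 93, 34), (.ofNat 1121, 35), (.negSucc 72, 36), (.negSucc 631, 37), (.negSucc 143,
  38), (.negSucc 910, 39), (.negSucc 429, 40), (.negSucc 1464, 41), (.negSucc 98, 42), (.ofNat 166, 43), (.negSucc
  37, 44), (.negSucc 852, 45), (.negSucc 357, 47), (.ofNat 62, 48), (.ofNat 531, 49), (.ofNat 903, 50), (.ofNat 1078,
  51), (.ofNat 110, 52), (.ofNat 295, 53), (.ofNat 1686, 54), (.ofNat 145, 55)]))

/-- a certificate -/
noncomputable def c7 : Hd × Tr :=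
  ((4777574400, [], []), (.far (.ofNat 1) [(.ofNat 1, 9), (.negSucc 0, 24), (.negSucc 0, 35), (.ofNat 1, 40), (.ofNat
  1, 46), (.negSucc 0, 48)]))

/-- a certificate -/
noncomputable def c8 : Hd × Tr :=
  ((3981312000, [], []), (.far (.ofNat 1) [(.ofNat 1, 9), (.negSucc 0, 24), (.negSucc 0, 35), (.ofNat 1, 40), (.ofNat
  1, 46), (.negSucc 0, 48)]))

/-- a certificate -/
noncomputable def c9 : Hd × Tr :=
  ((3715891200, [], []), (.far (.ofNat 186) [(.ofNat 1536, 1), (.negSucc 72, 9), (.negSucc 2186, 10), (.negSucc 569,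
  11), (.negSucc 838, 12), (.negSucc 107, 13), (.negSucc 1368, 14), (.ofNat 583, 15), (.ofNat 781, 16), (.negSucc
  544, 17), (.ofNat 503, 18), (.ofNat 290, 19), (.negSucc 173, 20), (.ofNat 187, 22), (.ofNat 422, 23), (.negSucc
  299, 24), (.ofNat 445, 25), (.ofNat 859, 26), (.ofNat 1832, 27), (.ofNat 122, 28), (.negSucc 293, 29), (.ofNat 517,
  32), (.negSucc 85, 33), (.negSucc 81, 34), (.ofNat 1115, 35), (.negSucc 102, 36), (.negSucc 800, 37), (.negSucc
  362, 38), (.negSucc 1130, 39), (.negSucc 559, 40), (.negSucc 1598, 41), (.negSucc 126, 42), (.ofNat 251, 43),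
  (.negSucc 325, 44), (.negSucc 903, 45), (.negSucc 578, 47), (.ofNat 31, 48), (.ofNat 446, 49), (.ofNat 934, 50),
  (.ofNat 952, 51), (.ofNat 59, 52), (.ofNat 186, 53), (.ofNat 1642, 54), (.ofNat 207, 55)]))

/-- a certificate -/
noncomputable def c10 : Hd × Tr :=
  ((2985984000, [], []), (.far (.ofNat 1) [(.ofNat 1, 9), (.negSucc 0, 24), (.negSucc 0, 35), (.ofNat 1, 40), (.ofNat
  1, 46), (.negSucc 0, 48)]))

/-- a certificate -/
noncomputable def c11 : Hd × Tr :=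
  ((2786918400, [], []), (.far (.ofNat 201) [(.ofNat 1541, 1), (.negSucc 2186, 10), (.negSucc 590, 11), (.negSucc
  866, 12), (.negSucc 39, 13), (.negSucc 1423, 14), (.ofNat 606, 15), (.ofNat 806, 16), (.negSucc 592, 17), (.ofNat
  570, 18), (.ofNat 258, 19), (.negSucc 323, 20), (.negSucc 182, 21), (.ofNat 351, 22), (.ofNat 513, 23), (.negSucc
  447, 24), (.ofNat 548, 25), (.ofNat 988, 26), (.ofNat 1850, 27), (.ofNat 112, 28), (.negSucc 320, 29), (.negSucc
  36, 30), (.ofNat 617, 32), (.negSucc 172, 33), (.negSucc 57, 34), (.ofNat 1115, 35), (.negSucc 85, 36), (.negSucc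
  986, 37), (.negSucc 608, 38), (.negSucc 1386, 39), (.negSucc 688, 40), (.negSucc 1766, 41), (.negSucc 140, 42),
  (.ofNat 319, 43), (.negSucc 663, 44), (.negSucc 1022, 45), (.negSucc 823, 47), (.ofNat 312, 49), (.ofNat 937, 50),
  (.ofNat 797, 51), (.ofNat 23, 53), (.ofNat 1594, 54), (.ofNat 261, 55)]))

/-- a certificate -/
noncomputable def c12 : Hd × Tr :=
  ((2654208000, [], []), (.far (.ofNat 1) [(.ofNat 1, 9), (.negSucc 0, 24), (.negSucc 0, 35), (.ofNat 1, 40), (.ofNat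
  1, 46), (.negSucc 0, 48)]))

/-- a certificate -/
noncomputable def c13 : Hd × Tr :=
  ((2388787200, [], []), (.far (.ofNat 1) [(.ofNat 1, 9), (.negSucc 0, 24), (.negSucc 0, 35), (.ofNat 1, 40), (.ofNat
  1, 46), (.negSucc 0, 48)]))

/-- a certificate -/
noncomputable def c14 : Hd × Tr :=
  ((1990656000, [], []), (.far (.ofNat 1) [(.ofNat 1, 9), (.negSucc 0, 24), (.negSucc 0, 35), (.ofNat 1, 40), (.ofNat
  1, 46), (.negSucc 0, 48)]))

/-- a certificate -/
noncomputable def c15 : Hd × Tr :=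
  ((1857945600, [], []), (.far (.negSucc 445) [(.negSucc 478, 10), (.negSucc 128, 11), (.negSucc 32, 12), (.ofNat 15,
  13), (.negSucc 498, 14), (.ofNat 142, 15), (.ofNat 350, 16), (.negSucc 450, 17), (.negSucc 0, 18), (.negSucc 22,
  19), (.negSucc 135, 20), (.negSucc 2, 22), (.ofNat 103, 23), (.negSucc 172, 24), (.ofNat 342, 25), (.ofNat 325,
  26), (.ofNat 468, 27), (.negSucc 151, 28), (.ofNat 33, 29), (.ofNat 102, 31), (.ofNat 21, 32), (.negSucc 128, 33),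
  (.ofNat 8, 34), (.ofNat 611, 35), (.ofNat 43, 37), (.negSucc 187, 38), (.negSucc 211, 39), (.negSucc 57, 40),
  (.negSucc 447, 41), (.negSucc 65, 42), (.negSucc 11, 43), (.negSucc 701, 45), (.negSucc 42, 47), (.ofNat 144, 48),
  (.ofNat 247, 49), (.ofNat 576, 51), (.ofNat 70, 53), (.ofNat 729, 54), (.negSucc 27, 55)]))

/-- a certificate -/
noncomputable def c16 : Hd × Tr :=
  ((1592524800, [], []), (.far (.ofNat 1) [(.ofNat 1, 9), (.negSucc 0, 24), (.negSucc 0, 35), (.ofNat 1, 40), (.ofNat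
  1, 46), (.negSucc 0, 48)]))

/-- a certificate -/
noncomputable def c17 : Hd × Tr :=
  ((1492992000, [], []), (.far (.ofNat 1) [(.ofNat 1, 9), (.negSucc 0, 24), (.negSucc 0, 35), (.ofNat 1, 40), (.ofNat
  1, 46), (.negSucc 0, 48)]))

/-- a certificate -/
noncomputable def c18 : Hd × Tr :=
  ((1393459200, [], []), (.bf 21 1 (.far (.negSucc 425) [(.ofNat 1161, 1), (.ofNat 1658, 2), (.ofNat 1161, 6),
  (.ofNat 1232, 9), (.negSucc 5259, 11), (.negSucc 5117, 12), (.negSucc 3032, 13), (.negSucc 2653, 14), (.negSucc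
  2653, 15), (.negSucc 5425, 16), (.negSucc 9286, 17), (.negSucc 8955, 18), (.negSucc 15494, 19), (.negSucc 14451,
  20), (.negSucc 18621, 21), (.negSucc 18905, 22), (.negSucc 19095, 23), (.negSucc 21369, 24), (.negSucc 23075, 25),
  (.negSucc 25895, 26), (.negSucc 26534, 27), (.negSucc 29259, 28), (.negSucc 33026, 29), (.negSucc 33121, 30),
  (.negSucc 35253, 31), (.negSucc 37338, 32), (.negSucc 39328, 33), (.negSucc 39755, 34), (.negSucc 49753, 35),
  (.negSucc 52406, 36), (.negSucc 54254, 37), (.negSucc 55344, 38), (.negSucc 55628, 39), (.negSucc 69417, 40),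
  (.negSucc 106614, 41), (.negSucc 107846, 42), (.negSucc 147223, 43), (.negSucc 148123, 44), (.negSucc 151914, 45),
  (.negSucc 160396, 46), (.negSucc 167029, 47), (.negSucc 169588, 48), (.negSucc 170536, 49), (.negSucc 171223, 50),
  (.negSucc 177146, 51), (.negSucc 7889, 54), (.negSucc 19995, 55)]) (.far (.negSucc 776) [(.ofNat 448, 11), (.ofNat
  438, 12), (.ofNat 664, 13), (.negSucc 663, 14), (.ofNat 760, 15), (.ofNat 802, 16), (.ofNat 489, 17), (.ofNat 992,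
  18), (.ofNat 1334, 19), (.ofNat 995, 20), (.ofNat 1447, 21), (.ofNat 2212, 22), (.ofNat 2535, 23), (.ofNat 1772,
  24), (.ofNat 2270, 25), (.ofNat 2674, 26), (.ofNat 3351, 27), (.ofNat 2694, 28), (.ofNat 3279, 29), (.ofNat 3130,
  30), (.ofNat 4010, 31), (.ofNat 3801, 32), (.ofNat 4278, 33), (.ofNat 4105, 34), (.ofNat 5860, 35), (.ofNat 5920,
  36), (.ofNat 6079, 37), (.ofNat 5608, 38), (.ofNat 6036, 39), (.ofNat 7437, 40), (.ofNat 10779, 41), (.ofNat 11722,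
  42), (.ofNat 15600, 43), (.ofNat 15459, 44), (.ofNat 14821, 45), (.ofNat 17178, 46), (.ofNat 17363, 47), (.ofNat
  17375, 48), (.ofNat 18133, 49), (.ofNat 18126, 50), (.ofNat 19683, 51), (.ofNat 5, 52), (.ofNat 23, 53), (.ofNat
  1658, 54), (.ofNat 2281, 55)])))

/-- a certificate -/
noncomputable def c19 : Hd × Tr :=
  ((1327104000, [], []), (.far (.ofNat 1) [(.ofNat 1, 9), (.negSucc 0, 24), (.negSucc 0, 35), (.ofNat 1, 40), (.ofNat
  1, 46), (.negSucc 0, 48)]))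

/-- a certificate -/
noncomputable def c20 : Hd × Tr :=
  ((1194393600, [], []), (.far (.ofNat 1) [(.ofNat 1, 9), (.negSucc 0, 24), (.negSucc 0, 35), (.ofNat 1, 40), (.ofNat
  1, 46), (.negSucc 0, 48)]))

/-- a certificate -/
noncomputable def c21 : Hd × Tr :=
  ((995328000, [], []), (.far (.ofNat 1) [(.ofNat 1, 9), (.negSucc 0, 24), (.negSucc 0, 35), (.ofNat 1, 40), (.ofNat
  1, 46), (.negSucc 0, 48)]))

/-- certificates -/
noncomputable def CL0 : List (Hd × Tr) :=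
  [c0, c1, c2, c3, c4, c5, c6, c7, c8, c9, c10, c11, c12, c13, c14, c15, c16, c17, c18, c19, c20, c21]

theorem okC0 : okL TAB.Co2.D (TAB.Sm2.mkRows TAB.Co2.A TAB.Co2.B) P Z CL0 = true := by decide +kernel

/-- a certificate -/
noncomputable def c22 : Hd × Tr :=
  ((928972800, [], []), (.bf 21 5 (.bf 13 5 (.bf 14 20 (.far (.ofNat 0) [(.negSucc 5904, 17), (.negSucc 5904, 18),
  (.negSucc 5904, 19), (.negSucc 5904, 20), (.negSucc 5904, 21), (.negSucc 5904, 22), (.negSucc 5904, 23), (.negSucc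
  5904, 24), (.negSucc 5904, 25), (.negSucc 5904, 26), (.negSucc 5904, 27), (.negSucc 11809, 28), (.negSucc 11809,
  29), (.negSucc 11809, 30), (.negSucc 11809, 31), (.negSucc 11809, 32), (.negSucc 11809, 33), (.negSucc 11809, 34),
  (.negSucc 11809, 35), (.negSucc 17714, 36), (.negSucc 17714, 37), (.negSucc 17714, 38), (.negSucc 17714, 39),
  (.negSucc 23619, 40), (.negSucc 35428, 41), (.negSucc 35428, 42), (.negSucc 47238, 43), (.negSucc 47238, 44),
  (.negSucc 47238, 45), (.negSucc 53143, 46), (.negSucc 53143, 47), (.negSucc 53143, 48), (.negSucc 53143, 49),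
  (.negSucc 59048, 50), (.negSucc 53143, 51), (.negSucc 5904, 55)]) (.far (.ofNat 0) [(.ofNat 656, 17), (.ofNat 656,
  18), (.ofNat 656, 19), (.ofNat 656, 20), (.ofNat 656, 21), (.ofNat 656, 22), (.ofNat 656, 23), (.ofNat 656, 24),
  (.ofNat 656, 25), (.ofNat 656, 26), (.ofNat 656, 27), (.ofNat 1312, 28), (.ofNat 1312, 29), (.ofNat 1312, 30),
  (.ofNat 1312, 31), (.ofNat 1312, 32), (.ofNat 1312, 33), (.ofNat 1312, 34), (.ofNat 1312, 35), (.ofNat 1968, 36),
  (.ofNat 1968, 37), (.ofNat 1968, 38), (.ofNat 1968, 39), (.ofNat 2624, 40), (.ofNat 3937, 41), (.ofNat 3937, 42),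
  (.ofNat 5249, 43), (.ofNat 5249, 44), (.ofNat 5249, 45), (.ofNat 5905, 46), (.ofNat 5905, 47), (.ofNat 5905, 48),
  (.ofNat 5905, 49), (.ofNat 6561, 50), (.ofNat 5905, 51), (.ofNat 656, 55)])) (.far (.negSucc 11071) [(.negSucc
  4612, 17), (.ofNat 6458, 18), (.negSucc 4612, 19), (.negSucc 15684, 20), (.negSucc 4612, 21), (.negSucc 4612, 22),
  (.negSucc 4612, 23), (.negSucc 4612, 24), (.negSucc 4612, 25), (.negSucc 4612, 26), (.negSucc 15684, 27), (.negSucc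
  31369, 28), (.negSucc 9225, 29), (.negSucc 9225, 30), (.negSucc 20297, 31), (.negSucc 9225, 32), (.negSucc 9225,
  33), (.negSucc 9225, 34), (.negSucc 9225, 35), (.negSucc 2767, 36), (.negSucc 13839, 37), (.negSucc 13839, 38),
  (.negSucc 13839, 39), (.negSucc 18452, 40), (.negSucc 27678, 41), (.negSucc 38750, 42), (.negSucc 36905, 43),
  (.negSucc 36905, 44), (.negSucc 59048, 45), (.negSucc 30446, 46), (.negSucc 41518, 47), (.negSucc 41518, 48),
  (.negSucc 41518, 49), (.negSucc 23988, 50), (.negSucc 41518, 51), (.ofNat 5536, 53), (.negSucc 10148, 55)])) (.far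
  (.negSucc 535) [(.ofNat 254, 11), (.ofNat 110, 12), (.ofNat 296, 13), (.ofNat 182, 15), (.ofNat 873, 16), (.ofNat
  710, 17), (.ofNat 1317, 18), (.ofNat 1772, 19), (.ofNat 1641, 20), (.ofNat 1815, 21), (.ofNat 1872, 22), (.ofNat
  2114, 23), (.ofNat 2473, 24), (.ofNat 2398, 25), (.ofNat 2758, 26), (.ofNat 3291, 27), (.ofNat 3110, 28), (.ofNat
  3801, 29), (.ofNat 3718, 30), (.ofNat 4055, 31), (.ofNat 4003, 32), (.ofNat 4406, 33), (.ofNat 4245, 34), (.ofNat
  5573, 35), (.ofNat 5824, 36), (.ofNat 6052, 37), (.ofNat 5896, 38), (.ofNat 5862, 39), (.ofNat 7592, 40), (.ofNat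
  11276, 41), (.ofNat 11692, 42), (.ofNat 16184, 43), (.ofNat 16148, 44), (.ofNat 16587, 45), (.ofNat 17401, 46),
  (.ofNat 17964, 47), (.ofNat 18283, 48), (.ofNat 18384, 49), (.ofNat 18528, 50), (.ofNat 19683, 51), (.ofNat 19,
  53), (.ofNat 1548, 54), (.ofNat 2081, 55)])))

/-- a certificate -/
noncomputable def c23 : Hd × Tr :=
  ((796262400, [], []), (.far (.ofNat 1) [(.ofNat 1, 9), (.negSucc 0, 24), (.negSucc 0, 35), (.ofNat 1, 40), (.ofNat
  1, 46), (.negSucc 0, 48)]))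

/-- a certificate -/
noncomputable def c24 : Hd × Tr :=
  ((746496000, [], []), (.far (.ofNat 1) [(.ofNat 1, 9), (.negSucc 0, 24), (.negSucc 0, 35), (.ofNat 1, 40), (.ofNat
  1, 46), (.negSucc 0, 48)]))

/-- certificates -/
noncomputable def CL1 : List (Hd × Tr) :=
  [c22, c23, c24]

theorem okC1 : okL TAB.Co2.D (TAB.Sm2.mkRows TAB.Co2.A TAB.Co2.B) P Z CL1 = true := by decide +kernel

/-- a certificate -/
noncomputable def c25 : Hd × Tr :=
  ((696729600, [], []), (.bf 21 9 (.bf 13 10 (.bf 14 35 (.bf 14 10 (.far (.ofNat 0) [(.negSucc 5904, 17), (.negSucc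
  5904, 18), (.negSucc 5904, 19), (.negSucc 5904, 20), (.negSucc 5904, 21), (.negSucc 5904, 22), (.negSucc 5904, 23),
  (.negSucc 5904, 24), (.negSucc 5904, 25), (.negSucc 5904, 26), (.negSucc 5904, 27), (.negSucc 11809, 28), (.negSucc
  11809, 29), (.negSucc 11809, 30), (.negSucc 11809, 31), (.negSucc 11809, 32), (.negSucc 11809, 33), (.negSucc
  11809, 34), (.negSucc 11809, 35), (.negSucc 17714, 36), (.negSucc 17714, 37), (.negSucc 17714, 38), (.negSucc
  17714, 39), (.negSucc 23619, 40), (.negSucc 35428, 41), (.negSucc 35428, 42), (.negSucc 47238, 43), (.negSucc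
  47238, 44), (.negSucc 47238, 45), (.negSucc 53143, 46), (.negSucc 53143, 47), (.negSucc 53143, 48), (.negSucc
  53143, 49), (.negSucc 59048, 50), (.negSucc 53143, 51), (.negSucc 5904, 55)]) (.bf 4 123 (.bf 5 213 (.bf 1 2432
  (.bf 2 1192 (.bm 2 1 (.bm 3 1 (.bf 21 2 (.far (.ofNat 0) [(.ofNat 656, 17), (.ofNat 656, 18), (.ofNat 656, 19),
  (.ofNat 656, 20), (.ofNat 656, 21), (.ofNat 656, 22), (.ofNat 656, 23), (.ofNat 656, 24), (.ofNat 656, 25), (.ofNat
  656, 26), (.ofNat 656, 27), (.ofNat 1312, 28), (.ofNat 1312, 29), (.ofNat 1312, 30), (.ofNat 1312, 31), (.ofNat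
  1312, 32), (.ofNat 1312, 33), (.ofNat 1312, 34), (.ofNat 1312, 35), (.ofNat 1968, 36), (.ofNat 1968, 37), (.ofNat
  1968, 38), (.ofNat 1968, 39), (.ofNat 2624, 40), (.ofNat 3937, 41), (.ofNat 3937, 42), (.ofNat 5249, 43), (.ofNat
  5249, 44), (.ofNat 5249, 45), (.ofNat 5905, 46), (.ofNat 5905, 47), (.ofNat 5905, 48), (.ofNat 5905, 49), (.ofNat
  6561, 50), (.ofNat 5905, 51), (.ofNat 656, 55)]) (.far (.negSucc 62) [(.negSucc 19, 2), (.negSucc 198, 3), (.ofNat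
  10, 8), (.ofNat 23, 11), (.ofNat 63, 12), (.ofNat 21, 16), (.negSucc 88, 17), (.negSucc 118, 18), (.ofNat 58, 19),
  (.negSucc 43, 20), (.negSucc 107, 21), (.negSucc 25, 22), (.ofNat 2, 23), (.ofNat 30, 24), (.ofNat 14, 25), (.ofNat
  173, 26), (.ofNat 69, 27), (.negSucc 46, 28), (.ofNat 44, 29), (.ofNat 25, 30), (.ofNat 48, 31), (.ofNat 58, 32),
  (.negSucc 47, 33), (.ofNat 136, 34), (.ofNat 102, 35), (.ofNat 97, 36), (.negSucc 66, 37), (.ofNat 15, 38), (.ofNat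
  95, 39), (.ofNat 62, 40), (.ofNat 44, 41), (.ofNat 124, 42), (.ofNat 166, 43), (.ofNat 91, 44), (.negSucc 41, 45),
  (.ofNat 50, 46), (.ofNat 86, 47), (.ofNat 198, 48), (.ofNat 89, 49), (.ofNat 13, 50), (.ofNat 243, 51), (.negSucc
  4, 54), (.negSucc 52, 55)])) (.far (.negSucc 247) [(.ofNat 19, 1), (.ofNat 150, 8), (.ofNat 168, 13), (.ofNat 195,
  15), (.ofNat 347, 16), (.ofNat 179, 17), (.ofNat 442, 18), (.ofNat 413, 19), (.ofNat 477, 20), (.ofNat 610, 21),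
  (.ofNat 734, 22), (.ofNat 784, 23), (.ofNat 762, 24), (.ofNat 734, 25), (.ofNat 787, 26), (.ofNat 955, 27), (.ofNat
  1268, 28), (.ofNat 1160, 29), (.ofNat 1299, 30), (.ofNat 1187, 31), (.ofNat 1226, 32), (.ofNat 1539, 33), (.ofNat
  1403, 34), (.ofNat 1934, 35), (.ofNat 1949, 36), (.ofNat 1960, 37), (.ofNat 1960, 38), (.ofNat 1960, 39), (.ofNat
  2681, 40), (.ofNat 3867, 41), (.ofNat 4004, 42), (.ofNat 5414, 43), (.ofNat 5401, 44), (.ofNat 5417, 45), (.ofNat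
  5966, 46), (.ofNat 6148, 47), (.ofNat 5888, 48), (.ofNat 6362, 49), (.ofNat 6408, 50), (.ofNat 6561, 51), (.ofNat
  9, 52), (.ofNat 228, 53), (.ofNat 419, 54), (.ofNat 674, 55), (.ofNat 240, 3)])) (.far (.negSucc 700) [(.ofNat 58,
  5), (.ofNat 350, 9), (.ofNat 876, 13), (.ofNat 234, 15), (.ofNat 321, 16), (.ofNat 1110, 17), (.ofNat 1168, 18),
  (.ofNat 1606, 19), (.ofNat 964, 20), (.ofNat 1752, 21), (.ofNat 2103, 22), (.ofNat 2716, 23), (.ofNat 1781, 24),
  (.ofNat 1927, 25), (.ofNat 2745, 26), (.ofNat 3504, 27), (.ofNat 4030, 28), (.ofNat 3796, 29), (.ofNat 3446, 30),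
  (.ofNat 4556, 31), (.ofNat 3826, 32), (.ofNat 4264, 33), (.ofNat 4906, 34), (.ofNat 5636, 35), (.ofNat 5957, 36),
  (.ofNat 6191, 37), (.ofNat 6366, 38), (.ofNat 6016, 39), (.ofNat 7856, 40), (.ofNat 11594, 41), (.ofNat 12382, 42),
  (.ofNat 16441, 43), (.ofNat 16091, 44), (.ofNat 16412, 45), (.ofNat 17726, 46), (.ofNat 18106, 47), (.ofNat 18836,
  48), (.ofNat 19041, 49), (.ofNat 18719, 50), (.ofNat 19683, 51), (.ofNat 117, 52), (.ofNat 1110, 54), (.ofNat 2687,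
  55), (.ofNat 759, 2)])) (.far (.negSucc 10624) [(.ofNat 2642, 4), (.ofNat 11248, 8), (.ofNat 27388, 12), (.ofNat
  2389, 13), (.ofNat 9586, 15), (.ofNat 33324, 16), (.ofNat 75819, 17), (.ofNat 112939, 18), (.ofNat 113183, 19),
  (.ofNat 106692, 20), (.ofNat 92873, 21), (.ofNat 123315, 22), (.ofNat 128374, 23), (.ofNat 107724, 24), (.ofNat
  200494, 25), (.ofNat 131094, 26), (.ofNat 232656, 27), (.ofNat 293009, 28), (.ofNat 214224, 29), (.ofNat 214380,
  30), (.ofNat 292235, 31), (.ofNat 248473, 32), (.ofNat 300627, 33), (.ofNat 309668, 34), (.ofNat 359838, 35),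
  (.ofNat 414059, 36), (.ofNat 399175, 37), (.ofNat 471889, 38), (.ofNat 472927, 39), (.ofNat 587305, 40), (.ofNat
  1010799, 41), (.ofNat 838162, 42), (.ofNat 1296792, 43), (.ofNat 1196560, 44), (.ofNat 1268869, 45), (.ofNat
  1365256, 46), (.ofNat 1471455, 47), (.ofNat 1482625, 48), (.ofNat 1422173, 49), (.ofNat 1482235, 50), (.ofNat
  1594323, 51), (.ofNat 4401, 53), (.ofNat 84071, 54), (.ofNat 179278, 55)])) (.far (.ofNat 3609) [(.ofNat 5929, 1),
  (.ofNat 433, 2), (.ofNat 5929, 6), (.ofNat 4042, 8), (.ofNat 18044, 12), (.ofNat 29304, 13), (.ofNat 6785, 14),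
  (.ofNat 61350, 15), (.ofNat 46399, 16), (.ofNat 64959, 17), (.ofNat 83942, 18), (.ofNat 144354, 19), (.ofNat 78023,
  20), (.ofNat 189031, 21), (.ofNat 90221, 22), (.ofNat 89283, 23), (.ofNat 106028, 24), (.ofNat 144354, 25), (.ofNat
  262930, 26), (.ofNat 254856, 27), (.ofNat 247216, 28), (.ofNat 216530, 29), (.ofNat 389755, 30), (.ofNat 386579,
  31), (.ofNat 324795, 32), (.ofNat 245401, 33), (.ofNat 393363, 34), (.ofNat 360884, 35), (.ofNat 358213, 36),
  (.ofNat 433061, 37), (.ofNat 487193, 38), (.ofNat 487193, 39), (.ofNat 487193, 40), (.ofNat 938298, 41), (.ofNat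
  868359, 42), (.ofNat 1227005, 43), (.ofNat 1443535, 44), (.ofNat 1288788, 45), (.ofNat 1246421, 46), (.ofNat
  1353314, 47), (.ofNat 1270311, 48), (.ofNat 1480490, 49), (.ofNat 1594323, 50), (.ofNat 1544067, 51), (.ofNat
  14435, 52), (.ofNat 1371, 53), (.ofNat 64959, 54), (.ofNat 215159, 55)])) (.far (.ofNat 0) [(.ofNat 7381, 16),
  (.ofNat 7381, 17), (.ofNat 7381, 18), (.ofNat 14762, 19), (.ofNat 14762, 20), (.ofNat 7381, 21), (.ofNat 22143,
  22), (.ofNat 14762, 23), (.ofNat 14762, 24), (.ofNat 22143, 25), (.ofNat 22143, 26), (.ofNat 22143, 27), (.ofNat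
  29524, 28), (.ofNat 29524, 29), (.ofNat 29524, 30), (.ofNat 29524, 31), (.ofNat 36906, 32), (.ofNat 29524, 33),
  (.ofNat 47977, 34), (.ofNat 55358, 35), (.ofNat 55358, 36), (.ofNat 55358, 37), (.ofNat 55358, 38), (.ofNat 55358,
  39), (.ofNat 70121, 40), (.ofNat 99645, 41), (.ofNat 107026, 42), (.ofNat 143932, 43), (.ofNat 147622, 44), (.ofNat
  158694, 45), (.ofNat 169766, 46), (.ofNat 162385, 47), (.ofNat 169766, 48), (.ofNat 177147, 49), (.ofNat 177147,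
  50), (.ofNat 177147, 51), (.ofNat 7381, 54), (.ofNat 22143, 55)])) (.far (.negSucc 16455) [(.ofNat 3650, 7),
  (.ofNat 9125, 9), (.ofNat 913, 12), (.ofNat 10038, 15), (.ofNat 29688, 16), (.ofNat 21133, 17), (.ofNat 45345, 18),
  (.ofNat 49452, 19), (.ofNat 40752, 20), (.ofNat 24327, 21), (.ofNat 85983, 22), (.ofNat 59945, 23), (.ofNat 57208,
  24), (.ofNat 85983, 25), (.ofNat 84614, 26), (.ofNat 73633, 27), (.ofNat 89260, 28), (.ofNat 106203, 29), (.ofNat
  106203, 30), (.ofNat 105260, 31), (.ofNat 143647, 32), (.ofNat 108941, 33), (.ofNat 102522, 34), (.ofNat 128103,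
  35), (.ofNat 136005, 36), (.ofNat 119092, 37), (.ofNat 119092, 38), (.ofNat 117267, 39), (.ofNat 175844, 40),
  (.ofNat 289347, 41), (.ofNat 311704, 42), (.ofNat 466788, 43), (.ofNat 381832, 44), (.ofNat 471350, 45), (.ofNat
  483814, 46), (.ofNat 437671, 47), (.ofNat 474202, 48), (.ofNat 495221, 49), (.ofNat 531441, 50), (.ofNat 498415,
  51), (.ofNat 1841, 53), (.ofNat 25125, 54), (.ofNat 77755, 55)]))) (.far (.ofNat 0) [(.ofNat 17715, 17), (.ofNat
  17715, 18), (.ofNat 17715, 19), (.ofNat 17715, 20), (.ofNat 17715, 21), (.ofNat 17715, 22), (.ofNat 17715, 23),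
  (.ofNat 17715, 24), (.ofNat 17715, 25), (.ofNat 17715, 26), (.ofNat 17715, 27), (.ofNat 35429, 28), (.ofNat 35429,
  29), (.ofNat 35429, 30), (.ofNat 35429, 31), (.ofNat 35429, 32), (.ofNat 35429, 33), (.ofNat 35429, 34), (.ofNat
  35429, 35), (.ofNat 53144, 36), (.ofNat 53144, 37), (.ofNat 53144, 38), (.ofNat 53144, 39), (.ofNat 70859, 40),
  (.ofNat 106288, 41), (.ofNat 106288, 42), (.ofNat 141718, 43), (.ofNat 141718, 44), (.ofNat 141718, 45), (.ofNat
  159432, 46), (.ofNat 159432, 47), (.ofNat 159432, 48), (.ofNat 159432, 49), (.ofNat 177147, 50), (.ofNat 159432,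
  51), (.ofNat 17715, 55)])) (.far (.negSucc 857) [(.ofNat 260, 1), (.ofNat 130, 9), (.ofNat 390, 14), (.ofNat 65,
  15), (.ofNat 163, 16), (.ofNat 98, 17), (.ofNat 1476, 18), (.ofNat 260, 19), (.negSucc 857, 20), (.ofNat 813, 21),
  (.ofNat 488, 22), (.ofNat 325, 23), (.ofNat 650, 24), (.ofNat 618, 25), (.ofNat 618, 26), (.negSucc 435, 27),
  (.negSucc 1716, 28), (.ofNat 780, 29), (.ofNat 715, 30), (.negSucc 142, 31), (.ofNat 943, 32), (.ofNat 780, 33),
  (.ofNat 1105, 34), (.ofNat 1268, 35), (.ofNat 2516, 36), (.ofNat 1333, 37), (.ofNat 1333, 38), (.ofNat 1463, 39),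
  (.ofNat 1788, 40), (.ofNat 2634, 41), (.ofNat 1418, 42), (.ofNat 3609, 43), (.ofNat 3674, 44), (.ofNat 1957, 45),
  (.ofNat 5085, 46), (.ofNat 4129, 47), (.ofNat 4227, 48), (.ofNat 3674, 49), (.ofNat 6561, 50), (.ofNat 4324, 51),
  (.ofNat 364, 53), (.ofNat 98, 54), (.negSucc 201, 55)])) (.far (.negSucc 314) [(.ofNat 2, 8), (.ofNat 11, 11),
  (.ofNat 86, 13), (.ofNat 27, 15), (.ofNat 318, 16), (.ofNat 222, 17), (.ofNat 486, 18), (.ofNat 570, 19), (.ofNat
  584, 20), (.ofNat 595, 21), (.ofNat 569, 22), (.ofNat 694, 23), (.ofNat 859, 24), (.ofNat 806, 25), (.ofNat 898,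
  26), (.ofNat 1108, 27), (.ofNat 992, 28), (.ofNat 1295, 29), (.ofNat 1235, 30), (.ofNat 1396, 31), (.ofNat 1271,
  32), (.ofNat 1441, 33), (.ofNat 1367, 34), (.ofNat 1927, 35), (.ofNat 1934, 36), (.ofNat 2057, 37), (.ofNat 1896,
  38), (.ofNat 1935, 39), (.ofNat 2470, 40), (.ofNat 3670, 41), (.ofNat 3824, 42), (.ofNat 5317, 43), (.ofNat 5373,
  44), (.ofNat 5441, 45), (.ofNat 5657, 46), (.ofNat 5905, 47), (.ofNat 6046, 48), (.ofNat 6038, 49), (.ofNat 6017,
  50), (.ofNat 6561, 51), (.ofNat 606, 54), (.ofNat 647, 55)])))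

/-- a certificate -/
noncomputable def c26 : Hd × Tr :=
  ((663552000, [], []), (.far (.ofNat 1) [(.ofNat 1, 9), (.negSucc 0, 24), (.negSucc 0, 35), (.ofNat 1, 40), (.ofNat
  1, 46), (.negSucc 0, 48)]))

/-- a certificate -/
noncomputable def c27 : Hd × Tr :=
  ((597196800, [], []), (.far (.ofNat 1) [(.ofNat 1, 9), (.negSucc 0, 24), (.negSucc 0, 35), (.ofNat 1, 40), (.ofNat
  1, 46), (.negSucc 0, 48)]))

/-- a certificate -/
noncomputable def c28 : Hd × Tr :=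
  ((530841600, [], []), (.far (.ofNat 1) [(.ofNat 1, 9), (.negSucc 0, 24), (.negSucc 0, 35), (.ofNat 1, 40), (.ofNat
  1, 46), (.negSucc 0, 48)]))

/-- a certificate -/
noncomputable def c29 : Hd × Tr :=
  ((497664000, [], []), (.far (.ofNat 1) [(.ofNat 1, 9), (.negSucc 0, 24), (.negSucc 0, 35), (.ofNat 1, 40), (.ofNat
  1, 46), (.negSucc 0, 48)]))

/-- certificates -/
noncomputable def CL2 : List (Hd × Tr) :=
  [c25, c26, c27, c28, c29]

theorem okC2 : okL TAB.Co2.D (TAB.Sm2.mkRows TAB.Co2.A TAB.Co2.B) P Z CL2 = true := by decide +kernel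

/-- a certificate -/
noncomputable def c30 : Hd × Tr :=
  ((464486400, [], []), (.bf 21 10 (.bf 13 10 (.bf 14 45 (.bf 14 15 (.far (.ofNat 0) [(.negSucc 1967, 17), (.negSucc
  1967, 18), (.negSucc 1967, 19), (.negSucc 1967, 20), (.negSucc 1967, 21), (.negSucc 1967, 22), (.negSucc 1967, 23),
  (.negSucc 1967, 24), (.negSucc 1967, 25), (.negSucc 1967, 26), (.negSucc 1967, 27), (.negSucc 3936, 28), (.negSucc
  3936, 29), (.negSucc 3936, 30), (.negSucc 3936, 31), (.negSucc 3936, 32), (.negSucc 3936, 33), (.negSucc 3936, 34),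
  (.negSucc 3936, 35), (.negSucc 5904, 36), (.negSucc 5904, 37), (.negSucc 5904, 38), (.negSucc 5904, 39), (.negSucc
  7872, 40), (.negSucc 11809, 41), (.negSucc 11809, 42), (.negSucc 15745, 43), (.negSucc 15745, 44), (.negSucc 15745,
  45), (.negSucc 17714, 46), (.negSucc 17714, 47), (.negSucc 17714, 48), (.negSucc 17714, 49), (.negSucc 19682, 50),
  (.negSucc 17714, 51), (.negSucc 1967, 55)]) (.bf 4 135 (.bf 5 288 (.bf 1 3248 (.bf 2 1648 (.bf 3 358 (.bm 1 1 (.bm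
  3 0 (.far (.negSucc 270) [(.ofNat 174, 12), (.negSucc 378, 17), (.negSucc 562, 18), (.negSucc 84, 19), (.negSucc
  332, 20), (.negSucc 593, 21), (.negSucc 310, 22), (.negSucc 247, 23), (.negSucc 206, 24), (.negSucc 242, 25),
  (.ofNat 93, 26), (.negSucc 120, 27), (.negSucc 493, 28), (.negSucc 318, 29), (.negSucc 313, 30), (.negSucc 331,
  31), (.negSucc 307, 32), (.negSucc 734, 33), (.negSucc 166, 34), (.negSucc 321, 35), (.negSucc 415, 36), (.negSucc
  893, 37), (.negSucc 693, 38), (.negSucc 429, 39), (.negSucc 745, 40), (.negSucc 1269, 41), (.negSucc 1054, 42),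
  (.negSucc 1468, 43), (.negSucc 1742, 44), (.negSucc 2186, 45), (.negSucc 2000, 46), (.negSucc 1977, 47), (.negSucc
  1661, 48), (.negSucc 2029, 49), (.negSucc 2180, 50), (.negSucc 1675, 51), (.negSucc 142, 54), (.negSucc 418, 55),
  (.negSucc 590, 3)]) (.bm 4 1 (.bm 5 1 (.bm 7 1 (.bm 53 0 (.bm 10 1 (.bm 10 0 (.far (.negSucc 56) [(.negSucc 18, 7),
  (.ofNat 1, 15), (.negSucc 215, 17), (.negSucc 166, 18), (.negSucc 250, 19), (.negSucc 253, 20), (.negSucc 310, 21),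
  (.negSucc 192, 22), (.negSucc 265, 23), (.negSucc 222, 24), (.negSucc 257, 25), (.negSucc 304, 26), (.negSucc 206,
  27), (.negSucc 338, 28), (.negSucc 354, 29), (.negSucc 361, 30), (.negSucc 447, 31), (.negSucc 494, 32), (.negSucc
  518, 33), (.negSucc 399, 34), (.negSucc 382, 35), (.negSucc 643, 36), (.negSucc 701, 37), (.negSucc 717, 38),
  (.negSucc 636, 39), (.negSucc 852, 40), (.negSucc 1396, 41), (.negSucc 1235, 42), (.negSucc 1797, 43), (.negSucc
  1753, 44), (.negSucc 2186, 45), (.negSucc 1805, 46), (.negSucc 1863, 47), (.negSucc 1945, 48), (.negSucc 1833, 49),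
  (.negSucc 2012, 50), (.negSucc 1896, 51), (.negSucc 7, 53), (.negSucc 36, 54), (.negSucc 213, 55), (.negSucc 192,
  10)]) (.bf 21 3 (.bf 13 5 (.bf 14 20 (.bm 1 0 (.bm 2 1 (.bm 2 0 (.far (.negSucc 920) [(.negSucc 736, 1), (.ofNat
  118, 4), (.negSucc 131, 10), (.ofNat 66, 12), (.negSucc 6365, 17), (.negSucc 5221, 18), (.negSucc 6204, 19),
  (.negSucc 6596, 20), (.negSucc 6539, 21), (.negSucc 5604, 22), (.negSucc 6605, 23), (.negSucc 5675, 24), (.negSucc
  6341, 25), (.negSucc 6057, 26), (.negSucc 6610, 27), (.negSucc 12995, 28), (.negSucc 12338, 29), (.negSucc 12163,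
  30), (.negSucc 12272, 31), (.negSucc 12229, 32), (.negSucc 12598, 33), (.negSucc 12123, 34), (.negSucc 12137, 35),
  (.negSucc 17841, 36), (.negSucc 18484, 37), (.negSucc 17747, 38), (.negSucc 18115, 39), (.negSucc 24264, 40),
  (.negSucc 36952, 41), (.negSucc 36527, 42), (.negSucc 48516, 43), (.negSucc 48471, 44), (.negSucc 51157, 45),
  (.negSucc 53259, 46), (.negSucc 54336, 47), (.negSucc 54468, 48), (.negSucc 54643, 49), (.negSucc 59048, 50),
  (.negSucc 54397, 51), (.ofNat 158, 52), (.ofNat 248, 53), (.negSucc 70, 54), (.negSucc 6490, 55), (.negSucc 618,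
  2)]) (.bm 3 1 (.far (.negSucc 5) [(.negSucc 3, 1), (.ofNat 2, 2), (.negSucc 5, 3), (.ofNat 4, 10), (.ofNat 2, 16),
  (.ofNat 2, 17), (.negSucc 1, 20), (.negSucc 5, 21), (.negSucc 1, 22), (.ofNat 2, 23), (.negSucc 1, 24), (.negSucc
  1, 27), (.ofNat 2, 28), (.ofNat 4, 31), (.negSucc 5, 33), (.ofNat 3, 34), (.negSucc 4, 35), (.ofNat 3, 36), (.ofNat
  1, 37), (.negSucc 0, 38), (.negSucc 0, 39), (.ofNat 1, 40), (.ofNat 3, 41), (.ofNat 5, 42), (.ofNat 1, 43),
  (.negSucc 8, 45), (.ofNat 2, 46), (.negSucc 1, 47), (.ofNat 4, 48), (.ofNat 2, 50), (.negSucc 1, 51), (.negSucc 3,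
  53), (.negSucc 7, 54)]) (.far (.negSucc 9638) [(.negSucc 9179, 1), (.negSucc 123, 2), (.ofNat 9292, 7), (.ofNat
  9267, 10), (.ofNat 37, 16), (.negSucc 1337, 17), (.negSucc 1065, 18), (.negSucc 1176, 19), (.negSucc 1176, 20),
  (.negSucc 1015, 21), (.negSucc 1214, 22), (.negSucc 1288, 23), (.negSucc 1152, 24), (.negSucc 1226, 25), (.negSucc
  1214, 26), (.negSucc 10517, 27), (.negSucc 2577, 28), (.negSucc 2329, 29), (.negSucc 2329, 30), (.negSucc 2329,
  31), (.negSucc 2267, 32), (.negSucc 2230, 33), (.negSucc 2264, 34), (.negSucc 11605, 35), (.negSucc 3354, 36),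
  (.negSucc 3491, 37), (.negSucc 3478, 38), (.negSucc 3478, 39), (.negSucc 4532, 40), (.ofNat 2293, 41), (.negSucc
  7147, 42), (.negSucc 9303, 43), (.negSucc 9349, 44), (.negSucc 10291, 46), (.negSucc 10502, 47), (.negSucc 10564,
  48), (.negSucc 10626, 49), (.negSucc 11382, 50), (.negSucc 19682, 51), (.ofNat 12, 53), (.negSucc 9117, 54),
  (.negSucc 1282, 55), (.ofNat 347, 3)]))) (.far (.ofNat 3) [(.ofNat 148, 1), (.ofNat 151, 9), (.negSucc 81, 10),
  (.ofNat 65, 13), (.negSucc 607, 17), (.negSucc 531, 18), (.negSucc 762, 19), (.negSucc 669, 20), (.negSucc 707,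
  21), (.negSucc 744, 22), (.negSucc 576, 23), (.negSucc 689, 24), (.negSucc 751, 25), (.negSucc 624, 26), (.negSucc
  834, 27), (.negSucc 1469, 28), (.negSucc 1504, 29), (.negSucc 1483, 30), (.negSucc 1260, 31), (.negSucc 1342, 32),
  (.negSucc 1504, 33), (.negSucc 1071, 34), (.negSucc 1397, 35), (.negSucc 1995, 36), (.negSucc 2098, 37), (.negSucc
  2091, 38), (.negSucc 2091, 39), (.negSucc 2558, 40), (.negSucc 4028, 41), (.negSucc 4090, 42), (.negSucc 5416, 43),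
  (.negSucc 5423, 44), (.negSucc 5667, 45), (.negSucc 5921, 46), (.negSucc 6158, 47), (.negSucc 6017, 48), (.negSucc
  6124, 49), (.negSucc 6560, 50), (.negSucc 6072, 51), (.negSucc 102, 53), (.negSucc 305, 54), (.negSucc 851, 55),
  (.ofNat 230, 2)])) (.far (.negSucc 160) [(.ofNat 65, 3), (.ofNat 32, 13), (.ofNat 32, 15), (.negSucc 2138, 17),
  (.negSucc 1816, 18), (.negSucc 2106, 19), (.negSucc 2268, 20), (.negSucc 1912, 21), (.negSucc 2009, 22), (.negSucc
  2171, 23), (.negSucc 1848, 24), (.negSucc 2009, 25), (.negSucc 2106, 26), (.negSucc 2203, 27), (.negSucc 4278, 28),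
  (.negSucc 4116, 29), (.negSucc 4052, 30), (.negSucc 4116, 31), (.negSucc 4116, 32), (.negSucc 3987, 33), (.negSucc
  3987, 34), (.negSucc 3923, 35), (.negSucc 5836, 36), (.negSucc 6127, 37), (.negSucc 6127, 38), (.negSucc 6127, 39),
  (.negSucc 8008, 40), (.negSucc 12125, 41), (.negSucc 12222, 42), (.negSucc 16146, 43), (.negSucc 16146, 44),
  (.negSucc 16307, 45), (.negSucc 17962, 46), (.negSucc 18156, 47), (.negSucc 18285, 48), (.negSucc 18414, 49),
  (.negSucc 19682, 50), (.negSucc 18156, 51), (.ofNat 16, 52), (.ofNat 178, 53), (.negSucc 2251, 55), (.ofNat 226,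
  1)])) (.far (.ofNat 0) [(.ofNat 656, 17), (.ofNat 656, 18), (.ofNat 656, 19), (.ofNat 656, 20), (.ofNat 656, 21),
  (.ofNat 656, 22), (.ofNat 656, 23), (.ofNat 656, 24), (.ofNat 656, 25), (.ofNat 656, 26), (.ofNat 656, 27), (.ofNat
  1312, 28), (.ofNat 1312, 29), (.ofNat 1312, 30), (.ofNat 1312, 31), (.ofNat 1312, 32), (.ofNat 1312, 33), (.ofNat
  1312, 34), (.ofNat 1312, 35), (.ofNat 1968, 36), (.ofNat 1968, 37), (.ofNat 1968, 38), (.ofNat 1968, 39), (.ofNat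
  2624, 40), (.ofNat 3937, 41), (.ofNat 3937, 42), (.ofNat 5249, 43), (.ofNat 5249, 44), (.ofNat 5249, 45), (.ofNat
  5905, 46), (.ofNat 5905, 47), (.ofNat 5905, 48), (.ofNat 5905, 49), (.ofNat 6561, 50), (.ofNat 5905, 51), (.ofNat
  656, 55)])) (.far (.ofNat 0) [(.ofNat 1968, 17), (.ofNat 1968, 18), (.ofNat 1968, 19), (.ofNat 1968, 20), (.ofNat
  1968, 21), (.ofNat 1968, 22), (.ofNat 1968, 23), (.ofNat 1968, 24), (.ofNat 1968, 25), (.ofNat 1968, 26), (.ofNat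
  1968, 27), (.ofNat 3937, 28), (.ofNat 3937, 29), (.ofNat 3937, 30), (.ofNat 3937, 31), (.ofNat 3937, 32), (.ofNat
  3937, 33), (.ofNat 3937, 34), (.ofNat 3937, 35), (.ofNat 5905, 36), (.ofNat 5905, 37), (.ofNat 5905, 38), (.ofNat
  5905, 39), (.ofNat 7873, 40), (.ofNat 11810, 41), (.ofNat 11810, 42), (.ofNat 15746, 43), (.ofNat 15746, 44),
  (.ofNat 15746, 45), (.ofNat 17715, 46), (.ofNat 17715, 47), (.ofNat 17715, 48), (.ofNat 17715, 49), (.ofNat 19683,
  50), (.ofNat 17715, 51), (.ofNat 1968, 55)])) (.far (.negSucc 258) [(.negSucc 93, 7), (.ofNat 59, 10), (.ofNat 12,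
  13), (.ofNat 12, 15), (.ofNat 206, 16), (.negSucc 46, 17), (.negSucc 5, 18), (.negSucc 5, 19), (.negSucc 169, 20),
  (.negSucc 70, 21), (.negSucc 23, 22), (.ofNat 29, 23), (.ofNat 100, 24), (.ofNat 53, 25), (.ofNat 71, 26), (.ofNat
  253, 27), (.negSucc 64, 28), (.ofNat 106, 29), (.ofNat 188, 30), (.ofNat 288, 31), (.ofNat 159, 32), (.ofNat 6,
  33), (.ofNat 129, 34), (.ofNat 194, 35), (.ofNat 353, 36), (.ofNat 259, 37), (.ofNat 182, 38), (.ofNat 182, 39),
  (.ofNat 270, 40), (.ofNat 270, 41), (.ofNat 359, 42), (.ofNat 506, 43), (.ofNat 429, 44), (.ofNat 312, 45), (.ofNat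
  600, 46), (.ofNat 453, 47), (.ofNat 588, 48), (.ofNat 382, 49), (.ofNat 570, 50), (.ofNat 729, 51), (.negSucc 169,
  53), (.ofNat 144, 54), (.ofNat 21, 55)]))) (.far (.negSucc 80) [(.ofNat 3, 4), (.negSucc 2, 5), (.ofNat 11, 7),
  (.ofNat 11, 15), (.ofNat 8, 16), (.negSucc 9, 17), (.negSucc 12, 18), (.negSucc 3, 19), (.negSucc 14, 20),
  (.negSucc 6, 21), (.negSucc 0, 22), (.ofNat 1, 23), (.negSucc 0, 24), (.negSucc 0, 25), (.negSucc 6, 26), (.negSucc
  14, 27), (.ofNat 8, 28), (.negSucc 2, 30), (.ofNat 11, 31), (.ofNat 6, 32), (.negSucc 13, 33), (.ofNat 11, 34),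
  (.negSucc 49, 35), (.ofNat 10, 36), (.ofNat 4, 37), (.ofNat 4, 38), (.ofNat 4, 39), (.ofNat 3, 40), (.ofNat 36,
  41), (.ofNat 11, 42), (.negSucc 5, 44), (.ofNat 34, 45), (.ofNat 4, 46), (.negSucc 0, 47), (.ofNat 7, 48),
  (.negSucc 17, 49), (.ofNat 8, 50), (.negSucc 42, 51), (.negSucc 20, 53), (.negSucc 35, 54), (.ofNat 3, 55), (.ofNat
  56, 10)])) (.far (.negSucc 160) [(.ofNat 6, 1), (.ofNat 43, 3), (.ofNat 12, 4), (.ofNat 19, 13), (.ofNat 40, 16),
  (.negSucc 42, 17), (.ofNat 60, 18), (.ofNat 81, 19), (.negSucc 40, 20), (.ofNat 42, 21), (.ofNat 102, 22),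
  (.negSucc 5, 23), (.ofNat 157, 24), (.ofNat 59, 25), (.ofNat 115, 26), (.ofNat 54, 27), (.ofNat 62, 28), (.ofNat
  116, 29), (.ofNat 188, 30), (.ofNat 116, 31), (.ofNat 78, 32), (.ofNat 175, 33), (.ofNat 102, 34), (.ofNat 196,
  35), (.ofNat 296, 36), (.ofNat 138, 37), (.ofNat 144, 38), (.ofNat 200, 39), (.ofNat 315, 40), (.ofNat 412, 41),
  (.ofNat 423, 42), (.ofNat 604, 43), (.ofNat 568, 44), (.ofNat 589, 45), (.ofNat 663, 46), (.ofNat 658, 47), (.ofNat
  505, 48), (.ofNat 579, 49), (.ofNat 729, 50), (.ofNat 723, 51), (.ofNat 41, 54), (.negSucc 43, 55), (.ofNat 183,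
  53)])) (.far (.negSucc 147) [(.negSucc 103, 1), (.negSucc 22, 4), (.ofNat 9, 15), (.negSucc 105, 17), (.negSucc 28,
  18), (.negSucc 97, 19), (.negSucc 96, 20), (.negSucc 122, 21), (.negSucc 69, 22), (.negSucc 64, 23), (.negSucc 83,
  24), (.negSucc 96, 25), (.negSucc 94, 26), (.negSucc 181, 27), (.negSucc 89, 28), (.negSucc 148, 29), (.negSucc
  128, 30), (.negSucc 168, 31), (.negSucc 126, 32), (.negSucc 167, 33), (.negSucc 124, 34), (.negSucc 272, 35),
  (.negSucc 269, 36), (.negSucc 187, 37), (.negSucc 224, 38), (.negSucc 167, 39), (.negSucc 255, 40), (.negSucc 383,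
  41), (.negSucc 403, 42), (.negSucc 580, 43), (.negSucc 547, 44), (.negSucc 636, 45), (.negSucc 558, 46), (.negSucc
  617, 47), (.negSucc 576, 48), (.negSucc 598, 49), (.negSucc 629, 50), (.negSucc 728, 51), (.ofNat 11, 53),
  (.negSucc 133, 54), (.negSucc 66, 55), (.ofNat 153, 7)])) (.far (.negSucc 26) [(.ofNat 27, 8), (.negSucc 26, 18),
  (.negSucc 26, 23), (.negSucc 26, 45), (.ofNat 27, 46), (.ofNat 13, 55), (.ofNat 27, 5)])) (.far (.negSucc 71)
  [(.ofNat 42, 13), (.negSucc 5, 17), (.negSucc 79, 18), (.negSucc 17, 19), (.negSucc 26, 20), (.negSucc 64, 21),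
  (.negSucc 16, 22), (.negSucc 40, 23), (.ofNat 11, 24), (.negSucc 20, 25), (.negSucc 19, 26), (.negSucc 66, 27),
  (.negSucc 18, 28), (.negSucc 25, 29), (.negSucc 33, 30), (.ofNat 17, 31), (.negSucc 32, 32), (.negSucc 54, 33),
  (.negSucc 1, 34), (.negSucc 28, 35), (.negSucc 74, 36), (.negSucc 37, 37), (.negSucc 31, 38), (.negSucc 46, 39),
  (.negSucc 62, 40), (.negSucc 86, 41), (.negSucc 128, 42), (.negSucc 118, 43), (.negSucc 138, 44), (.negSucc 242,
  45), (.negSucc 76, 46), (.negSucc 151, 47), (.negSucc 107, 48), (.negSucc 71, 49), (.negSucc 144, 50), (.negSucc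
  143, 51), (.negSucc 24, 54), (.negSucc 6, 55), (.ofNat 114, 4)]))) (.far (.negSucc 107) [(.ofNat 34, 13), (.ofNat
  90, 15), (.negSucc 19, 17), (.ofNat 275, 18), (.ofNat 81, 19), (.ofNat 125, 20), (.ofNat 221, 21), (.ofNat 211,
  22), (.ofNat 268, 23), (.ofNat 300, 24), (.ofNat 201, 25), (.ofNat 205, 26), (.ofNat 267, 27), (.ofNat 305, 28),
  (.ofNat 280, 29), (.ofNat 337, 30), (.ofNat 361, 31), (.ofNat 432, 32), (.ofNat 471, 33), (.ofNat 477, 34), (.ofNat
  792, 35), (.ofNat 660, 36), (.ofNat 642, 37), (.ofNat 624, 38), (.ofNat 649, 39), (.ofNat 724, 40), (.ofNat 1131,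
  41), (.ofNat 1171, 42), (.ofNat 1692, 43), (.ofNat 1695, 44), (.ofNat 1548, 45), (.ofNat 1810, 46), (.ofNat 1894,
  47), (.ofNat 2014, 48), (.ofNat 1943, 49), (.ofNat 2187, 50), (.ofNat 2020, 51), (.ofNat 17, 52), (.ofNat 38, 53),
  (.ofNat 220, 54), (.ofNat 174, 55), (.ofNat 213, 1)])) (.far (.negSucc 34095) [(.ofNat 4714, 4), (.ofNat 4018, 12),
  (.ofNat 4405, 13), (.ofNat 17454, 16), (.negSucc 15548, 17), (.ofNat 1574, 18), (.ofNat 9683, 19), (.negSucc 21824,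
  20), (.ofNat 11450, 21), (.ofNat 14038, 22), (.negSucc 4607, 23), (.ofNat 1298, 24), (.ofNat 2998, 25), (.ofNat
  27523, 26), (.ofNat 10892, 27), (.ofNat 40912, 28), (.negSucc 1510, 29), (.ofNat 38973, 30), (.ofNat 19406, 31),
  (.ofNat 42943, 32), (.ofNat 75537, 33), (.ofNat 13378, 34), (.ofNat 18218, 35), (.ofNat 22458, 36), (.ofNat 71101,
  37), (.ofNat 16762, 38), (.ofNat 74877, 39), (.ofNat 63297, 40), (.ofNat 58684, 41), (.ofNat 90894, 42), (.ofNat
  130203, 43), (.ofNat 141027, 44), (.ofNat 127443, 45), (.ofNat 140195, 46), (.ofNat 119081, 47), (.ofNat 177147,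
  48), (.ofNat 128663, 49), (.ofNat 136079, 50), (.ofNat 151113, 51), (.ofNat 2202, 52), (.ofNat 4588, 53), (.ofNat
  11718, 54), (.ofNat 17006, 55)])) (.far (.negSucc 48683) [(.ofNat 16425, 4), (.ofNat 13712, 8), (.ofNat 74795, 12),
  (.ofNat 91498, 16), (.ofNat 249729, 17), (.ofNat 351988, 18), (.ofNat 357014, 19), (.ofNat 318864, 20), (.ofNat
  272565, 21), (.ofNat 358878, 22), (.ofNat 333943, 23), (.ofNat 315990, 24), (.ofNat 607859, 25), (.ofNat 371877,
  26), (.ofNat 698333, 27), (.ofNat 878855, 28), (.ofNat 638952, 29), (.ofNat 644442, 30), (.ofNat 890818, 31),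
  (.ofNat 710373, 32), (.ofNat 907037, 33), (.ofNat 880615, 34), (.ofNat 1036682, 35), (.ofNat 1223433, 36), (.ofNat
  1169065, 37), (.ofNat 1402109, 38), (.ofNat 1410997, 39), (.ofNat 1748113, 40), (.ofNat 3043275, 41), (.ofNat
  2476005, 42), (.ofNat 3887242, 43), (.ofNat 3562993, 44), (.ofNat 3858617, 45), (.ofNat 4064034, 46), (.ofNat
  4410000, 47), (.ofNat 4422592, 48), (.ofNat 4219756, 49), (.ofNat 4391093, 50), (.ofNat 4782969, 51), (.ofNat
  20907, 53), (.ofNat 261531, 54), (.ofNat 530313, 55)])) (.far (.negSucc 36700) [(.ofNat 19225, 4), (.ofNat 7865,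
  6), (.ofNat 5243, 8), (.ofNat 18351, 13), (.ofNat 73403, 15), (.ofNat 45003, 16), (.ofNat 36701, 17), (.ofNat
  85636, 18), (.ofNat 155981, 19), (.ofNat 9175, 20), (.ofNat 219334, 21), (.ofNat 30584, 22), (.negSucc 33642, 23),
  (.ofNat 70344, 24), (.ofNat 110104, 25), (.ofNat 292737, 26), (.ofNat 226325, 27), (.ofNat 159913, 28), (.ofNat
  140688, 29), (.ofNat 446533, 30), (.ofNat 409831, 31), (.ofNat 302786, 32), (.ofNat 159039, 33), (.ofNat 409831,
  34), (.ofNat 296669, 35), (.ofNat 281377, 36), (.ofNat 360896, 37), (.ofNat 464883, 38), (.ofNat 464883, 39),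
  (.ofNat 357838, 40), (.ofNat 877773, 41), (.ofNat 734026, 42), (.ofNat 1110215, 43), (.ofNat 1471111, 44), (.ofNat
  1136867, 45), (.ofNat 1079631, 46), (.ofNat 1192793, 47), (.ofNat 1049046, 48), (.ofNat 1352706, 49), (.ofNat
  1594323, 50), (.ofNat 1454945, 51), (.ofNat 9175, 52), (.ofNat 3495, 53), (.ofNat 51994, 54), (.ofNat 220208,
  55)])) (.far (.ofNat 0) [(.ofNat 757, 16), (.ofNat 757, 17), (.ofNat 757, 18), (.ofNat 1514, 19), (.ofNat 1514,
  20), (.ofNat 757, 21), (.ofNat 2271, 22), (.ofNat 1514, 23), (.ofNat 1514, 24), (.ofNat 2271, 25), (.ofNat 2271,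
  26), (.ofNat 2271, 27), (.ofNat 3028, 28), (.ofNat 3028, 29), (.ofNat 3028, 30), (.ofNat 3028, 31), (.ofNat 3785,
  32), (.ofNat 3028, 33), (.ofNat 5678, 34), (.ofNat 6435, 35), (.ofNat 6435, 36), (.ofNat 6435, 37), (.ofNat 6435,
  38), (.ofNat 6435, 39), (.ofNat 7949, 40), (.ofNat 10977, 41), (.ofNat 11734, 42), (.ofNat 15519, 43), (.ofNat
  16655, 44), (.ofNat 17033, 45), (.ofNat 18926, 46), (.ofNat 18169, 47), (.ofNat 18926, 48), (.ofNat 19683, 49),
  (.ofNat 19683, 50), (.ofNat 19683, 51), (.ofNat 757, 54), (.ofNat 2271, 55)])) (.far (.negSucc 3053) [(.ofNat 2460,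
  16), (.negSucc 423, 17), (.ofNat 2036, 18), (.ofNat 2630, 19), (.ofNat 1357, 20), (.negSucc 1017, 21), (.ofNat
  5090, 22), (.ofNat 2630, 23), (.ofNat 1442, 24), (.ofNat 5090, 25), (.ofNat 5090, 26), (.ofNat 2036, 27), (.ofNat
  1527, 28), (.ofNat 4666, 29), (.ofNat 4072, 30), (.ofNat 2800, 31), (.ofNat 7720, 32), (.ofNat 4072, 33), (.ofNat
  2800, 34), (.ofNat 3478, 35), (.ofNat 3054, 36), (.ofNat 594, 37), (.ofNat 594, 38), (.ofNat 594, 39), (.ofNat
  3818, 40), (.ofNat 8484, 41), (.ofNat 9672, 42), (.ofNat 18665, 43), (.ofNat 9502, 44), (.ofNat 18665, 45), (.ofNat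
  17647, 46), (.ofNat 11538, 47), (.ofNat 15186, 48), (.ofNat 18241, 49), (.ofNat 19683, 50), (.ofNat 17053, 51),
  (.ofNat 933, 53), (.ofNat 1273, 54), (.ofNat 4157, 55)]))) (.far (.ofNat 0) [(.ofNat 656, 17), (.ofNat 656, 18),
  (.ofNat 656, 19), (.ofNat 656, 20), (.ofNat 656, 21), (.ofNat 656, 22), (.ofNat 656, 23), (.ofNat 656, 24), (.ofNat
  656, 25), (.ofNat 656, 26), (.ofNat 656, 27), (.ofNat 1312, 28), (.ofNat 1312, 29), (.ofNat 1312, 30), (.ofNat
  1312, 31), (.ofNat 1312, 32), (.ofNat 1312, 33), (.ofNat 1312, 34), (.ofNat 1312, 35), (.ofNat 1968, 36), (.ofNat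
  1968, 37), (.ofNat 1968, 38), (.ofNat 1968, 39), (.ofNat 2624, 40), (.ofNat 3937, 41), (.ofNat 3937, 42), (.ofNat
  5249, 43), (.ofNat 5249, 44), (.ofNat 5249, 45), (.ofNat 5905, 46), (.ofNat 5905, 47), (.ofNat 5905, 48), (.ofNat
  5905, 49), (.ofNat 6561, 50), (.ofNat 5905, 51), (.ofNat 656, 55)])) (.far (.negSucc 409) [(.negSucc 170, 17),
  (.ofNat 239, 18), (.negSucc 170, 19), (.negSucc 580, 20), (.negSucc 170, 21), (.negSucc 170, 22), (.negSucc 170,
  23), (.negSucc 170, 24), (.negSucc 170, 25), (.negSucc 170, 26), (.negSucc 580, 27), (.negSucc 1161, 28), (.negSucc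
  341, 29), (.negSucc 341, 30), (.negSucc 751, 31), (.negSucc 341, 32), (.negSucc 341, 33), (.negSucc 341, 34),
  (.negSucc 341, 35), (.negSucc 102, 36), (.negSucc 512, 37), (.negSucc 512, 38), (.negSucc 512, 39), (.negSucc 682,
  40), (.negSucc 1024, 41), (.negSucc 1434, 42), (.negSucc 1366, 43), (.negSucc 1366, 44), (.negSucc 2186, 45),
  (.negSucc 1127, 46), (.negSucc 1537, 47), (.negSucc 1537, 48), (.negSucc 1537, 49), (.negSucc 887, 50), (.negSucc
  1537, 51), (.ofNat 205, 53), (.negSucc 375, 55)])) (.far (.negSucc 261) [(.ofNat 15, 13), (.ofNat 85, 16),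
  (.negSucc 11, 17), (.ofNat 203, 18), (.ofNat 146, 19), (.ofNat 249, 20), (.ofNat 173, 21), (.ofNat 178, 22),
  (.ofNat 162, 23), (.ofNat 319, 24), (.ofNat 215, 25), (.ofNat 270, 26), (.ofNat 350, 27), (.ofNat 308, 28), (.ofNat
  417, 29), (.ofNat 428, 30), (.ofNat 458, 31), (.ofNat 374, 32), (.ofNat 486, 33), (.ofNat 440, 34), (.ofNat 793,
  35), (.ofNat 622, 36), (.ofNat 639, 37), (.ofNat 544, 38), (.ofNat 627, 39), (.ofNat 717, 40), (.ofNat 1103, 41),
  (.ofNat 1200, 42), (.ofNat 1689, 43), (.ofNat 1721, 44), (.ofNat 1573, 45), (.ofNat 1794, 46), (.ofNat 1917, 47),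
  (.ofNat 2006, 48), (.ofNat 2077, 49), (.ofNat 1916, 50), (.ofNat 2187, 51), (.ofNat 305, 54), (.ofNat 212, 55)])))

/-- certificates -/
noncomputable def CL3 : List (Hd × Tr) :=
  [c30]

theorem okC3 : okL TAB.Co2.D (TAB.Sm2.mkRows TAB.Co2.A TAB.Co2.B) P Z CL3 = true := by decide +kernel

/-- a certificate -/
noncomputable def c31 : Hd × Tr :=
  ((398131200, [], []), (.far (.ofNat 1) [(.ofNat 1, 9), (.negSucc 0, 24), (.negSucc 0, 35), (.ofNat 1, 40), (.ofNat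
  1, 46), (.negSucc 0, 48)]))

/-- a certificate -/
noncomputable def c32 : Hd × Tr :=
  ((373248000, [], []), (.far (.ofNat 1) [(.ofNat 1, 9), (.negSucc 0, 24), (.negSucc 0, 35), (.ofNat 1, 40), (.ofNat
  1, 46), (.negSucc 0, 48)]))

/-- a certificate -/
noncomputable def c33 : Hd × Tr :=
  ((298598400, [], []), (.far (.ofNat 1) [(.ofNat 1, 9), (.negSucc 0, 24), (.negSucc 0, 35), (.ofNat 1, 40), (.ofNat
  1, 46), (.negSucc 0, 48)]))

/-- a certificate -/
noncomputable def c34 : Hd × Tr :=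
  ((248832000, [], []), (.far (.ofNat 1) [(.ofNat 1, 9), (.negSucc 0, 24), (.negSucc 0, 35), (.ofNat 1, 40), (.ofNat
  1, 46), (.negSucc 0, 48)]))

/-- a certificate -/
noncomputable def c35 : Hd × Tr :=
  ((199065600, [], []), (.far (.ofNat 1) [(.ofNat 1, 9), (.negSucc 0, 24), (.negSucc 0, 35), (.ofNat 1, 40), (.ofNat
  1, 46), (.negSucc 0, 48)]))

/-- certificates -/
noncomputable def CL4 : List (Hd × Tr) :=
  [c31, c32, c33, c34, c35]

theorem okC4 : okL TAB.Co2.D (TAB.Sm2.mkRows TAB.Co2.A TAB.Co2.B) P Z CL4 = true := by decide +kernel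

/-- a certificate -/
noncomputable def c36 : Hd × Tr :=
  ((174182400, [], []), (.bf 21 8 (.bf 13 20 (.bf 14 50 (.bf 4 228 (.bf 5 438 (.bf 1 6784 (.bf 2 3072 (.bf 3 640 (.bm
  1 1 (.bm 2 2 (.bm 3 2 (.bm 5 1 (.bm 6 1 (.bm 7 1 (.bm 8 1 (.bm 9 1 (.bm 1175 17773 (.far (.ofNat 0) [(.ofNat 1,
  1025), (.negSucc 0, 1175)]) (.bm 1243 288 (.far (.ofNat 75389) [(.ofNat 76875, 1), (.ofNat 14024, 2), (.ofNat
  49302, 6), (.ofNat 7101, 11), (.ofNat 11893, 12), (.ofNat 65744, 13), (.ofNat 101010, 14), (.ofNat 47157, 15),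
  (.ofNat 12641, 16), (.ofNat 159099, 21), (.ofNat 25168, 22), (.ofNat 60667, 23), (.ofNat 104914, 24), (.ofNat
  25139, 25), (.ofNat 43846, 26), (.ofNat 155557, 27), (.ofNat 47380, 28), (.ofNat 76275, 29), (.ofNat 66412, 30),
  (.ofNat 117691, 31), (.ofNat 23686, 32), (.ofNat 126820, 33), (.ofNat 9294, 34), (.ofNat 66314, 35), (.ofNat 57845,
  36), (.ofNat 103324, 37), (.ofNat 81472, 38), (.ofNat 115337, 39), (.ofNat 144226, 40), (.ofNat 217967, 41),
  (.ofNat 164383, 42), (.ofNat 256363, 43), (.ofNat 254355, 44), (.negSucc 76105, 45), (.ofNat 150829, 46), (.ofNat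
  319911, 47), (.ofNat 229325, 48), (.ofNat 195499, 49), (.ofNat 154740, 50), (.ofNat 332029, 51), (.ofNat 30109,
  54), (.negSucc 129140162, 1243)]) (.bf 21 1 (.bf 5 309 (.bf 1 6144 (.bf 2 2464 (.bm 3 1 (.bm 6 0 (.bm 9 0 (.bm 10 1
  (.bm 10 0 (.far (.ofNat 142) [(.negSucc 103, 6), (.negSucc 0, 7), (.ofNat 107, 9), (.ofNat 2, 13), (.ofNat 2, 15),
  (.ofNat 88, 16), (.ofNat 53, 17), (.ofNat 14, 19), (.ofNat 14, 22), (.negSucc 53, 24), (.ofNat 22, 25), (.ofNat 63,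
  26), (.ofNat 106, 27), (.negSucc 67, 28), (.ofNat 48, 29), (.ofNat 37, 30), (.negSucc 20, 31), (.ofNat 67, 32),
  (.negSucc 45, 33), (.ofNat 82, 34), (.negSucc 30, 35), (.ofNat 11, 36), (.ofNat 18, 37), (.ofNat 56, 38), (.ofNat
  53, 39), (.ofNat 140, 40), (.ofNat 3, 41), (.ofNat 38, 42), (.ofNat 60, 43), (.ofNat 53, 44), (.negSucc 39, 45),
  (.ofNat 143, 46), (.ofNat 47, 47), (.ofNat 4, 48), (.ofNat 49, 49), (.negSucc 43, 50), (.ofNat 215, 51), (.negSucc
  242, 10)]) (.bf 14 20 (.bf 2 2144 (.bm 3 0 (.far (.negSucc 226) [(.ofNat 2, 2), (.ofNat 72, 6), (.negSucc 215, 9),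
  (.ofNat 370, 10), (.ofNat 98, 14), (.ofNat 83, 18), (.ofNat 84, 23), (.negSucc 249, 24), (.negSucc 72, 25), (.ofNat
  225, 26), (.negSucc 107, 27), (.negSucc 198, 28), (.ofNat 54, 29), (.ofNat 107, 30), (.negSucc 110, 31), (.ofNat
  140, 32), (.negSucc 18, 33), (.ofNat 22, 34), (.negSucc 41, 35), (.ofNat 20, 36), (.negSucc 44, 37), (.negSucc 81,
  38), (.ofNat 48, 39), (.ofNat 199, 40), (.ofNat 27, 41), (.negSucc 20, 42), (.ofNat 148, 43), (.ofNat 45, 44),
  (.negSucc 141, 45), (.ofNat 257, 46), (.ofNat 65, 47), (.negSucc 93, 48), (.ofNat 244, 49), (.negSucc 178, 50),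
  (.ofNat 387, 51), (.ofNat 72, 52), (.ofNat 98, 54), (.negSucc 728, 3)]) (.bm 53 0 (.bm 11 1 (.bm 13 0 (.bm 1002
  31205 (.bm 1025 253252 (.bm 1025 22318 (.far (.ofNat 12021026) [(.ofNat 62165876, 3), (.negSucc 28850461, 6),
  (.ofNat 41386675, 9), (.negSucc 42073589, 10), (.ofNat 7040887, 13), (.ofNat 7040887, 14), (.ofNat 22668220, 15),
  (.ofNat 20435744, 16), (.ofNat 515187, 20), (.ofNat 10303736, 21), (.ofNat 1030374, 22), (.ofNat 16485978, 23),
  (.negSucc 36406534, 24), (.negSucc 13051398, 25), (.ofNat 23698594, 26), (.ofNat 8414718, 27), (.negSucc 42073589,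
  28), (.negSucc 17688080, 29), (.negSucc 17516351, 30), (.negSucc 10475464, 31), (.ofNat 3606308, 32), (.negSucc
  2060746, 33), (.ofNat 19491235, 34), (.negSucc 5066003, 35), (.ofNat 9874414, 36), (.ofNat 7813667, 37), (.negSucc
  5581190, 38), (.negSucc 5581190, 39), (.ofNat 15541469, 40), (.negSucc 772779, 41), (.negSucc 8500582, 42), (.ofNat
  10733059, 43), (.ofNat 12707942, 44), (.ofNat 2661799, 45), (.ofNat 55640177, 46), (.ofNat 15627334, 47), (.negSucc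
  25415882, 48), (.ofNat 5838784, 49), (.negSucc 20607472, 50), (.ofNat 43962609, 51), (.ofNat 11505839, 53), (.ofNat
  1717289, 54), (.negSucc 1162261466, 1025)]) (.bm 1243 129534 (.bm 1243 504 (.far (.negSucc 6584) [(.ofNat 101749,
  3), (.negSucc 49712, 6), (.ofNat 37317, 9), (.negSucc 30860, 10), (.ofNat 30086, 13), (.ofNat 6844, 14), (.ofNat
  24275, 15), (.ofNat 33960, 16), (.ofNat 15107, 20), (.ofNat 45322, 21), (.ofNat 7877, 23), (.negSucc 31118, 24),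
  (.negSucc 4518, 25), (.ofNat 38995, 26), (.ofNat 24792, 27), (.negSucc 40544, 28), (.negSucc 128, 29), (.negSucc
  11620, 30), (.ofNat 1679, 31), (.ofNat 14074, 32), (.ofNat 46872, 33), (.negSucc 14461, 34), (.negSucc 53714, 35),
  (.negSucc 257, 36), (.ofNat 3615, 37), (.ofNat 14591, 38), (.ofNat 8135, 39), (.ofNat 53199, 40), (.ofNat 38866,
  41), (.negSucc 8263, 42), (.ofNat 12267, 43), (.ofNat 13558, 44), (.negSucc 112595, 45), (.ofNat 18077, 46),
  (.ofNat 10846, 47), (.negSucc 58750, 48), (.negSucc 6455, 49), (.negSucc 74762, 50), (.ofNat 45452, 51), (.ofNat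
  22597, 52), (.ofNat 8845, 53), (.negSucc 43046720, 1243)]) (.bm 2701 1900 (.far (.ofNat 0) [(.ofNat 1, 1243),
  (.negSucc 0, 2701)]) (.bm 5096 10744 (.bm 5096 2629 (.far (.ofNat 104693) [(.ofNat 73584, 3), (.ofNat 31438, 4),
  (.negSucc 46344, 6), (.ofNat 95044, 9), (.negSucc 45848, 10), (.negSucc 19583, 13), (.ofNat 14260, 15), (.ofNat
  12679, 16), (.ofNat 4254, 18), (.ofNat 10447, 19), (.ofNat 2121, 22), (.negSucc 46494, 24), (.negSucc 24168, 25),
  (.negSucc 18895, 26), (.ofNat 38746, 27), (.negSucc 42229, 28), (.ofNat 67929, 29), (.ofNat 57233, 30), (.negSucc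
  21691, 31), (.negSucc 8919, 32), (.negSucc 20274, 33), (.negSucc 30611, 34), (.negSucc 16668, 35), (.ofNat 11715,
  36), (.negSucc 9772, 37), (.ofNat 26502, 38), (.ofNat 23666, 39), (.negSucc 54228, 40), (.ofNat 1946, 41), (.ofNat
  27741, 42), (.negSucc 15300, 43), (.ofNat 45125, 44), (.negSucc 4742, 45), (.ofNat 82606, 46), (.ofNat 59551, 47),
  (.ofNat 80834, 48), (.ofNat 41603, 49), (.ofNat 5003, 50), (.ofNat 28537, 51), (.negSucc 31437, 53), (.ofNat 21600,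
  55), (.negSucc 1594322, 5096)]) (.bf 14 0 (.far (.ofNat 99) [(.ofNat 513, 3), (.negSucc 237, 6), (.ofNat 341, 9),
  (.negSucc 346, 10), (.ofNat 58, 13), (.ofNat 58, 14), (.ofNat 187, 15), (.ofNat 169, 16), (.ofNat 4, 20), (.ofNat
  85, 21), (.ofNat 8, 22), (.ofNat 136, 23), (.negSucc 299, 24), (.negSucc 107, 25), (.ofNat 195, 26), (.ofNat 69,
  27), (.negSucc 346, 28), (.negSucc 145, 29), (.negSucc 143, 30), (.negSucc 85, 31), (.ofNat 30, 32), (.negSucc 16,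
  33), (.ofNat 161, 34), (.negSucc 41, 35), (.ofNat 81, 36), (.ofNat 64, 37), (.negSucc 45, 38), (.negSucc 45, 39),
  (.ofNat 128, 40), (.negSucc 5, 41), (.negSucc 69, 42), (.ofNat 89, 43), (.ofNat 105, 44), (.ofNat 22, 45), (.ofNat
  459, 46), (.ofNat 129, 47), (.negSucc 209, 48), (.ofNat 48, 49), (.negSucc 169, 50), (.ofNat 363, 51), (.ofNat 95,
  53), (.ofNat 14, 54), (.ofNat 6561, 1175)]) (.bf 5 264 (.bf 1 5696 (.bf 2 1888 (.bm 1 0 (.bm 2 1 (.bm 7 0 (.bm 52 0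
  (.bm 12 1 (.bm 14 0 (.bm 15 0 (.bm 16 0 (.bm 1002 30511 (.bm 1002 9294 (.far (.ofNat 0) [(.ofNat 311530, 1),
  (.ofNat 255810, 3), (.ofNat 64554, 5), (.ofNat 10568, 6), (.negSucc 155459, 7), (.ofNat 328971, 9), (.ofNat 79783,
  10), (.ofNat 137159, 11), (.negSucc 55919, 12), (.negSucc 152910, 13), (.negSucc 345258, 14), (.ofNat 13127, 15),
  (.negSucc 570201, 16), (.ofNat 225096, 17), (.ofNat 586792, 20), (.ofNat 72722, 21), (.ofNat 443303, 23), (.ofNat
  389583, 24), (.ofNat 168984, 25), (.negSucc 227012, 26), (.ofNat 200032, 27), (.negSucc 585937, 28), (.ofNat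
  402173, 29), (.negSucc 302642, 30), (.negSucc 100929, 31), (.negSucc 454824, 32), (.negSucc 1198088, 33), (.negSucc
  19920, 34), (.ofNat 555223, 35), (.ofNat 359613, 36), (.negSucc 907199, 37), (.ofNat 460105, 38), (.negSucc
  1231136, 39), (.negSucc 487420, 40), (.negSucc 296264, 41), (.negSucc 631218, 42), (.negSucc 1307300, 43),
  (.negSucc 1462720, 44), (.negSucc 1357078, 45), (.negSucc 978329, 46), (.negSucc 795155, 47), (.negSucc 2482708,
  48), (.negSucc 858601, 49), (.negSucc 1217360, 50), (.negSucc 1486230, 51), (.negSucc 24095, 52), (.negSucc 124792,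
  53), (.negSucc 3486784400, 1002)]) (.bm 1003 10744 (.far (.ofNat 0) [(.ofNat 4744908, 1), (.ofNat 6644260, 3),
  (.ofNat 2169365, 4), (.ofNat 697406, 5), (.ofNat 4068717, 6), (.negSucc 790367, 7), (.ofNat 6193338, 9), (.negSucc
  6844841, 10), (.negSucc 513796, 13), (.ofNat 882173, 14), (.ofNat 4224554, 15), (.negSucc 4721378, 16), (.ofNat
  4588686, 18), (.ofNat 3169187, 21), (.ofNat 4415878, 23), (.negSucc 1229718, 24), (.negSucc 3110554, 25), (.negSucc
  2649217, 26), (.ofNat 859800, 27), (.ofNat 635689, 28), (.negSucc 1691055, 29), (.ofNat 669633, 30), (.ofNat 86404,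
  31), (.ofNat 2960891, 32), (.ofNat 1276392, 33), (.negSucc 15375724, 34), (.negSucc 16714219, 35), (.negSucc
  13724399, 36), (.negSucc 16102060, 37), (.negSucc 18185021, 38), (.negSucc 18323885, 39), (.negSucc 15616036, 40),
  (.negSucc 13775701, 41), (.negSucc 15876792, 42), (.negSucc 10024442, 43), (.negSucc 31090123, 44), (.negSucc
  30659644, 45), (.negSucc 22352487, 46), (.negSucc 28198664, 47), (.negSucc 32412803, 48), (.negSucc 31090123, 49),
  (.negSucc 21318721, 50), (.negSucc 31477014, 51), (.negSucc 850734, 52), (.ofNat 2106491, 53), (.negSucc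
  10460353202, 1003)]) (.bm 1025 153325 (.bm 1025 58060 (.far (.ofNat 0) [(.negSucc 0, 1025)]) (.bm 1243 78343 (.bm
  5096 9114 (.bm 5096 4432 (.far (.ofNat 0) [(.ofNat 122853, 1), (.ofNat 271080, 3), (.ofNat 36027, 4), (.ofNat
  40098, 6), (.negSucc 8346, 7), (.ofNat 194631, 9), (.negSucc 46699, 10), (.negSucc 54198, 13), (.negSucc 190438,
  14), (.ofNat 48099, 15), (.negSucc 70413, 16), (.ofNat 25187, 22), (.ofNat 117315, 23), (.negSucc 125855, 24),
  (.negSucc 107859, 25), (.negSucc 148702, 26), (.negSucc 45495, 27), (.negSucc 25169, 28), (.negSucc 100497, 29),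
  (.ofNat 21040, 30), (.negSucc 125459, 31), (.negSucc 23797, 32), (.negSucc 27228, 33), (.negSucc 176051, 34),
  (.negSucc 164694, 35), (.negSucc 41818, 36), (.negSucc 65205, 37), (.negSucc 33516, 38), (.negSucc 33516, 39),
  (.negSucc 234653, 40), (.negSucc 27719, 41), (.negSucc 38544, 42), (.negSucc 151174, 43), (.negSucc 56210, 44),
  (.negSucc 61225, 45), (.ofNat 55480, 46), (.negSucc 27847, 47), (.negSucc 221690, 48), (.negSucc 188473, 49),
  (.negSucc 91385, 50), (.negSucc 370045, 51), (.negSucc 12304, 52), (.ofNat 158282, 53), (.ofNat 16302, 55),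
  (.negSucc 1594322, 5096)]) (.bm 29672 2169 (.bf 14 10 (.bm 54 0 (.bm 17 0 (.bm 18 0 (.bm 19 0 (.bm 20 0 (.bm 21 0
  (.bm 1003 21084 (.far (.negSucc 1530892) [(.ofNat 158251, 1), (.ofNat 1335966, 3), (.ofNat 457604, 4), (.ofNat
  477980, 6), (.ofNat 960374, 7), (.ofNat 325671, 8), (.ofNat 2178670, 9), (.negSucc 517032, 10), (.negSucc 297144,
  13), (.ofNat 237716, 14), (.ofNat 2041983, 15), (.ofNat 412268, 16), (.negSucc 2318921, 17), (.ofNat 1118455, 18),
  (.negSucc 2094279, 19), (.negSucc 1756722, 20), (.negSucc 263864, 21), (.negSucc 473054, 24), (.negSucc 172343,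
  25), (.ofNat 764088, 26), (.negSucc 686999, 27), (.negSucc 3100838, 28), (.negSucc 2455608, 29), (.negSucc 1160054,
  30), (.negSucc 1617658, 31), (.ofNat 530107, 32), (.negSucc 1066157, 33), (.negSucc 5469851, 34), (.negSucc
  6301858, 35), (.negSucc 8050261, 36), (.negSucc 9285197, 37), (.negSucc 8577991, 38), (.negSucc 8577991, 39),
  (.negSucc 9206751, 40), (.negSucc 9192488, 41), (.negSucc 10387012, 42), (.negSucc 8580368, 43), (.negSucc
  16792277, 44), (.negSucc 15105680, 45), (.negSucc 15843789, 46), (.negSucc 17516123, 47), (.negSucc 17161926, 48),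
  (.negSucc 15821206, 49), (.negSucc 13421291, 50), (.negSucc 16130407, 51), (.negSucc 569924, 52), (.negSucc
  3486784400, 1003)]) (.bm 1025 149095 (.bm 1025 107520 (.far (.ofNat 0) [(.ofNat 54238868, 1), (.ofNat 50364664, 3),
  (.negSucc 3874204, 6), (.ofNat 66830034, 7), (.ofNat 12591166, 8), (.ofNat 81358303, 9), (.negSucc 14528267, 10),
  (.ofNat 56175971, 13), (.ofNat 123006005, 14), (.ofNat 137534274, 15), (.ofNat 72641342, 16), (.negSucc 282816956,
  17), (.negSucc 128817312, 18), (.negSucc 153999643, 19), (.negSucc 89106711, 20), (.negSucc 161748053, 21),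
  (.negSucc 145282682, 24), (.negSucc 14528267, 27), (.negSucc 226640985, 28), (.negSucc 226640985, 29), (.negSucc
  282816956, 30), (.negSucc 226640985, 31), (.negSucc 72641341, 32), (.negSucc 232452292, 33), (.ofNat 6779859, 34),
  (.negSucc 49396111, 35), (.negSucc 346741337, 36), (.negSucc 363206707, 37), (.negSucc 363206707, 38), (.negSucc
  363206707, 39), (.negSucc 435848049, 40), (.negSucc 595659001, 41), (.negSucc 573382323, 42), (.negSucc 581130733,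
  43), (.negSucc 799054758, 44), (.negSucc 628589742, 45), (.negSucc 769998221, 46), (.negSucc 871696099, 47),
  (.negSucc 711885148, 48), (.negSucc 645055113, 49), (.negSucc 898815533, 50), (.negSucc 711885148, 51), (.negSucc
  43584804, 52), (.negSucc 74578443, 53), (.negSucc 10460353202, 1025)]) (.bm 1175 33133 (.far (.ofNat 0) [(.ofNat 1,
  1025), (.negSucc 0, 1175)]) (.bm 1243 66708 (.bm 1243 15447 (.far (.ofNat 0) [(.ofNat 14461, 1), (.negSucc 1372450,
  3), (.negSucc 1386911, 6), (.ofNat 14461, 7), (.ofNat 448628, 9), (.negSucc 434166, 10), (.ofNat 967206, 13),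
  (.ofNat 981667, 14), (.ofNat 1415834, 15), (.ofNat 2354118, 16), (.negSucc 6124068, 17), (.negSucc 3839901, 18),
  (.negSucc 2802744, 19), (.negSucc 3222450, 20), (.negSucc 6095146, 21), (.negSucc 4708234, 24), (.negSucc 434166,
  27), (.negSucc 4638283, 28), (.negSucc 5156862, 29), (.negSucc 6124068, 30), (.negSucc 5156862, 31), (.negSucc
  2354117, 32), (.negSucc 7496518, 33), (.ofNat 4204118, 34), (.ofNat 3236912, 35), (.negSucc 3839901, 36), (.negSucc
  4708234, 37), (.negSucc 4708234, 38), (.negSucc 4708234, 39), (.negSucc 7062352, 40), (.negSucc 12204753, 41),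
  (.negSucc 8478185, 42), (.negSucc 11770587, 43), (.negSucc 11770587, 44), (.negSucc 36318652, 45), (.negSucc
  10902254, 46), (.negSucc 14124704, 47), (.negSucc 8982303, 48), (.negSucc 8449263, 49), (.negSucc 14742156, 50),
  (.negSucc 8982303, 51), (.negSucc 1394141, 52), (.negSucc 3047572, 53), (.ofNat 259289, 55), (.negSucc 43046720,
  1243)]) (.bm 2701 11358 (.bm 2701 4035 (.far (.ofNat 0) [(.ofNat 1, 1243), (.negSucc 0, 2701)]) (.bm 5096 6677
  (.far (.negSucc 688859) [(.negSucc 142211, 1), (.negSucc 131676, 2), (.ofNat 450695, 3), (.ofNat 355208, 4),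
  (.negSucc 1826047, 6), (.ofNat 886724, 9), (.ofNat 1402133, 10), (.negSucc 95126, 13), (.negSucc 1979980, 14),
  (.ofNat 1034619, 15), (.ofNat 956429, 16), (.negSucc 1431097, 17), (.negSucc 522877, 18), (.negSucc 1516589, 19),
  (.negSucc 2089821, 20), (.negSucc 1190989, 21), (.negSucc 1305348, 24), (.negSucc 396478, 25), (.negSucc 145835,
  26), (.negSucc 829575, 27), (.negSucc 2736824, 28), (.negSucc 1738723, 29), (.negSucc 1200557, 30), (.negSucc
  2652119, 31), (.negSucc 1720877, 32), (.negSucc 1686188, 33), (.negSucc 2251992, 34), (.negSucc 2277059, 35),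
  (.negSucc 2764222, 36), (.negSucc 2981999, 37), (.negSucc 1252714, 38), (.negSucc 1252714, 39), (.negSucc 5253977,
  40), (.negSucc 4403010, 41), (.negSucc 4052561, 42), (.negSucc 7129542, 43), (.negSucc 5637879, 44), (.negSucc
  6966952, 45), (.negSucc 7654586, 46), (.negSucc 6264899, 47), (.negSucc 6780394, 48), (.negSucc 7353418, 49),
  (.negSucc 7524426, 50), (.negSucc 8344309, 51), (.negSucc 533787, 52), (.negSucc 34637, 54), (.negSucc 14348906,
  5096)]) (.bf 14 5 (.far (.ofNat 0) [(.ofNat 1, 1175)]) (.bf 13 10 (.bf 13 5 (.far (.ofNat 18832) [(.ofNat 8937, 1),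
  (.negSucc 26491, 3), (.negSucc 16597, 6), (.negSucc 27449, 7), (.negSucc 1914, 9), (.negSucc 8617, 14), (.negSucc
  1914, 15), (.ofNat 16598, 16), (.negSucc 31279, 17), (.negSucc 5744, 18), (.negSucc 1914, 19), (.negSucc 5744, 20),
  (.negSucc 11490, 21), (.negSucc 7659, 24), (.ofNat 12767, 26), (.ofNat 23620, 27), (.negSucc 16597, 28), (.negSucc
  5744, 29), (.negSucc 5744, 30), (.negSucc 5744, 31), (.negSucc 3829, 32), (.negSucc 6702, 33), (.negSucc 14362,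
  34), (.ofNat 15959, 35), (.negSucc 17235, 36), (.negSucc 19150, 37), (.negSucc 19150, 38), (.negSucc 19150, 39),
  (.negSucc 22980, 40), (.negSucc 56175, 41), (.negSucc 21065, 42), (.negSucc 30641, 43), (.negSucc 42131, 44),
  (.negSucc 59048, 45), (.negSucc 40216, 46), (.negSucc 45961, 47), (.negSucc 43089, 48), (.negSucc 38301, 49),
  (.negSucc 58729, 50), (.ofNat 479, 52), (.ofNat 43090, 54), (.ofNat 958, 55)]) (.bf 4 36 (.far (.negSucc 1311)
  [(.negSucc 229, 1), (.negSucc 649, 3), (.negSucc 1452, 6), (.negSucc 1152, 7), (.negSucc 1026, 9), (.negSucc 126,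
  10), (.negSucc 267, 13), (.negSucc 2186, 14), (.negSucc 1284, 15), (.ofNat 45, 16), (.ofNat 1228, 17), (.ofNat
  1185, 18), (.ofNat 1284, 19), (.negSucc 740, 20), (.negSucc 118, 21), (.ofNat 321, 23), (.negSucc 661, 24),
  (.negSucc 260, 25), (.negSucc 223, 26), (.negSucc 532, 27), (.ofNat 908, 28), (.ofNat 970, 29), (.ofNat 1300, 30),
  (.ofNat 1022, 31), (.ofNat 284, 32), (.ofNat 51, 33), (.negSucc 1164, 34), (.negSucc 1194, 35), (.ofNat 1109, 36),
  (.negSucc 122, 37), (.ofNat 171, 38), (.ofNat 171, 39), (.ofNat 384, 40), (.ofNat 1793, 42), (.ofNat 154, 43),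
  (.ofNat 116, 44), (.negSucc 1907, 45), (.ofNat 739, 46), (.ofNat 301, 47), (.negSucc 63, 48), (.negSucc 1514, 49),
  (.ofNat 2004, 50), (.ofNat 54, 52), (.negSucc 551, 53)]) (.far (.negSucc 7380) [(.negSucc 14761, 1), (.negSucc
  22142, 3), (.negSucc 14761, 6), (.negSucc 7380, 7), (.negSucc 7380, 9), (.negSucc 14761, 14), (.negSucc 7380, 15),
  (.ofNat 14762, 16), (.negSucc 22142, 17), (.negSucc 22142, 18), (.negSucc 7380, 19), (.negSucc 22142, 20),
  (.negSucc 44286, 21), (.negSucc 29523, 24), (.negSucc 7380, 27), (.negSucc 14761, 28), (.negSucc 22142, 29),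
  (.negSucc 22142, 30), (.negSucc 22142, 31), (.negSucc 14761, 32), (.negSucc 44286, 33), (.negSucc 36905, 34),
  (.negSucc 36905, 35), (.negSucc 66429, 36), (.negSucc 73810, 37), (.negSucc 73810, 38), (.negSucc 73810, 39),
  (.negSucc 88572, 40), (.negSucc 118097, 41), (.negSucc 81191, 42), (.negSucc 118097, 43), (.negSucc 162384, 44),
  (.negSucc 147621, 45), (.negSucc 155003, 46), (.negSucc 177146, 47), (.negSucc 147621, 48), (.negSucc 147621, 49),
  (.negSucc 177146, 50), (.negSucc 147621, 51), (.negSucc 7380, 52), (.negSucc 18452, 53), (.ofNat 3691, 55)])))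
  (.far (.ofNat 0) [(.negSucc 0, 1025)]))))) (.far (.ofNat 0) [(.negSucc 0, 1243), (.ofNat 1, 2701)]))) (.far
  (.negSucc 4963264) [(.ofNat 8105591, 1), (.negSucc 37833, 2), (.ofNat 3508056, 3), (.ofNat 9510355, 4), (.ofNat
  9384241, 6), (.negSucc 17742058, 7), (.ofNat 9434687, 9), (.negSucc 8231704, 10), (.negSucc 9510354, 13), (.negSucc
  3722447, 14), (.negSucc 37833, 15), (.negSucc 2305072, 16), (.ofNat 4647981, 17), (.ofNat 4698426, 18), (.negSucc
  7129612, 19), (.ofNat 2254628, 20), (.ofNat 4521867, 21), (.ofNat 2317685, 23), (.ofNat 2254628, 24), (.negSucc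
  9472520, 25), (.ofNat 8105591, 27), (.ofNat 4610147, 28), (.negSucc 4824539, 29), (.ofNat 4647981, 30), (.negSucc
  4862373, 31), (.ofNat 2305073, 32), (.negSucc 1316483, 33), (.ofNat 5825740, 34), (.negSucc 3646779, 35), (.negSucc
  4837150, 36), (.negSucc 4925429, 37), (.ofNat 4547090, 38), (.ofNat 4547090, 39), (.ofNat 6852164, 40), (.negSucc
  6241914, 41), (.negSucc 227003, 42), (.negSucc 7482730, 43), (.negSucc 7545787, 44), (.ofNat 2052847, 46), (.ofNat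
  4231807, 47), (.negSucc 1619155, 48), (.negSucc 378339, 49), (.ofNat 6751273, 50), (.negSucc 1619155, 51),
  (.negSucc 7699575, 52), (.negSucc 5888796, 53), (.ofNat 129140163, 1243)])))) (.far (.ofNat 24670644) [(.ofNat
  18502983, 1), (.negSucc 4111773, 2), (.negSucc 14391208, 3), (.negSucc 8223547, 6), (.negSucc 14391208, 7), (.ofNat
  4111774, 9), (.negSucc 18502982, 10), (.negSucc 4111773, 13), (.ofNat 14391209, 14), (.ofNat 4111774, 15), (.ofNat
  4111774, 17), (.ofNat 24670644, 18), (.ofNat 4111774, 19), (.negSucc 4111773, 20), (.ofNat 12335322, 21), (.ofNat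
  8223548, 22), (.ofNat 12335322, 24), (.ofNat 8223548, 25), (.ofNat 8223548, 26), (.ofNat 10279435, 27), (.negSucc
  8223547, 28), (.ofNat 12335322, 29), (.ofNat 12335322, 30), (.ofNat 8223548, 31), (.ofNat 16447096, 32), (.negSucc
  2055886, 33), (.ofNat 39061854, 34), (.ofNat 39061854, 35), (.ofNat 41117741, 36), (.ofNat 24670644, 37), (.ofNat
  24670644, 38), (.ofNat 24670644, 39), (.ofNat 32894192, 40), (.ofNat 30838305, 41), (.ofNat 41117741, 42), (.ofNat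
  65788385, 43), (.ofNat 65788385, 44), (.ofNat 90459029, 46), (.ofNat 74011933, 47), (.ofNat 92514916, 48), (.ofNat
  61676611, 49), (.ofNat 115129674, 50), (.ofNat 92514916, 51), (.negSucc 9251491, 52), (.negSucc 12335321, 53),
  (.ofNat 3486784401, 1025)]))) (.far (.negSucc 348) [(.ofNat 213, 1), (.ofNat 230, 3), (.ofNat 36, 6), (.negSucc
  149, 7), (.ofNat 108, 8), (.ofNat 120, 9), (.negSucc 9, 10), (.negSucc 222, 13), (.negSucc 116, 14), (.negSucc 102,
  15), (.negSucc 33, 16), (.negSucc 106, 17), (.negSucc 211, 18), (.ofNat 31, 19), (.negSucc 25, 20), (.ofNat 10,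
  22), (.negSucc 19, 24), (.negSucc 370, 25), (.negSucc 97, 26), (.negSucc 26, 27), (.negSucc 65, 28), (.negSucc 319,
  29), (.ofNat 47, 30), (.negSucc 175, 31), (.ofNat 18, 32), (.negSucc 211, 33), (.negSucc 97, 34), (.negSucc 241,
  35), (.negSucc 169, 36), (.negSucc 166, 37), (.negSucc 216, 38), (.negSucc 216, 39), (.negSucc 351, 40), (.negSucc
  225, 41), (.negSucc 332, 42), (.negSucc 468, 43), (.negSucc 459, 44), (.negSucc 351, 45), (.negSucc 129, 46),
  (.negSucc 321, 47), (.negSucc 580, 48), (.negSucc 728, 49), (.negSucc 628, 50), (.negSucc 580, 51), (.negSucc 70,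
  52), (.ofNat 230, 21)])) (.far (.ofNat 41) [(.ofNat 191, 1), (.negSucc 161, 3), (.negSucc 86, 6), (.ofNat 9, 7),
  (.ofNat 9, 9), (.ofNat 191, 13), (.ofNat 466, 14), (.ofNat 113, 15), (.negSucc 90, 16), (.negSucc 21, 17), (.ofNat
  44, 18), (.ofNat 81, 19), (.ofNat 87, 21), (.ofNat 107, 23), (.negSucc 193, 24), (.negSucc 43, 27), (.ofNat 179,
  28), (.ofNat 81, 29), (.negSucc 112, 30), (.ofNat 38, 31), (.ofNat 91, 32), (.negSucc 275, 33), (.ofNat 661, 34),
  (.negSucc 80, 35), (.ofNat 131, 36), (.ofNat 91, 37), (.ofNat 91, 38), (.ofNat 91, 39), (.ofNat 272, 40), (.ofNat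
  363, 41), (.ofNat 310, 42), (.ofNat 363, 43), (.ofNat 363, 44), (.ofNat 493, 46), (.ofNat 363, 47), (.ofNat 729,
  48), (.ofNat 383, 49), (.ofNat 624, 50), (.ofNat 272, 51), (.negSucc 137, 52), (.negSucc 344, 53), (.negSucc 547,
  54), (.ofNat 25, 55), (.ofNat 319, 20)])) (.far (.negSucc 62) [(.ofNat 74, 1), (.ofNat 76, 3), (.ofNat 19, 4),
  (.ofNat 31, 6), (.negSucc 29, 7), (.ofNat 36, 9), (.negSucc 65, 10), (.negSucc 56, 13), (.ofNat 33, 14), (.negSucc
  20, 15), (.negSucc 83, 16), (.negSucc 54, 17), (.negSucc 74, 18), (.ofNat 21, 20), (.ofNat 111, 21), (.ofNat 126,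
  23), (.negSucc 49, 24), (.negSucc 213, 25), (.negSucc 91, 26), (.negSucc 15, 27), (.ofNat 46, 28), (.negSucc 112,
  29), (.ofNat 67, 30), (.ofNat 10, 31), (.ofNat 54, 32), (.negSucc 163, 33), (.ofNat 43, 34), (.negSucc 65, 35),
  (.ofNat 55, 36), (.ofNat 54, 37), (.negSucc 98, 38), (.negSucc 98, 39), (.negSucc 167, 40), (.ofNat 87, 41),
  (.ofNat 10, 42), (.ofNat 31, 43), (.ofNat 38, 44), (.ofNat 243, 46), (.ofNat 92, 47), (.ofNat 3, 48), (.negSucc
  137, 49), (.negSucc 76, 50), (.negSucc 71, 51), (.negSucc 43, 52), (.negSucc 74, 54), (.ofNat 18, 55), (.ofNat 140,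
  19)])) (.far (.ofNat 314) [(.ofNat 216, 1), (.negSucc 100, 3), (.negSucc 147, 7), (.ofNat 69, 9), (.negSucc 224,
  10), (.negSucc 7, 11), (.negSucc 7, 12), (.negSucc 8, 13), (.ofNat 159, 14), (.ofNat 60, 15), (.negSucc 37, 16),
  (.ofNat 38, 17), (.ofNat 80, 21), (.ofNat 39, 22), (.ofNat 60, 23), (.ofNat 52, 24), (.ofNat 31, 25), (.ofNat 24,
  26), (.ofNat 159, 27), (.negSucc 1, 28), (.ofNat 60, 29), (.ofNat 60, 30), (.ofNat 52, 31), (.ofNat 101, 32),
  (.negSucc 56, 33), (.ofNat 320, 34), (.ofNat 320, 35), (.ofNat 240, 36), (.ofNat 160, 37), (.ofNat 160, 38),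
  (.ofNat 160, 39), (.ofNat 231, 40), (.ofNat 134, 41), (.ofNat 262, 42), (.ofNat 423, 43), (.ofNat 423, 44), (.ofNat
  551, 46), (.ofNat 482, 47), (.ofNat 632, 48), (.ofNat 434, 49), (.ofNat 729, 50), (.ofNat 634, 51), (.negSucc 87,
  52), (.negSucc 136, 53), (.ofNat 178, 18)])) (.far (.ofNat 27) [(.ofNat 27, 1), (.ofNat 27, 3), (.ofNat 27, 6),
  (.ofNat 27, 9), (.negSucc 26, 10), (.negSucc 26, 16), (.negSucc 26, 24), (.negSucc 26, 26), (.ofNat 27, 28),
  (.negSucc 26, 35), (.ofNat 27, 40), (.ofNat 27, 46), (.negSucc 26, 48), (.ofNat 27, 50), (.negSucc 26, 51),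
  (.negSucc 12, 54), (.ofNat 27, 17)])) (.far (.ofNat 0) [(.ofNat 40, 1), (.ofNat 41, 3), (.negSucc 39, 7), (.negSucc
  40, 10), (.negSucc 39, 14), (.ofNat 40, 27), (.ofNat 41, 33), (.negSucc 40, 34), (.ofNat 40, 35), (.negSucc 39,
  41), (.negSucc 40, 48), (.ofNat 40, 51), (.ofNat 20, 52), (.ofNat 40, 53), (.ofNat 81, 54)])) (.far (.negSucc 136)
  [(.negSucc 7, 1), (.negSucc 10, 3), (.negSucc 4, 5), (.negSucc 55, 6), (.negSucc 90, 7), (.negSucc 34, 9),
  (.negSucc 8, 10), (.negSucc 72, 13), (.negSucc 148, 14), (.negSucc 82, 15), (.ofNat 1, 16), (.ofNat 56, 17),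
  (.ofNat 4, 18), (.ofNat 42, 19), (.negSucc 36, 24), (.negSucc 54, 25), (.negSucc 32, 26), (.negSucc 44, 27),
  (.ofNat 64, 28), (.ofNat 8, 29), (.ofNat 63, 30), (.negSucc 5, 31), (.negSucc 2, 32), (.negSucc 34, 33), (.negSucc
  99, 34), (.negSucc 136, 35), (.negSucc 56, 36), (.negSucc 57, 37), (.negSucc 34, 38), (.negSucc 34, 39), (.negSucc
  45, 40), (.negSucc 81, 41), (.negSucc 0, 42), (.negSucc 144, 43), (.negSucc 150, 44), (.negSucc 242, 45), (.negSucc
  79, 46), (.negSucc 121, 47), (.negSucc 177, 48), (.negSucc 200, 49), (.negSucc 96, 50), (.negSucc 174, 51),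
  (.negSucc 7, 52)])) (.far (.ofNat 0) [(.negSucc 0, 5096), (.ofNat 1, 29672)]))) (.far (.ofNat 458498) [(.ofNat
  1221257, 1), (.ofNat 114396, 2), (.ofNat 269466, 3), (.ofNat 665755, 6), (.negSucc 1351075, 7), (.negSucc 76114,
  9), (.negSucc 1477414, 10), (.negSucc 153570, 13), (.ofNat 61252, 14), (.negSucc 354205, 15), (.negSucc 121843,
  16), (.ofNat 210329, 17), (.ofNat 3878, 18), (.ofNat 172652, 19), (.ofNat 332085, 20), (.ofNat 287137, 21), (.ofNat
  222372, 24), (.negSucc 118097, 25), (.ofNat 177147, 26), (.ofNat 1473537, 27), (.ofNat 700259, 28), (.ofNat 84079,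
  29), (.ofNat 354206, 30), (.ofNat 600008, 31), (.ofNat 535187, 32), (.ofNat 505574, 33), (.ofNat 679240, 34),
  (.ofNat 1713888, 35), (.ofNat 541224, 36), (.ofNat 535187, 37), (.ofNat 298991, 38), (.ofNat 298991, 39), (.ofNat
  1425139, 40), (.negSucc 229894, 41), (.ofNat 887189, 42), (.ofNat 1483716, 43), (.ofNat 1158947, 44), (.ofNat
  1822486, 46), (.ofNat 1365618, 47), (.ofNat 1125293, 48), (.ofNat 1769355, 49), (.ofNat 1828051, 50), (.ofNat
  3223106, 51), (.ofNat 134689, 52), (.ofNat 1388753, 54), (.ofNat 37236, 55), (.ofNat 4782969, 5096)])) (.far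
  (.negSucc 3032421) [(.ofNat 4268101, 1), (.ofNat 1829186, 3), (.ofNat 7458024, 4), (.ofNat 6396068, 6), (.negSucc
  11411121, 7), (.ofNat 759119, 8), (.ofNat 9594102, 9), (.negSucc 12186462, 10), (.negSucc 7458023, 13), (.negSucc
  2576138, 14), (.ofNat 2136078, 15), (.negSucc 6545458, 16), (.ofNat 746953, 17), (.ofNat 4259990, 18), (.ofNat
  1057901, 20), (.ofNat 5180666, 23), (.negSucc 1372902, 24), (.negSucc 9444711, 25), (.negSucc 3048642, 26), (.ofNat
  2891142, 27), (.ofNat 2115801, 28), (.negSucc 6711070, 29), (.ofNat 2733641, 30), (.negSucc 4724382, 31), (.ofNat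
  1372903, 32), (.negSucc 7930527, 33), (.negSucc 484669, 34), (.negSucc 4894050, 35), (.negSucc 6424455, 36),
  (.negSucc 7801413, 37), (.negSucc 10551276, 38), (.negSucc 10551276, 39), (.negSucc 11165060, 40), (.negSucc
  13745254, 41), (.negSucc 7357297, 42), (.negSucc 7954859, 43), (.negSucc 16216612, 44), (.negSucc 4958936, 45),
  (.negSucc 525223, 46), (.negSucc 10434328, 47), (.negSucc 13624251, 48), (.negSucc 13785808, 49), (.negSucc
  6473119, 50), (.negSucc 13624251, 51), (.negSucc 7611469, 52), (.ofNat 1215402, 55), (.ofNat 129140163, 1243)])))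
  (.far (.negSucc 6661823) [(.negSucc 2854011, 1), (.negSucc 991143, 2), (.negSucc 678007, 3), (.negSucc 3485339, 6),
  (.negSucc 1711161, 7), (.negSucc 2589887, 9), (.ofNat 878726, 10), (.negSucc 1519390, 13), (.negSucc 6853594, 14),
  (.negSucc 3118134, 15), (.negSucc 523578, 16), (.ofNat 3971577, 17), (.ofNat 3703174, 18), (.ofNat 3597369, 19),
  (.ofNat 427888, 22), (.negSucc 88688, 24), (.ofNat 297188, 25), (.ofNat 371873, 26), (.negSucc 3810145, 27),
  (.ofNat 2571217, 28), (.ofNat 3871217, 29), (.ofNat 4001918, 30), (.ofNat 2954760, 31), (.ofNat 1360683, 32),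
  (.ofNat 3137195, 33), (.negSucc 3187763, 34), (.negSucc 3187763, 35), (.ofNat 4638304, 36), (.ofNat 1788571, 37),
  (.ofNat 1695214, 38), (.ofNat 1695214, 39), (.ofNat 3025556, 40), (.ofNat 5428340, 41), (.ofNat 7581394, 42),
  (.ofNat 5330704, 43), (.ofNat 5335372, 44), (.ofNat 9197253, 46), (.ofNat 5795934, 47), (.ofNat 3832708, 48),
  (.ofNat 2626453, 49), (.ofNat 12751056, 50), (.ofNat 4304940, 51), (.ofNat 1164049, 52), (.ofNat 2307093, 53),
  (.ofNat 387420489, 1025)])))) (.far (.ofNat 14969598) [(.ofNat 18143220, 1), (.ofNat 12058584, 3), (.ofNat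
  10187309, 6), (.negSucc 6443900, 7), (.ofNat 10123238, 9), (.negSucc 17837281, 10), (.negSucc 1270142, 11), (.ofNat
  723914, 13), (.ofNat 957381, 14), (.ofNat 1003953, 15), (.negSucc 10096213, 16), (.ofNat 9324220, 17), (.ofNat
  1119257, 18), (.ofNat 664348, 19), (.ofNat 711190, 21), (.ofNat 313032, 22), (.negSucc 12369971, 24), (.negSucc
  1074215, 25), (.negSucc 9984175, 26), (.ofNat 5776739, 27), (.ofNat 14086579, 28), (.negSucc 752176, 29), (.ofNat
  567961, 30), (.ofNat 83775, 31), (.ofNat 2307763, 32), (.ofNat 4157983, 33), (.ofNat 2080241, 34), (.negSucc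
  5554148, 35), (.negSucc 14862, 36), (.ofNat 3890937, 37), (.negSucc 153700, 38), (.ofNat 4386383, 39), (.ofNat
  14180263, 40), (.negSucc 2817576, 41), (.ofNat 4087539, 42), (.ofNat 6852914, 43), (.ofNat 7456457, 44), (.ofNat
  17779338, 46), (.ofNat 5778698, 47), (.ofNat 6283602, 49), (.ofNat 19129202, 50), (.ofNat 3186526, 51), (.ofNat
  189542, 52), (.ofNat 52652, 53), (.ofNat 640364, 55), (.ofNat 10460353203, 1002)])) (.far (.ofNat 0) [(.negSucc 0,
  1), (.negSucc 0, 6), (.ofNat 1, 26), (.negSucc 0, 28), (.negSucc 0, 50), (.ofNat 1, 51), (.ofNat 1, 16)])) (.far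
  (.ofNat 0) [(.ofNat 404, 1), (.negSucc 102, 2), (.ofNat 551, 3), (.negSucc 491, 6), (.negSucc 232, 7), (.ofNat 208,
  9), (.negSucc 466, 10), (.ofNat 190, 13), (.ofNat 56, 14), (.ofNat 44, 18), (.ofNat 20, 19), (.ofNat 226, 23),
  (.negSucc 725, 24), (.negSucc 31, 25), (.ofNat 74, 26), (.ofNat 102, 27), (.negSucc 48, 28), (.negSucc 28, 29),
  (.negSucc 371, 30), (.negSucc 144, 31), (.ofNat 4, 32), (.negSucc 134, 33), (.ofNat 399, 34), (.negSucc 262, 35),
  (.negSucc 62, 36), (.negSucc 59, 37), (.negSucc 90, 38), (.negSucc 90, 39), (.ofNat 190, 40), (.negSucc 321, 41),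
  (.negSucc 118, 42), (.negSucc 231, 43), (.negSucc 150, 44), (.negSucc 728, 45), (.ofNat 110, 46), (.negSucc 199,
  47), (.negSucc 564, 48), (.negSucc 223, 49), (.negSucc 109, 50), (.ofNat 35, 51), (.negSucc 21, 52), (.negSucc 177,
  53), (.ofNat 370, 15)])) (.far (.ofNat 81) [(.ofNat 41, 1), (.negSucc 39, 3), (.negSucc 39, 7), (.negSucc 39, 10),
  (.ofNat 40, 27), (.negSucc 39, 33), (.ofNat 40, 34), (.ofNat 40, 35), (.negSucc 40, 41), (.negSucc 80, 45), (.ofNat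
  40, 48), (.ofNat 40, 51), (.negSucc 19, 52), (.negSucc 39, 53), (.ofNat 40, 14)])) (.far (.ofNat 272) [(.ofNat 182,
  1), (.negSucc 28, 2), (.negSucc 221, 3), (.negSucc 79, 6), (.negSucc 321, 7), (.ofNat 101, 9), (.negSucc 194, 10),
  (.negSucc 43, 13), (.ofNat 100, 14), (.ofNat 18, 15), (.ofNat 22, 16), (.ofNat 22, 20), (.ofNat 54, 21), (.ofNat
  36, 23), (.ofNat 98, 24), (.ofNat 65, 25), (.ofNat 219, 26), (.ofNat 306, 27), (.ofNat 46, 29), (.ofNat 53, 30),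
  (.ofNat 19, 31), (.ofNat 56, 32), (.negSucc 72, 33), (.ofNat 256, 34), (.ofNat 267, 35), (.ofNat 80, 36), (.ofNat
  113, 37), (.ofNat 113, 38), (.ofNat 48, 39), (.ofNat 246, 40), (.ofNat 17, 41), (.ofNat 234, 42), (.ofNat 254, 43),
  (.ofNat 303, 44), (.ofNat 386, 46), (.ofNat 333, 47), (.ofNat 471, 48), (.ofNat 349, 49), (.ofNat 295, 50), (.ofNat
  729, 51), (.negSucc 77, 52), (.negSucc 156, 53), (.ofNat 46, 55), (.ofNat 152, 12)])) (.far (.negSucc 313)
  [(.negSucc 111, 1), (.ofNat 884, 3), (.negSucc 1311, 6), (.negSucc 489, 7), (.negSucc 242, 9), (.negSucc 921, 10),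
  (.negSucc 239, 13), (.ofNat 263, 15), (.ofNat 159, 18), (.ofNat 184, 19), (.ofNat 50, 22), (.negSucc 40, 24),
  (.negSucc 128, 25), (.ofNat 1401, 26), (.ofNat 722, 27), (.negSucc 314, 28), (.negSucc 78, 29), (.negSucc 285, 30),
  (.negSucc 273, 31), (.ofNat 346, 32), (.ofNat 362, 33), (.negSucc 526, 34), (.ofNat 428, 35), (.negSucc 59, 36),
  (.ofNat 262, 37), (.ofNat 123, 38), (.negSucc 306, 39), (.ofNat 867, 40), (.negSucc 629, 41), (.negSucc 150, 42),
  (.ofNat 73, 43), (.ofNat 179, 44), (.ofNat 768, 46), (.ofNat 346, 47), (.negSucc 970, 48), (.ofNat 162, 49),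
  (.negSucc 547, 50), (.ofNat 2187, 51), (.ofNat 95, 53), (.ofNat 831, 54), (.ofNat 19, 55), (.ofNat 683, 52)]))
  (.far (.negSucc 183) [(.negSucc 161, 1), (.ofNat 6, 3), (.negSucc 30, 6), (.negSucc 28, 9), (.ofNat 143, 10),
  (.negSucc 15, 13), (.ofNat 9, 15), (.ofNat 9, 18), (.ofNat 19, 19), (.ofNat 7, 21), (.ofNat 13, 22), (.ofNat 7,
  23), (.ofNat 30, 24), (.negSucc 17, 25), (.ofNat 45, 26), (.negSucc 113, 27), (.negSucc 6, 28), (.ofNat 6, 29),
  (.ofNat 7, 30), (.ofNat 2, 31), (.ofNat 20, 32), (.ofNat 31, 33), (.negSucc 3, 34), (.negSucc 90, 35), (.negSucc 4,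
  36), (.ofNat 31, 37), (.negSucc 15, 38), (.ofNat 2, 39), (.ofNat 114, 40), (.ofNat 212, 41), (.ofNat 77, 42),
  (.ofNat 86, 43), (.ofNat 105, 44), (.ofNat 243, 45), (.ofNat 101, 46), (.ofNat 74, 47), (.ofNat 36, 48), (.ofNat
  92, 49), (.ofNat 73, 50), (.ofNat 21, 52), (.ofNat 2, 53), (.ofNat 141, 7)])) (.far (.negSucc 750) [(.negSucc 306,
  1), (.negSucc 580, 3), (.ofNat 431, 5), (.ofNat 106, 6), (.ofNat 205, 9), (.ofNat 627, 10), (.negSucc 302, 13),
  (.ofNat 194, 18), (.ofNat 499, 20), (.ofNat 22, 21), (.ofNat 69, 22), (.negSucc 100, 24), (.negSucc 97, 25),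
  (.ofNat 964, 26), (.ofNat 157, 27), (.ofNat 344, 28), (.negSucc 185, 29), (.ofNat 25, 30), (.ofNat 424, 31),
  (.ofNat 614, 32), (.ofNat 353, 33), (.ofNat 938, 34), (.negSucc 58, 35), (.ofNat 310, 36), (.ofNat 369, 37),
  (.ofNat 201, 38), (.ofNat 201, 39), (.ofNat 1204, 40), (.ofNat 1282, 41), (.ofNat 1155, 42), (.ofNat 1337, 43),
  (.ofNat 1703, 44), (.ofNat 1189, 45), (.ofNat 1963, 46), (.ofNat 1555, 47), (.ofNat 923, 48), (.ofNat 2014, 49),
  (.ofNat 1766, 50), (.ofNat 2187, 51), (.ofNat 317, 52), (.ofNat 314, 53), (.ofNat 636, 2)])) (.far (.negSucc 66)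
  [(.ofNat 931, 3), (.ofNat 381, 6), (.negSucc 110, 7), (.ofNat 555, 9), (.negSucc 586, 10), (.ofNat 188, 13),
  (.ofNat 202, 15), (.ofNat 358, 21), (.ofNat 318, 22), (.ofNat 124, 23), (.negSucc 626, 24), (.ofNat 183, 25),
  (.negSucc 618, 26), (.ofNat 4, 27), (.ofNat 1259, 28), (.ofNat 336, 29), (.ofNat 470, 30), (.ofNat 71, 31), (.ofNat
  41, 32), (.ofNat 464, 33), (.ofNat 191, 34), (.negSucc 609, 35), (.ofNat 388, 36), (.ofNat 343, 37), (.ofNat 478,
  38), (.ofNat 478, 39), (.ofNat 1646, 40), (.ofNat 908, 41), (.ofNat 945, 42), (.ofNat 1270, 43), (.ofNat 998, 44),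
  (.ofNat 1528, 45), (.ofNat 2187, 46), (.ofNat 1468, 47), (.negSucc 263, 48), (.ofNat 1267, 49), (.ofNat 2001, 50),
  (.ofNat 778, 51), (.ofNat 394, 53), (.ofNat 95, 55), (.ofNat 854, 1)])) (.far (.negSucc 12597) [(.ofNat 4831, 3),
  (.negSucc 17836, 6), (.ofNat 7015, 8), (.negSucc 8841, 9), (.negSucc 5202, 10), (.negSucc 4443, 11), (.negSucc
  8571, 13), (.ofNat 2522, 16), (.ofNat 6022, 17), (.ofNat 17009, 18), (.ofNat 9922, 19), (.ofNat 7352, 20), (.ofNat
  2895, 22), (.negSucc 14557, 24), (.ofNat 22682, 25), (.negSucc 3685, 26), (.ofNat 19082, 27), (.ofNat 33963, 28),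
  (.negSucc 973, 29), (.negSucc 6446, 30), (.ofNat 18234, 31), (.ofNat 7343, 32), (.ofNat 17204, 33), (.ofNat 25902,
  34), (.ofNat 12191, 35), (.ofNat 22543, 36), (.ofNat 14682, 37), (.ofNat 42668, 38), (.ofNat 42668, 39), (.ofNat
  50892, 40), (.ofNat 122834, 41), (.ofNat 48133, 42), (.ofNat 127594, 43), (.ofNat 86466, 44), (.ofNat 111887, 45),
  (.ofNat 119250, 46), (.ofNat 150276, 47), (.ofNat 144947, 48), (.ofNat 112904, 49), (.ofNat 130285, 50), (.ofNat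
  177147, 51), (.negSucc 4022, 53), (.ofNat 9934, 54), (.ofNat 17890, 55)])) (.far (.ofNat 1255) [(.ofNat 481, 1),
  (.ofNat 464, 2), (.negSucc 1073, 3), (.ofNat 271, 4), (.ofNat 843, 6), (.ofNat 23, 7), (.negSucc 225, 9), (.negSucc
  666, 10), (.negSucc 915, 11), (.ofNat 1312, 13), (.ofNat 678, 14), (.ofNat 3166, 15), (.ofNat 1554, 16), (.ofNat
  1492, 17), (.ofNat 2533, 18), (.ofNat 5631, 19), (.ofNat 8073, 21), (.ofNat 181, 24), (.ofNat 2827, 25), (.ofNat
  11198, 26), (.ofNat 9667, 27), (.ofNat 7898, 28), (.ofNat 3969, 29), (.ofNat 18034, 30), (.ofNat 16801, 31),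
  (.ofNat 11555, 32), (.ofNat 2827, 33), (.ofNat 17548, 34), (.ofNat 9916, 35), (.ofNat 7801, 36), (.ofNat 12471,
  37), (.ofNat 17208, 38), (.ofNat 17208, 39), (.ofNat 11306, 40), (.ofNat 32755, 41), (.ofNat 26898, 42), (.ofNat
  39573, 43), (.ofNat 56284, 44), (.ofNat 41054, 45), (.ofNat 35842, 46), (.ofNat 42399, 47), (.ofNat 36995, 48),
  (.ofNat 50676, 49), (.ofNat 59049, 50), (.ofNat 53349, 51), (.negSucc 2351, 53), (.ofNat 9170, 55)])) (.far (.ofNat
  44209) [(.negSucc 75415, 3), (.negSucc 10401, 6), (.ofNat 23405, 9), (.ofNat 31207, 10), (.negSucc 23404, 13),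
  (.ofNat 41609, 19), (.ofNat 31207, 20), (.ofNat 49410, 22), (.ofNat 5201, 23), (.negSucc 52010, 24), (.ofNat 54612,
  25), (.ofNat 28606, 26), (.ofNat 18204, 27), (.ofNat 96220, 28), (.ofNat 78017, 29), (.ofNat 72815, 30), (.ofNat
  44209, 31), (.ofNat 96220, 32), (.ofNat 18204, 33), (.ofNat 172101, 34), (.ofNat 94084, 35), (.ofNat 148696, 36),
  (.ofNat 153897, 37), (.ofNat 159098, 38), (.ofNat 159098, 39), (.ofNat 255318, 40), (.ofNat 234514, 41), (.ofNat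
  270922, 42), (.ofNat 338536, 43), (.ofNat 385810, 44), (.ofNat 416088, 45), (.ofNat 531441, 46), (.ofNat 417017,
  47), (.ofNat 380609, 48), (.ofNat 445623, 49), (.ofNat 463827, 50), (.ofNat 440422, 51), (.negSucc 18203, 53),
  (.ofNat 16904, 54), (.ofNat 52011, 55)])))) (.far (.negSucc 459953) [(.ofNat 259052, 3), (.ofNat 64328, 6),
  (.negSucc 11974, 9), (.negSucc 70208, 10), (.ofNat 38042, 13), (.ofNat 59643, 19), (.ofNat 77886, 20), (.ofNat
  73238, 21), (.ofNat 72219, 23), (.negSucc 105903, 24), (.negSucc 33231, 25), (.ofNat 52379, 26), (.negSucc 1104,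
  27), (.ofNat 219508, 28), (.ofNat 36464, 29), (.ofNat 12690, 30), (.ofNat 156005, 31), (.ofNat 144223, 32), (.ofNat
  169206, 33), (.ofNat 273458, 34), (.ofNat 10444, 35), (.ofNat 173406, 36), (.ofNat 153425, 37), (.ofNat 55496, 38),
  (.ofNat 55496, 39), (.ofNat 499948, 40), (.ofNat 330436, 41), (.ofNat 268989, 42), (.ofNat 415016, 43), (.ofNat
  303482, 44), (.ofNat 332147, 45), (.ofNat 592252, 46), (.ofNat 372583, 47), (.ofNat 168325, 48), (.ofNat 488203,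
  49), (.ofNat 529385, 50), (.ofNat 546319, 51), (.ofNat 58312, 52), (.ofNat 11819, 53), (.ofNat 1594323, 5096)]))))
  (.far (.negSucc 292271) [(.negSucc 11764, 3), (.ofNat 1464361, 4), (.ofNat 2384231, 6), (.ofNat 1915485, 8),
  (.ofNat 6320334, 9), (.ofNat 453226, 10), (.negSucc 39449, 13), (.ofNat 3683883, 15), (.ofNat 2035087, 18), (.ofNat
  580588, 20), (.ofNat 1361331, 21), (.ofNat 650877, 22), (.ofNat 3311860, 23), (.negSucc 2153436, 24), (.ofNat
  1313720, 25), (.negSucc 2478650, 26), (.ofNat 1502760, 27), (.ofNat 7824346, 28), (.ofNat 3976805, 29), (.ofNat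
  5712462, 30), (.ofNat 3884688, 31), (.ofNat 2416972, 32), (.ofNat 3767389, 33), (.ofNat 2116090, 34), (.negSucc
  2419274, 35), (.ofNat 5915370, 36), (.ofNat 7257826, 37), (.ofNat 5633161, 38), (.ofNat 5633161, 39), (.ofNat
  14324509, 40), (.ofNat 13473027, 41), (.ofNat 12897696, 42), (.ofNat 16540877, 43), (.ofNat 15539804, 44), (.ofNat
  22794276, 45), (.ofNat 24427552, 46), (.ofNat 19094223, 47), (.ofNat 9848119, 48), (.ofNat 18964357, 49), (.ofNat
  22840235, 50), (.ofNat 15589117, 51), (.ofNat 3258142, 53), (.ofNat 1505914, 55), (.ofNat 43046721, 1243)]))) (.far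
  (.ofNat 0) [(.negSucc 2447089, 3), (.negSucc 1099416, 6), (.ofNat 1737789, 9), (.ofNat 1507266, 10), (.negSucc
  390115, 13), (.ofNat 2642148, 18), (.ofNat 815697, 19), (.ofNat 1134882, 21), (.ofNat 939825, 22), (.negSucc
  265987, 24), (.ofNat 1010755, 25), (.ofNat 1134882, 26), (.negSucc 620638, 27), (.ofNat 354651, 28), (.ofNat
  1826451, 29), (.ofNat 2021509, 30), (.ofNat 1702324, 31), (.ofNat 2216567, 32), (.ofNat 1329940, 33), (.ofNat
  2792875, 34), (.ofNat 203924, 35), (.ofNat 5559151, 36), (.ofNat 3502176, 37), (.ofNat 3112060, 38), (.ofNat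
  3112060, 39), (.ofNat 6250720, 40), (.ofNat 6640835, 41), (.ofNat 6250720, 42), (.ofNat 8981530, 43), (.ofNat
  8706676, 44), (.ofNat 4477466, 45), (.ofNat 13636322, 46), (.ofNat 9646501, 47), (.ofNat 8387490, 48), (.ofNat
  7731387, 49), (.ofNat 15037192, 50), (.ofNat 9646501, 51), (.negSucc 177324, 53), (.ofNat 177325, 55), (.ofNat
  387420489, 1025)])) (.far (.negSucc 5344700) [(.ofNat 9804940, 3), (.negSucc 2572842, 6), (.ofNat 857302, 9),
  (.negSucc 5360618, 10), (.negSucc 3425488, 11), (.ofNat 1921531, 13), (.ofNat 1741562, 15), (.ofNat 4174165, 16),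
  (.ofNat 3896684, 18), (.ofNat 2570451, 19), (.ofNat 2864953, 21), (.ofNat 2517343, 22), (.negSucc 4922177, 24),
  (.negSucc 2183313, 25), (.ofNat 6223257, 26), (.ofNat 1212750, 27), (.ofNat 9798609, 28), (.negSucc 23884, 29),
  (.ofNat 5591763, 30), (.ofNat 3407823, 31), (.ofNat 9521626, 32), (.ofNat 17944427, 33), (.ofNat 3349333, 34),
  (.negSucc 3767917, 35), (.ofNat 3015672, 36), (.ofNat 15060273, 37), (.ofNat 3850211, 38), (.ofNat 17470462, 39),
  (.ofNat 17974836, 40), (.ofNat 16884016, 41), (.ofNat 19037538, 42), (.ofNat 29778024, 43), (.ofNat 31800369, 44),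
  (.ofNat 33655773, 45), (.ofNat 35200537, 46), (.ofNat 28807266, 47), (.ofNat 36552441, 48), (.ofNat 29359632, 49),
  (.ofNat 33529859, 50), (.ofNat 36296583, 51), (.ofNat 2264531, 52), (.ofNat 3318805, 53), (.ofNat 3422351, 55),
  (.ofNat 31381059609, 1002)])) (.far (.negSucc 389) [(.ofNat 75, 1), (.ofNat 414, 3), (.negSucc 435, 6), (.ofNat 99,
  9), (.negSucc 206, 10), (.ofNat 114, 15), (.ofNat 9, 16), (.ofNat 18, 19), (.ofNat 181, 20), (.ofNat 92, 22),
  (.ofNat 122, 23), (.negSucc 380, 24), (.ofNat 38, 25), (.ofNat 151, 26), (.ofNat 255, 27), (.ofNat 107, 29),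
  (.negSucc 44, 30), (.ofNat 44, 31), (.ofNat 127, 32), (.ofNat 125, 33), (.ofNat 144, 34), (.negSucc 136, 35),
  (.ofNat 217, 36), (.ofNat 117, 37), (.ofNat 171, 38), (.ofNat 171, 39), (.ofNat 343, 40), (.ofNat 266, 41), (.ofNat
  369, 42), (.ofNat 344, 43), (.ofNat 415, 44), (.ofNat 376, 45), (.ofNat 729, 46), (.ofNat 442, 47), (.ofNat 199,
  48), (.ofNat 221, 49), (.ofNat 487, 50), (.ofNat 525, 51), (.ofNat 55, 52), (.negSucc 54, 53), (.ofNat 100, 55),
  (.ofNat 464, 13)])) (.far (.negSucc 477) [(.ofNat 451, 3), (.negSucc 96, 5), (.negSucc 139, 6), (.ofNat 58, 9),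
  (.negSucc 116, 10), (.ofNat 90, 19), (.ofNat 115, 21), (.ofNat 51, 22), (.negSucc 259, 24), (.ofNat 41, 25),
  (.ofNat 189, 26), (.ofNat 33, 27), (.ofNat 93, 28), (.ofNat 9, 29), (.ofNat 6, 30), (.ofNat 164, 31), (.ofNat 233,
  32), (.ofNat 151, 33), (.ofNat 44, 34), (.negSucc 346, 35), (.ofNat 63, 36), (.ofNat 20, 37), (.ofNat 187, 38),
  (.ofNat 187, 39), (.ofNat 573, 40), (.ofNat 249, 41), (.ofNat 287, 42), (.ofNat 315, 43), (.ofNat 258, 44), (.ofNat
  600, 45), (.ofNat 729, 46), (.ofNat 420, 47), (.negSucc 86, 48), (.ofNat 295, 49), (.ofNat 328, 50), (.ofNat 425,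
  51), (.ofNat 155, 52), (.ofNat 49, 53), (.ofNat 300, 11)])) (.far (.negSucc 157) [(.ofNat 270, 3), (.ofNat 47, 6),
  (.ofNat 18, 9), (.negSucc 140, 10), (.ofNat 74, 13), (.ofNat 41, 16), (.ofNat 24, 18), (.ofNat 39, 19), (.ofNat 89,
  22), (.ofNat 76, 23), (.ofNat 8, 24), (.negSucc 30, 25), (.ofNat 19, 26), (.ofNat 93, 27), (.ofNat 206, 28),
  (.ofNat 58, 29), (.ofNat 181, 30), (.ofNat 109, 31), (.ofNat 28, 32), (.ofNat 108, 33), (.negSucc 9, 35), (.ofNat
  120, 36), (.ofNat 107, 37), (.ofNat 65, 38), (.ofNat 65, 39), (.ofNat 309, 40), (.ofNat 299, 41), (.ofNat 377, 42),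
  (.ofNat 405, 43), (.ofNat 436, 44), (.ofNat 503, 45), (.ofNat 729, 46), (.ofNat 569, 47), (.ofNat 133, 48), (.ofNat
  481, 49), (.ofNat 448, 50), (.ofNat 538, 51), (.ofNat 37, 52), (.ofNat 259, 53)]))) (.far (.negSucc 7832) [(.ofNat
  668, 4), (.negSucc 4256, 6), (.negSucc 2984, 9), (.ofNat 2682, 10), (.ofNat 864, 12), (.ofNat 5250, 18), (.ofNat
  5826, 19), (.ofNat 2902, 20), (.ofNat 1216, 22), (.negSucc 3790, 24), (.ofNat 9138, 25), (.ofNat 396, 26), (.ofNat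
  6173, 27), (.ofNat 11727, 28), (.ofNat 2949, 29), (.negSucc 854, 30), (.ofNat 9218, 31), (.ofNat 2740, 32), (.ofNat
  8050, 33), (.ofNat 9739, 34), (.ofNat 2903, 35), (.ofNat 10407, 36), (.ofNat 6867, 37), (.ofNat 14765, 38), (.ofNat
  14742, 39), (.ofNat 18755, 40), (.ofNat 42931, 41), (.ofNat 21534, 42), (.ofNat 46018, 43), (.ofNat 34576, 44),
  (.ofNat 44944, 45), (.ofNat 43590, 46), (.ofNat 52246, 47), (.ofNat 51256, 48), (.ofNat 41448, 49), (.ofNat 46840,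
  50), (.ofNat 59049, 51), (.ofNat 2107, 54), (.ofNat 5855, 55)])) (.far (.negSucc 130) [(.negSucc 263, 3), (.negSucc
  247, 6), (.ofNat 48, 9), (.ofNat 98, 10), (.ofNat 13, 18), (.ofNat 147, 19), (.ofNat 31, 21), (.ofNat 112, 22),
  (.negSucc 402, 24), (.ofNat 9, 25), (.negSucc 181, 26), (.negSucc 303, 27), (.ofNat 570, 28), (.ofNat 196, 29),
  (.ofNat 194, 30), (.negSucc 30, 31), (.negSucc 75, 32), (.negSucc 94, 33), (.negSucc 79, 34), (.negSucc 728, 35),
  (.ofNat 6, 36), (.ofNat 71, 37), (.negSucc 40, 38), (.negSucc 2, 39), (.ofNat 681, 40), (.ofNat 322, 41), (.ofNat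
  379, 42), (.ofNat 211, 43), (.ofNat 128, 44), (.ofNat 656, 46), (.ofNat 185, 47), (.negSucc 544, 48), (.negSucc 5,
  49), (.ofNat 440, 50), (.negSucc 161, 51), (.ofNat 19, 55)]))) (.far (.negSucc 50) [(.negSucc 15, 3), (.negSucc 5,
  6), (.ofNat 13, 7), (.ofNat 40, 9), (.ofNat 12, 12), (.ofNat 15, 15), (.ofNat 18, 19), (.ofNat 19, 21), (.ofNat 33,
  22), (.ofNat 30, 23), (.negSucc 26, 24), (.ofNat 29, 25), (.ofNat 33, 26), (.ofNat 10, 27), (.ofNat 35, 28),
  (.ofNat 48, 29), (.ofNat 34, 30), (.ofNat 23, 31), (.ofNat 51, 32), (.ofNat 51, 33), (.ofNat 47, 34), (.negSucc 58,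
  35), (.ofNat 60, 36), (.ofNat 72, 37), (.ofNat 62, 38), (.ofNat 62, 39), (.ofNat 134, 40), (.ofNat 163, 41),
  (.ofNat 114, 42), (.ofNat 163, 43), (.ofNat 170, 44), (.ofNat 228, 45), (.ofNat 243, 46), (.ofNat 205, 47), (.ofNat
  128, 48), (.ofNat 196, 49), (.ofNat 209, 50), (.ofNat 162, 51), (.ofNat 2, 52), (.ofNat 23, 55), (.ofNat 83, 10)]))
  (.far (.ofNat 1) [(.negSucc 0, 24), (.negSucc 0, 35), (.ofNat 1, 40), (.ofNat 1, 46), (.negSucc 0, 48), (.ofNat 1,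
  9)])) (.far (.ofNat 31) [(.ofNat 65, 1), (.ofNat 33, 4), (.ofNat 162, 9), (.ofNat 5, 19), (.ofNat 87, 20), (.ofNat
  31, 21), (.ofNat 86, 22), (.negSucc 115, 24), (.ofNat 1, 25), (.negSucc 40, 26), (.ofNat 35, 27), (.ofNat 224, 28),
  (.ofNat 51, 29), (.ofNat 104, 30), (.ofNat 125, 31), (.ofNat 69, 32), (.ofNat 114, 33), (.ofNat 104, 34), (.negSucc
  106, 35), (.ofNat 209, 36), (.ofNat 170, 37), (.ofNat 146, 38), (.ofNat 200, 39), (.ofNat 468, 40), (.ofNat 333,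
  41), (.ofNat 347, 42), (.ofNat 488, 43), (.ofNat 390, 44), (.ofNat 389, 45), (.ofNat 729, 46), (.ofNat 457, 47),
  (.ofNat 179, 48), (.ofNat 545, 49), (.ofNat 612, 50), (.ofNat 453, 51), (.ofNat 25, 53), (.ofNat 79, 55), (.ofNat
  271, 6)])) (.far (.negSucc 238) [(.ofNat 20, 7), (.ofNat 39, 13), (.ofNat 76, 17), (.ofNat 52, 19), (.ofNat 14,
  21), (.negSucc 24, 24), (.negSucc 117, 25), (.ofNat 21, 26), (.negSucc 136, 27), (.negSucc 89, 28), (.negSucc 31,
  29), (.negSucc 45, 30), (.negSucc 90, 31), (.negSucc 77, 32), (.negSucc 31, 33), (.negSucc 73, 34), (.negSucc 219,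
  35), (.negSucc 132, 36), (.negSucc 121, 37), (.negSucc 87, 38), (.negSucc 31, 39), (.ofNat 212, 40), (.ofNat 178,
  41), (.ofNat 78, 42), (.negSucc 48, 43), (.ofNat 6, 44), (.ofNat 135, 45), (.ofNat 44, 46), (.negSucc 108, 47),
  (.negSucc 157, 48), (.negSucc 43, 49), (.negSucc 36, 50), (.negSucc 242, 51), (.ofNat 34, 52), (.ofNat 25, 53),
  (.ofNat 21, 55), (.ofNat 185, 3)])) (.far (.negSucc 14715) [(.ofNat 32377, 1), (.ofNat 19799, 9), (.ofNat 21392,
  12), (.ofNat 190, 17), (.ofNat 32855, 18), (.ofNat 37137, 19), (.ofNat 10985, 22), (.negSucc 95347, 24), (.ofNat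
  93682, 25), (.negSucc 41963, 26), (.ofNat 64344, 27), (.ofNat 155871, 28), (.ofNat 15424, 29), (.ofNat 6992, 30),
  (.ofNat 85855, 31), (.ofNat 15215, 32), (.ofNat 52353, 33), (.ofNat 89254, 34), (.negSucc 27604, 35), (.ofNat
  89535, 36), (.ofNat 50704, 37), (.ofNat 133445, 38), (.ofNat 129252, 39), (.ofNat 249088, 40), (.ofNat 411632, 41),
  (.ofNat 203455, 42), (.ofNat 422086, 43), (.ofNat 299520, 44), (.ofNat 402839, 45), (.ofNat 462980, 46), (.ofNat
  491265, 47), (.ofNat 417610, 48), (.ofNat 384814, 49), (.ofNat 471556, 50), (.ofNat 531441, 51), (.ofNat 8741, 53),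
  (.ofNat 44284, 55)])) (.far (.ofNat 71460) [(.ofNat 5420, 1), (.ofNat 6084, 4), (.negSucc 11089, 5), (.ofNat 9458,
  6), (.ofNat 360, 7), (.ofNat 71322, 9), (.ofNat 691, 13), (.ofNat 29176, 15), (.ofNat 636, 17), (.ofNat 20796, 18),
  (.ofNat 55918, 19), (.ofNat 78622, 21), (.negSucc 80889, 24), (.ofNat 13800, 25), (.ofNat 105890, 26), (.ofNat
  88606, 27), (.ofNat 79618, 28), (.ofNat 21847, 29), (.ofNat 166371, 30), (.ofNat 151631, 31), (.ofNat 114629, 32),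
  (.ofNat 30365, 33), (.ofNat 143915, 34), (.ofNat 61145, 36), (.ofNat 112057, 37), (.ofNat 148312, 38), (.ofNat
  148312, 39), (.ofNat 175027, 40), (.ofNat 292947, 41), (.ofNat 232189, 42), (.ofNat 351298, 43), (.ofNat 514295,
  44), (.ofNat 385479, 45), (.ofNat 409041, 46), (.ofNat 385645, 47), (.ofNat 212693, 48), (.ofNat 453980, 49),
  (.ofNat 531441, 50), (.ofNat 483128, 51), (.ofNat 14021, 52), (.ofNat 28153, 54), (.ofNat 79784, 55)])) (.far
  (.ofNat 25551) [(.ofNat 742, 1), (.ofNat 26854, 9), (.ofNat 1829, 17), (.ofNat 307, 18), (.ofNat 3151, 19), (.ofNat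
  3234, 20), (.ofNat 3312, 22), (.ofNat 1529, 23), (.negSucc 27790, 24), (.ofNat 2907, 25), (.ofNat 2344, 26),
  (.ofNat 1143, 27), (.ofNat 6478, 28), (.ofNat 4455, 29), (.ofNat 3506, 30), (.ofNat 3413, 31), (.ofNat 5326, 32),
  (.ofNat 2686, 33), (.ofNat 10604, 34), (.negSucc 19456, 35), (.ofNat 9162, 36), (.ofNat 9153, 37), (.ofNat 9107,
  38), (.ofNat 9467, 39), (.ofNat 42525, 40), (.ofNat 17536, 41), (.ofNat 19452, 42), (.ofNat 23023, 43), (.ofNat
  26035, 44), (.ofNat 26347, 45), (.ofNat 59049, 46), (.ofNat 26847, 47), (.ofNat 30471, 49), (.ofNat 31295, 50),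
  (.ofNat 28030, 51), (.ofNat 521, 52), (.ofNat 3529, 55)])) (.bf 14 10 (.far (.negSucc 414) [(.ofNat 247, 12),
  (.ofNat 83, 13), (.ofNat 539, 14), (.ofNat 171, 15), (.ofNat 255, 16), (.ofNat 235, 19), (.ofNat 84, 20), (.ofNat
  707, 21), (.ofNat 640, 22), (.ofNat 370, 23), (.ofNat 987, 24), (.ofNat 648, 25), (.ofNat 1106, 26), (.ofNat 1541,
  27), (.ofNat 489, 28), (.ofNat 930, 29), (.ofNat 810, 30), (.ofNat 1123, 31), (.ofNat 1188, 32), (.ofNat 1333, 33),
  (.ofNat 1765, 34), (.ofNat 2424, 35), (.ofNat 1543, 36), (.ofNat 1986, 37), (.ofNat 1575, 38), (.ofNat 1363, 39),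
  (.ofNat 2182, 40), (.ofNat 2685, 41), (.ofNat 2654, 42), (.ofNat 4545, 43), (.ofNat 4430, 44), (.ofNat 4643, 45),
  (.ofNat 4738, 46), (.ofNat 4937, 47), (.ofNat 5106, 48), (.ofNat 5327, 49), (.ofNat 4609, 50), (.ofNat 6561, 51),
  (.ofNat 1412, 54), (.ofNat 450, 55)]) (.bm 2 0 (.far (.negSucc 573) [(.negSucc 174, 6), (.ofNat 266, 12), (.ofNat
  353, 16), (.ofNat 65, 20), (.ofNat 28, 22), (.ofNat 89, 23), (.ofNat 279, 24), (.ofNat 207, 25), (.ofNat 391, 26),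
  (.ofNat 339, 27), (.negSucc 88, 28), (.ofNat 248, 29), (.ofNat 456, 30), (.ofNat 407, 31), (.ofNat 237, 32),
  (.ofNat 367, 33), (.ofNat 157, 34), (.ofNat 996, 35), (.ofNat 412, 36), (.ofNat 571, 37), (.ofNat 316, 38), (.ofNat
  419, 39), (.ofNat 916, 40), (.ofNat 1001, 41), (.ofNat 1210, 42), (.ofNat 1532, 43), (.ofNat 1589, 44), (.ofNat
  1128, 45), (.ofNat 1644, 46), (.ofNat 1397, 47), (.ofNat 1632, 48), (.ofNat 1892, 49), (.ofNat 1360, 50), (.ofNat
  2187, 51), (.ofNat 42, 52), (.ofNat 108, 53), (.ofNat 914, 54), (.ofNat 260, 55), (.negSucc 511, 2)]) (.bm 5 0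
  (.far (.negSucc 2778) [(.negSucc 1029, 7), (.ofNat 90, 8), (.ofNat 36, 11), (.ofNat 22, 13), (.ofNat 865, 16),
  (.ofNat 226, 21), (.ofNat 731, 24), (.negSucc 12, 25), (.ofNat 1350, 26), (.ofNat 2274, 27), (.negSucc 219, 28),
  (.ofNat 1159, 29), (.ofNat 1643, 30), (.ofNat 1127, 31), (.ofNat 1171, 32), (.ofNat 1154, 33), (.ofNat 181, 34),
  (.ofNat 2707, 35), (.ofNat 974, 36), (.ofNat 1596, 37), (.ofNat 1555, 38), (.ofNat 688, 39), (.ofNat 1677, 40),
  (.ofNat 381, 41), (.ofNat 1246, 42), (.ofNat 3414, 43), (.ofNat 2741, 44), (.ofNat 2781, 45), (.ofNat 3357, 46),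
  (.ofNat 2726, 47), (.ofNat 2510, 48), (.ofNat 2489, 49), (.ofNat 1611, 50), (.ofNat 6561, 51), (.ofNat 608, 53),
  (.ofNat 3693, 54), (.ofNat 225, 55), (.negSucc 3668, 5)]) (.bm 8 0 (.bm 52 0 (.bm 53 0 (.bm 10 1 (.bm 10 0 (.far
  (.negSucc 129) [(.ofNat 32, 1), (.ofNat 179, 2), (.ofNat 87, 5), (.negSucc 129, 8), (.ofNat 32, 15), (.ofNat 9,
  16), (.ofNat 5, 24), (.ofNat 35, 25), (.negSucc 121, 26), (.ofNat 64, 27), (.negSucc 23, 28), (.ofNat 29, 29),
  (.ofNat 14, 30), (.negSucc 30, 31), (.negSucc 12, 32), (.negSucc 173, 33), (.negSucc 38, 34), (.ofNat 117, 35),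
  (.negSucc 153, 36), (.negSucc 32, 38), (.ofNat 31, 39), (.ofNat 41, 40), (.negSucc 84, 41), (.ofNat 20, 42),
  (.negSucc 49, 43), (.negSucc 56, 44), (.negSucc 203, 45), (.negSucc 82, 46), (.negSucc 101, 47), (.negSucc 26, 48),
  (.negSucc 104, 49), (.negSucc 45, 50), (.negSucc 68, 51), (.negSucc 13, 52), (.ofNat 26, 53), (.ofNat 81, 54),
  (.ofNat 15, 55), (.negSucc 242, 10)]) (.bf 14 45 (.bf 14 25 (.far (.negSucc 6492) [(.ofNat 3310, 2), (.ofNat 370,
  4), (.ofNat 1413, 5), (.negSucc 1979, 8), (.ofNat 2615, 10), (.ofNat 1556, 15), (.ofNat 960, 16), (.ofNat 1384,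
  18), (.ofNat 960, 21), (.ofNat 2947, 22), (.ofNat 1049, 23), (.ofNat 5533, 24), (.ofNat 2433, 25), (.ofNat 5826,
  26), (.ofNat 5425, 27), (.ofNat 278, 28), (.ofNat 1556, 29), (.ofNat 1556, 30), (.ofNat 2599, 31), (.ofNat 3278,
  32), (.ofNat 4503, 33), (.ofNat 6000, 34), (.ofNat 7556, 35), (.ofNat 4776, 36), (.ofNat 5455, 37), (.ofNat 4941,
  38), (.ofNat 4941, 39), (.ofNat 4744, 40), (.ofNat 9626, 41), (.ofNat 9853, 42), (.ofNat 14311, 43), (.ofNat 15445,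
  44), (.ofNat 17379, 45), (.ofNat 13305, 46), (.ofNat 17514, 47), (.ofNat 18076, 48), (.ofNat 16720, 49), (.ofNat
  13381, 50), (.ofNat 19683, 51), (.negSucc 1058, 52), (.ofNat 193, 53), (.ofNat 2228, 54), (.ofNat 1507, 55)]) (.bf
  1 5440 (.bf 2 2656 (.bm 1 0 (.far (.negSucc 1776) [(.ofNat 467, 2), (.negSucc 743, 3), (.ofNat 318, 4), (.ofNat
  318, 5), (.negSucc 386, 8), (.ofNat 993, 10), (.ofNat 30, 12), (.ofNat 387, 16), (.ofNat 357, 18), (.ofNat 605,
  19), (.ofNat 397, 20), (.ofNat 744, 22), (.ofNat 1419, 24), (.ofNat 993, 25), (.ofNat 1489, 26), (.ofNat 1171, 27),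
  (.ofNat 467, 28), (.ofNat 1241, 29), (.ofNat 1241, 30), (.ofNat 1241, 31), (.ofNat 883, 32), (.ofNat 993, 33),
  (.ofNat 1985, 34), (.ofNat 1846, 35), (.ofNat 1697, 36), (.ofNat 1985, 37), (.ofNat 1737, 38), (.ofNat 1737, 39),
  (.ofNat 1876, 40), (.ofNat 3365, 41), (.ofNat 3653, 42), (.ofNat 5072, 43), (.ofNat 5320, 44), (.ofNat 4080, 45),
  (.ofNat 5241, 46), (.ofNat 5707, 47), (.ofNat 6561, 48), (.ofNat 5995, 49), (.ofNat 4884, 50), (.ofNat 6452, 51),
  (.negSucc 853, 52), (.negSucc 336, 53), (.ofNat 248, 54), (.ofNat 764, 55), (.negSucc 992, 1)]) (.bm 2 1 (.bm 3 1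
  (.far (.negSucc 66) [(.ofNat 272, 1), (.ofNat 152, 2), (.ofNat 13, 5), (.negSucc 8, 6), (.negSucc 240, 7),
  (.negSucc 170, 8), (.ofNat 3, 10), (.ofNat 7, 16), (.ofNat 49, 17), (.ofNat 153, 18), (.ofNat 173, 22), (.ofNat 16,
  23), (.ofNat 177, 24), (.ofNat 44, 25), (.ofNat 235, 26), (.ofNat 368, 27), (.negSucc 90, 28), (.ofNat 1, 29),
  (.ofNat 2, 30), (.ofNat 126, 31), (.negSucc 26, 32), (.negSucc 109, 33), (.ofNat 334, 34), (.ofNat 337, 35),
  (.ofNat 78, 36), (.ofNat 118, 37), (.ofNat 26, 38), (.ofNat 136, 39), (.ofNat 46, 40), (.negSucc 57, 41), (.ofNat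
  332, 42), (.ofNat 273, 43), (.ofNat 325, 44), (.negSucc 86, 45), (.ofNat 181, 46), (.ofNat 344, 47), (.ofNat 582,
  48), (.ofNat 284, 49), (.ofNat 137, 50), (.ofNat 729, 51), (.negSucc 251, 52), (.negSucc 219, 53), (.ofNat 34, 55),
  (.negSucc 377, 3)]) (.bm 4 0 (.bm 6 0 (.far (.ofNat 581) [(.ofNat 1234, 1), (.ofNat 1, 2), (.ofNat 184, 3),
  (.negSucc 303, 4), (.ofNat 162, 5), (.negSucc 949, 7), (.ofNat 411, 8), (.negSucc 1019, 10), (.ofNat 94, 13),
  (.ofNat 178, 21), (.ofNat 93, 22), (.ofNat 130, 24), (.ofNat 58, 25), (.ofNat 139, 26), (.ofNat 1296, 27), (.ofNat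
  196, 28), (.ofNat 209, 29), (.ofNat 255, 30), (.ofNat 396, 31), (.ofNat 279, 32), (.ofNat 161, 33), (.ofNat 208,
  34), (.ofNat 1238, 35), (.ofNat 414, 36), (.ofNat 380, 37), (.ofNat 415, 38), (.ofNat 415, 39), (.ofNat 554, 40),
  (.negSucc 360, 41), (.ofNat 750, 42), (.ofNat 961, 43), (.ofNat 970, 44), (.ofNat 1424, 46), (.ofNat 1132, 47),
  (.ofNat 1087, 48), (.ofNat 861, 49), (.ofNat 1261, 50), (.ofNat 2187, 51), (.ofNat 34, 52), (.negSucc 188, 53),
  (.ofNat 1100, 54), (.ofNat 196, 55), (.negSucc 155, 6)]) (.bm 7 0 (.far (.ofNat 1) [(.ofNat 1, 1), (.negSucc 0,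
  10), (.ofNat 1, 27), (.ofNat 1, 35), (.negSucc 0, 41), (.negSucc 0, 45), (.ofNat 1, 51), (.ofNat 1, 54), (.negSucc
  0, 7)]) (.bm 9 0 (.far (.negSucc 728) [(.ofNat 74, 1), (.negSucc 116, 2), (.ofNat 525, 3), (.negSucc 63, 4),
  (.ofNat 62, 5), (.negSucc 104, 6), (.negSucc 1, 7), (.ofNat 43, 8), (.negSucc 374, 9), (.negSucc 146, 10), (.ofNat
  188, 13), (.ofNat 51, 19), (.ofNat 87, 24), (.negSucc 67, 25), (.ofNat 6, 26), (.ofNat 43, 27), (.ofNat 6, 28),
  (.ofNat 114, 29), (.ofNat 83, 31), (.ofNat 4, 32), (.ofNat 73, 33), (.negSucc 52, 34), (.negSucc 5, 35), (.ofNat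
  12, 36), (.negSucc 44, 37), (.ofNat 20, 38), (.ofNat 22, 39), (.negSucc 106, 40), (.ofNat 10, 41), (.ofNat 31, 42),
  (.negSucc 34, 43), (.negSucc 17, 44), (.ofNat 206, 45), (.negSucc 46, 46), (.ofNat 43, 47), (.ofNat 47, 48),
  (.negSucc 88, 49), (.ofNat 17, 50), (.ofNat 37, 52)]) (.far (.negSucc 309) [(.ofNat 134, 1), (.ofNat 233, 2),
  (.ofNat 288, 3), (.negSucc 114, 4), (.ofNat 247, 5), (.ofNat 228, 6), (.ofNat 158, 7), (.negSucc 73, 8), (.negSucc
  214, 10), (.ofNat 172, 21), (.ofNat 56, 23), (.negSucc 57, 24), (.ofNat 9, 25), (.negSucc 235, 26), (.ofNat 184,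
  27), (.ofNat 184, 28), (.ofNat 127, 29), (.ofNat 254, 30), (.ofNat 256, 31), (.ofNat 254, 32), (.ofNat 38, 33),
  (.ofNat 253, 34), (.ofNat 123, 35), (.ofNat 158, 36), (.ofNat 268, 37), (.ofNat 259, 38), (.ofNat 259, 39), (.ofNat
  519, 40), (.ofNat 430, 41), (.ofNat 339, 42), (.ofNat 548, 43), (.ofNat 426, 44), (.ofNat 707, 45), (.ofNat 729,
  46), (.ofNat 544, 47), (.ofNat 534, 48), (.ofNat 506, 49), (.ofNat 726, 50), (.ofNat 534, 51), (.negSucc 59, 52),
  (.negSucc 165, 53), (.ofNat 39, 55), (.ofNat 133, 9)])))) (.far (.negSucc 242) [(.ofNat 79, 1), (.negSucc 119, 2),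
  (.ofNat 177, 3), (.ofNat 48, 5), (.negSucc 91, 8), (.negSucc 37, 10), (.ofNat 38, 13), (.ofNat 50, 18), (.ofNat 19,
  19), (.ofNat 41, 20), (.negSucc 68, 24), (.negSucc 18, 26), (.negSucc 27, 27), (.ofNat 9, 28), (.ofNat 38, 29),
  (.ofNat 38, 30), (.ofNat 76, 31), (.ofNat 57, 32), (.ofNat 101, 33), (.ofNat 31, 34), (.ofNat 38, 35), (.ofNat 95,
  36), (.ofNat 57, 37), (.ofNat 57, 38), (.ofNat 57, 39), (.ofNat 113, 40), (.ofNat 113, 41), (.ofNat 85, 42),
  (.ofNat 151, 43), (.ofNat 132, 44), (.ofNat 105, 45), (.ofNat 224, 46), (.ofNat 151, 47), (.ofNat 107, 48), (.ofNat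
  211, 49), (.ofNat 233, 50), (.ofNat 170, 51), (.ofNat 13, 52), (.ofNat 41, 53), (.ofNat 63, 54), (.ofNat 107,
  4)]))) (.far (.negSucc 104) [(.ofNat 142, 1), (.ofNat 210, 5), (.negSucc 207, 8), (.negSucc 242, 10), (.ofNat 68,
  15), (.ofNat 2, 17), (.ofNat 54, 18), (.ofNat 10, 19), (.ofNat 10, 22), (.ofNat 26, 23), (.negSucc 71, 24), (.ofNat
  5, 25), (.negSucc 181, 26), (.ofNat 98, 27), (.ofNat 80, 28), (.ofNat 80, 29), (.ofNat 73, 30), (.ofNat 71, 31),
  (.ofNat 80, 32), (.negSucc 123, 33), (.ofNat 37, 34), (.ofNat 59, 35), (.negSucc 60, 36), (.ofNat 83, 37), (.ofNat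
  88, 38), (.ofNat 88, 39), (.ofNat 98, 40), (.negSucc 8, 41), (.ofNat 89, 42), (.ofNat 57, 43), (.negSucc 5, 44),
  (.negSucc 56, 45), (.ofNat 96, 46), (.ofNat 70, 47), (.ofNat 77, 48), (.ofNat 63, 49), (.ofNat 125, 50), (.ofNat
  56, 51), (.negSucc 7, 52), (.ofNat 16, 53), (.ofNat 9, 54), (.ofNat 22, 55), (.ofNat 189, 2)]))) (.far (.negSucc
  1758) [(.ofNat 131, 2), (.ofNat 169, 4), (.negSucc 204, 5), (.negSucc 885, 6), (.ofNat 2451, 18), (.ofNat 1606,
  19), (.ofNat 468, 22), (.ofNat 9, 23), (.negSucc 678, 24), (.ofNat 3027, 25), (.ofNat 131, 26), (.ofNat 2287, 27),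
  (.ofNat 2670, 28), (.ofNat 956, 29), (.ofNat 589, 30), (.ofNat 2998, 31), (.ofNat 926, 32), (.ofNat 2020, 33),
  (.ofNat 4090, 34), (.ofNat 2700, 35), (.ofNat 4382, 36), (.ofNat 2754, 37), (.ofNat 5153, 38), (.ofNat 5153, 39),
  (.ofNat 5979, 40), (.ofNat 12818, 41), (.ofNat 7182, 42), (.ofNat 15325, 43), (.ofNat 12174, 44), (.ofNat 11949,
  45), (.ofNat 14969, 46), (.ofNat 16993, 47), (.ofNat 17818, 48), (.ofNat 13903, 49), (.ofNat 16730, 50), (.ofNat
  19683, 51), (.negSucc 981, 52), (.negSucc 915, 53), (.ofNat 650, 54), (.ofNat 1867, 55)])) (.far (.negSucc 1571)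
  [(.negSucc 1708, 3), (.negSucc 5086, 5), (.ofNat 1286, 8), (.negSucc 114, 10), (.ofNat 2536, 13), (.ofNat 9480,
  15), (.ofNat 6361, 16), (.ofNat 9285, 18), (.ofNat 16054, 19), (.ofNat 25571, 21), (.ofNat 1740, 24), (.ofNat 9257,
  25), (.ofNat 37574, 26), (.ofNat 28925, 27), (.ofNat 21413, 28), (.ofNat 9480, 29), (.ofNat 55199, 30), (.ofNat
  49956, 31), (.ofNat 35005, 32), (.ofNat 9066, 33), (.ofNat 52507, 34), (.ofNat 31694, 35), (.ofNat 21229, 36),
  (.ofNat 36213, 37), (.ofNat 53367, 38), (.ofNat 53367, 39), (.ofNat 33173, 40), (.ofNat 97157, 41), (.ofNat 80373,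
  42), (.ofNat 119578, 43), (.ofNat 171628, 44), (.ofNat 123406, 45), (.ofNat 106972, 46), (.ofNat 128683, 47),
  (.ofNat 110198, 48), (.ofNat 155535, 49), (.ofNat 177147, 50), (.ofNat 164742, 51), (.negSucc 66, 52), (.negSucc
  5272, 53), (.ofNat 3464, 54), (.ofNat 27949, 55)]))) (.far (.negSucc 684) [(.ofNat 157, 5), (.negSucc 161, 6),
  (.negSucc 165, 7), (.negSucc 149, 8), (.negSucc 456, 10), (.ofNat 478, 18), (.ofNat 366, 19), (.ofNat 1, 22),
  (.negSucc 147, 24), (.ofNat 178, 25), (.negSucc 272, 26), (.ofNat 7, 27), (.ofNat 177, 28), (.ofNat 571, 29),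
  (.ofNat 497, 30), (.ofNat 397, 31), (.ofNat 224, 32), (.negSucc 276, 33), (.ofNat 893, 34), (.ofNat 355, 35),
  (.ofNat 654, 36), (.ofNat 568, 37), (.ofNat 339, 38), (.ofNat 374, 39), (.ofNat 1028, 40), (.ofNat 637, 41),
  (.ofNat 1024, 42), (.ofNat 1294, 43), (.ofNat 1187, 44), (.negSucc 737, 45), (.ofNat 1920, 46), (.ofNat 1129, 47),
  (.ofNat 1599, 48), (.ofNat 1161, 49), (.ofNat 2187, 50), (.ofNat 1561, 51), (.negSucc 456, 52), (.negSucc 462,
  53)]))) (.far (.negSucc 242) [(.negSucc 44, 1), (.ofNat 16, 2), (.negSucc 43, 5), (.negSucc 13, 6), (.negSucc 20,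
  8), (.ofNat 31, 16), (.ofNat 39, 18), (.ofNat 47, 19), (.ofNat 19, 22), (.ofNat 52, 24), (.ofNat 51, 25), (.ofNat
  61, 26), (.negSucc 7, 27), (.negSucc 69, 28), (.ofNat 71, 29), (.ofNat 49, 30), (.negSucc 6, 31), (.ofNat 5, 32),
  (.ofNat 38, 33), (.ofNat 41, 34), (.negSucc 53, 35), (.ofNat 49, 36), (.ofNat 73, 37), (.ofNat 40, 38), (.ofNat 40,
  39), (.ofNat 49, 40), (.ofNat 120, 41), (.ofNat 40, 42), (.ofNat 145, 43), (.ofNat 156, 44), (.ofNat 188, 45),
  (.ofNat 131, 46), (.ofNat 148, 47), (.ofNat 157, 48), (.ofNat 169, 49), (.ofNat 105, 50), (.ofNat 144, 51),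
  (.negSucc 50, 52), (.ofNat 7, 53), (.ofNat 130, 10)])) (.far (.negSucc 316) [(.ofNat 35, 4), (.ofNat 62, 5),
  (.negSucc 28, 8), (.ofNat 130, 16), (.ofNat 11, 18), (.ofNat 11, 19), (.ofNat 8, 21), (.ofNat 65, 22), (.ofNat 96,
  24), (.ofNat 80, 25), (.ofNat 75, 26), (.ofNat 109, 27), (.ofNat 121, 28), (.ofNat 120, 29), (.ofNat 196, 30),
  (.ofNat 157, 31), (.ofNat 89, 32), (.ofNat 177, 33), (.ofNat 27, 34), (.ofNat 247, 35), (.ofNat 186, 36), (.ofNat
  202, 37), (.ofNat 188, 38), (.ofNat 182, 39), (.ofNat 292, 40), (.ofNat 365, 41), (.ofNat 431, 42), (.ofNat 560,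
  43), (.ofNat 494, 44), (.ofNat 520, 45), (.ofNat 588, 46), (.ofNat 570, 47), (.ofNat 483, 48), (.ofNat 708, 49),
  (.ofNat 544, 50), (.ofNat 729, 51), (.ofNat 65, 52), (.ofNat 135, 54), (.ofNat 77, 55), (.ofNat 240, 53)])) (.far
  (.negSucc 3388) [(.ofNat 1091, 2), (.negSucc 48, 5), (.negSucc 835, 8), (.ofNat 394, 16), (.ofNat 1308, 18),
  (.ofNat 46, 19), (.ofNat 433, 22), (.ofNat 1244, 24), (.ofNat 138, 25), (.ofNat 1382, 26), (.ofNat 1024, 27),
  (.ofNat 254, 28), (.ofNat 1857, 29), (.ofNat 575, 30), (.ofNat 2287, 31), (.ofNat 895, 32), (.ofNat 1590, 33),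
  (.ofNat 473, 34), (.ofNat 1770, 35), (.ofNat 2786, 36), (.ofNat 1214, 37), (.negSucc 110, 38), (.ofNat 1975, 39),
  (.ofNat 1887, 40), (.ofNat 3595, 41), (.ofNat 4091, 42), (.ofNat 4118, 43), (.ofNat 5174, 44), (.ofNat 5596, 45),
  (.ofNat 5758, 46), (.ofNat 6368, 47), (.ofNat 5249, 48), (.ofNat 5784, 49), (.ofNat 6287, 50), (.ofNat 6561, 51),
  (.ofNat 335, 53), (.ofNat 898, 54), (.ofNat 2071, 52)])) (.far (.negSucc 691) [(.ofNat 56, 2), (.ofNat 385, 5),
  (.ofNat 65, 13), (.ofNat 81, 15), (.ofNat 107, 16), (.ofNat 81, 19), (.ofNat 98, 21), (.ofNat 188, 22), (.ofNat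
  196, 24), (.ofNat 188, 25), (.ofNat 311, 26), (.ofNat 120, 27), (.negSucc 109, 28), (.ofNat 270, 29), (.ofNat 295,
  30), (.ofNat 127, 31), (.ofNat 393, 32), (.ofNat 418, 33), (.ofNat 465, 34), (.ofNat 729, 35), (.ofNat 736, 36),
  (.ofNat 581, 37), (.ofNat 581, 38), (.ofNat 581, 39), (.ofNat 679, 40), (.ofNat 1071, 41), (.ofNat 938, 42),
  (.ofNat 1571, 43), (.ofNat 1571, 44), (.ofNat 648, 45), (.ofNat 2187, 46), (.ofNat 1759, 47), (.ofNat 1857, 48),
  (.ofNat 2017, 49), (.ofNat 2162, 50), (.ofNat 1988, 51), (.ofNat 21, 52), (.ofNat 142, 53), (.ofNat 177, 54),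
  (.ofNat 316, 55), (.ofNat 379, 8)])))))))) (.far (.negSucc 418) [(.negSucc 155, 5), (.ofNat 117, 15), (.ofNat 20,
  17), (.ofNat 175, 18), (.ofNat 31, 20), (.ofNat 159, 22), (.negSucc 8, 24), (.ofNat 49, 25), (.ofNat 29, 26),
  (.ofNat 25, 27), (.ofNat 35, 28), (.ofNat 16, 29), (.negSucc 29, 30), (.ofNat 49, 31), (.negSucc 48, 32), (.ofNat
  49, 33), (.ofNat 353, 34), (.ofNat 247, 35), (.ofNat 153, 36), (.ofNat 140, 37), (.ofNat 166, 38), (.ofNat 111,
  39), (.ofNat 201, 40), (.ofNat 137, 41), (.ofNat 293, 42), (.ofNat 518, 43), (.ofNat 502, 44), (.negSucc 93, 45),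
  (.ofNat 624, 46), (.ofNat 494, 47), (.ofNat 560, 48), (.ofNat 729, 49), (.ofNat 602, 50), (.ofNat 607, 51), (.ofNat
  20, 54), (.ofNat 18, 55), (.ofNat 392, 9)])) (.far (.negSucc 158) [(.ofNat 24, 5), (.ofNat 50, 9), (.ofNat 74, 15),
  (.ofNat 10, 16), (.ofNat 48, 20), (.ofNat 44, 21), (.ofNat 64, 22), (.ofNat 70, 23), (.ofNat 52, 24), (.ofNat 111,
  25), (.ofNat 72, 26), (.ofNat 81, 27), (.ofNat 130, 28), (.ofNat 101, 29), (.ofNat 91, 30), (.ofNat 100, 31),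
  (.ofNat 155, 32), (.ofNat 114, 33), (.ofNat 188, 34), (.ofNat 222, 35), (.ofNat 222, 36), (.ofNat 238, 37), (.ofNat
  208, 38), (.ofNat 227, 39), (.ofNat 279, 40), (.ofNat 415, 41), (.ofNat 412, 42), (.ofNat 587, 43), (.ofNat 596,
  44), (.ofNat 412, 45), (.ofNat 729, 46), (.ofNat 644, 47), (.ofNat 664, 48), (.ofNat 723, 49), (.ofNat 719, 50),
  (.ofNat 687, 51), (.ofNat 12, 52), (.ofNat 40, 54), (.ofNat 123, 55), (.ofNat 154, 8)])) (.far (.negSucc 242)
  [(.negSucc 129, 1), (.ofNat 31, 15), (.ofNat 3, 16), (.ofNat 3, 17), (.ofNat 11, 22), (.ofNat 22, 23), (.ofNat 45,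
  24), (.negSucc 26, 25), (.negSucc 10, 26), (.negSucc 107, 27), (.negSucc 41, 28), (.ofNat 6, 29), (.negSucc 26,
  30), (.negSucc 48, 31), (.negSucc 1, 32), (.negSucc 59, 33), (.ofNat 59, 34), (.negSucc 27, 35), (.negSucc 60, 36),
  (.ofNat 41, 37), (.negSucc 20, 38), (.ofNat 17, 39), (.ofNat 167, 40), (.ofNat 211, 41), (.ofNat 103, 42), (.ofNat
  78, 43), (.ofNat 110, 44), (.ofNat 38, 45), (.ofNat 156, 46), (.ofNat 46, 47), (.ofNat 85, 48), (.ofNat 104, 49),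
  (.ofNat 168, 50), (.negSucc 1, 51), (.ofNat 1, 52), (.ofNat 31, 55), (.ofNat 217, 7)])) (.far (.negSucc 56)
  [(.ofNat 5, 4), (.ofNat 4, 8), (.ofNat 15, 12), (.ofNat 15, 17), (.ofNat 7, 19), (.ofNat 44, 20), (.ofNat 21, 24),
  (.ofNat 14, 25), (.ofNat 8, 26), (.ofNat 31, 27), (.ofNat 48, 28), (.ofNat 40, 29), (.ofNat 48, 30), (.ofNat 68,
  31), (.ofNat 50, 32), (.ofNat 36, 33), (.ofNat 80, 34), (.ofNat 64, 35), (.ofNat 72, 36), (.ofNat 65, 37), (.ofNat
  48, 38), (.ofNat 63, 39), (.ofNat 123, 40), (.ofNat 130, 41), (.ofNat 141, 42), (.ofNat 198, 43), (.ofNat 181, 44),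
  (.ofNat 129, 45), (.ofNat 241, 46), (.ofNat 186, 47), (.ofNat 208, 48), (.ofNat 238, 49), (.ofNat 231, 50), (.ofNat
  243, 51), (.ofNat 15, 55), (.ofNat 80, 6)])) (.far (.negSucc 188) [(.ofNat 30, 6), (.ofNat 9, 8), (.ofNat 22, 13),
  (.ofNat 4, 14), (.ofNat 21, 16), (.ofNat 49, 17), (.ofNat 49, 19), (.ofNat 22, 21), (.ofNat 71, 22), (.ofNat 22,
  24), (.ofNat 71, 25), (.ofNat 101, 26), (.ofNat 162, 27), (.ofNat 111, 28), (.ofNat 120, 29), (.ofNat 141, 30),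
  (.ofNat 172, 31), (.ofNat 150, 32), (.ofNat 171, 33), (.ofNat 137, 34), (.ofNat 223, 35), (.ofNat 291, 36), (.ofNat
  221, 37), (.ofNat 221, 38), (.ofNat 221, 39), (.ofNat 279, 40), (.ofNat 429, 41), (.ofNat 503, 42), (.ofNat 600,
  43), (.ofNat 600, 44), (.ofNat 502, 45), (.ofNat 729, 46), (.ofNat 671, 47), (.ofNat 679, 48), (.ofNat 670, 49),
  (.ofNat 703, 50), (.ofNat 722, 51), (.ofNat 15, 52), (.ofNat 8, 53), (.ofNat 49, 54), (.ofNat 139, 55), (.ofNat
  176, 5)])) (.far (.negSucc 483) [(.negSucc 5, 2), (.ofNat 2, 7), (.ofNat 48, 13), (.ofNat 76, 15), (.ofNat 66, 16),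
  (.ofNat 123, 19), (.ofNat 69, 20), (.ofNat 54, 24), (.ofNat 126, 25), (.negSucc 4, 26), (.ofNat 124, 27), (.ofNat
  90, 28), (.ofNat 239, 29), (.ofNat 140, 30), (.ofNat 248, 31), (.ofNat 112, 32), (.ofNat 91, 33), (.ofNat 108, 34),
  (.ofNat 69, 35), (.ofNat 194, 36), (.ofNat 306, 37), (.ofNat 172, 38), (.ofNat 212, 39), (.ofNat 402, 40), (.ofNat
  447, 41), (.ofNat 448, 42), (.ofNat 646, 43), (.ofNat 624, 44), (.ofNat 650, 45), (.ofNat 729, 46), (.ofNat 565,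
  47), (.ofNat 588, 48), (.ofNat 628, 49), (.ofNat 642, 50), (.ofNat 671, 51), (.ofNat 155, 54), (.ofNat 84, 55),
  (.ofNat 218, 3)])) (.far (.negSucc 551) [(.ofNat 4, 6), (.ofNat 21, 11), (.ofNat 62, 15), (.ofNat 115, 17), (.ofNat
  98, 22), (.ofNat 261, 23), (.negSucc 64, 24), (.ofNat 188, 25), (.ofNat 124, 26), (.ofNat 136, 27), (.ofNat 102,
  28), (.ofNat 113, 29), (.ofNat 45, 30), (.ofNat 237, 32), (.ofNat 108, 33), (.ofNat 107, 34), (.ofNat 133, 35),
  (.ofNat 163, 36), (.ofNat 291, 37), (.ofNat 131, 38), (.ofNat 201, 39), (.ofNat 367, 40), (.ofNat 415, 41), (.ofNat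
  345, 42), (.ofNat 550, 43), (.ofNat 576, 44), (.ofNat 484, 45), (.ofNat 677, 46), (.ofNat 656, 47), (.ofNat 455,
  48), (.ofNat 719, 49), (.ofNat 729, 50), (.ofNat 711, 51), (.ofNat 128, 52), (.ofNat 106, 53), (.ofNat 115, 54),
  (.ofNat 37, 55), (.ofNat 238, 2)])) (.far (.negSucc 219) [(.ofNat 32, 15), (.ofNat 106, 21), (.ofNat 47, 22),
  (.ofNat 19, 23), (.ofNat 108, 24), (.ofNat 101, 25), (.negSucc 97, 26), (.ofNat 137, 27), (.ofNat 175, 28), (.ofNat
  75, 29), (.ofNat 175, 30), (.ofNat 139, 31), (.ofNat 125, 32), (.ofNat 158, 33), (.negSucc 4, 34), (.ofNat 223,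
  35), (.ofNat 224, 36), (.ofNat 178, 37), (.ofNat 208, 38), (.ofNat 208, 39), (.ofNat 252, 40), (.ofNat 315, 41),
  (.ofNat 365, 42), (.ofNat 505, 43), (.ofNat 485, 44), (.ofNat 549, 45), (.ofNat 592, 46), (.ofNat 535, 47), (.ofNat
  481, 48), (.ofNat 496, 49), (.ofNat 729, 50), (.ofNat 528, 51), (.ofNat 35, 52), (.ofNat 81, 53), (.ofNat 144, 54),
  (.ofNat 52, 55), (.ofNat 218, 1)])) (.far (.negSucc 6782) [(.ofNat 779, 2), (.ofNat 746, 6), (.ofNat 1045, 7),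
  (.ofNat 669, 8), (.ofNat 1447, 12), (.ofNat 83, 13), (.ofNat 2258, 14), (.ofNat 3766, 16), (.ofNat 2665, 18),
  (.ofNat 3534, 19), (.ofNat 5797, 21), (.ofNat 4810, 22), (.ofNat 1530, 23), (.ofNat 2723, 24), (.ofNat 1998, 25),
  (.ofNat 9504, 26), (.ofNat 3329, 27), (.ofNat 14002, 28), (.ofNat 2720, 29), (.ofNat 11533, 30), (.ofNat 8433, 31),
  (.ofNat 14952, 32), (.ofNat 20951, 33), (.ofNat 9429, 34), (.ofNat 7313, 35), (.ofNat 10674, 36), (.ofNat 22124,
  37), (.ofNat 9284, 38), (.ofNat 22268, 39), (.ofNat 24642, 40), (.ofNat 28087, 41), (.ofNat 33135, 42), (.ofNat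
  46546, 43), (.ofNat 49053, 44), (.ofNat 48936, 45), (.ofNat 51226, 46), (.ofNat 46182, 47), (.ofNat 59049, 48),
  (.ofNat 49741, 49), (.ofNat 52440, 50), (.ofNat 53918, 51), (.ofNat 1825, 52), (.ofNat 1780, 53), (.ofNat 4825,
  55)])) (.far (.negSucc 13242) [(.ofNat 2986, 4), (.ofNat 3362, 12), (.ofNat 4207, 17), (.ofNat 14744, 18), (.ofNat
  12925, 19), (.ofNat 11151, 20), (.ofNat 7929, 22), (.ofNat 5251, 23), (.negSucc 1312, 24), (.ofNat 23658, 25),
  (.ofNat 4073, 26), (.ofNat 21799, 27), (.ofNat 35443, 28), (.ofNat 13998, 29), (.ofNat 8974, 30), (.ofNat 29490,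
  31), (.ofNat 14668, 32), (.ofNat 26435, 33), (.ofNat 33963, 34), (.ofNat 27509, 35), (.ofNat 37899, 36), (.ofNat
  28932, 37), (.ofNat 46907, 38), (.ofNat 48769, 39), (.ofNat 58670, 40), (.ofNat 119219, 41), (.ofNat 78004, 42),
  (.ofNat 140406, 43), (.ofNat 117176, 44), (.ofNat 123073, 45), (.ofNat 142939, 46), (.ofNat 160964, 47), (.ofNat
  163296, 48), (.ofNat 148159, 49), (.ofNat 155194, 50), (.ofNat 177147, 51), (.ofNat 5332, 54), (.ofNat 19981,
  55)])) (.far (.negSucc 7499) [(.ofNat 3235, 6), (.ofNat 1112, 12), (.ofNat 1831, 13), (.ofNat 8016, 15), (.ofNat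
  4265, 16), (.ofNat 2549, 17), (.ofNat 6491, 18), (.ofNat 20150, 19), (.ofNat 2251, 20), (.ofNat 26194, 21), (.ofNat
  480, 24), (.ofNat 7630, 25), (.ofNat 35024, 26), (.ofNat 28469, 27), (.ofNat 23718, 28), (.ofNat 10565, 29),
  (.ofNat 54564, 30), (.ofNat 50863, 31), (.ofNat 35603, 32), (.ofNat 12379, 33), (.ofNat 49934, 34), (.ofNat 29878,
  35), (.ofNat 27036, 36), (.ofNat 39153, 37), (.ofNat 50515, 38), (.ofNat 50515, 39), (.ofNat 34104, 40), (.ofNat
  102889, 41), (.ofNat 85778, 42), (.ofNat 124329, 43), (.ofNat 173245, 44), (.ofNat 131766, 45), (.ofNat 116405,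
  46), (.ofNat 132724, 47), (.ofNat 112650, 48), (.ofNat 155441, 49), (.ofNat 177147, 50), (.ofNat 164812, 51),
  (.ofNat 1852, 52), (.ofNat 2549, 54), (.ofNat 28458, 55)])) (.far (.negSucc 18979) [(.ofNat 18980, 16), (.ofNat
  9490, 17), (.ofNat 18980, 18), (.ofNat 37960, 19), (.ofNat 47450, 20), (.ofNat 56940, 22), (.ofNat 37960, 23),
  (.ofNat 18980, 24), (.ofNat 56940, 25), (.ofNat 56940, 26), (.ofNat 37960, 27), (.ofNat 75920, 28), (.ofNat 66430,
  29), (.ofNat 56940, 30), (.ofNat 66430, 31), (.ofNat 94900, 32), (.ofNat 56940, 33), (.ofNat 185055, 34), (.ofNat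
  175565, 35), (.ofNat 175565, 36), (.ofNat 166075, 37), (.ofNat 166075, 38), (.ofNat 166075, 39), (.ofNat 213525,
  40), (.ofNat 279956, 41), (.ofNat 308426, 42), (.ofNat 393836, 43), (.ofNat 436541, 44), (.ofNat 412816, 45),
  (.ofNat 512461, 46), (.ofNat 465011, 47), (.ofNat 502971, 48), (.ofNat 531441, 49), (.ofNat 531441, 50), (.ofNat
  512461, 51), (.ofNat 56940, 55)])) (.far (.negSucc 160763) [(.ofNat 4814, 1), (.ofNat 48839, 7), (.ofNat 61417, 9),
  (.ofNat 13277, 15), (.ofNat 125280, 16), (.ofNat 130094, 18), (.ofNat 151058, 19), (.ofNat 163986, 20), (.ofNat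
  353750, 22), (.ofNat 139256, 23), (.ofNat 140809, 24), (.ofNat 335349, 25), (.ofNat 313297, 26), (.ofNat 181806,
  27), (.ofNat 247765, 28), (.ofNat 293032, 29), (.ofNat 300020, 30), (.ofNat 284375, 31), (.ofNat 542234, 32),
  (.ofNat 297691, 33), (.ofNat 284375, 34), (.ofNat 322615, 35), (.ofNat 284414, 36), (.ofNat 132035, 37), (.ofNat
  151835, 38), (.ofNat 139256, 39), (.ofNat 381470, 40), (.ofNat 732658, 41), (.ofNat 858055, 42), (.ofNat 1428745,
  43), (.ofNat 866324, 44), (.ofNat 1442022, 45), (.ofNat 1401259, 46), (.ofNat 1019013, 47), (.ofNat 1261226, 48),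
  (.ofNat 1340929, 49), (.ofNat 1594323, 50), (.ofNat 1325788, 51), (.ofNat 16868, 53), (.ofNat 41268, 54), (.ofNat
  285093, 55)])) (.far (.negSucc 6244) [(.ofNat 3377, 17), (.ofNat 3164, 18), (.ofNat 2725, 19), (.ofNat 376, 20),
  (.ofNat 464, 22), (.ofNat 2729, 24), (.ofNat 163, 25), (.ofNat 652, 26), (.negSucc 1880, 27), (.ofNat 1613, 28),
  (.ofNat 2596, 29), (.ofNat 3001, 30), (.ofNat 3310, 31), (.ofNat 648, 32), (.ofNat 272, 33), (.ofNat 2984, 34),
  (.ofNat 1588, 35), (.ofNat 4627, 36), (.ofNat 3595, 37), (.ofNat 1939, 38), (.ofNat 3244, 39), (.ofNat 11198, 40),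
  (.ofNat 13087, 41), (.ofNat 13689, 42), (.ofNat 14069, 43), (.ofNat 14839, 44), (.ofNat 8684, 45), (.ofNat 17413,
  46), (.ofNat 11750, 47), (.ofNat 14671, 48), (.ofNat 13480, 49), (.ofNat 19683, 50), (.ofNat 11607, 51), (.ofNat
  1137, 55)])) (.far (.negSucc 2261) [(.ofNat 574, 1), (.ofNat 164, 7), (.ofNat 118, 9), (.ofNat 1102, 14), (.ofNat
  573, 16), (.ofNat 191, 17), (.ofNat 3404, 18), (.ofNat 446, 19), (.ofNat 2762, 21), (.ofNat 1136, 22), (.ofNat
  2730, 24), (.ofNat 1332, 25), (.ofNat 2272, 26), (.ofNat 346, 27), (.negSucc 1989, 28), (.ofNat 2252, 29), (.ofNat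
  2889, 30), (.ofNat 1767, 31), (.ofNat 3579, 32), (.ofNat 2519, 33), (.ofNat 4445, 34), (.ofNat 4990, 35), (.ofNat
  7034, 36), (.ofNat 4086, 37), (.ofNat 4752, 38), (.ofNat 4978, 39), (.ofNat 6450, 40), (.ofNat 8898, 41), (.ofNat
  7316, 42), (.ofNat 12665, 43), (.ofNat 12506, 44), (.ofNat 9141, 45), (.ofNat 16492, 46), (.ofNat 14093, 47),
  (.ofNat 15149, 48), (.ofNat 11867, 49), (.ofNat 19683, 50), (.ofNat 15422, 51), (.ofNat 133, 53), (.ofNat 191,
  54)])) (.far (.negSucc 2972) [(.ofNat 666, 16), (.ofNat 900, 18), (.ofNat 457, 19), (.ofNat 262, 20), (.ofNat 144,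
  22), (.ofNat 1274, 24), (.ofNat 745, 25), (.ofNat 571, 26), (.ofNat 720, 27), (.negSucc 651, 28), (.ofNat 1389,
  29), (.ofNat 1585, 30), (.ofNat 950, 31), (.ofNat 674, 32), (.ofNat 1378, 33), (.ofNat 650, 34), (.ofNat 2870, 35),
  (.ofNat 2092, 36), (.ofNat 2114, 37), (.ofNat 1055, 38), (.ofNat 1491, 39), (.ofNat 1658, 40), (.ofNat 2610, 41),
  (.ofNat 2444, 42), (.ofNat 4801, 43), (.ofNat 4814, 44), (.ofNat 2966, 45), (.ofNat 5018, 46), (.ofNat 4837, 47),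
  (.ofNat 5513, 48), (.ofNat 6341, 49), (.ofNat 5250, 50), (.ofNat 6561, 51), (.ofNat 520, 53), (.ofNat 1878, 54),
  (.ofNat 368, 55)])))

/-- certificates -/
noncomputable def CL5 : List (Hd × Tr) :=
  [c36]

theorem okC5 : okL TAB.Co2.D (TAB.Sm2.mkRows TAB.Co2.A TAB.Co2.B) P Z CL5 = true := by decide +kernel

/-- a certificate -/
noncomputable def c37 : Hd × Tr :=
  ((149299200, [], []), (.far (.ofNat 2779) [(.ofNat 978, 1), (.ofNat 3519, 9), (.ofNat 861, 13), (.ofNat 940, 14),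
  (.ofNat 837, 15), (.ofNat 630, 17), (.ofNat 1666, 18), (.ofNat 2149, 19), (.ofNat 1670, 21), (.ofNat 1940, 22),
  (.ofNat 846, 23), (.ofNat 1863, 26), (.ofNat 1092, 27), (.ofNat 1098, 28), (.ofNat 2198, 29), (.ofNat 2569, 30),
  (.ofNat 1657, 31), (.ofNat 865, 32), (.ofNat 1868, 33), (.ofNat 2362, 34), (.ofNat 828, 35), (.ofNat 2842, 36),
  (.ofNat 3156, 37), (.ofNat 2978, 38), (.ofNat 4390, 39), (.ofNat 14223, 40), (.ofNat 12478, 41), (.ofNat 12863,
  42), (.ofNat 14002, 43), (.ofNat 15470, 44), (.ofNat 14391, 45), (.ofNat 19683, 46), (.ofNat 13817, 47), (.ofNat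
  11216, 48), (.ofNat 14773, 49), (.ofNat 17120, 50), (.ofNat 13464, 51), (.ofNat 15, 52), (.ofNat 3687, 54), (.ofNat
  2265, 55)]))

/-- a certificate -/
noncomputable def c38 : Hd × Tr :=
  ((124416000, [], []), (.far (.ofNat 2551) [(.ofNat 806, 1), (.ofNat 3819, 9), (.ofNat 606, 13), (.ofNat 1139, 14),
  (.ofNat 403, 15), (.ofNat 579, 17), (.ofNat 2639, 18), (.ofNat 1484, 19), (.ofNat 1780, 21), (.ofNat 1767, 22),
  (.ofNat 1772, 26), (.ofNat 728, 27), (.negSucc 78, 28), (.ofNat 1828, 29), (.ofNat 2493, 30), (.ofNat 1946, 31),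
  (.ofNat 1860, 32), (.ofNat 1524, 33), (.ofNat 2670, 34), (.negSucc 505, 35), (.ofNat 4057, 36), (.ofNat 3153, 37),
  (.ofNat 3292, 38), (.ofNat 4377, 39), (.ofNat 13423, 40), (.ofNat 11852, 41), (.ofNat 11177, 42), (.ofNat 12914,
  43), (.ofNat 14167, 44), (.ofNat 13209, 45), (.ofNat 19683, 46), (.ofNat 12857, 47), (.ofNat 10412, 48), (.ofNat
  13043, 49), (.ofNat 17099, 50), (.ofNat 12801, 51), (.ofNat 403, 52), (.ofNat 2214, 54), (.ofNat 1467, 55)]))

/-- a certificate -/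
noncomputable def c39 : Hd × Tr :=
  ((99532800, [], []), (.bf 13 5 (.bf 14 10 (.bf 14 5 (.far (.ofNat 31547) [(.ofNat 2794, 1), (.ofNat 5635, 7),
  (.ofNat 30154, 9), (.ofNat 10697, 13), (.ofNat 18056, 14), (.ofNat 24555, 18), (.ofNat 2963, 19), (.ofNat 4898,
  21), (.ofNat 15720, 22), (.ofNat 3921, 25), (.ofNat 22197, 26), (.ofNat 12402, 27), (.ofNat 2966, 28), (.ofNat
  20372, 29), (.ofNat 24603, 30), (.ofNat 29747, 31), (.ofNat 19587, 32), (.ofNat 8631, 33), (.ofNat 27096, 34),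
  (.negSucc 9961, 35), (.ofNat 36861, 36), (.ofNat 30286, 37), (.ofNat 37921, 38), (.ofNat 40697, 39), (.ofNat 99293,
  40), (.ofNat 76424, 41), (.ofNat 75901, 42), (.ofNat 101477, 43), (.ofNat 109591, 44), (.ofNat 96998, 45), (.ofNat
  177147, 46), (.ofNat 123283, 47), (.ofNat 86236, 48), (.ofNat 111106, 49), (.ofNat 145103, 50), (.ofNat 122291,
  51), (.ofNat 4631, 55)]) (.bf 4 99 (.bf 4 93 (.far (.ofNat 103693) [(.ofNat 20214, 1), (.ofNat 91310, 9), (.ofNat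
  30259, 13), (.ofNat 53220, 14), (.ofNat 69846, 18), (.ofNat 5515, 19), (.ofNat 30116, 21), (.ofNat 37680, 22),
  (.ofNat 61031, 26), (.ofNat 53445, 27), (.ofNat 9738, 28), (.ofNat 58263, 29), (.ofNat 75566, 30), (.ofNat 85857,
  31), (.ofNat 46803, 32), (.ofNat 32473, 33), (.ofNat 84863, 34), (.negSucc 18234, 35), (.ofNat 122359, 36), (.ofNat
  110858, 37), (.ofNat 136730, 38), (.ofNat 144602, 39), (.ofNat 314656, 40), (.ofNat 232366, 41), (.ofNat 232489,
  42), (.ofNat 293868, 43), (.ofNat 351916, 44), (.ofNat 279600, 45), (.ofNat 531441, 46), (.ofNat 397858, 47),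
  (.ofNat 265075, 48), (.ofNat 337381, 49), (.ofNat 429593, 50), (.ofNat 388981, 51), (.ofNat 14679, 54), (.ofNat
  7052, 55)]) (.bf 5 195 (.bf 5 192 (.far (.ofNat 73037) [(.ofNat 6036, 1), (.ofNat 77955, 9), (.ofNat 4758, 13),
  (.ofNat 10507, 14), (.ofNat 21333, 18), (.ofNat 3385, 19), (.ofNat 7377, 21), (.ofNat 12359, 22), (.negSucc 51735,
  24), (.ofNat 17501, 26), (.ofNat 8559, 27), (.ofNat 13828, 29), (.ofNat 18810, 30), (.ofNat 19545, 31), (.ofNat
  14914, 32), (.ofNat 7696, 33), (.ofNat 13309, 34), (.negSucc 66242, 35), (.ofNat 20367, 36), (.ofNat 13533, 37),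
  (.ofNat 20335, 38), (.ofNat 24040, 39), (.ofNat 127830, 40), (.ofNat 55384, 41), (.ofNat 56390, 42), (.ofNat 72949,
  43), (.ofNat 71743, 44), (.ofNat 62442, 45), (.ofNat 177147, 46), (.ofNat 79616, 47), (.ofNat 70434, 49), (.ofNat
  104030, 50), (.ofNat 79073, 51), (.ofNat 6275, 54), (.ofNat 4583, 55)]) (.bf 1 6944 (.far (.ofNat 108329) [(.ofNat
  49455, 1), (.ofNat 101101, 9), (.ofNat 15831, 13), (.ofNat 43044, 14), (.ofNat 49422, 18), (.ofNat 1177, 19),
  (.ofNat 3467, 21), (.ofNat 59365, 22), (.ofNat 35750, 25), (.ofNat 26919, 26), (.ofNat 39086, 27), (.ofNat 65285,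
  29), (.ofNat 30386, 30), (.ofNat 51155, 31), (.ofNat 58220, 32), (.ofNat 41016, 33), (.ofNat 82792, 34), (.ofNat
  17769, 35), (.ofNat 152330, 36), (.ofNat 119229, 37), (.ofNat 114094, 38), (.ofNat 117070, 39), (.ofNat 286596,
  40), (.ofNat 176714, 41), (.ofNat 194131, 42), (.ofNat 283211, 43), (.ofNat 265410, 44), (.ofNat 301560, 45),
  (.ofNat 531441, 46), (.ofNat 353771, 47), (.ofNat 277561, 48), (.ofNat 297693, 49), (.ofNat 392808, 50), (.ofNat
  344547, 51), (.ofNat 22503, 54), (.ofNat 932, 55)]) (.bf 2 2408 (.far (.ofNat 36484) [(.ofNat 13146, 1), (.ofNat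
  34670, 9), (.ofNat 12323, 13), (.ofNat 11015, 14), (.ofNat 8546, 18), (.ofNat 4157, 19), (.ofNat 3271, 21), (.ofNat
  23148, 22), (.ofNat 26482, 26), (.ofNat 7934, 27), (.ofNat 25469, 29), (.ofNat 29753, 30), (.ofNat 21713, 31),
  (.ofNat 23591, 32), (.ofNat 2574, 33), (.ofNat 37144, 34), (.ofNat 2348, 35), (.ofNat 37904, 36), (.ofNat 41491,
  37), (.ofNat 34253, 38), (.ofNat 37714, 39), (.ofNat 101250, 40), (.ofNat 42303, 41), (.ofNat 81689, 42), (.ofNat
  74884, 43), (.ofNat 114064, 44), (.ofNat 95458, 45), (.ofNat 177147, 46), (.ofNat 98312, 47), (.ofNat 58620, 48),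
  (.ofNat 110793, 49), (.ofNat 133942, 50), (.ofNat 92657, 51), (.ofNat 5128, 54), (.ofNat 4252, 55)]) (.far (.ofNat
  24689) [(.ofNat 574, 1), (.ofNat 33411, 9), (.ofNat 2226, 13), (.ofNat 21889, 14), (.ofNat 52971, 18), (.ofNat
  3765, 19), (.ofNat 20862, 21), (.ofNat 5213, 22), (.ofNat 19288, 26), (.ofNat 23040, 27), (.ofNat 3871, 28),
  (.ofNat 11457, 29), (.ofNat 22835, 30), (.ofNat 37535, 31), (.ofNat 13522, 32), (.ofNat 22384, 33), (.ofNat 3715,
  34), (.negSucc 37308, 35), (.ofNat 26925, 36), (.ofNat 5197, 37), (.ofNat 37211, 38), (.ofNat 42499, 39), (.ofNat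
  112884, 40), (.ofNat 127888, 41), (.ofNat 76523, 42), (.ofNat 138218, 43), (.ofNat 102356, 44), (.ofNat 85504, 45),
  (.ofNat 177147, 46), (.ofNat 151257, 47), (.ofNat 107577, 48), (.ofNat 98809, 49), (.ofNat 164623, 50), (.ofNat
  155995, 51), (.ofNat 10390, 54), (.ofNat 6571, 55)])))) (.far (.ofNat 703877) [(.ofNat 58196, 1), (.ofNat 713357,
  9), (.ofNat 41343, 13), (.ofNat 45556, 14), (.ofNat 84397, 18), (.ofNat 69387, 19), (.ofNat 33838, 21), (.ofNat
  95588, 22), (.negSucc 558782, 24), (.ofNat 104146, 26), (.ofNat 52007, 27), (.ofNat 15141, 28), (.ofNat 92955, 29),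
  (.ofNat 113758, 30), (.ofNat 112441, 31), (.ofNat 81237, 32), (.ofNat 50296, 33), (.ofNat 153257, 34), (.negSucc
  511515, 35), (.ofNat 185778, 36), (.ofNat 174587, 37), (.ofNat 197496, 38), (.ofNat 245949, 39), (.ofNat 1209863,
  40), (.ofNat 520864, 41), (.ofNat 547328, 42), (.ofNat 628302, 43), (.ofNat 724022, 44), (.ofNat 699401, 45),
  (.ofNat 1594323, 46), (.ofNat 694793, 47), (.ofNat 714410, 49), (.ofNat 876094, 50), (.ofNat 705984, 51), (.ofNat
  18696, 52), (.ofNat 138643, 54), (.ofNat 77682, 55)]))) (.far (.ofNat 201785) [(.ofNat 31833, 1), (.ofNat 236663,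
  9), (.ofNat 1890, 13), (.ofNat 5495, 14), (.ofNat 50670, 18), (.ofNat 31983, 19), (.ofNat 16583, 21), (.ofNat
  51440, 22), (.negSucc 162566, 24), (.ofNat 10788, 25), (.ofNat 47817, 26), (.ofNat 4079, 27), (.ofNat 37498, 29),
  (.ofNat 47410, 30), (.ofNat 40439, 31), (.ofNat 55365, 32), (.ofNat 25248, 33), (.ofNat 33446, 34), (.negSucc
  181144, 35), (.ofNat 41363, 36), (.ofNat 15172, 37), (.ofNat 25191, 38), (.ofNat 45613, 39), (.ofNat 385481, 40),
  (.ofNat 180478, 41), (.ofNat 191290, 42), (.ofNat 245132, 43), (.ofNat 206570, 44), (.ofNat 243007, 45), (.ofNat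
  531441, 46), (.ofNat 194344, 47), (.ofNat 217765, 49), (.ofNat 334738, 50), (.ofNat 208672, 51), (.ofNat 4719, 52),
  (.ofNat 52995, 54), (.ofNat 37678, 55)]))) (.far (.ofNat 6246140) [(.ofNat 467440, 1), (.ofNat 6377184, 9), (.ofNat
  423206, 13), (.ofNat 734116, 14), (.ofNat 1284703, 18), (.ofNat 343476, 19), (.ofNat 486433, 21), (.ofNat 869554,
  22), (.negSucc 4621377, 24), (.ofNat 1175240, 26), (.ofNat 690224, 27), (.ofNat 91252, 28), (.ofNat 1008018, 29),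
  (.ofNat 1316000, 30), (.ofNat 1385232, 31), (.ofNat 954459, 32), (.ofNat 556983, 33), (.ofNat 1296397, 34),
  (.negSucc 5045291, 35), (.ofNat 1803531, 36), (.ofNat 1490716, 37), (.ofNat 1905622, 38), (.ofNat 2208720, 39),
  (.ofNat 10554044, 40), (.ofNat 4473320, 41), (.ofNat 4585517, 42), (.ofNat 5662670, 43), (.ofNat 6183157, 44),
  (.ofNat 5459953, 45), (.ofNat 14348907, 46), (.ofNat 6574090, 47), (.ofNat 6042398, 49), (.ofNat 8066344, 50),
  (.ofNat 6547188, 51), (.ofNat 55464, 52), (.ofNat 687636, 54), (.ofNat 414808, 55)])) (.far (.ofNat 25365) [(.ofNat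
  2202, 1), (.ofNat 604, 6), (.ofNat 28200, 9), (.ofNat 2983, 14), (.ofNat 708, 15), (.ofNat 1815, 17), (.ofNat 4845,
  18), (.ofNat 2873, 19), (.ofNat 4120, 21), (.ofNat 2829, 22), (.negSucc 20784, 24), (.ofNat 60, 25), (.ofNat 2542,
  26), (.ofNat 1017, 27), (.ofNat 3323, 29), (.ofNat 5245, 30), (.ofNat 4570, 31), (.ofNat 4693, 32), (.ofNat 2240,
  33), (.ofNat 6352, 34), (.negSucc 22003, 35), (.ofNat 10062, 36), (.ofNat 7416, 37), (.ofNat 6613, 38), (.ofNat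
  7954, 39), (.ofNat 43362, 40), (.ofNat 21791, 41), (.ofNat 19308, 42), (.ofNat 24715, 43), (.ofNat 26020, 44),
  (.ofNat 24118, 45), (.ofNat 59049, 46), (.ofNat 25382, 47), (.ofNat 23273, 49), (.ofNat 33873, 50), (.ofNat 24662,
  51), (.ofNat 495, 52), (.ofNat 1022, 54), (.ofNat 1842, 55)])))

/-- a certificate -/
noncomputable def c40 : Hd × Tr :=
  ((10200960, [(1005, 4080385), (2041192, 6120576)], [(1005, 4080385), (2041192, 6120576)]), (.far (.negSucc 868)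
  [(.ofNat 16, 17), (.ofNat 53, 18), (.ofNat 208, 22), (.ofNat 303, 28), (.ofNat 127, 36), (.ofNat 2, 38), (.ofNat
  89, 41), (.ofNat 316, 42), (.ofNat 263, 43), (.ofNat 193, 44), (.ofNat 7, 45), (.ofNat 366, 46), (.ofNat 343, 47),
  (.ofNat 111, 48), (.ofNat 177, 49), (.ofNat 523, 50), (.ofNat 150, 51), (.ofNat 266, 52), (.ofNat 6561, 1005),
  (.negSucc 824, 2041192)]))

/-- certificates -/
noncomputable def CL6 : List (Hd × Tr) :=
  [c37, c38, c39, c40]

theorem okC6 : okL TAB.Co2.D (TAB.Sm2.mkRows TAB.Co2.A TAB.Co2.B) P Z CL6 = true := by decide +kernel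

/-- a certificate -/
noncomputable def c41 : Hd × Tr :=
  ((244823040, [], []), (.bf 21 5 (.bf 13 0 (.bf 14 30 (.bf 14 15 (.far (.negSucc 3592) [(.ofNat 781, 12), (.negSucc
  2811, 20), (.ofNat 312, 21), (.negSucc 155, 22), (.negSucc 3748, 23), (.ofNat 781, 24), (.negSucc 2967, 25),
  (.negSucc 3279, 26), (.negSucc 6716, 27), (.negSucc 8903, 28), (.negSucc 4217, 29), (.negSucc 4217, 30), (.negSucc
  5935, 31), (.negSucc 4529, 32), (.negSucc 3592, 33), (.negSucc 5935, 34), (.negSucc 5935, 35), (.negSucc 7185, 36),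
  (.negSucc 6872, 37), (.negSucc 5310, 38), (.negSucc 6872, 39), (.negSucc 6560, 40), (.negSucc 10934, 41), (.negSucc
  14996, 42), (.negSucc 14839, 43), (.negSucc 15152, 44), (.negSucc 14839, 45), (.negSucc 15308, 46), (.negSucc
  18588, 47), (.negSucc 19682, 48), (.negSucc 18901, 49), (.negSucc 15308, 50), (.negSucc 19682, 51), (.ofNat 2187,
  52), (.ofNat 2421, 53), (.ofNat 625, 54), (.negSucc 5310, 55)]) (.bf 4 54 (.bf 5 315 (.bf 1 2304 (.bf 2 2048 (.bf 2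
  1152 (.far (.negSucc 9051) [(.ofNat 826, 12), (.ofNat 316, 16), (.ofNat 105, 19), (.negSucc 6632, 20), (.ofNat
  2129, 21), (.ofNat 142, 22), (.negSucc 8045, 23), (.ofNat 1682, 24), (.negSucc 7458, 25), (.negSucc 8850, 26),
  (.negSucc 18402, 27), (.negSucc 24319, 28), (.negSucc 6447, 29), (.negSucc 6300, 30), (.negSucc 16972, 31),
  (.negSucc 9103, 32), (.negSucc 8700, 33), (.negSucc 17351, 34), (.negSucc 16656, 35), (.negSucc 17182, 36),
  (.negSucc 14506, 37), (.negSucc 13177, 38), (.negSucc 17536, 39), (.negSucc 20822, 40), (.negSucc 36389, 41),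
  (.negSucc 42390, 42), (.negSucc 44188, 43), (.negSucc 42704, 44), (.negSucc 44283, 45), (.negSucc 42969, 46),
  (.negSucc 52852, 47), (.negSucc 57869, 48), (.negSucc 50589, 49), (.negSucc 43263, 50), (.negSucc 59048, 51),
  (.ofNat 4570, 52), (.ofNat 7423, 53), (.negSucc 13762, 55)]) (.bf 3 64 (.far (.negSucc 766) [(.ofNat 169, 17),
  (.negSucc 31, 19), (.negSucc 507, 20), (.negSucc 96, 21), (.negSucc 144, 22), (.negSucc 774, 23), (.ofNat 258, 24),
  (.negSucc 677, 25), (.negSucc 1371, 26), (.negSucc 1734, 27), (.negSucc 2501, 28), (.negSucc 733, 29), (.negSucc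
  1064, 30), (.negSucc 1605, 31), (.negSucc 1758, 32), (.negSucc 2017, 33), (.negSucc 1690, 34), (.negSucc 1561, 35),
  (.negSucc 1940, 36), (.negSucc 2489, 37), (.negSucc 1246, 38), (.negSucc 2376, 39), (.negSucc 1988, 40), (.negSucc
  2860, 41), (.negSucc 4183, 42), (.negSucc 4732, 43), (.negSucc 5027, 44), (.negSucc 4902, 45), (.negSucc 4938, 46),
  (.negSucc 5495, 47), (.negSucc 6560, 48), (.negSucc 5575, 49), (.negSucc 4938, 50), (.negSucc 6407, 51), (.ofNat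
  315, 52), (.ofNat 496, 53), (.negSucc 1262, 55)]) (.bm 1 0 (.far (.negSucc 1995) [(.negSucc 950, 1), (.ofNat 260,
  7), (.ofNat 81, 12), (.ofNat 606, 19), (.negSucc 1212, 20), (.negSucc 712, 21), (.negSucc 37, 22), (.negSucc 1427,
  23), (.negSucc 167, 24), (.negSucc 518, 25), (.negSucc 663, 26), (.negSucc 1266, 27), (.negSucc 1178, 28),
  (.negSucc 1356, 29), (.negSucc 1116, 30), (.negSucc 1540, 31), (.negSucc 1809, 32), (.negSucc 452, 33), (.negSucc
  1540, 34), (.negSucc 1434, 35), (.negSucc 1994, 36), (.negSucc 1344, 37), (.negSucc 1416, 38), (.negSucc 506, 39),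
  (.ofNat 248, 40), (.ofNat 134, 41), (.negSucc 940, 42), (.negSucc 594, 43), (.negSucc 986, 44), (.negSucc 1546,
  45), (.negSucc 1323, 46), (.negSucc 2147, 47), (.negSucc 692, 48), (.negSucc 2173, 49), (.negSucc 2186, 50),
  (.negSucc 2103, 51), (.ofNat 274, 53), (.ofNat 775, 54), (.ofNat 19, 55)]) (.far (.negSucc 195) [(.ofNat 6, 12),
  (.negSucc 81, 19), (.negSucc 108, 20), (.negSucc 55, 21), (.negSucc 99, 22), (.negSucc 141, 23), (.ofNat 21, 24),
  (.negSucc 114, 25), (.negSucc 146, 26), (.negSucc 207, 27), (.negSucc 181, 28), (.negSucc 185, 29), (.negSucc 132,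
  30), (.negSucc 100, 31), (.negSucc 206, 32), (.negSucc 189, 33), (.negSucc 218, 34), (.negSucc 181, 35), (.negSucc
  212, 36), (.negSucc 243, 37), (.negSucc 297, 38), (.negSucc 254, 39), (.negSucc 130, 40), (.negSucc 307, 41),
  (.negSucc 336, 42), (.negSucc 525, 43), (.negSucc 523, 44), (.negSucc 514, 45), (.negSucc 530, 46), (.negSucc 703,
  47), (.negSucc 695, 48), (.negSucc 706, 49), (.negSucc 522, 50), (.negSucc 728, 51), (.ofNat 61, 52), (.ofNat 89,
  53), (.negSucc 140, 55), (.ofNat 174, 1)])))) (.far (.negSucc 7296) [(.ofNat 12927, 4), (.ofNat 1570, 12), (.ofNat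
  1821, 19), (.ofNat 5781, 20), (.negSucc 3901, 21), (.negSucc 2110, 22), (.negSucc 11827, 23), (.ofNat 5094, 24),
  (.ofNat 4212, 25), (.negSucc 5193, 26), (.negSucc 9092, 27), (.negSucc 876, 28), (.negSucc 3231, 29), (.negSucc
  4825, 30), (.ofNat 4438, 31), (.negSucc 3599, 32), (.ofNat 709, 33), (.negSucc 705, 34), (.negSucc 5260, 35),
  (.negSucc 6927, 36), (.negSucc 3524, 37), (.ofNat 3971, 38), (.ofNat 2850, 39), (.ofNat 4076, 40), (.ofNat 17868,
  41), (.negSucc 9688, 42), (.ofNat 15790, 43), (.ofNat 4148, 44), (.ofNat 17955, 46), (.ofNat 15245, 47), (.ofNat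
  14901, 48), (.ofNat 14087, 49), (.ofNat 15367, 50), (.ofNat 19683, 51), (.ofNat 1121, 52), (.ofNat 7811, 53),
  (.negSucc 2653, 55)])) (.far (.negSucc 50715) [(.ofNat 11398, 7), (.ofNat 3935, 19), (.negSucc 26484, 20), (.ofNat
  4458, 21), (.negSucc 22111, 22), (.negSucc 44940, 23), (.negSucc 12220, 24), (.negSucc 26484, 25), (.negSucc 14571,
  26), (.negSucc 55745, 27), (.negSucc 61408, 28), (.negSucc 42858, 29), (.ofNat 451, 30), (.negSucc 31773, 31),
  (.negSucc 43276, 32), (.negSucc 48979, 33), (.negSucc 43749, 34), (.negSucc 58071, 35), (.negSucc 81455, 36),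
  (.negSucc 61685, 37), (.negSucc 46719, 38), (.negSucc 46699, 39), (.negSucc 57371, 40), (.negSucc 58952, 41),
  (.negSucc 103157, 42), (.negSucc 113641, 43), (.negSucc 70030, 44), (.negSucc 106868, 45), (.negSucc 139351, 46),
  (.negSucc 154184, 47), (.negSucc 177146, 48), (.negSucc 118183, 49), (.negSucc 104177, 50), (.negSucc 151014, 51),
  (.ofNat 8871, 52), (.ofNat 25609, 53), (.negSucc 16945, 55)])) (.far (.negSucc 42667) [(.ofNat 6095, 17), (.ofNat
  15238, 19), (.negSucc 6094, 20), (.negSucc 21333, 21), (.ofNat 6095, 22), (.negSucc 24381, 23), (.ofNat 6095, 24),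
  (.negSucc 12190, 25), (.negSucc 3047, 26), (.negSucc 39619, 27), (.negSucc 27428, 28), (.negSucc 18285, 29),
  (.negSucc 24381, 30), (.negSucc 18285, 31), (.negSucc 21333, 32), (.negSucc 36571, 33), (.ofNat 56001, 34), (.ofNat
  40763, 35), (.ofNat 28572, 36), (.ofNat 19429, 37), (.ofNat 19429, 38), (.ofNat 25524, 39), (.ofNat 71240, 40),
  (.ofNat 56001, 41), (.ofNat 65144, 42), (.ofNat 43811, 43), (.ofNat 96764, 44), (.ofNat 177147, 45), (.ofNat
  112003, 46), (.ofNat 48001, 47), (.ofNat 87621, 48), (.ofNat 81526, 49), (.ofNat 108955, 50), (.ofNat 51049, 51),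
  (.ofNat 6095, 52)])) (.far (.negSucc 12216) [(.ofNat 1782, 12), (.ofNat 382, 16), (.negSucc 763, 19), (.negSucc
  7507, 20), (.negSucc 5980, 21), (.negSucc 3944, 22), (.negSucc 9671, 23), (.ofNat 1527, 24), (.negSucc 9289, 25),
  (.negSucc 3944, 26), (.negSucc 17943, 27), (.negSucc 21633, 28), (.negSucc 12852, 29), (.negSucc 13489, 30),
  (.negSucc 13107, 31), (.negSucc 13616, 32), (.negSucc 15270, 33), (.negSucc 14443, 34), (.negSucc 17752, 35),
  (.negSucc 20806, 36), (.negSucc 25260, 37), (.negSucc 25260, 38), (.negSucc 23479, 39), (.negSucc 12916, 40),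
  (.negSucc 23097, 41), (.negSucc 26787, 42), (.negSucc 38114, 43), (.negSucc 42122, 44), (.negSucc 38495, 45),
  (.negSucc 40977, 46), (.negSucc 58666, 47), (.negSucc 49885, 48), (.negSucc 53321, 49), (.negSucc 40977, 50),
  (.negSucc 59048, 51), (.ofNat 3563, 52), (.ofNat 2800, 53), (.negSucc 7635, 55)]))) (.far (.negSucc 3284) [(.ofNat
  2975, 4), (.ofNat 1369, 17), (.ofNat 529, 19), (.negSucc 273, 20), (.negSucc 1185, 21), (.negSucc 729, 22),
  (.negSucc 4051, 23), (.ofNat 3230, 24), (.negSucc 1642, 25), (.negSucc 893, 26), (.negSucc 5511, 27), (.negSucc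
  3923, 28), (.negSucc 1404, 29), (.negSucc 1131, 30), (.negSucc 839, 31), (.negSucc 2499, 32), (.negSucc 2390, 33),
  (.negSucc 2043, 34), (.negSucc 2445, 35), (.negSucc 2773, 36), (.negSucc 2390, 37), (.negSucc 2828, 38), (.negSucc
  2171, 39), (.ofNat 1186, 40), (.negSucc 17, 41), (.negSucc 2591, 42), (.negSucc 2737, 43), (.negSucc 2189, 44),
  (.negSucc 6560, 45), (.negSucc 5584, 47), (.negSucc 4251, 48), (.negSucc 3905, 49), (.negSucc 693, 50), (.negSucc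
  6460, 51), (.ofNat 694, 52), (.ofNat 1944, 53), (.negSucc 1760, 55)])) (.far (.negSucc 1338) [(.negSucc 288, 19),
  (.negSucc 1216, 20), (.negSucc 599, 21), (.negSucc 776, 22), (.negSucc 1050, 23), (.negSucc 133, 24), (.negSucc
  1126, 25), (.negSucc 783, 26), (.negSucc 1626, 27), (.negSucc 2358, 28), (.negSucc 1232, 29), (.negSucc 1220, 30),
  (.negSucc 1646, 31), (.negSucc 1870, 32), (.negSucc 1476, 33), (.negSucc 1879, 34), (.negSucc 1926, 35), (.negSucc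
  1734, 36), (.negSucc 2278, 37), (.negSucc 2468, 38), (.negSucc 2141, 39), (.negSucc 1700, 40), (.negSucc 2889, 41),
  (.negSucc 3404, 42), (.negSucc 4930, 43), (.negSucc 4668, 44), (.negSucc 4847, 45), (.negSucc 5038, 46), (.negSucc
  6060, 47), (.negSucc 5927, 48), (.negSucc 6109, 49), (.negSucc 5166, 50), (.negSucc 6560, 51), (.ofNat 303, 52),
  (.ofNat 321, 53), (.ofNat 91, 54), (.negSucc 914, 55)])) (.far (.negSucc 1190) [(.ofNat 39, 4), (.ofNat 217, 16),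
  (.ofNat 72, 19), (.negSucc 729, 20), (.negSucc 519, 21), (.ofNat 23, 22), (.negSucc 552, 23), (.negSucc 108, 24),
  (.negSucc 252, 25), (.negSucc 78, 26), (.negSucc 775, 27), (.negSucc 1347, 28), (.negSucc 298, 29), (.negSucc 308,
  30), (.negSucc 617, 31), (.negSucc 404, 32), (.negSucc 246, 33), (.negSucc 1204, 34), (.negSucc 514, 35), (.negSucc
  649, 36), (.negSucc 862, 37), (.negSucc 797, 38), (.negSucc 961, 39), (.negSucc 635, 40), (.negSucc 843, 41),
  (.negSucc 1287, 42), (.negSucc 1523, 43), (.negSucc 1522, 44), (.negSucc 1597, 45), (.negSucc 1397, 46), (.negSucc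
  2186, 47), (.negSucc 2124, 48), (.negSucc 1920, 49), (.negSucc 1640, 50), (.negSucc 2173, 51), (.ofNat 46, 52),
  (.ofNat 378, 53), (.ofNat 477, 54), (.negSucc 144, 55)])))

/-- certificates -/
noncomputable def CL7 : List (Hd × Tr) :=
  [c41]

theorem okC7 : okL TAB.Co2.D (TAB.Sm2.mkRows TAB.Co2.A TAB.Co2.B) P Z CL7 = true := by decide +kernel

/-- a certificate -/
noncomputable def c42 : Hd × Tr :=
  ((174182400, [(1007, 24883201)], [(1007, 24883201)]), (.bf 21 8 (.bf 21 1 (.far (.ofNat 0) [(.ofNat 1, 1007)]) (.bf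
  13 15 (.bf 14 50 (.bf 14 10 (.far (.negSucc 3734) [(.ofNat 2219, 12), (.ofNat 743, 13), (.ofNat 4853, 14), (.ofNat
  1538, 15), (.ofNat 2297, 16), (.ofNat 2119, 19), (.ofNat 752, 20), (.ofNat 6363, 21), (.ofNat 5761, 22), (.ofNat
  3327, 23), (.ofNat 8881, 24), (.ofNat 5836, 25), (.ofNat 9952, 26), (.ofNat 13865, 27), (.ofNat 4397, 28), (.ofNat
  8366, 29), (.ofNat 7290, 30), (.ofNat 10105, 31), (.ofNat 10691, 32), (.ofNat 11999, 33), (.ofNat 15884, 34),
  (.ofNat 21820, 35), (.ofNat 13884, 36), (.ofNat 17875, 37), (.ofNat 14174, 38), (.ofNat 12264, 39), (.ofNat 19635,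
  40), (.ofNat 24169, 41), (.ofNat 23883, 42), (.ofNat 40909, 43), (.ofNat 39873, 44), (.ofNat 41787, 45), (.ofNat
  42644, 46), (.ofNat 44432, 47), (.ofNat 45958, 48), (.ofNat 47940, 49), (.ofNat 41483, 50), (.ofNat 59049, 51),
  (.ofNat 12709, 54), (.ofNat 4048, 55)]) (.bf 4 159 (.bf 5 438 (.bf 1 6208 (.bf 2 3072 (.bf 3 488 (.bm 1 1 (.bm 2 2
  (.bm 2 0 (.far (.negSucc 401) [(.ofNat 23, 4), (.ofNat 173, 12), (.ofNat 252, 16), (.ofNat 23, 18), (.ofNat 1, 19),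
  (.ofNat 176, 20), (.ofNat 122, 22), (.ofNat 97, 23), (.ofNat 191, 24), (.ofNat 253, 25), (.ofNat 263, 26), (.ofNat
  427, 27), (.ofNat 90, 28), (.ofNat 305, 29), (.ofNat 409, 30), (.ofNat 512, 31), (.ofNat 339, 32), (.ofNat 402,
  33), (.ofNat 243, 34), (.ofNat 783, 35), (.ofNat 553, 36), (.ofNat 706, 37), (.ofNat 423, 38), (.ofNat 491, 39),
  (.ofNat 687, 40), (.ofNat 801, 41), (.ofNat 988, 42), (.ofNat 1433, 43), (.ofNat 1389, 44), (.ofNat 1064, 45),
  (.ofNat 1596, 46), (.ofNat 1461, 47), (.ofNat 1529, 48), (.ofNat 1840, 49), (.ofNat 1444, 50), (.ofNat 2187, 51),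
  (.ofNat 100, 53), (.ofNat 545, 54), (.ofNat 203, 55), (.negSucc 395, 2)]) (.bm 3 2 (.bm 3 0 (.far (.negSucc 144)
  [(.ofNat 83, 2), (.ofNat 6, 4), (.ofNat 27, 13), (.ofNat 48, 14), (.ofNat 88, 19), (.ofNat 5, 21), (.ofNat 17, 22),
  (.ofNat 97, 24), (.ofNat 30, 25), (.ofNat 211, 26), (.ofNat 127, 27), (.ofNat 70, 28), (.ofNat 158, 29), (.ofNat
  115, 30), (.ofNat 181, 31), (.ofNat 116, 32), (.ofNat 50, 33), (.ofNat 295, 34), (.ofNat 268, 35), (.ofNat 224,
  36), (.ofNat 104, 37), (.ofNat 183, 38), (.ofNat 212, 39), (.ofNat 235, 40), (.ofNat 310, 41), (.ofNat 415, 42),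
  (.ofNat 585, 43), (.ofNat 495, 44), (.ofNat 357, 45), (.ofNat 524, 46), (.ofNat 528, 47), (.ofNat 710, 48), (.ofNat
  565, 49), (.ofNat 463, 50), (.ofNat 729, 51), (.ofNat 52, 55), (.negSucc 202, 3)]) (.bm 4 1 (.bm 5 1 (.bm 6 1 (.bm
  7 1 (.bm 53 0 (.bm 10 1 (.bm 10 0 (.far (.negSucc 1860) [(.ofNat 700, 2), (.ofNat 459, 3), (.negSucc 731, 7),
  (.ofNat 232, 12), (.ofNat 225, 15), (.ofNat 578, 16), (.ofNat 105, 19), (.ofNat 310, 22), (.ofNat 1161, 24),
  (.ofNat 849, 25), (.ofNat 457, 26), (.ofNat 1926, 27), (.ofNat 274, 28), (.ofNat 1762, 29), (.ofNat 667, 30),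
  (.ofNat 1127, 31), (.ofNat 238, 32), (.ofNat 391, 33), (.ofNat 2022, 34), (.ofNat 4638, 35), (.ofNat 1579, 36),
  (.ofNat 1242, 37), (.negSucc 83, 38), (.ofNat 1533, 39), (.ofNat 186, 40), (.ofNat 800, 41), (.ofNat 2607, 42),
  (.ofNat 3130, 43), (.ofNat 3787, 44), (.negSucc 655, 45), (.ofNat 3376, 46), (.ofNat 4467, 47), (.ofNat 5987, 48),
  (.ofNat 5347, 49), (.ofNat 3848, 50), (.ofNat 6561, 51), (.negSucc 963, 53), (.ofNat 1290, 54), (.ofNat 699, 55),
  (.negSucc 2589, 10)]) (.bf 14 45 (.bf 14 20 (.far (.negSucc 1113) [(.ofNat 296, 2), (.ofNat 541, 10), (.ofNat 195,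
  15), (.ofNat 264, 16), (.ofNat 29, 18), (.ofNat 109, 21), (.ofNat 334, 22), (.ofNat 148, 23), (.ofNat 613, 24),
  (.ofNat 316, 25), (.ofNat 679, 26), (.ofNat 525, 27), (.negSucc 275, 28), (.ofNat 225, 29), (.ofNat 256, 30),
  (.ofNat 46, 31), (.ofNat 351, 32), (.ofNat 640, 33), (.ofNat 289, 34), (.ofNat 659, 35), (.ofNat 477, 36), (.ofNat
  705, 37), (.ofNat 540, 38), (.ofNat 571, 39), (.ofNat 514, 40), (.ofNat 1105, 41), (.ofNat 791, 42), (.ofNat 1594,
  43), (.ofNat 1678, 44), (.ofNat 2166, 45), (.ofNat 1511, 46), (.ofNat 1890, 47), (.ofNat 1713, 48), (.ofNat 2075,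
  49), (.ofNat 1340, 50), (.ofNat 2187, 51), (.ofNat 300, 53), (.ofNat 492, 54), (.ofNat 213, 55)]) (.bm 1 0 (.far
  (.negSucc 5610) [(.negSucc 709, 3), (.ofNat 975, 4), (.negSucc 492, 5), (.ofNat 2469, 10), (.ofNat 412, 15),
  (.ofNat 2211, 16), (.ofNat 1560, 19), (.ofNat 368, 20), (.ofNat 1451, 22), (.ofNat 3595, 24), (.ofNat 2506, 25),
  (.ofNat 3771, 26), (.ofNat 3521, 27), (.ofNat 1544, 28), (.ofNat 4029, 29), (.ofNat 3488, 30), (.ofNat 4489, 31),
  (.ofNat 2829, 32), (.ofNat 3955, 33), (.ofNat 3787, 34), (.ofNat 5589, 35), (.ofNat 5981, 36), (.ofNat 6713, 37),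
  (.ofNat 5632, 38), (.ofNat 5108, 39), (.ofNat 6161, 40), (.ofNat 10264, 41), (.ofNat 10841, 42), (.ofNat 15622,
  43), (.ofNat 14865, 44), (.ofNat 13352, 45), (.ofNat 16073, 46), (.ofNat 15695, 47), (.ofNat 17638, 48), (.ofNat
  18215, 49), (.ofNat 14963, 50), (.ofNat 19683, 51), (.ofNat 1637, 53), (.ofNat 2921, 54), (.ofNat 2995, 55),
  (.negSucc 3358, 1)]) (.bm 5 0 (.far (.negSucc 708) [(.negSucc 168, 1), (.ofNat 14, 8), (.ofNat 423, 10), (.ofNat
  22, 11), (.ofNat 220, 16), (.ofNat 22, 18), (.ofNat 98, 23), (.ofNat 140, 24), (.ofNat 86, 25), (.ofNat 215, 26),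
  (.ofNat 43, 27), (.negSucc 148, 28), (.ofNat 161, 29), (.ofNat 272, 30), (.negSucc 6, 31), (.ofNat 130, 32),
  (.ofNat 89, 33), (.ofNat 14, 34), (.negSucc 129, 35), (.ofNat 125, 36), (.ofNat 171, 37), (.ofNat 244, 38), (.ofNat
  230, 39), (.ofNat 235, 40), (.ofNat 395, 41), (.ofNat 181, 42), (.ofNat 501, 43), (.ofNat 415, 44), (.ofNat 729,
  45), (.ofNat 470, 46), (.ofNat 486, 47), (.ofNat 462, 48), (.ofNat 544, 49), (.ofNat 308, 50), (.ofNat 508, 51),
  (.ofNat 30, 53), (.ofNat 54, 54), (.ofNat 47, 55), (.negSucc 390, 5)]) (.bm 6 0 (.far (.negSucc 462) [(.ofNat 312,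
  1), (.negSucc 1, 4), (.ofNat 357, 5), (.negSucc 82, 10), (.ofNat 103, 13), (.ofNat 51, 15), (.ofNat 48, 16),
  (.ofNat 30, 19), (.ofNat 97, 21), (.ofNat 78, 22), (.negSucc 79, 24), (.ofNat 78, 25), (.ofNat 46, 26), (.ofNat
  150, 27), (.ofNat 107, 28), (.ofNat 129, 29), (.ofNat 147, 30), (.ofNat 250, 31), (.ofNat 159, 32), (.ofNat 115,
  33), (.ofNat 132, 34), (.ofNat 285, 35), (.ofNat 206, 36), (.ofNat 237, 37), (.ofNat 237, 38), (.ofNat 237, 39),
  (.ofNat 249, 40), (.ofNat 345, 41), (.ofNat 479, 42), (.ofNat 552, 43), (.ofNat 532, 44), (.ofNat 430, 45), (.ofNat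
  729, 46), (.ofNat 631, 47), (.ofNat 642, 48), (.ofNat 563, 49), (.ofNat 581, 50), (.ofNat 709, 51), (.negSucc 51,
  53), (.ofNat 110, 54), (.ofNat 160, 55), (.negSucc 250, 6)]) (.bm 8 0 (.bm 52 0 (.bm 11 1 (.bm 11 0 (.far (.ofNat
  390) [(.ofNat 841, 1), (.ofNat 207, 2), (.ofNat 374, 5), (.ofNat 240, 6), (.negSucc 791, 7), (.negSucc 301, 8),
  (.negSucc 716, 10), (.ofNat 269, 17), (.ofNat 350, 18), (.ofNat 55, 22), (.ofNat 293, 24), (.negSucc 93, 25),
  (.ofNat 159, 26), (.ofNat 1176, 27), (.ofNat 88, 28), (.ofNat 279, 29), (.ofNat 494, 30), (.ofNat 479, 31), (.ofNat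
  289, 32), (.negSucc 35, 33), (.ofNat 769, 34), (.ofNat 1065, 35), (.ofNat 458, 36), (.ofNat 515, 37), (.ofNat 335,
  38), (.ofNat 335, 39), (.ofNat 381, 40), (.ofNat 92, 41), (.ofNat 706, 42), (.ofNat 996, 43), (.ofNat 1358, 44),
  (.ofNat 1108, 46), (.ofNat 1192, 47), (.ofNat 1404, 48), (.ofNat 1121, 49), (.ofNat 1782, 50), (.ofNat 2187, 51),
  (.negSucc 284, 52), (.negSucc 342, 53), (.ofNat 683, 54), (.ofNat 39, 55), (.negSucc 461, 11)]) (.bm 12 0 (.bf 13 5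
  (.bf 13 0 (.far (.negSucc 4884) [(.ofNat 671, 1), (.ofNat 3891, 2), (.ofNat 124, 5), (.negSucc 23, 6), (.negSucc
  1113, 7), (.ofNat 1640, 8), (.ofNat 298, 10), (.ofNat 1411, 11), (.negSucc 3470, 12), (.ofNat 1493, 19), (.ofNat
  605, 22), (.ofNat 1335, 23), (.negSucc 473, 24), (.ofNat 96, 25), (.ofNat 863, 26), (.ofNat 3526, 27), (.ofNat
  4202, 28), (.negSucc 80, 29), (.ofNat 1735, 30), (.ofNat 2784, 31), (.ofNat 1476, 32), (.ofNat 72, 33), (.ofNat
  1997, 34), (.ofNat 2265, 35), (.ofNat 1546, 36), (.ofNat 1642, 37), (.ofNat 2513, 38), (.ofNat 2513, 39), (.ofNat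
  2617, 40), (.ofNat 2189, 41), (.ofNat 5563, 42), (.ofNat 6322, 43), (.ofNat 5100, 44), (.ofNat 5156, 45), (.ofNat
  4045, 46), (.ofNat 5446, 47), (.ofNat 6561, 48), (.ofNat 5444, 49), (.ofNat 1607, 50), (.ofNat 6188, 51), (.negSucc
  1000, 52), (.negSucc 4106, 53), (.ofNat 1949, 55)]) (.bf 14 40 (.bf 14 35 (.far (.negSucc 1999) [(.ofNat 749, 1),
  (.ofNat 1734, 2), (.ofNat 1556, 5), (.ofNat 1445, 6), (.negSucc 270, 7), (.negSucc 766, 8), (.negSucc 133, 10),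
  (.ofNat 263, 11), (.ofNat 11, 12), (.ofNat 709, 13), (.ofNat 757, 18), (.ofNat 231, 19), (.ofNat 158, 22), (.ofNat
  1046, 24), (.ofNat 273, 25), (.ofNat 1266, 26), (.ofNat 1495, 27), (.negSucc 272, 28), (.ofNat 168, 29), (.ofNat
  126, 30), (.ofNat 1997, 31), (.ofNat 1088, 32), (.ofNat 1466, 33), (.ofNat 1997, 34), (.ofNat 2541, 35), (.ofNat
  2754, 36), (.ofNat 1340, 37), (.ofNat 1235, 38), (.ofNat 1361, 39), (.ofNat 2459, 40), (.ofNat 3287, 41), (.ofNat
  3873, 42), (.ofNat 5013, 43), (.ofNat 4971, 44), (.ofNat 4711, 45), (.ofNat 5649, 46), (.ofNat 4929, 47), (.ofNat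
  5754, 48), (.ofNat 5055, 49), (.ofNat 6175, 50), (.ofNat 6561, 51), (.ofNat 523, 52), (.ofNat 610, 53)]) (.bf 4 78
  (.bf 5 327 (.bf 2 2368 (.bm 3 1 (.far (.negSucc 6) [(.ofNat 7, 1), (.negSucc 80, 3), (.negSucc 47, 5), (.negSucc
  35, 6), (.negSucc 22, 7), (.ofNat 40, 11), (.negSucc 13, 12), (.ofNat 25, 18), (.ofNat 30, 19), (.ofNat 11, 22),
  (.negSucc 1, 24), (.ofNat 32, 25), (.ofNat 16, 26), (.ofNat 22, 27), (.ofNat 10, 29), (.ofNat 14, 30), (.ofNat 30,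
  31), (.negSucc 23, 32), (.negSucc 29, 33), (.ofNat 21, 35), (.negSucc 4, 36), (.ofNat 14, 37), (.negSucc 7, 38),
  (.ofNat 12, 39), (.negSucc 5, 40), (.negSucc 39, 41), (.ofNat 38, 42), (.ofNat 37, 43), (.ofNat 19, 44), (.negSucc
  80, 45), (.negSucc 14, 46), (.negSucc 1, 47), (.ofNat 34, 48), (.ofNat 9, 49), (.negSucc 49, 50), (.ofNat 66, 51),
  (.negSucc 41, 52), (.negSucc 35, 53), (.ofNat 12, 55)]) (.far (.negSucc 515) [(.ofNat 278, 1), (.ofNat 8, 2),
  (.ofNat 360, 4), (.ofNat 36, 5), (.ofNat 236, 6), (.negSucc 175, 7), (.negSucc 349, 8), (.negSucc 105, 10), (.ofNat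
  70, 11), (.negSucc 246, 12), (.ofNat 5, 13), (.ofNat 448, 18), (.ofNat 247, 19), (.ofNat 339, 21), (.ofNat 165,
  22), (.ofNat 31, 24), (.negSucc 96, 25), (.negSucc 2, 26), (.ofNat 40, 27), (.ofNat 77, 28), (.ofNat 234, 29),
  (.ofNat 337, 30), (.ofNat 325, 31), (.ofNat 504, 32), (.ofNat 518, 33), (.ofNat 325, 34), (.ofNat 71, 35), (.ofNat
  793, 36), (.ofNat 352, 37), (.ofNat 639, 38), (.ofNat 679, 39), (.ofNat 916, 40), (.ofNat 1047, 41), (.ofNat 868,
  42), (.ofNat 1327, 43), (.ofNat 1173, 44), (.ofNat 1493, 45), (.ofNat 1739, 46), (.ofNat 1477, 47), (.ofNat 1271,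
  48), (.ofNat 1152, 49), (.ofNat 2187, 50), (.ofNat 1249, 51), (.ofNat 82, 52), (.ofNat 12, 53), (.ofNat 660, 3)]))
  (.far (.negSucc 7344) [(.negSucc 280, 1), (.ofNat 3690, 2), (.ofNat 1546, 4), (.negSucc 4005, 5), (.negSucc 3548,
  6), (.negSucc 456, 8), (.ofNat 1371, 10), (.ofNat 1371, 11), (.ofNat 2460, 12), (.ofNat 16306, 18), (.ofNat 9980,
  19), (.negSucc 3373, 24), (.ofNat 27199, 25), (.negSucc 1088, 26), (.ofNat 28254, 27), (.ofNat 25653, 28), (.ofNat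
  1371, 29), (.negSucc 1088, 30), (.ofNat 24739, 31), (.ofNat 23650, 33), (.ofNat 23650, 34), (.ofNat 23791, 35),
  (.ofNat 30081, 36), (.ofNat 21471, 37), (.ofNat 47300, 38), (.ofNat 47300, 39), (.ofNat 49760, 40), (.ofNat 117547,
  41), (.ofNat 54645, 42), (.ofNat 131217, 43), (.ofNat 102120, 44), (.ofNat 117758, 45), (.ofNat 115369, 46),
  (.ofNat 153778, 47), (.ofNat 152408, 48), (.ofNat 119340, 49), (.ofNat 124154, 50), (.ofNat 177147, 51), (.negSucc
  4304, 52), (.negSucc 315, 53), (.ofNat 13670, 54), (.ofNat 15814, 55)])) (.far (.ofNat 23969) [(.ofNat 28017, 1),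
  (.ofNat 17, 2), (.ofNat 271, 4), (.negSucc 2540, 5), (.negSucc 3742, 6), (.negSucc 27067, 7), (.negSucc 3082, 8),
  (.negSucc 26407, 10), (.ofNat 627, 11), (.negSucc 2184, 12), (.ofNat 6792, 18), (.ofNat 4946, 19), (.ofNat 4286,
  22), (.ofNat 288, 24), (.ofNat 4929, 25), (.ofNat 2744, 26), (.ofNat 25815, 27), (.ofNat 305, 28), (.ofNat 4912,
  29), (.ofNat 2744, 30), (.ofNat 2761, 31), (.ofNat 4252, 32), (.ofNat 1186, 33), (.ofNat 14483, 34), (.ofNat 37825,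
  35), (.ofNat 15719, 36), (.ofNat 11434, 37), (.ofNat 11417, 38), (.ofNat 11417, 39), (.ofNat 13551, 40), (.negSucc
  10772, 41), (.ofNat 18768, 42), (.ofNat 25510, 43), (.ofNat 29897, 44), (.ofNat 35030, 46), (.ofNat 29846, 47),
  (.ofNat 33539, 48), (.ofNat 29812, 49), (.ofNat 39010, 50), (.ofNat 59049, 51), (.negSucc 2159, 52), (.negSucc
  1405, 53), (.ofNat 25510, 54), (.ofNat 1355, 55)])) (.far (.negSucc 230985) [(.ofNat 138939, 1), (.ofNat 161516,
  4), (.negSucc 138938, 5), (.negSucc 208407, 6), (.negSucc 230985, 7), (.negSucc 245747, 8), (.negSucc 124176, 10),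
  (.ofNat 106809, 11), (.negSucc 193645, 12), (.ofNat 526231, 18), (.ofNat 422027, 19), (.ofNat 315217, 22), (.ofNat
  17367, 24), (.ofNat 349952, 25), (.ofNat 228381, 26), (.ofNat 89442, 27), (.ofNat 89442, 28), (.ofNat 422027, 29),
  (.ofNat 300455, 30), (.ofNat 300455, 31), (.ofNat 387292, 32), (.ofNat 141544, 33), (.ofNat 330414, 34), (.ofNat
  136768, 35), (.ofNat 471958, 36), (.ofNat 84666, 37), (.ofNat 156740, 38), (.ofNat 156740, 39), (.ofNat 350386,
  40), (.ofNat 419856, 41), (.ofNat 789780, 42), (.ofNat 1316011, 43), (.ofNat 785004, 44), (.ofNat 766769, 45),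
  (.ofNat 1296473, 46), (.ofNat 857079, 47), (.ofNat 1137562, 48), (.ofNat 857079, 49), (.ofNat 1594323, 50), (.ofNat
  1137562, 51), (.negSucc 193645, 52), (.negSucc 150227, 53), (.ofNat 150228, 55)]))) (.far (.negSucc 116) [(.ofNat
  60, 1), (.ofNat 26, 2), (.ofNat 61, 4), (.negSucc 111, 5), (.negSucc 63, 6), (.negSucc 142, 7), (.negSucc 56, 8),
  (.negSucc 16, 10), (.ofNat 74, 11), (.negSucc 98, 12), (.ofNat 128, 18), (.ofNat 135, 19), (.ofNat 9, 22),
  (.negSucc 31, 24), (.ofNat 50, 25), (.ofNat 10, 26), (.ofNat 54, 27), (.ofNat 54, 28), (.ofNat 83, 29), (.ofNat 69,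
  30), (.ofNat 95, 31), (.ofNat 16, 32), (.negSucc 14, 33), (.ofNat 66, 34), (.negSucc 6, 35), (.ofNat 129, 36),
  (.ofNat 61, 37), (.ofNat 94, 38), (.ofNat 94, 39), (.ofNat 115, 40), (.ofNat 41, 41), (.ofNat 193, 42), (.ofNat
  243, 43), (.ofNat 200, 44), (.ofNat 35, 45), (.ofNat 207, 46), (.ofNat 181, 47), (.ofNat 227, 48), (.ofNat 129,
  49), (.ofNat 221, 50), (.ofNat 227, 51), (.negSucc 59, 52), (.negSucc 86, 53), (.ofNat 9, 55)]))) (.far (.negSucc
  1525) [(.ofNat 50, 1), (.ofNat 968, 2), (.ofNat 113, 4), (.ofNat 111, 5), (.negSucc 46, 6), (.negSucc 5, 7),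
  (.negSucc 551, 8), (.ofNat 230, 10), (.ofNat 236, 11), (.negSucc 733, 12), (.ofNat 10, 13), (.ofNat 2020, 18),
  (.ofNat 722, 19), (.ofNat 756, 21), (.ofNat 485, 22), (.ofNat 1330, 24), (.ofNat 473, 25), (.ofNat 946, 26),
  (.ofNat 353, 27), (.negSucc 349, 28), (.ofNat 722, 29), (.ofNat 970, 30), (.ofNat 1204, 31), (.ofNat 958, 32),
  (.ofNat 1182, 33), (.ofNat 1555, 34), (.ofNat 2034, 35), (.ofNat 2728, 36), (.ofNat 1555, 37), (.ofNat 1804, 38),
  (.ofNat 1804, 39), (.ofNat 2028, 40), (.ofNat 3216, 41), (.ofNat 3324, 42), (.ofNat 5139, 43), (.ofNat 5014, 44),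
  (.ofNat 4328, 45), (.ofNat 5263, 46), (.ofNat 5263, 47), (.ofNat 5985, 48), (.ofNat 4507, 49), (.ofNat 6561, 50),
  (.ofNat 5730, 51), (.negSucc 254, 52), (.ofNat 10, 53)])) (.far (.negSucc 651) [(.ofNat 449, 1), (.ofNat 751, 2),
  (.ofNat 633, 5), (.ofNat 514, 6), (.negSucc 366, 7), (.negSucc 675, 8), (.negSucc 932, 10), (.ofNat 475, 11),
  (.ofNat 117, 16), (.ofNat 158, 19), (.ofNat 44, 24), (.ofNat 284, 25), (.negSucc 81, 26), (.ofNat 723, 27), (.ofNat
  309, 28), (.ofNat 296, 29), (.ofNat 357, 30), (.ofNat 771, 31), (.ofNat 670, 32), (.negSucc 42, 33), (.ofNat 688,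
  34), (.ofNat 685, 35), (.ofNat 438, 36), (.ofNat 488, 37), (.ofNat 679, 38), (.ofNat 679, 39), (.ofNat 1288, 40),
  (.ofNat 830, 41), (.ofNat 1453, 42), (.ofNat 1555, 43), (.ofNat 1308, 44), (.ofNat 740, 45), (.ofNat 2171, 46),
  (.ofNat 1601, 47), (.ofNat 1772, 48), (.ofNat 1808, 49), (.ofNat 2187, 50), (.ofNat 2186, 51), (.ofNat 212, 52),
  (.ofNat 307, 53), (.ofNat 75, 55), (.ofNat 320, 12)]))) (.far (.ofNat 56) [(.ofNat 103, 1), (.ofNat 16, 2),
  (.negSucc 24, 5), (.negSucc 8, 6), (.negSucc 115, 7), (.negSucc 8, 8), (.negSucc 105, 10), (.ofNat 3, 13), (.ofNat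
  13, 18), (.ofNat 30, 19), (.ofNat 12, 21), (.ofNat 7, 22), (.ofNat 17, 24), (.ofNat 40, 25), (.ofNat 33, 26),
  (.ofNat 128, 27), (.ofNat 11, 28), (.ofNat 17, 29), (.ofNat 15, 30), (.ofNat 33, 31), (.ofNat 14, 32), (.ofNat 28,
  33), (.ofNat 33, 34), (.ofNat 145, 35), (.ofNat 37, 36), (.ofNat 31, 37), (.ofNat 33, 38), (.ofNat 33, 39), (.ofNat
  48, 40), (.negSucc 50, 41), (.ofNat 81, 42), (.ofNat 115, 43), (.ofNat 112, 44), (.ofNat 97, 46), (.ofNat 106, 47),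
  (.ofNat 116, 48), (.ofNat 110, 49), (.ofNat 87, 50), (.ofNat 243, 51), (.negSucc 5, 52), (.ofNat 5, 53), (.ofNat
  112, 54), (.ofNat 6, 55), (.ofNat 40, 11)])) (.far (.ofNat 902) [(.ofNat 3219, 1), (.ofNat 1153, 2), (.ofNat 306,
  5), (.ofNat 521, 6), (.negSucc 3290, 7), (.negSucc 445, 8), (.negSucc 3135, 10), (.ofNat 147, 17), (.ofNat 432,
  18), (.ofNat 297, 19), (.ofNat 790, 20), (.ofNat 387, 24), (.negSucc 120, 25), (.ofNat 640, 26), (.ofNat 3544, 27),
  (.ofNat 880, 28), (.ofNat 986, 29), (.negSucc 16, 30), (.ofNat 1342, 31), (.ofNat 510, 32), (.ofNat 998, 33),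
  (.ofNat 876, 34), (.ofNat 3828, 35), (.ofNat 1417, 36), (.ofNat 505, 37), (.negSucc 341, 38), (.ofNat 781, 39),
  (.ofNat 1257, 40), (.negSucc 808, 41), (.ofNat 2565, 42), (.ofNat 2332, 43), (.ofNat 2820, 44), (.ofNat 3053, 46),
  (.ofNat 3295, 47), (.ofNat 2967, 48), (.ofNat 3603, 49), (.ofNat 3413, 50), (.ofNat 6561, 51), (.ofNat 229, 53),
  (.ofNat 2867, 54), (.ofNat 1296, 52)])) (.far (.negSucc 282) [(.ofNat 105, 1), (.ofNat 9, 2), (.ofNat 178, 5),
  (.ofNat 12, 6), (.negSucc 69, 7), (.negSucc 81, 10), (.ofNat 35, 13), (.ofNat 34, 16), (.ofNat 51, 22), (.ofNat 37,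
  24), (.ofNat 44, 25), (.ofNat 113, 26), (.ofNat 85, 27), (.negSucc 84, 28), (.ofNat 55, 29), (.ofNat 97, 30),
  (.ofNat 15, 31), (.ofNat 122, 32), (.ofNat 143, 33), (.ofNat 114, 34), (.ofNat 342, 35), (.ofNat 228, 36), (.ofNat
  168, 37), (.ofNat 174, 38), (.ofNat 174, 39), (.ofNat 203, 40), (.ofNat 236, 41), (.ofNat 257, 42), (.ofNat 478,
  43), (.ofNat 482, 44), (.ofNat 729, 46), (.ofNat 537, 47), (.ofNat 566, 48), (.ofNat 709, 49), (.ofNat 676, 50),
  (.ofNat 714, 51), (.ofNat 25, 52), (.ofNat 90, 53), (.ofNat 159, 54), (.ofNat 112, 55), (.ofNat 163, 8)]))))))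
  (.far (.negSucc 3462) [(.negSucc 1092, 6), (.negSucc 1275, 7), (.negSucc 4191, 10), (.ofNat 1185, 17), (.ofNat
  2551, 18), (.ofNat 2369, 19), (.ofNat 1367, 20), (.ofNat 1640, 22), (.ofNat 364, 24), (.negSucc 1457, 25),
  (.negSucc 910, 26), (.ofNat 547, 27), (.ofNat 4739, 28), (.ofNat 5741, 29), (.ofNat 4556, 30), (.ofNat 2825, 31),
  (.ofNat 1093, 32), (.negSucc 181, 33), (.ofNat 4693, 34), (.ofNat 2779, 35), (.ofNat 4237, 36), (.ofNat 2324, 37),
  (.ofNat 1412, 38), (.ofNat 5057, 39), (.ofNat 8794, 40), (.ofNat 9067, 41), (.ofNat 12803, 42), (.ofNat 10707, 43),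
  (.ofNat 12211, 44), (.ofNat 319, 45), (.ofNat 18225, 46), (.ofNat 14853, 47), (.ofNat 15036, 48), (.ofNat 16220,
  49), (.ofNat 19683, 50), (.ofNat 13486, 51), (.negSucc 3188, 53), (.ofNat 2369, 55)]))) (.far (.negSucc 175)
  [(.negSucc 12, 1), (.negSucc 11, 5), (.negSucc 11, 6), (.ofNat 64, 16), (.ofNat 8, 18), (.ofNat 12, 19), (.ofNat 6,
  22), (.ofNat 33, 23), (.ofNat 33, 24), (.ofNat 25, 25), (.ofNat 48, 26), (.ofNat 29, 27), (.ofNat 4, 28), (.ofNat
  44, 29), (.ofNat 64, 30), (.ofNat 76, 31), (.ofNat 55, 32), (.ofNat 36, 33), (.ofNat 48, 34), (.ofNat 14, 35),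
  (.ofNat 90, 36), (.ofNat 90, 37), (.ofNat 71, 38), (.ofNat 71, 39), (.ofNat 100, 40), (.ofNat 173, 41), (.ofNat
  142, 42), (.ofNat 204, 43), (.ofNat 188, 44), (.ofNat 243, 45), (.ofNat 206, 46), (.ofNat 200, 47), (.ofNat 229,
  48), (.ofNat 218, 49), (.ofNat 190, 50), (.ofNat 231, 51), (.negSucc 23, 53), (.ofNat 19, 55), (.ofNat 88, 10)]))
  (.far (.negSucc 361) [(.ofNat 78, 2), (.ofNat 94, 16), (.ofNat 7, 18), (.ofNat 18, 19), (.ofNat 54, 22), (.ofNat
  142, 24), (.ofNat 44, 25), (.ofNat 105, 26), (.ofNat 112, 27), (.ofNat 153, 28), (.ofNat 123, 29), (.ofNat 150,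
  30), (.ofNat 207, 31), (.ofNat 90, 32), (.ofNat 143, 33), (.ofNat 71, 34), (.ofNat 203, 35), (.ofNat 173, 36),
  (.ofNat 191, 37), (.ofNat 178, 38), (.ofNat 171, 39), (.ofNat 327, 40), (.ofNat 357, 41), (.ofNat 430, 42), (.ofNat
  561, 43), (.ofNat 458, 44), (.ofNat 552, 45), (.ofNat 572, 46), (.ofNat 526, 47), (.ofNat 461, 48), (.ofNat 665,
  49), (.ofNat 546, 50), (.ofNat 729, 51), (.ofNat 105, 52), (.ofNat 114, 54), (.ofNat 41, 55), (.ofNat 278, 53)]))
  (.far (.negSucc 242) [(.negSucc 127, 1), (.negSucc 16, 4), (.ofNat 12, 15), (.ofNat 3, 17), (.ofNat 10, 19),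
  (.ofNat 24, 23), (.ofNat 47, 24), (.negSucc 34, 25), (.negSucc 13, 26), (.negSucc 85, 27), (.ofNat 2, 28), (.ofNat
  32, 29), (.negSucc 4, 30), (.negSucc 13, 31), (.ofNat 5, 32), (.negSucc 45, 33), (.ofNat 76, 34), (.negSucc 45,
  35), (.negSucc 68, 36), (.ofNat 55, 37), (.ofNat 9, 38), (.ofNat 9, 39), (.ofNat 162, 40), (.ofNat 200, 41),
  (.ofNat 96, 42), (.ofNat 86, 43), (.ofNat 99, 44), (.ofNat 85, 45), (.ofNat 151, 46), (.ofNat 53, 47), (.ofNat 98,
  48), (.ofNat 133, 49), (.ofNat 135, 50), (.ofNat 17, 51), (.ofNat 7, 53), (.ofNat 38, 55), (.ofNat 227, 7)])) (.far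
  (.negSucc 163) [(.ofNat 4, 2), (.ofNat 13, 4), (.ofNat 12, 8), (.ofNat 42, 12), (.ofNat 52, 17), (.ofNat 25, 19),
  (.ofNat 133, 20), (.ofNat 63, 24), (.ofNat 43, 25), (.ofNat 28, 26), (.ofNat 99, 27), (.ofNat 144, 28), (.ofNat
  125, 29), (.ofNat 144, 30), (.ofNat 208, 31), (.ofNat 149, 32), (.ofNat 111, 33), (.ofNat 232, 34), (.ofNat 185,
  35), (.ofNat 214, 36), (.ofNat 199, 37), (.ofNat 143, 38), (.ofNat 190, 39), (.ofNat 367, 40), (.ofNat 391, 41),
  (.ofNat 424, 42), (.ofNat 594, 43), (.ofNat 546, 44), (.ofNat 406, 45), (.ofNat 719, 46), (.ofNat 558, 47), (.ofNat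
  623, 48), (.ofNat 710, 49), (.ofNat 683, 50), (.ofNat 729, 51), (.ofNat 49, 55), (.ofNat 232, 6)])) (.far (.negSucc
  239) [(.negSucc 33, 3), (.ofNat 34, 8), (.ofNat 23, 13), (.ofNat 44, 16), (.ofNat 11, 17), (.ofNat 20, 19), (.ofNat
  58, 22), (.ofNat 27, 24), (.ofNat 64, 25), (.ofNat 121, 26), (.ofNat 151, 27), (.ofNat 71, 28), (.ofNat 81, 29),
  (.ofNat 121, 30), (.ofNat 162, 31), (.ofNat 135, 32), (.ofNat 145, 33), (.ofNat 156, 34), (.ofNat 293, 35), (.ofNat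
  274, 36), (.ofNat 203, 37), (.ofNat 196, 38), (.ofNat 196, 39), (.ofNat 233, 40), (.ofNat 366, 41), (.ofNat 467,
  42), (.ofNat 557, 43), (.ofNat 557, 44), (.ofNat 334, 45), (.ofNat 680, 46), (.ofNat 612, 47), (.ofNat 673, 48),
  (.ofNat 655, 49), (.ofNat 633, 50), (.ofNat 729, 51), (.ofNat 5, 52), (.ofNat 71, 54), (.ofNat 135, 55), (.ofNat
  193, 5)])) (.far (.negSucc 170) [(.negSucc 105, 1), (.ofNat 15, 15), (.ofNat 29, 16), (.ofNat 12, 19), (.ofNat 38,
  21), (.ofNat 88, 22), (.ofNat 19, 23), (.ofNat 86, 24), (.ofNat 124, 25), (.ofNat 156, 26), (.ofNat 88, 27),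
  (.ofNat 26, 28), (.ofNat 109, 29), (.ofNat 73, 30), (.ofNat 86, 31), (.ofNat 149, 32), (.ofNat 162, 33), (.ofNat
  133, 34), (.ofNat 281, 35), (.ofNat 225, 36), (.ofNat 210, 37), (.ofNat 179, 38), (.ofNat 206, 39), (.ofNat 242,
  40), (.ofNat 344, 41), (.ofNat 347, 42), (.ofNat 530, 43), (.ofNat 544, 44), (.ofNat 338, 45), (.ofNat 661, 46),
  (.ofNat 612, 47), (.ofNat 573, 48), (.ofNat 621, 49), (.ofNat 683, 50), (.ofNat 729, 51), (.ofNat 47, 52), (.ofNat
  95, 53), (.ofNat 145, 54), (.ofNat 77, 55), (.ofNat 106, 4)]))) (.far (.negSucc 455) [(.negSucc 6, 2), (.ofNat 32,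
  13), (.ofNat 75, 15), (.ofNat 65, 16), (.ofNat 108, 19), (.ofNat 79, 20), (.ofNat 46, 24), (.ofNat 141, 25),
  (.negSucc 6, 26), (.ofNat 148, 27), (.ofNat 120, 28), (.ofNat 243, 29), (.ofNat 149, 30), (.ofNat 265, 31), (.ofNat
  141, 32), (.ofNat 110, 33), (.ofNat 128, 34), (.ofNat 84, 35), (.ofNat 222, 36), (.ofNat 333, 37), (.ofNat 189,
  38), (.ofNat 212, 39), (.ofNat 374, 40), (.ofNat 413, 41), (.ofNat 419, 42), (.ofNat 648, 43), (.ofNat 609, 44),
  (.ofNat 638, 45), (.ofNat 729, 46), (.ofNat 588, 47), (.ofNat 587, 48), (.ofNat 635, 49), (.ofNat 649, 50), (.ofNat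
  720, 51), (.ofNat 146, 54), (.ofNat 69, 55), (.ofNat 207, 3)]))) (.far (.negSucc 728) [(.ofNat 26, 20), (.ofNat 34,
  22), (.ofNat 119, 23), (.negSucc 109, 24), (.ofNat 38, 25), (.negSucc 18, 26), (.negSucc 91, 27), (.negSucc 198,
  28), (.negSucc 26, 29), (.negSucc 82, 30), (.negSucc 366, 31), (.negSucc 22, 32), (.negSucc 162, 33), (.negSucc 76,
  34), (.negSucc 130, 35), (.negSucc 282, 36), (.negSucc 82, 37), (.negSucc 130, 38), (.negSucc 48, 39), (.negSucc 7,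
  40), (.negSucc 157, 41), (.negSucc 289, 42), (.negSucc 263, 43), (.negSucc 213, 44), (.negSucc 422, 45), (.negSucc
  242, 46), (.negSucc 232, 47), (.negSucc 339, 48), (.negSucc 99, 49), (.negSucc 253, 50), (.negSucc 325, 51),
  (.ofNat 139, 53), (.ofNat 54, 54), (.ofNat 303, 2)])) (.far (.negSucc 208) [(.ofNat 30, 15), (.ofNat 20, 18),
  (.ofNat 26, 21), (.ofNat 9, 22), (.ofNat 16, 23), (.ofNat 35, 24), (.ofNat 63, 25), (.negSucc 117, 26), (.ofNat 54,
  27), (.ofNat 108, 28), (.ofNat 39, 29), (.ofNat 98, 30), (.ofNat 58, 31), (.ofNat 35, 32), (.ofNat 60, 33),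
  (.negSucc 88, 34), (.ofNat 101, 35), (.ofNat 57, 36), (.ofNat 93, 37), (.ofNat 75, 38), (.ofNat 75, 39), (.ofNat
  88, 40), (.ofNat 81, 41), (.ofNat 118, 42), (.ofNat 200, 43), (.ofNat 176, 44), (.ofNat 243, 45), (.ofNat 182, 46),
  (.ofNat 186, 47), (.ofNat 123, 48), (.ofNat 225, 49), (.ofNat 242, 50), (.ofNat 164, 51), (.ofNat 34, 52), (.ofNat
  102, 53), (.ofNat 120, 54), (.ofNat 27, 55), (.ofNat 197, 1)])) (.far (.negSucc 7942) [(.ofNat 2985, 12), (.ofNat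
  892, 13), (.ofNat 715, 15), (.ofNat 4529, 16), (.ofNat 1987, 18), (.ofNat 3521, 19), (.ofNat 4171, 21), (.ofNat
  4878, 22), (.ofNat 1390, 23), (.ofNat 3929, 24), (.ofNat 3887, 25), (.ofNat 10814, 26), (.ofNat 5267, 27), (.ofNat
  12471, 28), (.ofNat 3934, 29), (.ofNat 11034, 30), (.ofNat 9271, 31), (.ofNat 13934, 32), (.ofNat 22540, 33),
  (.ofNat 7867, 34), (.ofNat 9908, 35), (.ofNat 11375, 36), (.ofNat 23070, 37), (.ofNat 9317, 38), (.ofNat 21869,
  39), (.ofNat 23756, 40), (.ofNat 27753, 41), (.ofNat 34390, 42), (.ofNat 47882, 43), (.ofNat 50932, 44), (.ofNat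
  49508, 45), (.ofNat 52189, 46), (.ofNat 47511, 47), (.ofNat 59049, 48), (.ofNat 52289, 49), (.ofNat 52484, 50),
  (.ofNat 58104, 51), (.ofNat 2520, 52), (.ofNat 5069, 53), (.ofNat 3607, 54), (.ofNat 5253, 55)])) (.far (.negSucc
  13242) [(.ofNat 2986, 4), (.ofNat 3362, 12), (.ofNat 4207, 17), (.ofNat 14744, 18), (.ofNat 12925, 19), (.ofNat
  11151, 20), (.ofNat 7929, 22), (.ofNat 5251, 23), (.negSucc 1312, 24), (.ofNat 23658, 25), (.ofNat 4073, 26),
  (.ofNat 21799, 27), (.ofNat 35443, 28), (.ofNat 13998, 29), (.ofNat 8974, 30), (.ofNat 29490, 31), (.ofNat 14668,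
  32), (.ofNat 26435, 33), (.ofNat 33963, 34), (.ofNat 27509, 35), (.ofNat 37899, 36), (.ofNat 28932, 37), (.ofNat
  46907, 38), (.ofNat 48769, 39), (.ofNat 58670, 40), (.ofNat 119219, 41), (.ofNat 78004, 42), (.ofNat 140406, 43),
  (.ofNat 117176, 44), (.ofNat 123073, 45), (.ofNat 142939, 46), (.ofNat 160964, 47), (.ofNat 163296, 48), (.ofNat
  148159, 49), (.ofNat 155194, 50), (.ofNat 177147, 51), (.ofNat 5332, 54), (.ofNat 19981, 55)])) (.far (.negSucc
  85444) [(.ofNat 11288, 12), (.ofNat 30426, 13), (.ofNat 94087, 15), (.ofNat 24642, 16), (.ofNat 4945, 17), (.ofNat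
  47855, 18), (.ofNat 210732, 19), (.ofNat 6817, 20), (.ofNat 237402, 21), (.negSucc 7836, 24), (.ofNat 69469, 25),
  (.ofNat 318172, 26), (.ofNat 264582, 27), (.ofNat 205252, 28), (.ofNat 99032, 29), (.ofNat 491914, 30), (.ofNat
  461540, 31), (.ofNat 308900, 32), (.ofNat 90817, 33), (.ofNat 461837, 34), (.ofNat 265073, 35), (.ofNat 245718,
  36), (.ofNat 368586, 37), (.ofNat 442137, 38), (.ofNat 442137, 39), (.ofNat 264068, 40), (.ofNat 923556, 41),
  (.ofNat 769142, 42), (.ofNat 1129806, 43), (.ofNat 1594323, 44), (.ofNat 1174902, 45), (.ofNat 1063087, 46),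
  (.ofNat 1204862, 47), (.ofNat 1010560, 48), (.ofNat 1384676, 49), (.ofNat 1578862, 50), (.ofNat 1493472, 51),
  (.ofNat 31031, 54), (.ofNat 267762, 55)])) (.far (.negSucc 25) [(.ofNat 26, 16), (.ofNat 13, 17), (.ofNat 26, 18),
  (.ofNat 52, 19), (.ofNat 65, 20), (.ofNat 78, 22), (.ofNat 52, 23), (.ofNat 26, 24), (.ofNat 78, 25), (.ofNat 78,
  26), (.ofNat 52, 27), (.ofNat 104, 28), (.ofNat 91, 29), (.ofNat 78, 30), (.ofNat 91, 31), (.ofNat 130, 32),
  (.ofNat 78, 33), (.ofNat 254, 34), (.ofNat 241, 35), (.ofNat 241, 36), (.ofNat 228, 37), (.ofNat 228, 38), (.ofNat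
  228, 39), (.ofNat 293, 40), (.ofNat 384, 41), (.ofNat 423, 42), (.ofNat 540, 43), (.ofNat 599, 44), (.ofNat 566,
  45), (.ofNat 703, 46), (.ofNat 638, 47), (.ofNat 690, 48), (.ofNat 729, 49), (.ofNat 729, 50), (.ofNat 703, 51),
  (.ofNat 78, 55)])) (.far (.negSucc 18979) [(.ofNat 17398, 16), (.ofNat 1582, 17), (.ofNat 18980, 18), (.ofNat
  20562, 19), (.ofNat 6327, 20), (.ofNat 37960, 22), (.ofNat 20562, 23), (.ofNat 17398, 24), (.ofNat 37960, 25),
  (.ofNat 37960, 26), (.ofNat 18980, 27), (.ofNat 9490, 28), (.ofNat 39542, 29), (.ofNat 37960, 30), (.ofNat 23725,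
  31), (.ofNat 58522, 32), (.ofNat 37960, 33), (.ofNat 23725, 34), (.ofNat 36378, 35), (.ofNat 37960, 36), (.ofNat
  20562, 37), (.ofNat 20562, 38), (.ofNat 20562, 39), (.ofNat 42705, 40), (.ofNat 82247, 41), (.ofNat 85410, 42),
  (.ofNat 158167, 43), (.ofNat 101227, 44), (.ofNat 158167, 45), (.ofNat 158167, 46), (.ofNat 120207, 47), (.ofNat
  140769, 48), (.ofNat 159749, 49), (.ofNat 177147, 50), (.ofNat 156585, 51), (.ofNat 7908, 53), (.ofNat 14235, 54),
  (.ofNat 30052, 55)]))) (.far (.negSucc 6244) [(.ofNat 3377, 17), (.ofNat 3164, 18), (.ofNat 2725, 19), (.ofNat 376,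
  20), (.ofNat 464, 22), (.ofNat 2729, 24), (.ofNat 163, 25), (.ofNat 652, 26), (.negSucc 1880, 27), (.ofNat 1613,
  28), (.ofNat 2596, 29), (.ofNat 3001, 30), (.ofNat 3310, 31), (.ofNat 648, 32), (.ofNat 272, 33), (.ofNat 2984,
  34), (.ofNat 1588, 35), (.ofNat 4627, 36), (.ofNat 3595, 37), (.ofNat 1939, 38), (.ofNat 3244, 39), (.ofNat 11198,
  40), (.ofNat 13087, 41), (.ofNat 13689, 42), (.ofNat 14069, 43), (.ofNat 14839, 44), (.ofNat 8684, 45), (.ofNat
  17413, 46), (.ofNat 11750, 47), (.ofNat 14671, 48), (.ofNat 13480, 49), (.ofNat 19683, 50), (.ofNat 11607, 51),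
  (.ofNat 1137, 55)])) (.far (.negSucc 4120) [(.ofNat 477, 12), (.ofNat 532, 13), (.ofNat 454, 15), (.ofNat 1077,
  16), (.ofNat 2981, 18), (.ofNat 606, 19), (.ofNat 1564, 21), (.ofNat 1074, 22), (.ofNat 2899, 24), (.ofNat 1709,
  25), (.ofNat 2394, 26), (.ofNat 992, 27), (.negSucc 3503, 28), (.ofNat 2404, 29), (.ofNat 2617, 30), (.ofNat 1289,
  31), (.ofNat 2983, 32), (.ofNat 3531, 33), (.ofNat 3761, 34), (.ofNat 6364, 35), (.ofNat 7494, 36), (.ofNat 5109,
  37), (.ofNat 4001, 38), (.ofNat 4391, 39), (.ofNat 5928, 40), (.ofNat 8106, 41), (.ofNat 6727, 42), (.ofNat 12962,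
  43), (.ofNat 12731, 44), (.ofNat 7077, 45), (.ofNat 16483, 46), (.ofNat 13528, 47), (.ofNat 14587, 48), (.ofNat
  13428, 49), (.ofNat 19683, 50), (.ofNat 17473, 51), (.ofNat 1633, 53), (.ofNat 2383, 54)]))) (.far (.ofNat 0)
  [(.negSucc 0, 1007)])))

/-- certificates -/
noncomputable def CL8 : List (Hd × Tr) :=
  [c42]

theorem okC8 : okL TAB.Co2.D (TAB.Sm2.mkRows TAB.Co2.A TAB.Co2.B) P Z CL8 = true := by decide +kernel

/-- a certificate -/
noncomputable def c43 : Hd × Tr :=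
  ((884736000, [], []), (.far (.ofNat 1) [(.ofNat 1, 9), (.negSucc 0, 24), (.negSucc 0, 35), (.ofNat 1, 40), (.ofNat
  1, 46), (.negSucc 0, 48)]))

/-- a certificate -/
noncomputable def c44 : Hd × Tr :=
  ((442368000, [], []), (.far (.ofNat 1) [(.ofNat 1, 9), (.negSucc 0, 24), (.negSucc 0, 35), (.ofNat 1, 40), (.ofNat
  1, 46), (.negSucc 0, 48)]))

/-- a certificate -/
noncomputable def c45 : Hd × Tr :=
  ((331776000, [], []), (.far (.ofNat 1) [(.ofNat 1, 9), (.negSucc 0, 24), (.negSucc 0, 35), (.ofNat 1, 40), (.ofNat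
  1, 46), (.negSucc 0, 48)]))

/-- a certificate -/
noncomputable def c46 : Hd × Tr :=
  ((265420800, [], []), (.far (.ofNat 1) [(.ofNat 1, 9), (.negSucc 0, 24), (.negSucc 0, 35), (.ofNat 1, 40), (.ofNat
  1, 46), (.negSucc 0, 48)]))

/-- a certificate -/
noncomputable def c47 : Hd × Tr :=
  ((221184000, [], []), (.far (.ofNat 1) [(.ofNat 1, 9), (.negSucc 0, 24), (.negSucc 0, 35), (.ofNat 1, 40), (.ofNat
  1, 46), (.negSucc 0, 48)]))

/-- a certificate -/
noncomputable def c48 : Hd × Tr :=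
  ((186624000, [], []), (.far (.ofNat 1) [(.ofNat 1, 9), (.negSucc 0, 24), (.negSucc 0, 35), (.ofNat 1, 40), (.ofNat
  1, 46), (.negSucc 0, 48)]))

/-- a certificate -/
noncomputable def c49 : Hd × Tr :=
  ((176947200, [], []), (.far (.ofNat 1) [(.ofNat 1, 9), (.negSucc 0, 24), (.negSucc 0, 35), (.ofNat 1, 40), (.ofNat
  1, 46), (.negSucc 0, 48)]))

/-- a certificate -/
noncomputable def c50 : Hd × Tr :=
  ((165888000, [], []), (.far (.ofNat 845) [(.ofNat 253, 1), (.ofNat 37, 6), (.ofNat 1246, 9), (.ofNat 197, 13),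
  (.ofNat 432, 14), (.ofNat 91, 15), (.ofNat 49, 16), (.ofNat 189, 17), (.ofNat 904, 18), (.ofNat 441, 19), (.ofNat
  603, 21), (.ofNat 584, 22), (.ofNat 588, 26), (.ofNat 226, 27), (.ofNat 592, 29), (.ofNat 864, 30), (.ofNat 681,
  31), (.ofNat 667, 32), (.ofNat 493, 33), (.ofNat 962, 34), (.negSucc 212, 35), (.ofNat 1419, 36), (.ofNat 1035,
  37), (.ofNat 1119, 38), (.ofNat 1452, 39), (.ofNat 4443, 40), (.ofNat 3932, 41), (.ofNat 3674, 42), (.ofNat 4266,
  43), (.ofNat 4649, 44), (.ofNat 4367, 45), (.ofNat 6561, 46), (.ofNat 4301, 47), (.ofNat 3463, 48), (.ofNat 4318,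
  49), (.ofNat 5733, 50), (.ofNat 4296, 51), (.ofNat 139, 52), (.ofNat 559, 54), (.ofNat 422, 55)]))

/-- a certificate -/
noncomputable def c51 : Hd × Tr :=
  ((132710400, [], []), (.far (.ofNat 8336) [(.ofNat 2933, 1), (.ofNat 10556, 9), (.ofNat 2583, 13), (.ofNat 2820,
  14), (.ofNat 2511, 15), (.ofNat 1890, 17), (.ofNat 4997, 18), (.ofNat 6447, 19), (.ofNat 5011, 21), (.ofNat 5819,
  22), (.ofNat 2537, 23), (.ofNat 5589, 26), (.ofNat 3276, 27), (.ofNat 3293, 28), (.ofNat 6594, 29), (.ofNat 7707,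
  30), (.ofNat 4972, 31), (.ofNat 2596, 32), (.ofNat 5603, 33), (.ofNat 7085, 34), (.ofNat 2485, 35), (.ofNat 8527,
  36), (.ofNat 9468, 37), (.ofNat 8933, 38), (.ofNat 13169, 39), (.ofNat 42668, 40), (.ofNat 37433, 41), (.ofNat
  38590, 42), (.ofNat 42005, 43), (.ofNat 46410, 44), (.ofNat 43173, 45), (.ofNat 59049, 46), (.ofNat 41452, 47),
  (.ofNat 33647, 48), (.ofNat 44318, 49), (.ofNat 51360, 50), (.ofNat 40391, 51), (.ofNat 45, 52), (.ofNat 11061,
  54), (.ofNat 6794, 55)]))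

/-- a certificate -/
noncomputable def c52 : Hd × Tr :=
  ((244823040, [(1005, 24482305)], [(1005, 24482305)]), (.far (.negSucc 691) [(.ofNat 39, 16), (.ofNat 3, 17),
  (.ofNat 17, 18), (.ofNat 67, 19), (.negSucc 43, 20), (.negSucc 339, 21), (.ofNat 13, 22), (.negSucc 148, 23),
  (.negSucc 85, 24), (.negSucc 26, 25), (.ofNat 21, 26), (.negSucc 117, 27), (.ofNat 97, 29), (.ofNat 83, 30),
  (.ofNat 165, 31), (.ofNat 36, 32), (.negSucc 309, 34), (.negSucc 209, 35), (.ofNat 29, 36), (.ofNat 10, 38),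
  (.ofNat 78, 40), (.ofNat 30, 41), (.ofNat 71, 42), (.negSucc 2, 43), (.negSucc 141, 45), (.ofNat 142, 46),
  (.negSucc 58, 47), (.negSucc 176, 48), (.ofNat 35, 49), (.negSucc 59, 51), (.ofNat 54, 52), (.ofNat 264, 53),
  (.ofNat 3, 54), (.negSucc 33, 55), (.ofNat 6561, 1005)]))

/-- a certificate -/
noncomputable def c53 : Hd × Tr :=
  ((244823040, [(1007, 52462081)], [(1007, 52462081)]), (.far (.negSucc 1592) [(.ofNat 247, 16), (.ofNat 155, 19),
  (.negSucc 403, 20), (.negSucc 556, 21), (.ofNat 54, 22), (.negSucc 189, 23), (.ofNat 16, 24), (.ofNat 209, 26),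
  (.negSucc 174, 27), (.negSucc 806, 28), (.ofNat 70, 29), (.ofNat 204, 30), (.negSucc 57, 31), (.negSucc 71, 32),
  (.ofNat 184, 33), (.negSucc 1045, 34), (.ofNat 147, 35), (.negSucc 63, 36), (.ofNat 3, 37), (.negSucc 0, 38),
  (.ofNat 106, 40), (.ofNat 147, 41), (.negSucc 50, 42), (.negSucc 16, 43), (.ofNat 141, 44), (.ofNat 21, 46),
  (.negSucc 170, 47), (.negSucc 392, 48), (.ofNat 274, 49), (.negSucc 376, 50), (.ofNat 158, 52), (.ofNat 653, 53),
  (.ofNat 820, 54), (.ofNat 86, 55), (.ofNat 6561, 1007)]))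

/-- a certificate -/
noncomputable def c54 : Hd × Tr :=
  ((20891566080, [], [(1, 0), (3, 0)]), (.bf 21 2 (.bf 13 0 (.bf 14 5 (.bf 4 0 (.far (.ofNat 81) [(.ofNat 40, 7),
  (.negSucc 80, 8), (.negSucc 39, 9), (.negSucc 39, 11), (.ofNat 40, 12), (.negSucc 39, 21), (.ofNat 81, 23), (.ofNat
  40, 32), (.negSucc 39, 33), (.ofNat 40, 37), (.ofNat 40, 41), (.negSucc 39, 46), (.ofNat 61, 53), (.negSucc 19,
  55)]) (.far (.ofNat 67) [(.negSucc 66, 3), (.ofNat 14, 4), (.negSucc 11, 7), (.negSucc 10, 8), (.ofNat 31, 9),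
  (.negSucc 66, 10), (.negSucc 23, 11), (.negSucc 23, 12), (.negSucc 23, 13), (.ofNat 31, 14), (.ofNat 6, 15),
  (.ofNat 79, 16), (.negSucc 67, 17), (.ofNat 4, 18), (.ofNat 11, 19), (.negSucc 152, 21), (.ofNat 146, 22), (.ofNat
  46, 23), (.negSucc 34, 24), (.ofNat 121, 25), (.ofNat 97, 26), (.ofNat 71, 27), (.ofNat 40, 28), (.ofNat 29, 29),
  (.ofNat 29, 30), (.ofNat 5, 31), (.ofNat 163, 32), (.negSucc 86, 33), (.ofNat 35, 34), (.ofNat 35, 35), (.negSucc
  136, 36), (.negSucc 202, 37), (.negSucc 202, 38), (.negSucc 202, 39), (.negSucc 160, 40), (.negSucc 167, 41),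
  (.ofNat 141, 43), (.negSucc 242, 44), (.negSucc 3, 46), (.negSucc 224, 47), (.ofNat 37, 49), (.negSucc 60, 52),
  (.negSucc 86, 53), (.ofNat 127, 55)])) (.far (.ofNat 0) [(.negSucc 2, 1), (.ofNat 65, 4), (.negSucc 160, 5),
  (.negSucc 157, 6), (.negSucc 88, 7), (.negSucc 79, 9), (.negSucc 1, 10), (.ofNat 7, 11), (.ofNat 7, 13), (.negSucc
  242, 14), (.negSucc 72, 15), (.ofNat 9, 16), (.ofNat 59, 17), (.ofNat 50, 18), (.ofNat 68, 19), (.ofNat 78, 20),
  (.negSucc 12, 21), (.negSucc 2, 22), (.ofNat 103, 23), (.ofNat 62, 24), (.ofNat 4, 25), (.ofNat 11, 26), (.negSucc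
  123, 27), (.ofNat 93, 28), (.ofNat 70, 29), (.ofNat 70, 30), (.ofNat 77, 31), (.negSucc 7, 32), (.ofNat 83, 33),
  (.negSucc 165, 34), (.negSucc 61, 35), (.negSucc 103, 36), (.negSucc 6, 37), (.negSucc 6, 38), (.negSucc 6, 39),
  (.negSucc 18, 40), (.negSucc 23, 41), (.negSucc 20, 43), (.negSucc 21, 44), (.negSucc 49, 46), (.negSucc 26, 47),
  (.negSucc 104, 48), (.ofNat 43, 52), (.ofNat 76, 53), (.ofNat 105, 54), (.negSucc 67, 55)])) (.far (.negSucc 141)
  [(.negSucc 109, 1), (.negSucc 79, 3), (.negSucc 112, 6), (.ofNat 81, 7), (.negSucc 119, 8), (.negSucc 34, 9),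
  (.ofNat 67, 10), (.ofNat 63, 11), (.ofNat 63, 12), (.negSucc 49, 13), (.ofNat 2, 14), (.ofNat 28, 15), (.ofNat 98,
  16), (.negSucc 99, 17), (.ofNat 62, 18), (.negSucc 0, 19), (.negSucc 120, 20), (.ofNat 62, 21), (.negSucc 1, 22),
  (.negSucc 93, 23), (.ofNat 97, 24), (.ofNat 61, 25), (.ofNat 12, 26), (.negSucc 118, 27), (.negSucc 242, 28),
  (.ofNat 25, 29), (.ofNat 25, 30), (.negSucc 24, 31), (.ofNat 25, 32), (.negSucc 41, 33), (.negSucc 21, 34),
  (.negSucc 21, 35), (.ofNat 44, 36), (.ofNat 23, 37), (.ofNat 23, 38), (.ofNat 23, 39), (.negSucc 13, 40), (.ofNat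
  42, 41), (.negSucc 73, 42), (.negSucc 14, 43), (.negSucc 42, 44), (.ofNat 19, 46), (.negSucc 16, 47), (.negSucc
  136, 49), (.ofNat 82, 50), (.ofNat 9, 52), (.ofNat 82, 53), (.negSucc 72, 55)])) (.far (.negSucc 61) [(.negSucc 80,
  1), (.negSucc 68, 3), (.negSucc 49, 6), (.ofNat 31, 7), (.negSucc 24, 8), (.negSucc 24, 9), (.ofNat 44, 10),
  (.ofNat 38, 11), (.ofNat 38, 12), (.negSucc 11, 13), (.ofNat 7, 14), (.ofNat 13, 15), (.ofNat 63, 16), (.negSucc
  60, 17), (.negSucc 35, 18), (.ofNat 1, 19), (.negSucc 23, 20), (.ofNat 2, 21), (.ofNat 2, 22), (.negSucc 10, 23),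
  (.ofNat 27, 24), (.ofNat 39, 25), (.ofNat 27, 26), (.negSucc 16, 27), (.negSucc 46, 28), (.ofNat 15, 29), (.ofNat
  15, 30), (.ofNat 3, 31), (.ofNat 16, 32), (.negSucc 27, 33), (.ofNat 10, 34), (.ofNat 10, 35), (.negSucc 19, 36),
  (.ofNat 17, 37), (.ofNat 17, 38), (.ofNat 17, 39), (.negSucc 5, 40), (.ofNat 28, 41), (.ofNat 9, 42), (.ofNat 12,
  43), (.ofNat 1, 46), (.ofNat 14, 47), (.ofNat 46, 48), (.ofNat 27, 49), (.negSucc 34, 50), (.ofNat 46, 51),
  (.negSucc 2, 52), (.ofNat 12, 53), (.ofNat 8, 55)])))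

/-- a certificate -/
noncomputable def c55 : Hd × Tr :=
  ((898128000, [], [(1, 0)]), (.far (.negSucc 0) [(.negSucc 0, 1), (.ofNat 1, 7), (.ofNat 1, 10), (.negSucc 0, 27),
  (.negSucc 0, 35), (.ofNat 1, 41), (.ofNat 1, 45), (.negSucc 0, 51), (.negSucc 0, 54)]))

/-- a certificate -/
noncomputable def c56 : Hd × Tr :=
  ((898128000, [], [(3, 0)]), (.far (.negSucc 348) [(.negSucc 594, 3), (.ofNat 348, 7), (.ofNat 300, 14), (.ofNat
  119, 16), (.negSucc 133, 17), (.ofNat 122, 18), (.negSucc 31, 20), (.negSucc 43, 21), (.negSucc 25, 22), (.negSucc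
  133, 23), (.ofNat 147, 24), (.ofNat 45, 25), (.ofNat 63, 26), (.negSucc 233, 27), (.negSucc 12, 28), (.negSucc 63,
  29), (.ofNat 54, 30), (.ofNat 102, 32), (.negSucc 456, 33), (.ofNat 481, 34), (.negSucc 378, 35), (.ofNat 211, 36),
  (.negSucc 126, 37), (.negSucc 110, 38), (.negSucc 89, 39), (.ofNat 294, 40), (.ofNat 437, 41), (.ofNat 92, 42),
  (.ofNat 61, 43), (.ofNat 13, 44), (.negSucc 105, 47), (.ofNat 221, 48), (.negSucc 53, 49), (.ofNat 65, 50),
  (.negSucc 129, 51), (.negSucc 728, 54), (.negSucc 350, 55)]))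

/-- certificates -/
noncomputable def CL9 : List (Hd × Tr) :=
  [c43, c44, c45, c46, c47, c48, c49, c50, c51, c52, c53, c54, c55, c56]

theorem okC9 : okL TAB.Co2.D (TAB.Sm2.mkRows TAB.Co2.A TAB.Co2.B) P Z CL9 = true := by decide +kernel

/-- the enumeration -/
theorem lst0 {K : Type} [Group K] [Finite K] (h : In K TAB.Co2.D (TAB.Sm2.mkRows TAB.Co2.A TAB.Co2.B)) :
    Lst K SV :=
  lst_of_enum (E := E) h ok1 (H940.Eng.D.ords_co2 base) (fun _ => List.not_mem_nil) List.mem_cons_self (dv_iff.1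
  (by decide +kernel)) okB1 (l1 := [(23, 1), (11, 1), (7, 1)]) rfl (W := [W0, W1].flatten) (by decide +kernel) <|
  forall_flatten <|
    fa_cons (fun _ h => ⟨_, okD0, h⟩) <| fa_cons (fun _ h => ⟨_, okD1, h⟩) <| fa_nil

/-- the heads -/
def FL : List Hd :=
  [(20891566080, [], []), (23887872000, [], []), (11943936000, [], []), (11147673600, [], []), (7962624000, [], []),
  (5971968000, [], []), (5573836800, [], []), (4777574400, [], []), (3981312000, [], []), (3715891200, [], []),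
  (2985984000, [], []), (2786918400, [], []), (2654208000, [], []), (2388787200, [], []), (1990656000, [], []),
  (1857945600, [], []), (1592524800, [], []), (1492992000, [], []), (1393459200, [], []), (1327104000, [], []),
  (1194393600, [], []), (995328000, [], []), (928972800, [], []), (796262400, [], []), (746496000, [], []),
  (696729600, [], []), (663552000, [], []), (597196800, [], []), (530841600, [], []), (497664000, [], []),
  (464486400, [], []), (398131200, [], []), (373248000, [], []), (298598400, [], []), (248832000, [], []),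
  (199065600, [], []), (174182400, [], []), (149299200, [], []), (124416000, [], []), (99532800, [], []), (10200960,
  [(1005, 4080385), (2041192, 6120576)], [(1005, 4080385), (2041192, 6120576)]), (244823040, [], []), (174182400,
  [(1007, 24883201)], [(1007, 24883201)]), (884736000, [], []), (442368000, [], []), (331776000, [], []), (265420800,
  [], []), (221184000, [], []), (186624000, [], []), (176947200, [], []), (165888000, [], []), (132710400, [], []),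
  (244823040, [(1005, 24482305)], [(1005, 24482305)]), (244823040, [(1007, 52462081)], [(1007, 52462081)]),
  (20891566080, [], [(1, 0), (3, 0)]), (898128000, [], [(1, 0)]), (898128000, [], [(3, 0)])]

/-- scripts -/
noncomputable def S0 : List ((ℕ × ℕ) × Ps) :=
  [((1814400, 2025), (.ky 0)), ((10200960, 1771), (.ky 1)), ((10200960, 3542), (.ky 2)), ((10200960, 3795), (.ky 3)),
  ((10200960, 5313), (.ky 4)), ((10200960, 7084), (.ky 5)), ((10200960, 7590), (.ky 6)), ((10200960, 8855), (.ky 7)),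
  ((10200960, 10626), (.ky 8)), ((10200960, 11385), (.ky 9)), ((10200960, 14168), (.ky 10)), ((10200960, 15180), (.ky
  11)), ((10200960, 15939), (.ky 12)), ((10200960, 17710), (.ky 13)), ((10200960, 21252), (.ky 14)), ((10200960,
  22770), (.ky 15)), ((10200960, 26565), (.ky 16)), ((10200960, 28336), (.ky 17)), ((10200960, 30360), (.ky 18)),
  ((10200960, 31878), (.ky 19)), ((10200960, 35420), (.ky 20)), ((10200960, 42504), (.ky 21)), ((10200960, 45540),
  (.ky 22)), ((10200960, 53130), (.ky 23)), ((10200960, 56672), (.ky 24)), ((10200960, 60720), (.ky 25)), ((10200960,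
  63756), (.ky 26)), ((10200960, 70840), (.ky 27)), ((10200960, 79695), (.ky 28)), ((10200960, 85008), (.ky 29)),
  ((10200960, 91080), (.ky 30)), ((10200960, 106260), (.ky 31)), ((10200960, 113344), (.ky 32)), ((10200960, 141680),
  (.ky 33)), ((10200960, 170016), (.ky 34)), ((10200960, 212520), (.ky 35)), ((10200960, 242880), (.ky 36)),
  ((10200960, 283360), (.ky 37)), ((10200960, 340032), (.ky 38)), ((10200960, 425040), (.ky 39)), ((10200960,
  1020096), (.kx 40)), ((174182400, 2025), (.ky 0)), ((174182400, 172800), (.ky 41)), ((174182400, 4147200), (.kx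
  42)), ((244823040, 1771), (.ky 1)), ((244823040, 3542), (.ky 2)), ((244823040, 3795), (.ky 3)), ((244823040, 5313),
  (.ky 4)), ((244823040, 7084), (.ky 5)), ((244823040, 7590), (.ky 6)), ((244823040, 8855), (.ky 7)), ((244823040,
  10626), (.ky 8)), ((244823040, 11385), (.ky 9)), ((244823040, 14168), (.ky 10)), ((244823040, 15180), (.ky 11)),
  ((244823040, 15939), (.ky 12)), ((244823040, 17710), (.ky 13)), ((244823040, 21252), (.ky 14)), ((244823040,
  22770), (.ky 15)), ((244823040, 26565), (.ky 16))]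

/-- scripts -/
noncomputable def S1 : List ((ℕ × ℕ) × Ps) :=
  [((244823040, 28336), (.ky 17)), ((244823040, 30360), (.kx 41)), ((244823040, 31878), (.ky 19)), ((244823040,
  34155), (.kx 41)), ((244823040, 35420), (.ky 20)), ((244823040, 42504), (.ky 21)), ((244823040, 45540), (.kx 41)),
  ((244823040, 47817), (.ky 43)), ((244823040, 53130), (.ky 23)), ((244823040, 56672), (.ky 24)), ((244823040,
  60720), (.kx 41)), ((244823040, 63756), (.ky 26)), ((244823040, 68310), (.kx 41)), ((244823040, 70840), (.ky 27)),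
  ((244823040, 79695), (.ky 28)), ((244823040, 85008), (.ky 29)), ((244823040, 91080), (.kx 41)), ((244823040,
  95634), (.ky 44)), ((244823040, 106260), (.ky 31)), ((244823040, 113344), (.ky 32)), ((244823040, 121440), (.kx
  41)), ((244823040, 127512), (.ky 45)), ((244823040, 136620), (.kx 41)), ((244823040, 141680), (.ky 33)),
  ((244823040, 159390), (.ky 46)), ((244823040, 170016), (.ky 34)), ((244823040, 182160), (.kx 41)), ((244823040,
  191268), (.ky 47)), ((244823040, 212520), (.ky 35)), ((244823040, 226688), (.ky 48)), ((244823040, 239085), (.ky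
  49)), ((244823040, 242880), (.kx 41)), ((244823040, 255024), (.ky 50)), ((244823040, 273240), (.kx 41)),
  ((244823040, 283360), (.ky 37)), ((244823040, 318780), (.ky 51)), ((244823040, 340032), (.ky 38)), ((244823040,
  364320), (.kx 41)), ((244823040, 382536), (.kx 41)), ((244823040, 425040), (.kx 41)), ((244823040, 453376), (.kx
  41)), ((244823040, 485760), (.kx 41)), ((244823040, 510048), (.kx 41)), ((244823040, 546480), (.kx 41)),
  ((244823040, 566720), (.kx 41)), ((244823040, 637560), (.kx 41)), ((244823040, 680064), (.kx 41)), ((244823040,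
  728640), (.kx 41)), ((244823040, 765072), (.kx 41)), ((244823040, 850080), (.kx 41)), ((244823040, 906752), (.kx
  41)), ((244823040, 1020096), (.kx 41)), ((244823040, 1092960), (.kx 41)), ((244823040, 1133440), (.kx 41)),
  ((244823040, 1275120), (.kx 41)), ((244823040, 1360128), (.kx 41)), ((244823040, 1457280), (.kx 41)), ((244823040,
  1530144), (.kx 41)), ((244823040, 1700160), (.kx 41)), ((244823040, 2040192), (.kx 41))]

/-- scripts -/
noncomputable def S2 : List ((ℕ × ℕ) × Ps) :=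
  [((244823040, 2185920), (.kx 41)), ((244823040, 2266880), (.kx 41)), ((244823040, 2550240), (.kx 41)), ((244823040,
  2720256), (.kx 41)), ((244823040, 3400320), (.kx 41)), ((244823040, 4080384), (.kx 41)), ((244823040, 4533760),
  (.kx 41)), ((244823040, 5100480), (.kx 41)), ((244823040, 6120576), (.kx 52)), ((244823040, 6800640), (.kx 41)),
  ((244823040, 8160768), (.kx 41)), ((244823040, 8743680), (.kx 53)), ((244823040, 10200960), (.kx 41)), ((898128000,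
  2025), (.br 3 (.kx 56) (.br 1 (.kx 55) (.ky 54))))]

theorem okC : ∀ x ∈ FL, ∃ CL, okL TAB.Co2.D (TAB.Sm2.mkRows TAB.Co2.A TAB.Co2.B) P Z CL = true ∧ x ∈ CL.map Prod.fst := by
  rw [show FL = [CL0.map Prod.fst, CL1.map Prod.fst, CL2.map Prod.fst, CL3.map Prod.fst, CL4.map Prod.fst, CL5.map
  Prod.fst, CL6.map Prod.fst, CL7.map Prod.fst, CL8.map Prod.fst, CL9.map Prod.fst].flatten by decide +kernel]
  exact forall_flatten <| fa_cons (fun _ h => ⟨_, okC0, h⟩) <| fa_cons (fun _ h => ⟨_, okC1, h⟩) <| fa_cons (fun _ h => ⟨_, okC2, h⟩) <| fa_cons (fun _ h => ⟨_, okC3, h⟩) <|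
    fa_cons (fun _ h => ⟨_, okC4, h⟩) <| fa_cons (fun _ h => ⟨_, okC5, h⟩) <| fa_cons (fun _ h => ⟨_, okC6, h⟩) <| fa_cons (fun _ h => ⟨_, okC7, h⟩) <|
    fa_cons (fun _ h => ⟨_, okC8, h⟩) <| fa_cons (fun _ h => ⟨_, okC9, h⟩) <| fa_nil

/-- **the list** -/
theorem lst {K : Type} [Group K] [Finite K] (h : In K TAB.Co2.D (TAB.Sm2.mkRows TAB.Co2.A TAB.Co2.B)) :
    Lst K L :=
  lst_of_cert h (lst0 h) (l := E.l) (by decide +kernel) (SG := [1, 3]) (by decide +kernel) okC (SS := [S0, S1,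
  S2].flatten) (by decide +kernel) (by decide +kernel)

end Cfsg.Agent.SM.Sp.NCo2
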