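import Cfsg.Agent.SM.Sp.Enum
import Cfsg.Agent.TAB.Co3.Dat

/-!
# SM (S3570), sporadic socles: Co3 (helper26; generated by notes/SM/sp26/gen2.py.txt)
-/

set_option autoImplicit false
set_option Elab.async false

namespace Cfsg.Agent.SM.Sp.NCo3

open Cfsg Cfsg.Agent.TAB.Eng Cfsg.Agent.H940.Eng Cfsg.Agent.TH.Spor

/-- local data -/
def loc : List LD :=
  [⟨23, 23, [(11, 1), (23, 1)]⟩, ⟨11, 22, [(2, 1), (5, 1), (11, 1)]⟩, ⟨7, 252, [(2, 2), (3, 2), (7, 1)]⟩]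

/-- the pairs which remain -/
def L : List (ℕ × ℕ) :=
  []

/-- the candidates -/
def SV : List (ℕ × ℕ) :=
  [(6072, 276), (1814400, 2025), (10200960, 1265), (10200960, 1771), (10200960, 2530), (10200960, 3542), (10200960,
  3795), (10200960, 5060), (10200960, 5313), (10200960, 7084), (10200960, 7590), (10200960, 8855), (10200960, 10120),
  (10200960, 10626), (10200960, 11385), (10200960, 14168), (10200960, 15180), (10200960, 15939), (10200960, 17710),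
  (10200960, 21252), (10200960, 22770), (10200960, 26565), (10200960, 28336), (10200960, 30360), (10200960, 31878),
  (10200960, 35420), (10200960, 42504), (10200960, 45540), (10200960, 53130), (10200960, 56672), (10200960, 63756),
  (10200960, 70840), (10200960, 79695), (10200960, 85008), (10200960, 91080), (10200960, 106260), (10200960, 113344),
  (10200960, 141680), (10200960, 170016), (10200960, 212520), (10200960, 283360), (10200960, 340032), (10200960,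
  425040), (10200960, 1020096), (244823040, 276), (244823040, 552), (244823040, 1265), (244823040, 1771), (244823040,
  2530), (244823040, 3542), (244823040, 3795), (244823040, 5060), (244823040, 5313), (244823040, 7084), (244823040,
  7590), (244823040, 8855), (244823040, 10120), (244823040, 10626), (244823040, 11385), (244823040, 14168),
  (244823040, 15180), (244823040, 15939), (244823040, 17710), (244823040, 21252), (244823040, 22770), (244823040,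
  26565), (244823040, 28336), (244823040, 30360), (244823040, 31878), (244823040, 34155), (244823040, 35420),
  (244823040, 42504), (244823040, 45540), (244823040, 47817), (244823040, 53130), (244823040, 56672), (244823040,
  63756), (244823040, 68310), (244823040, 70840), (244823040, 79695), (244823040, 85008), (244823040, 91080),
  (244823040, 95634), (244823040, 106260), (244823040, 113344), (244823040, 127512), (244823040, 136620), (244823040,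
  141680), (244823040, 159390), (244823040, 170016), (244823040, 191268), (244823040, 212520), (244823040, 226688),
  (244823040, 239085), (244823040, 255024), (244823040, 273240), (244823040, 283360), (244823040, 318780),
  (244823040, 340032), (244823040, 382536), (244823040, 425040), (244823040, 453376), (244823040, 510048),
  (244823040, 566720), (244823040, 637560), (244823040, 680064), (244823040, 765072), (244823040, 850080),
  (244823040, 906752), (244823040, 1020096), (244823040, 1133440), (244823040, 1275120), (244823040, 1360128),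
  (244823040, 1530144), (244823040, 1700160), (244823040, 2040192), (244823040, 2266880), (244823040, 2550240),
  (244823040, 2720256), (244823040, 3400320), (244823040, 4080384), (244823040, 4533760), (244823040, 5100480),
  (244823040, 6120576), (244823040, 6800640), (244823040, 8160768), (244823040, 10200960), (898128000, 2025)]

/-- the data -/
def E : Ed :=
  ⟨495766656000, [(23, 1), (11, 1), (7, 1), (5, 3), (3, 7), (2, 10)], H940.Eng.D.o_co3, loc, 23, [], [(23, 34), (11,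
  23), (7, 15)], [60, 168, 360, 504, 660, 2520, 6048, 6072, 7920, 20160, 25920, 95040, 126000, 181440, 443520,
  604800, 1451520, 1814400, 3265920, 10200960, 13685760, 19958400, 44352000, 239500800, 244823040, 898128000], SV⟩

theorem ok1 : okEd TAB.Co3.D (TAB.Sm2.mkRows TAB.Co3.A TAB.Co3.B) E = true := by decide +kernel

/-- the types of prime order -/
def P : List (ℕ × ℕ × ℕ) :=
  [(23, 34, 43110144000), (11, 23, 45069696000), (7, 15, 11803968000), (5, 8, 330511104), (5, 9, 1652555520), (3, 3,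
  1416800), (3, 4, 17001600), (3, 5, 109296000), (2, 1, 170775), (2, 2, 2608200)]

/-- the types -/
def Z : List Ze :=
  [(1, 2, 170775, [1]), (2, 2, 2608200, [2]), (3, 3, 1416800, [3]), (4, 3, 17001600, [4]), (5, 3, 109296000, [5]),
  (6, 4, 21517650, [1]), (7, 4, 322764750, [1]), (8, 5, 330511104, [8]), (9, 5, 1652555520, [9]), (10, 6, 114760800,
  [3, 1]), (11, 6, 382536000, [3, 1]), (12, 6, 2295216000, [4, 1]), (13, 6, 4590432000, [4, 2]), (14, 6, 6885648000,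
  [5, 2]), (15, 7, 11803968000, [15]), (16, 8, 2582118000, [1]), (17, 8, 2582118000, [1]), (18, 8, 15492708000, [1]),
  (19, 9, 3060288000, [3]), (20, 9, 6120576000, [3]), (21, 10, 8262777600, [8, 1]), (22, 10, 24788332800, [9, 2]),
  (23, 11, 45069696000, [23]), (24, 12, 3442824000, [3, 1]), (25, 12, 10328472000, [3, 1]), (26, 12, 13771296000, [4,
  1]), (27, 14, 35411904000, [15, 1]), (28, 15, 16525555200, [8, 3]), (29, 15, 33051110400, [9, 4]), (30, 18,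
  27542592000, [3, 1]), (31, 20, 49576665600, [8, 1]), (32, 21, 23607936000, [15, 5]), (33, 22, 45069696000, [23,
  2]), (34, 23, 43110144000, [34]), (35, 24, 20656944000, [3, 1]), (36, 24, 20656944000, [3, 1]), (37, 30,
  16525555200, [8, 3, 1])]

theorem okB1 : okB E ⟨23, 23, [(11, 1), (23, 1)]⟩ = true := by decide +kernel

/-- pieces -/
def W0 : List (ℕ × ℕ) :=
  [(6072, 1), (6072, 11), (6072, 23), (6072, 253), (10200960, 1), (10200960, 7), (10200960, 11), (10200960, 77),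
  (10200960, 23), (10200960, 161), (10200960, 253), (10200960, 1771), (244823040, 1), (244823040, 7), (244823040,
  11)]

theorem okD0 : okD E [(5, 3), (3, 7), (2, 10)] W0 = true := by decide +kernel

/-- pieces -/
def W1 : List (ℕ × ℕ) :=
  [(244823040, 77), (244823040, 23), (244823040, 161), (244823040, 253), (244823040, 1771)]

theorem okD1 : okD E [(5, 3), (3, 7), (2, 10)] W1 = true := by decide +kernel

/-- a certificate -/
noncomputable def c0 : Hd × Tr :=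
  ((6072, [(1552, 3312)], [(4, 0), (1552, 3312)]), (.bf 3 0 (.bf 4 0 (.bf 5 378 (.bf 1 0 (.far (.ofNat 0) [(.ofNat
  199, 4), (.ofNat 22, 35), (.ofNat 22, 36), (.ofNat 243, 1552)]) (.far (.ofNat 0) [(.negSucc 0, 4), (.ofNat 1, 5)]))
  (.far (.ofNat 0) [(.ofNat 1, 35)])) (.far (.ofNat 0) [(.negSucc 0, 4), (.negSucc 0, 1552)])) (.far (.negSucc 74)
  [(.negSucc 80, 4), (.ofNat 41, 7), (.ofNat 10, 35), (.ofNat 35, 37), (.negSucc 45, 1552)])))

/-- a certificate -/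
noncomputable def c1 : Hd × Tr :=
  ((1796256000, [], [(4, 0)]), (.far (.ofNat 27) [(.negSucc 26, 4), (.ofNat 27, 8), (.negSucc 26, 22), (.ofNat 27,
  23), (.ofNat 27, 30), (.negSucc 26, 31), (.negSucc 26, 34), (.ofNat 27, 35), (.negSucc 12, 36)]))

/-- a certificate -/
noncomputable def c2 : Hd × Tr :=
  ((244823040, [], []), (.far (.negSucc 349) [(.negSucc 51, 7), (.negSucc 572, 8), (.negSucc 338, 9), (.negSucc 598,
  10), (.negSucc 1212, 11), (.ofNat 760, 12), (.ofNat 693, 13), (.ofNat 693, 14), (.ofNat 328, 15), (.ofNat 381, 16),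
  (.ofNat 146, 17), (.negSucc 634, 18), (.ofNat 1022, 19), (.negSucc 1702, 20), (.ofNat 84, 21), (.ofNat 178, 23),
  (.negSucc 290, 24), (.negSucc 290, 25), (.negSucc 535, 26), (.ofNat 178, 27), (.negSucc 597, 28), (.ofNat 1085,
  29), (.negSucc 2186, 30), (.ofNat 147, 31), (.negSucc 425, 32), (.negSucc 321, 33), (.ofNat 162, 34), (.negSucc
  312, 35), (.ofNat 672, 36), (.negSucc 17, 37)]))

/-- a certificate -/
noncomputable def c3 : Hd × Tr :=
  ((391910400, [], []), (.far (.ofNat 5) [(.negSucc 0, 5), (.negSucc 3, 6), (.negSucc 1, 7), (.negSucc 2, 8),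
  (.negSucc 12, 11), (.ofNat 13, 12), (.ofNat 2, 13), (.ofNat 3, 14), (.ofNat 2, 15), (.negSucc 0, 17), (.negSucc 0,
  18), (.ofNat 1, 19), (.negSucc 7, 20), (.ofNat 14, 22), (.negSucc 26, 23), (.negSucc 0, 24), (.negSucc 0, 25),
  (.ofNat 2, 26), (.negSucc 0, 28), (.negSucc 3, 30), (.ofNat 2, 32), (.negSucc 4, 37)]))

/-- a certificate -/
noncomputable def c4 : Hd × Tr :=
  ((279936000, [], []), (.far (.ofNat 1) [(.ofNat 1, 2), (.negSucc 0, 13), (.negSucc 0, 22), (.ofNat 1, 25),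
  (.negSucc 0, 35)]))

/-- a certificate -/
noncomputable def c5 : Hd × Tr :=
  ((195955200, [], []), (.far (.ofNat 23) [(.negSucc 2, 7), (.negSucc 8, 8), (.ofNat 6, 9), (.negSucc 1, 10),
  (.negSucc 57, 11), (.ofNat 41, 12), (.ofNat 11, 13), (.ofNat 7, 14), (.ofNat 3, 16), (.negSucc 8, 17), (.negSucc 7,
  18), (.negSucc 14, 20), (.negSucc 7, 21), (.ofNat 40, 22), (.negSucc 80, 23), (.ofNat 5, 24), (.ofNat 7, 26),
  (.negSucc 4, 30), (.ofNat 4, 31), (.ofNat 1, 32), (.negSucc 2, 33), (.negSucc 0, 35), (.negSucc 12, 37)]))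

/-- a certificate -/
noncomputable def c6 : Hd × Tr :=
  ((139968000, [], []), (.far (.ofNat 38) [(.ofNat 15, 2), (.ofNat 7, 7), (.ofNat 15, 9), (.negSucc 80, 11), (.ofNat
  34, 12), (.negSucc 3, 16), (.negSucc 22, 17), (.negSucc 19, 18), (.negSucc 22, 19), (.negSucc 3, 20), (.negSucc 27,
  21), (.negSucc 74, 23), (.ofNat 9, 24), (.ofNat 13, 25), (.ofNat 11, 26), (.ofNat 7, 27), (.negSucc 3, 36),
  (.negSucc 11, 37)]))

/-- a certificate -/
noncomputable def c7 : Hd × Tr :=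
  ((130636800, [], []), (.far (.ofNat 31) [(.negSucc 0, 8), (.ofNat 1, 9), (.negSucc 62, 11), (.ofNat 36, 12),
  (.ofNat 5, 13), (.ofNat 5, 14), (.ofNat 3, 15), (.ofNat 4, 16), (.negSucc 8, 17), (.negSucc 24, 18), (.negSucc 4,
  19), (.negSucc 7, 20), (.negSucc 20, 21), (.ofNat 41, 22), (.negSucc 80, 23), (.ofNat 15, 24), (.ofNat 13, 25),
  (.ofNat 6, 26), (.negSucc 3, 27), (.negSucc 1, 28), (.negSucc 0, 30), (.ofNat 1, 32), (.negSucc 11, 37)]))

/-- a certificate -/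
noncomputable def c8 : Hd × Tr :=
  ((97977600, [], []), (.far (.ofNat 12) [(.negSucc 17, 8), (.negSucc 2, 10), (.negSucc 42, 11), (.ofNat 43, 12),
  (.ofNat 10, 13), (.ofNat 8, 14), (.negSucc 0, 15), (.negSucc 2, 16), (.negSucc 5, 17), (.negSucc 2, 18), (.ofNat 4,
  19), (.negSucc 18, 20), (.ofNat 47, 22), (.negSucc 80, 23), (.negSucc 5, 25), (.ofNat 5, 26), (.negSucc 13, 30),
  (.ofNat 2, 31), (.ofNat 3, 32), (.negSucc 11, 37)]))

/-- a certificate -/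
noncomputable def c9 : Hd × Tr :=
  ((93312000, [], []), (.far (.ofNat 51) [(.ofNat 13, 1), (.ofNat 13, 2), (.ofNat 13, 8), (.negSucc 80, 11), (.ofNat
  25, 12), (.negSucc 12, 13), (.negSucc 12, 17), (.negSucc 42, 18), (.negSucc 24, 19), (.negSucc 55, 21), (.negSucc
  76, 23), (.ofNat 32, 24), (.ofNat 44, 25), (.ofNat 13, 26), (.negSucc 12, 31), (.negSucc 5, 36), (.negSucc 19,
  37)]))

/-- a certificate -/
noncomputable def c10 : Hd × Tr :=
  ((69984000, [], []), (.far (.ofNat 51) [(.ofNat 13, 1), (.ofNat 13, 2), (.ofNat 13, 8), (.negSucc 80, 11), (.ofNat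
  25, 12), (.negSucc 12, 13), (.negSucc 12, 17), (.negSucc 42, 18), (.negSucc 24, 19), (.negSucc 55, 21), (.negSucc
  76, 23), (.ofNat 32, 24), (.ofNat 44, 25), (.ofNat 13, 26), (.negSucc 12, 31), (.negSucc 5, 36), (.negSucc 19,
  37)]))

/-- a certificate -/
noncomputable def c11 : Hd × Tr :=
  ((65318400, [], []), (.far (.ofNat 30) [(.negSucc 64, 11), (.ofNat 35, 12), (.ofNat 5, 13), (.ofNat 3, 14), (.ofNat
  4, 15), (.ofNat 5, 16), (.negSucc 6, 17), (.negSucc 26, 18), (.negSucc 3, 19), (.negSucc 6, 20), (.negSucc 18, 21),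
  (.ofNat 43, 22), (.negSucc 80, 23), (.ofNat 17, 24), (.ofNat 14, 25), (.ofNat 7, 26), (.negSucc 4, 27), (.negSucc
  0, 28), (.ofNat 1, 32), (.ofNat 1, 36), (.negSucc 11, 37)]))

/-- a certificate -/
noncomputable def c12 : Hd × Tr :=
  ((55987200, [], []), (.far (.ofNat 38) [(.ofNat 15, 2), (.ofNat 7, 7), (.ofNat 15, 9), (.negSucc 80, 11), (.ofNat
  34, 12), (.negSucc 3, 16), (.negSucc 22, 17), (.negSucc 19, 18), (.negSucc 22, 19), (.negSucc 3, 20), (.negSucc 26,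
  21), (.negSucc 74, 23), (.ofNat 9, 24), (.ofNat 13, 25), (.ofNat 11, 26), (.ofNat 7, 27), (.negSucc 3, 36),
  (.negSucc 11, 37)]))

/-- a certificate -/
noncomputable def c13 : Hd × Tr :=
  ((48988800, [], []), (.far (.ofNat 19) [(.negSucc 60, 11), (.ofNat 33, 12), (.ofNat 2, 13), (.ofNat 1, 14), (.ofNat
  4, 15), (.negSucc 6, 17), (.negSucc 8, 18), (.negSucc 3, 19), (.negSucc 13, 20), (.negSucc 4, 21), (.ofNat 41, 22),
  (.negSucc 80, 23), (.ofNat 5, 24), (.ofNat 1, 25), (.ofNat 6, 26), (.negSucc 8, 30), (.ofNat 2, 32), (.negSucc 12,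
  33), (.ofNat 4, 36), (.negSucc 13, 37)]))

/-- a certificate -/
noncomputable def c14 : Hd × Tr :=
  ((46656000, [], []), (.far (.ofNat 115) [(.ofNat 25, 2), (.ofNat 1, 7), (.ofNat 15, 8), (.ofNat 11, 9), (.negSucc
  226, 11), (.ofNat 96, 12), (.negSucc 7, 13), (.ofNat 1, 14), (.ofNat 11, 16), (.negSucc 49, 17), (.negSucc 92, 18),
  (.negSucc 49, 19), (.negSucc 9, 20), (.negSucc 93, 21), (.ofNat 77, 22), (.negSucc 242, 23), (.ofNat 47, 24),
  (.ofNat 73, 25), (.ofNat 11, 26), (.negSucc 2, 28), (.negSucc 14, 31), (.negSucc 38, 37)]))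

/-- a certificate -/
noncomputable def c15 : Hd × Tr :=
  ((43545600, [], []), (.far (.ofNat 90) [(.negSucc 195, 11), (.ofNat 105, 12), (.ofNat 17, 13), (.ofNat 9, 14),
  (.ofNat 11, 15), (.ofNat 15, 16), (.negSucc 20, 17), (.negSucc 80, 18), (.negSucc 11, 19), (.negSucc 21, 20),
  (.negSucc 54, 21), (.ofNat 130, 22), (.negSucc 242, 23), (.ofNat 50, 24), (.ofNat 40, 25), (.ofNat 22, 26),
  (.negSucc 11, 27), (.ofNat 2, 32), (.ofNat 2, 36), (.negSucc 37, 37)]))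

/-- a certificate -/
noncomputable def c16 : Hd × Tr :=
  ((34992000, [], []), (.far (.ofNat 23) [(.negSucc 45, 11), (.ofNat 23, 12), (.negSucc 4, 17), (.negSucc 22, 18),
  (.negSucc 4, 19), (.negSucc 4, 20), (.negSucc 22, 21), (.negSucc 80, 23), (.ofNat 12, 24), (.ofNat 12, 25), (.ofNat
  5, 26), (.ofNat 23, 27), (.negSucc 5, 37)]))

/-- a certificate -/
noncomputable def c17 : Hd × Tr :=
  ((32659200, [], []), (.far (.ofNat 22) [(.negSucc 60, 11), (.ofNat 32, 12), (.ofNat 2, 13), (.ofNat 2, 14), (.ofNat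
  4, 15), (.negSucc 6, 17), (.negSucc 11, 18), (.negSucc 4, 19), (.negSucc 13, 20), (.negSucc 9, 21), (.ofNat 41,
  22), (.negSucc 80, 23), (.ofNat 7, 24), (.ofNat 5, 25), (.ofNat 6, 26), (.negSucc 7, 30), (.ofNat 4, 32), (.negSucc
  9, 33), (.ofNat 3, 36), (.negSucc 13, 37)]))

/-- a certificate -/
noncomputable def c18 : Hd × Tr :=
  ((31104000, [], []), (.far (.ofNat 38) [(.ofNat 7, 2), (.ofNat 2, 6), (.ofNat 5, 8), (.negSucc 72, 11), (.ofNat 33,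
  12), (.negSucc 1, 13), (.ofNat 2, 16), (.negSucc 11, 17), (.negSucc 34, 18), (.negSucc 11, 19), (.negSucc 32, 21),
  (.ofNat 27, 22), (.negSucc 80, 23), (.ofNat 23, 24), (.ofNat 30, 25), (.ofNat 9, 26), (.negSucc 0, 28), (.negSucc
  1, 31), (.negSucc 13, 37)]))

/-- a certificate -/
noncomputable def c19 : Hd × Tr :=
  ((27993600, [], []), (.far (.ofNat 28) [(.ofNat 8, 2), (.ofNat 8, 9), (.negSucc 66, 11), (.ofNat 28, 12), (.negSucc
  14, 17), (.negSucc 15, 18), (.negSucc 14, 19), (.negSucc 3, 20), (.negSucc 20, 21), (.negSucc 80, 23), (.ofNat 8,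
  24), (.ofNat 13, 25), (.ofNat 4, 26), (.ofNat 20, 27), (.negSucc 9, 37)]))

/-- a certificate -/
noncomputable def c20 : Hd × Tr :=
  ((23328000, [], []), (.far (.ofNat 95) [(.ofNat 16, 2), (.ofNat 1, 6), (.ofNat 6, 7), (.ofNat 14, 8), (.negSucc
  242, 11), (.ofNat 77, 12), (.negSucc 1, 13), (.ofNat 6, 14), (.ofNat 9, 16), (.negSucc 40, 17), (.negSucc 150, 18),
  (.negSucc 34, 19), (.negSucc 143, 21), (.ofNat 57, 22), (.negSucc 146, 23), (.ofNat 46, 24), (.ofNat 64, 25),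
  (.ofNat 6, 26), (.negSucc 7, 28), (.negSucc 12, 31)]))

/-- a certificate -/
noncomputable def c21 : Hd × Tr :=
  ((21772800, [], []), (.far (.ofNat 125) [(.ofNat 56, 9), (.negSucc 531, 11), (.ofNat 241, 12), (.negSucc 1, 14),
  (.negSucc 86, 16), (.ofNat 2, 17), (.negSucc 120, 18), (.negSucc 315, 20), (.negSucc 221, 21), (.ofNat 312, 22),
  (.negSucc 728, 23), (.ofNat 14, 25), (.ofNat 11, 26), (.ofNat 101, 28), (.negSucc 331, 29), (.negSucc 304, 30),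
  (.ofNat 92, 31), (.ofNat 120, 32), (.negSucc 55, 33), (.ofNat 13, 36)]))

/-- a certificate -/
noncomputable def c22 : Hd × Tr :=
  ((18662400, [], []), (.far (.ofNat 378) [(.ofNat 95, 1), (.ofNat 284, 2), (.ofNat 95, 5), (.ofNat 47, 6), (.ofNat
  95, 7), (.ofNat 331, 8), (.ofNat 95, 12), (.ofNat 189, 14), (.ofNat 189, 15), (.ofNat 189, 16), (.ofNat 284, 18),
  (.ofNat 95, 19), (.ofNat 508, 20), (.ofNat 331, 21), (.ofNat 437, 23), (.ofNat 1371, 24), (.ofNat 1608, 25),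
  (.ofNat 1750, 26), (.ofNat 1750, 27), (.ofNat 1939, 28), (.ofNat 2187, 29), (.ofNat 2163, 30), (.ofNat 1891, 31),
  (.ofNat 2175, 32), (.ofNat 2128, 33)]))

/-- a certificate -/
noncomputable def c23 : Hd × Tr :=
  ((17496000, [], []), (.far (.ofNat 0) [(.negSucc 0, 22), (.negSucc 0, 23), (.ofNat 1, 27)]))

/-- a certificate -/
noncomputable def c24 : Hd × Tr :=
  ((16329600, [], [(1, 0), (2, 0), (4, 0), (6, 0)]), (.far (.negSucc 1233) [(.negSucc 6427, 1), (.negSucc 1214, 2),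
  (.negSucc 5149, 4), (.negSucc 2429, 6), (.ofNat 3625, 7), (.ofNat 1133, 8), (.ofNat 2411, 12), (.ofNat 1133, 13),
  (.ofNat 2347, 14), (.ofNat 1133, 15), (.ofNat 1133, 16), (.negSucc 3254, 17), (.negSucc 5231, 18), (.ofNat 661,
  19), (.negSucc 1236, 20), (.ofNat 1114, 21), (.negSucc 787, 22), (.negSucc 6560, 23), (.negSucc 1872, 24),
  (.negSucc 1872, 25), (.negSucc 287, 26), (.negSucc 2792, 27), (.negSucc 1132, 28), (.negSucc 1666, 29), (.negSucc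
  3561, 31), (.negSucc 1214, 33), (.ofNat 2955, 35)]))

/-- a certificate -/
noncomputable def c25 : Hd × Tr :=
  ((10200960, [], [(1, 0)]), (.far (.negSucc 242) [(.negSucc 161, 1), (.ofNat 24, 5), (.ofNat 80, 7), (.ofNat 42,
  11), (.ofNat 23, 15), (.negSucc 88, 18), (.ofNat 91, 21), (.negSucc 24, 22), (.negSucc 34, 23), (.negSucc 55, 24),
  (.negSucc 17, 25), (.ofNat 36, 26), (.negSucc 14, 27), (.ofNat 40, 28), (.ofNat 2, 29), (.negSucc 43, 30), (.ofNat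
  23, 33), (.ofNat 61, 34), (.ofNat 41, 36), (.ofNat 6, 37)]))

/-- a certificate -/
noncomputable def c26 : Hd × Tr :=
  ((10200960, [], [(2, 0)]), (.far (.negSucc 2186) [(.negSucc 1174, 2), (.ofNat 155, 7), (.ofNat 990, 13), (.negSucc
  339, 18), (.ofNat 831, 19), (.negSucc 51, 20), (.ofNat 1128, 21), (.ofNat 1429, 22), (.negSucc 825, 23), (.ofNat
  376, 24), (.negSucc 747, 25), (.ofNat 376, 26), (.ofNat 555, 27), (.ofNat 654, 28), (.ofNat 138, 29), (.ofNat 169,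
  30), (.ofNat 712, 31), (.ofNat 401, 32), (.ofNat 387, 33), (.ofNat 714, 34), (.ofNat 233, 36), (.ofNat 4, 37)]))

/-- a certificate -/
noncomputable def c27 : Hd × Tr :=
  ((10200960, [], [(4, 0)]), (.far (.negSucc 2) [(.negSucc 2, 4), (.ofNat 1, 11), (.ofNat 1, 13), (.ofNat 1, 19),
  (.negSucc 0, 20), (.ofNat 1, 21), (.ofNat 1, 22), (.negSucc 0, 23), (.negSucc 0, 25), (.ofNat 1, 35)]))

/-- a certificate -/
noncomputable def c28 : Hd × Tr :=
  ((10200960, [], [(6, 0)]), (.far (.negSucc 19682) [(.negSucc 5398, 6), (.ofNat 6921, 13), (.ofNat 3338, 14),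
  (.ofNat 3240, 15), (.negSucc 5955, 18), (.ofNat 9424, 19), (.negSucc 2917, 20), (.ofNat 1620, 21), (.ofNat 7423,
  22), (.ofNat 1129, 24), (.ofNat 589, 25), (.ofNat 4467, 26), (.ofNat 3850, 27), (.ofNat 7837, 28), (.negSucc 1144,
  30), (.ofNat 10848, 31), (.ofNat 12811, 32), (.ofNat 10635, 33), (.ofNat 6736, 34), (.ofNat 4712, 36), (.ofNat
  2861, 37)]))

/-- a certificate -/
noncomputable def c29 : Hd × Tr :=
  ((15552000, [], []), (.far (.ofNat 370) [(.ofNat 247, 2), (.ofNat 62, 5), (.ofNat 31, 6), (.ofNat 185, 7), (.ofNat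
  278, 8), (.ofNat 123, 12), (.ofNat 185, 14), (.ofNat 185, 15), (.ofNat 185, 16), (.ofNat 185, 18), (.ofNat 185,
  19), (.ofNat 537, 20), (.ofNat 339, 21), (.ofNat 182, 23), (.ofNat 1408, 24), (.ofNat 1624, 25), (.ofNat 1655, 26),
  (.ofNat 1778, 27), (.ofNat 1902, 28), (.ofNat 2187, 29), (.ofNat 2110, 30), (.ofNat 1871, 31), (.ofNat 2118, 32),
  (.ofNat 2087, 33)]))

/-- a certificate -/
noncomputable def c30 : Hd × Tr :=
  ((13996800, [], []), (.far (.ofNat 0) [(.negSucc 0, 22), (.negSucc 0, 23), (.ofNat 1, 27)]))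

/-- a certificate -/
noncomputable def c31 : Hd × Tr :=
  ((11664000, [], []), (.far (.ofNat 370) [(.ofNat 247, 2), (.ofNat 62, 5), (.ofNat 31, 6), (.ofNat 185, 7), (.ofNat
  278, 8), (.ofNat 123, 12), (.ofNat 185, 14), (.ofNat 185, 15), (.ofNat 185, 16), (.ofNat 185, 18), (.ofNat 185,
  19), (.ofNat 537, 20), (.ofNat 339, 21), (.ofNat 182, 23), (.ofNat 1408, 24), (.ofNat 1624, 25), (.ofNat 1655, 26),
  (.ofNat 1778, 27), (.ofNat 1902, 28), (.ofNat 2187, 29), (.ofNat 2110, 30), (.ofNat 1871, 31), (.ofNat 2118, 32),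
  (.ofNat 2087, 33)]))

/-- a certificate -/
noncomputable def c32 : Hd × Tr :=
  ((10886400, [], [(1, 0), (2, 0), (4, 0), (6, 0)]), (.far (.negSucc 8) [(.negSucc 15, 1), (.negSucc 14, 2),
  (.negSucc 17, 4), (.negSucc 3, 6), (.negSucc 0, 8), (.ofNat 6, 12), (.ofNat 6, 13), (.ofNat 4, 14), (.ofNat 3, 15),
  (.ofNat 10, 19), (.negSucc 17, 20), (.ofNat 8, 21), (.ofNat 15, 22), (.negSucc 26, 23), (.negSucc 4, 24), (.negSucc
  12, 25), (.negSucc 1, 27), (.ofNat 1, 32), (.negSucc 2, 33), (.ofNat 10, 35)]))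

/-- a certificate -/
noncomputable def c33 : Hd × Tr :=
  ((9331200, [], [(1, 0), (4, 0)]), (.far (.ofNat 18) [(.negSucc 45, 1), (.ofNat 1, 2), (.negSucc 50, 4), (.ofNat 3,
  5), (.ofNat 2, 6), (.ofNat 2, 8), (.ofNat 17, 12), (.ofNat 3, 14), (.ofNat 2, 16), (.negSucc 26, 18), (.ofNat 43,
  19), (.negSucc 54, 20), (.ofNat 18, 21), (.ofNat 9, 22), (.negSucc 80, 23), (.ofNat 12, 24), (.ofNat 14, 25),
  (.ofNat 3, 26), (.negSucc 0, 31), (.ofNat 2, 33)]))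

/-- a certificate -/
noncomputable def c34 : Hd × Tr :=
  ((8748000, [], []), (.far (.ofNat 0) [(.negSucc 0, 22), (.negSucc 0, 23), (.ofNat 1, 27)]))

/-- a certificate -/
noncomputable def c35 : Hd × Tr :=
  ((7776000, [], [(1, 0), (2, 0), (4, 0), (6, 0), (8, 0)]), (.far (.ofNat 32) [(.negSucc 141, 1), (.negSucc 7, 2),
  (.negSucc 163, 4), (.ofNat 21, 5), (.negSucc 9, 6), (.negSucc 17, 8), (.ofNat 41, 9), (.ofNat 57, 12), (.ofNat 22,
  14), (.ofNat 11, 16), (.ofNat 86, 19), (.negSucc 176, 20), (.ofNat 77, 21), (.negSucc 242, 23), (.ofNat 7, 25),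
  (.ofNat 4, 27), (.ofNat 28, 28), (.negSucc 30, 29), (.negSucc 12, 30), (.negSucc 1, 31), (.negSucc 9, 32), (.ofNat
  22, 33)]))

/-- a certificate -/
noncomputable def c36 : Hd × Tr :=
  ((10200960, [], [(8, 0)]), (.far (.negSucc 728) [(.negSucc 379, 8), (.ofNat 87, 11), (.ofNat 122, 13), (.ofNat 122,
  14), (.negSucc 94, 18), (.ofNat 152, 19), (.negSucc 218, 20), (.ofNat 42, 21), (.ofNat 440, 22), (.negSucc 490,
  23), (.negSucc 67, 24), (.negSucc 204, 25), (.ofNat 76, 26), (.ofNat 15, 28), (.negSucc 47, 29), (.negSucc 475,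
  30), (.ofNat 76, 31), (.ofNat 243, 32), (.ofNat 106, 33), (.ofNat 198, 34), (.ofNat 111, 37)]))

/-- a certificate -/
noncomputable def c37 : Hd × Tr :=
  ((6998400, [], []), (.far (.ofNat 0) [(.negSucc 0, 22), (.negSucc 0, 23), (.ofNat 1, 27)]))

/-- a certificate -/
noncomputable def c38 : Hd × Tr :=
  ((6220800, [], [(1, 0), (4, 0)]), (.far (.ofNat 1879) [(.negSucc 2734, 1), (.ofNat 344, 2), (.negSucc 2343, 4),
  (.ofNat 498, 5), (.ofNat 74, 6), (.ofNat 1704, 7), (.ofNat 418, 8), (.ofNat 350, 9), (.ofNat 2068, 12), (.ofNat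
  1314, 14), (.ofNat 222, 15), (.ofNat 768, 16), (.ofNat 1502, 19), (.ofNat 2169, 21), (.ofNat 290, 22), (.negSucc
  3253, 23), (.ofNat 3840, 24), (.ofNat 4668, 25), (.ofNat 4837, 26), (.ofNat 4096, 27), (.ofNat 5753, 28), (.ofNat
  6561, 29), (.ofNat 5476, 30), (.ofNat 5328, 31), (.ofNat 5672, 32), (.ofNat 5988, 33)]))

/-- a certificate -/
noncomputable def c39 : Hd × Tr :=
  ((5832000, [], [(1, 0), (4, 0)]), (.far (.ofNat 550) [(.negSucc 821, 1), (.ofNat 228, 2), (.negSucc 889, 4),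
  (.ofNat 499, 5), (.ofNat 284, 6), (.ofNat 444, 8), (.ofNat 136, 12), (.ofNat 34, 15), (.ofNat 17, 16), (.ofNat 754,
  19), (.ofNat 470, 21), (.ofNat 373, 22), (.negSucc 705, 23), (.ofNat 1748, 24), (.ofNat 1845, 25), (.ofNat 1062,
  26), (.ofNat 1130, 27), (.ofNat 1578, 28), (.ofNat 2187, 29), (.ofNat 1952, 30), (.ofNat 1329, 31), (.ofNat 1557,
  32), (.ofNat 1816, 33)]))

/-- a certificate -/
noncomputable def c40 : Hd × Tr :=
  ((5443200, [], [(1, 0), (2, 0), (4, 0), (6, 0), (8, 0)]), (.far (.negSucc 264) [(.negSucc 615, 1), (.negSucc 332,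
  2), (.negSucc 402, 4), (.negSucc 159, 6), (.ofNat 225, 7), (.negSucc 171, 8), (.ofNat 429, 12), (.ofNat 36, 13),
  (.ofNat 368, 14), (.ofNat 191, 15), (.ofNat 184, 16), (.ofNat 322, 19), (.ofNat 467, 21), (.ofNat 684, 22),
  (.negSucc 728, 23), (.ofNat 48, 24), (.ofNat 48, 25), (.ofNat 357, 26), (.ofNat 413, 28), (.ofNat 375, 29), (.ofNat
  113, 30), (.ofNat 609, 31), (.ofNat 597, 32), (.ofNat 272, 33), (.ofNat 178, 36), (.ofNat 152, 37)]))

/-- certificates -/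
noncomputable def CL0 : List (Hd × Tr) :=
  [c0, c1, c2, c3, c4, c5, c6, c7, c8, c9, c10, c11, c12, c13, c14, c15, c16, c17, c18, c19, c20, c21, c22, c23, c24,
  c25, c26, c27, c28, c29, c30, c31, c32, c33, c34, c35, c36, c37, c38, c39, c40]

theorem okC0 : okL TAB.Co3.D (TAB.Sm2.mkRows TAB.Co3.A TAB.Co3.B) P Z CL0 = true := by decide +kernel

/-- a certificate -/
noncomputable def c41 : Hd × Tr :=
  ((4665600, [], [(1, 0), (4, 0), (6, 0), (8, 0)]), (.bf 8 5 (.bf 9 5 (.bf 3 234 (.bf 4 81 (.bf 5 0 (.bf 1 644 (.bf 2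
  154 (.bm 34 1 (.far (.ofNat 134) [(.negSucc 133, 1), (.negSucc 133, 4), (.ofNat 134, 12), (.ofNat 134, 19), (.ofNat
  134, 21), (.ofNat 243, 22), (.ofNat 97, 24), (.ofNat 97, 25), (.ofNat 97, 26), (.negSucc 11, 27), (.ofNat 97, 28),
  (.ofNat 85, 29), (.ofNat 109, 30), (.ofNat 97, 31), (.ofNat 97, 32), (.ofNat 97, 33), (.negSucc 78, 34), (.ofNat
  12, 37)]) (.far (.ofNat 0) [(.ofNat 1, 22), (.ofNat 1, 24), (.ofNat 1, 25), (.ofNat 1, 26), (.ofNat 1, 28), (.ofNat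
  1, 29), (.ofNat 1, 30), (.ofNat 1, 31), (.ofNat 1, 32), (.ofNat 1, 33), (.ofNat 1, 34)])) (.far (.ofNat 278)
  [(.negSucc 138, 1), (.ofNat 417, 2), (.negSucc 416, 4), (.negSucc 68, 6), (.ofNat 347, 8), (.ofNat 139, 9), (.ofNat
  278, 14), (.ofNat 278, 15), (.ofNat 278, 16), (.ofNat 417, 19), (.ofNat 347, 21), (.ofNat 1979, 23), (.ofNat 1059,
  24), (.ofNat 1406, 25), (.ofNat 1336, 26), (.ofNat 1059, 27), (.ofNat 1475, 28), (.ofNat 2187, 29), (.ofNat 1319,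
  30), (.ofNat 1406, 31), (.ofNat 1822, 32), (.ofNat 1614, 33)])) (.far (.ofNat 1587) [(.negSucc 6536, 1), (.ofNat
  1184, 2), (.negSucc 6536, 4), (.negSucc 2273, 6), (.negSucc 1089, 8), (.ofNat 1587, 9), (.ofNat 6040, 12), (.ofNat
  3956, 15), (.ofNat 497, 16), (.ofNat 1682, 17), (.ofNat 7224, 19), (.ofNat 12767, 21), (.ofNat 7058, 22), (.ofNat
  10682, 24), (.ofNat 4548, 25), (.ofNat 10090, 26), (.ofNat 4619, 27), (.ofNat 7319, 28), (.ofNat 12648, 29),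
  (.ofNat 16628, 30), (.ofNat 18499, 31), (.ofNat 19683, 32), (.ofNat 18593, 33), (.ofNat 1433, 37)])) (.far (.ofNat
  362) [(.negSucc 199, 1), (.ofNat 454, 2), (.negSucc 755, 4), (.ofNat 410, 6), (.ofNat 704, 7), (.negSucc 105, 8),
  (.ofNat 151, 9), (.ofNat 129, 12), (.ofNat 89, 14), (.ofNat 145, 16), (.ofNat 9, 18), (.ofNat 289, 19), (.ofNat
  545, 21), (.ofNat 1065, 24), (.ofNat 1177, 25), (.ofNat 1383, 26), (.ofNat 2187, 27), (.ofNat 1286, 28), (.ofNat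
  1980, 29), (.ofNat 1435, 30), (.ofNat 1244, 31), (.ofNat 1899, 32), (.ofNat 1728, 33), (.ofNat 74, 37)])) (.far
  (.ofNat 6428) [(.negSucc 17877, 1), (.ofNat 4634, 2), (.negSucc 21105, 4), (.negSucc 3213, 6), (.ofNat 1420, 8),
  (.ofNat 6428, 9), (.ofNat 8939, 12), (.ofNat 3228, 14), (.ofNat 2652, 17), (.ofNat 18019, 19), (.ofNat 12153, 21),
  (.ofNat 1327, 22), (.ofNat 15462, 24), (.ofNat 19393, 25), (.ofNat 37943, 26), (.ofNat 37804, 27), (.ofNat 43794,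
  28), (.ofNat 45227, 29), (.ofNat 59049, 30), (.ofNat 40580, 31), (.ofNat 45215, 32), (.ofNat 36649, 33), (.ofNat
  7380, 37)])) (.far (.ofNat 9263) [(.negSucc 9262, 1), (.ofNat 9263, 2), (.negSucc 9262, 4), (.ofNat 9263, 5),
  (.ofNat 4631, 6), (.ofNat 13894, 8), (.ofNat 46313, 17), (.ofNat 55576, 19), (.ofNat 4631, 21), (.ofNat 46313, 22),
  (.ofNat 20841, 23), (.ofNat 116940, 24), (.ofNat 121571, 25), (.ofNat 116940, 26), (.ofNat 116940, 27), (.ofNat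
  172516, 28), (.ofNat 71785, 29), (.ofNat 97257, 30), (.ofNat 167884, 31), (.ofNat 177147, 32), (.ofNat 172516, 33),
  (.ofNat 27788, 37)])) (.far (.ofNat 124) [(.negSucc 312, 1), (.ofNat 114, 2), (.negSucc 728, 4), (.ofNat 113, 6),
  (.negSucc 113, 8), (.ofNat 114, 9), (.ofNat 77, 12), (.ofNat 75, 14), (.ofNat 360, 19), (.ofNat 304, 21), (.ofNat
  433, 24), (.ofNat 443, 25), (.ofNat 360, 26), (.ofNat 429, 27), (.ofNat 228, 28), (.ofNat 182, 29), (.ofNat 556,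
  30), (.ofNat 171, 31), (.ofNat 285, 32), (.ofNat 332, 33)])) (.far (.ofNat 440) [(.negSucc 555, 1), (.ofNat 391,
  2), (.negSucc 1021, 4), (.ofNat 517, 5), (.ofNat 414, 6), (.ofNat 503, 8), (.ofNat 10, 10), (.ofNat 164, 14),
  (.ofNat 87, 16), (.ofNat 252, 17), (.ofNat 644, 19), (.ofNat 134, 20), (.ofNat 317, 21), (.ofNat 1674, 24), (.ofNat
  1874, 25), (.ofNat 1030, 26), (.ofNat 917, 27), (.ofNat 1382, 28), (.ofNat 1952, 29), (.ofNat 2187, 30), (.ofNat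
  1134, 31), (.ofNat 1534, 32), (.ofNat 1674, 33)])))

/-- a certificate -/
noncomputable def c42 : Hd × Tr :=
  ((4374000, [], [(1, 0), (4, 0), (8, 0)]), (.bf 8 4 (.bf 9 4 (.bf 3 136 (.bf 3 106 (.far (.ofNat 8698) [(.negSucc
  6654, 1), (.ofNat 5620, 2), (.negSucc 19682, 4), (.ofNat 4470, 6), (.negSucc 638, 8), (.ofNat 1788, 9), (.ofNat
  5250, 12), (.ofNat 2299, 14), (.ofNat 1150, 16), (.ofNat 999, 17), (.ofNat 9953, 19), (.ofNat 10359, 21), (.ofNat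
  15022, 24), (.ofNat 16299, 25), (.ofNat 10952, 26), (.ofNat 14135, 27), (.ofNat 4925, 28), (.ofNat 14870, 29),
  (.ofNat 19324, 30), (.ofNat 4031, 31), (.ofNat 9651, 32), (.ofNat 9268, 33)]) (.bf 4 55 (.far (.ofNat 1834)
  [(.negSucc 1580, 1), (.ofNat 696, 2), (.negSucc 3193, 4), (.ofNat 553, 6), (.negSucc 78, 8), (.ofNat 221, 9),
  (.ofNat 1407, 12), (.ofNat 285, 14), (.ofNat 142, 16), (.ofNat 275, 17), (.ofNat 2141, 19), (.ofNat 2039, 21),
  (.ofNat 6403, 24), (.ofNat 6561, 25), (.ofNat 2416, 26), (.ofNat 3718, 27), (.ofNat 1821, 28), (.negSucc 1036, 29),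
  (.negSucc 2908, 30), (.ofNat 1711, 31), (.ofNat 2406, 32), (.ofNat 2359, 33)]) (.bf 5 7 (.bf 1 448 (.far (.ofNat
  9866) [(.negSucc 2844, 1), (.ofNat 7020, 2), (.negSucc 14296, 4), (.ofNat 3055, 6), (.ofNat 3965, 8), (.ofNat 1854,
  12), (.ofNat 5341, 14), (.ofNat 2670, 16), (.ofNat 1224, 17), (.ofNat 9411, 19), (.ofNat 2239, 21), (.ofNat 9386,
  24), (.ofNat 19683, 25), (.ofNat 9377, 26), (.ofNat 9097, 27), (.ofNat 10823, 28), (.ofNat 8041, 29), (.ofNat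
  17743, 30), (.negSucc 464, 31), (.ofNat 6555, 32), (.ofNat 6252, 33)]) (.far (.ofNat 481) [(.negSucc 723, 1),
  (.ofNat 536, 2), (.negSucc 2186, 4), (.ofNat 536, 6), (.negSucc 389, 8), (.ofNat 390, 9), (.ofNat 481, 12), (.ofNat
  47, 17), (.ofNat 772, 19), (.ofNat 1407, 21), (.ofNat 968, 24), (.ofNat 431, 25), (.ofNat 396, 26), (.ofNat 632,
  27), (.negSucc 774, 28), (.ofNat 526, 29), (.ofNat 1718, 30), (.negSucc 92, 31), (.ofNat 443, 32), (.ofNat 297,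
  33)])) (.far (.ofNat 42) [(.negSucc 47, 1), (.ofNat 21, 2), (.negSucc 72, 4), (.ofNat 4, 6), (.ofNat 4, 8), (.ofNat
  13, 9), (.ofNat 36, 12), (.ofNat 4, 14), (.ofNat 2, 16), (.ofNat 11, 17), (.ofNat 64, 19), (.ofNat 50, 21), (.ofNat
  139, 24), (.ofNat 147, 25), (.ofNat 178, 26), (.ofNat 219, 27), (.ofNat 185, 28), (.ofNat 243, 29), (.ofNat 185,
  30), (.ofNat 179, 31), (.ofNat 199, 32), (.ofNat 184, 33)])))) (.far (.ofNat 26097) [(.negSucc 42381, 1), (.ofNat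
  39946, 2), (.negSucc 82605, 4), (.ofNat 2505, 6), (.ofNat 9325, 8), (.ofNat 28115, 9), (.ofNat 15449, 12), (.ofNat
  7098, 14), (.ofNat 3549, 16), (.ofNat 11970, 17), (.ofNat 61450, 19), (.ofNat 42521, 21), (.ofNat 112426, 24),
  (.ofNat 127667, 25), (.ofNat 138384, 26), (.ofNat 156339, 27), (.ofNat 151259, 28), (.ofNat 80449, 29), (.ofNat
  132782, 30), (.ofNat 137201, 31), (.ofNat 177147, 32), (.ofNat 142073, 33)])) (.far (.ofNat 705) [(.negSucc 679,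
  1), (.ofNat 723, 2), (.negSucc 1951, 4), (.ofNat 350, 6), (.ofNat 24, 8), (.ofNat 348, 9), (.ofNat 369, 12),
  (.ofNat 225, 14), (.ofNat 112, 16), (.ofNat 138, 17), (.ofNat 1042, 19), (.ofNat 955, 21), (.ofNat 1453, 24),
  (.ofNat 1664, 25), (.ofNat 1372, 26), (.ofNat 1579, 27), (.ofNat 998, 28), (.ofNat 1012, 29), (.ofNat 2187, 30),
  (.ofNat 824, 31), (.ofNat 1546, 32), (.ofNat 1248, 33)])) (.far (.ofNat 401) [(.negSucc 579, 1), (.ofNat 250, 2),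
  (.negSucc 993, 4), (.ofNat 429, 5), (.ofNat 393, 6), (.ofNat 285, 8), (.ofNat 56, 14), (.ofNat 28, 16), (.ofNat
  145, 17), (.ofNat 669, 19), (.ofNat 365, 21), (.ofNat 1759, 24), (.ofNat 1822, 25), (.ofNat 1090, 26), (.ofNat
  1369, 27), (.ofNat 1401, 28), (.ofNat 2187, 29), (.ofNat 1769, 30), (.ofNat 1187, 31), (.ofNat 1437, 32), (.ofNat
  1759, 33)])))

/-- a certificate -/
noncomputable def c43 : Hd × Tr :=
  ((3499200, [], [(1, 0), (2, 0), (4, 0), (6, 0), (8, 0)]), (.bf 8 10 (.bf 9 5 (.bf 3 263 (.bf 4 95 (.bf 5 14 (.bf 1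
  896 (.bm 3 0 (.bm 34 1 (.bm 34 0 (.far (.ofNat 58) [(.negSucc 75, 1), (.ofNat 30, 2), (.negSucc 17, 3), (.negSucc
  80, 4), (.ofNat 28, 5), (.negSucc 0, 6), (.ofNat 40, 8), (.ofNat 33, 12), (.ofNat 24, 14), (.ofNat 54, 19), (.ofNat
  52, 21), (.ofNat 10, 24), (.ofNat 54, 25), (.negSucc 0, 26), (.negSucc 14, 27), (.ofNat 32, 28), (.ofNat 31, 29),
  (.ofNat 80, 30), (.ofNat 13, 31), (.ofNat 55, 32), (.ofNat 25, 33), (.ofNat 26, 37), (.negSucc 42, 34)]) (.bm 35 0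
  (.far (.negSucc 26) [(.negSucc 433, 1), (.ofNat 254, 2), (.negSucc 118, 3), (.negSucc 530, 4), (.ofNat 155, 5),
  (.ofNat 76, 6), (.negSucc 313, 8), (.ofNat 44, 10), (.ofNat 138, 15), (.ofNat 155, 17), (.ofNat 425, 19), (.ofNat
  96, 21), (.ofNat 713, 25), (.negSucc 22, 26), (.negSucc 286, 27), (.negSucc 336, 28), (.negSucc 134, 29), (.ofNat
  120, 30), (.ofNat 130, 31), (.ofNat 218, 34), (.negSucc 728, 35), (.ofNat 161, 37)]) (.far (.negSucc 97) [(.ofNat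
  135, 1), (.ofNat 99, 2), (.negSucc 374, 3), (.negSucc 728, 4), (.ofNat 130, 5), (.ofNat 68, 6), (.ofNat 453, 7),
  (.ofNat 37, 8), (.ofNat 74, 9), (.ofNat 166, 14), (.ofNat 136, 21), (.ofNat 218, 26), (.ofNat 437, 27), (.ofNat 62,
  28), (.ofNat 191, 29), (.ofNat 442, 30), (.negSucc 140, 31), (.ofNat 616, 32), (.ofNat 179, 33), (.negSucc 146,
  34), (.ofNat 326, 35)]))) (.far (.negSucc 495) [(.negSucc 73, 1), (.negSucc 78, 2), (.negSucc 150, 4), (.negSucc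
  41, 6), (.negSucc 86, 8), (.ofNat 246, 9), (.ofNat 196, 10), (.ofNat 195, 13), (.ofNat 169, 14), (.ofNat 135, 15),
  (.ofNat 261, 16), (.ofNat 85, 21), (.ofNat 278, 24), (.ofNat 202, 25), (.ofNat 516, 26), (.ofNat 621, 27), (.ofNat
  496, 28), (.ofNat 471, 29), (.ofNat 631, 30), (.ofNat 729, 31), (.ofNat 593, 32), (.ofNat 581, 33), (.ofNat 39,
  36), (.ofNat 367, 34)])) (.far (.ofNat 46) [(.negSucc 67, 1), (.ofNat 48, 2), (.negSucc 114, 4), (.ofNat 34, 6),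
  (.ofNat 35, 8), (.ofNat 35, 9), (.ofNat 36, 12), (.ofNat 56, 16), (.ofNat 78, 19), (.ofNat 87, 21), (.ofNat 134,
  24), (.ofNat 128, 25), (.ofNat 128, 26), (.ofNat 184, 27), (.ofNat 158, 28), (.ofNat 136, 29), (.ofNat 243, 30),
  (.ofNat 150, 31), (.ofNat 141, 32), (.ofNat 182, 33), (.ofNat 1, 37), (.ofNat 56, 3)])) (.far (.negSucc 98)
  [(.negSucc 1103, 1), (.negSucc 72, 2), (.negSucc 1103, 4), (.ofNat 196, 5), (.negSucc 23, 6), (.negSucc 244, 8),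
  (.ofNat 98, 9), (.ofNat 681, 12), (.ofNat 464, 17), (.ofNat 592, 19), (.ofNat 1639, 21), (.ofNat 1388, 24), (.ofNat
  486, 25), (.ofNat 765, 26), (.ofNat 307, 27), (.ofNat 529, 28), (.ofNat 1410, 29), (.ofNat 1869, 30), (.ofNat 2187,
  31), (.ofNat 1966, 32), (.ofNat 2144, 33), (.ofNat 378, 37)])) (.far (.ofNat 270) [(.negSucc 40, 1), (.ofNat 555,
  2), (.negSucc 681, 4), (.ofNat 420, 6), (.ofNat 572, 7), (.negSucc 123, 8), (.ofNat 270, 9), (.ofNat 12, 10),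
  (.ofNat 181, 12), (.ofNat 38, 14), (.ofNat 63, 16), (.ofNat 202, 18), (.ofNat 67, 19), (.ofNat 541, 21), (.ofNat
  874, 24), (.ofNat 924, 25), (.ofNat 1251, 26), (.ofNat 2187, 27), (.ofNat 1335, 28), (.ofNat 1688, 29), (.ofNat
  1360, 30), (.ofNat 1225, 31), (.ofNat 1869, 32), (.ofNat 1501, 33), (.ofNat 52, 37)])) (.far (.ofNat 884)
  [(.negSucc 1902, 1), (.ofNat 850, 2), (.negSucc 1929, 4), (.negSucc 529, 6), (.ofNat 395, 8), (.ofNat 884, 9),
  (.ofNat 1028, 12), (.ofNat 27, 14), (.ofNat 1759, 19), (.ofNat 1381, 21), (.ofNat 1948, 24), (.ofNat 2437, 25),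
  (.ofNat 4631, 26), (.ofNat 5417, 27), (.ofNat 5438, 28), (.ofNat 5911, 29), (.ofNat 6561, 30), (.ofNat 4957, 31),
  (.ofNat 5883, 32), (.ofNat 4521, 33), (.ofNat 793, 37)])) (.far (.negSucc 5814) [(.negSucc 10128, 1), (.ofNat 1302,
  2), (.negSucc 9473, 4), (.ofNat 4314, 5), (.negSucc 1892, 6), (.ofNat 2676, 8), (.ofNat 8100, 9), (.ofNat 3267,
  10), (.ofNat 2612, 14), (.ofNat 2940, 16), (.ofNat 53657, 17), (.ofNat 50717, 19), (.ofNat 104286, 24), (.ofNat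
  106243, 25), (.ofNat 118266, 26), (.ofNat 165396, 27), (.ofNat 175517, 28), (.ofNat 36163, 29), (.ofNat 79731, 30),
  (.ofNat 172578, 31), (.ofNat 177147, 32), (.ofNat 171340, 33), (.ofNat 38755, 37)])) (.far (.negSucc 337)
  [(.negSucc 666, 1), (.negSucc 461, 2), (.negSucc 728, 4), (.ofNat 86, 5), (.negSucc 134, 6), (.negSucc 228, 8),
  (.ofNat 14, 9), (.ofNat 26, 10), (.ofNat 219, 12), (.ofNat 24, 19), (.ofNat 193, 20), (.ofNat 72, 21), (.ofNat 215,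
  24), (.ofNat 249, 25), (.ofNat 217, 26), (.ofNat 138, 27), (.negSucc 39, 28), (.negSucc 106, 29), (.negSucc 187,
  30), (.ofNat 8, 31), (.ofNat 2, 32), (.negSucc 233, 33)])) (.far (.ofNat 472) [(.negSucc 500, 1), (.ofNat 448, 2),
  (.negSucc 567, 4), (.ofNat 477, 5), (.ofNat 267, 6), (.ofNat 657, 8), (.ofNat 9, 14), (.ofNat 5, 16), (.ofNat 24,
  17), (.ofNat 516, 19), (.ofNat 305, 20), (.ofNat 263, 21), (.ofNat 1660, 24), (.ofNat 1873, 25), (.ofNat 1144, 26),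
  (.ofNat 1189, 27), (.ofNat 1602, 28), (.ofNat 2187, 29), (.ofNat 2018, 30), (.ofNat 1363, 31), (.ofNat 1811, 32),
  (.ofNat 1660, 33)])))

/-- certificates -/
noncomputable def CL1 : List (Hd × Tr) :=
  [c41, c42, c43]

theorem okC1 : okL TAB.Co3.D (TAB.Sm2.mkRows TAB.Co3.A TAB.Co3.B) P Z CL1 = true := by decide +kernel

/-- a certificate -/
noncomputable def c44 : Hd × Tr :=
  ((2916000, [], [(1, 0), (2, 0), (4, 0), (6, 0), (8, 0)]), (.bf 8 16 (.bf 9 6 (.bf 3 354 (.bf 4 144 (.bf 5 21 (.bf 1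
  896 (.bf 2 308 (.bm 3 0 (.bm 34 0 (.far (.ofNat 58) [(.negSucc 57, 1), (.ofNat 13, 2), (.negSucc 15, 3), (.negSucc
  80, 4), (.ofNat 13, 5), (.negSucc 5, 6), (.ofNat 16, 8), (.ofNat 41, 12), (.ofNat 33, 14), (.ofNat 45, 19), (.ofNat
  19, 21), (.ofNat 56, 25), (.ofNat 16, 26), (.ofNat 3, 27), (.ofNat 29, 28), (.ofNat 3, 29), (.ofNat 20, 30),
  (.negSucc 29, 31), (.negSucc 15, 33), (.ofNat 4, 37), (.negSucc 42, 34)]) (.bm 35 0 (.far (.negSucc 102) [(.negSucc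
  362, 1), (.ofNat 225, 2), (.negSucc 267, 3), (.negSucc 728, 4), (.ofNat 94, 5), (.negSucc 75, 6), (.negSucc 468,
  8), (.ofNat 2, 9), (.ofNat 196, 15), (.ofNat 172, 17), (.ofNat 267, 19), (.ofNat 51, 21), (.ofNat 710, 25), (.ofNat
  167, 26), (.ofNat 29, 27), (.negSucc 379, 28), (.negSucc 128, 29), (.negSucc 67, 30), (.ofNat 23, 31), (.ofNat 265,
  32), (.negSucc 108, 33), (.ofNat 205, 34), (.negSucc 591, 35)]) (.bm 7 0 (.bf 8 6 (.bf 9 1 (.far (.ofNat 12)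
  [(.negSucc 23, 1), (.negSucc 12, 3), (.negSucc 80, 4), (.ofNat 24, 5), (.ofNat 17, 6), (.negSucc 9, 7), (.ofNat 8,
  8), (.ofNat 3, 12), (.ofNat 10, 14), (.ofNat 9, 17), (.ofNat 5, 19), (.ofNat 13, 21), (.ofNat 14, 26), (.ofNat 14,
  27), (.negSucc 3, 28), (.ofNat 15, 30), (.negSucc 23, 31), (.ofNat 17, 32), (.ofNat 15, 33), (.ofNat 14, 35)])
  (.far (.negSucc 30) [(.negSucc 55, 1), (.negSucc 50, 2), (.negSucc 7, 3), (.negSucc 80, 4), (.ofNat 12, 5),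
  (.negSucc 19, 6), (.negSucc 32, 7), (.negSucc 19, 8), (.ofNat 20, 9), (.ofNat 15, 12), (.ofNat 10, 13), (.ofNat 8,
  21), (.ofNat 27, 24), (.negSucc 1, 26), (.ofNat 8, 27), (.negSucc 9, 28), (.negSucc 27, 29), (.negSucc 15, 30),
  (.negSucc 33, 31), (.negSucc 33, 32), (.negSucc 21, 33), (.ofNat 27, 35)])) (.far (.negSucc 1585) [(.negSucc 1645,
  1), (.negSucc 1991, 2), (.ofNat 21, 3), (.negSucc 2186, 4), (.ofNat 654, 5), (.negSucc 20, 6), (.ofNat 24, 7),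
  (.ofNat 17, 8), (.ofNat 573, 13), (.ofNat 543, 14), (.ofNat 83, 17), (.ofNat 83, 19), (.ofNat 1022, 24), (.ofNat
  167, 26), (.negSucc 354, 27), (.ofNat 406, 28), (.ofNat 445, 29), (.ofNat 445, 30), (.negSucc 290, 31), (.negSucc
  251, 32), (.ofNat 73, 33), (.ofNat 1313, 35)])) (.far (.negSucc 16) [(.ofNat 5, 1), (.negSucc 5, 2), (.negSucc 20,
  3), (.negSucc 26, 4), (.ofNat 10, 5), (.negSucc 0, 6), (.negSucc 0, 8), (.ofNat 7, 13), (.ofNat 14, 14), (.ofNat 1,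
  17), (.ofNat 9, 26), (.negSucc 2, 27), (.ofNat 5, 28), (.ofNat 13, 29), (.ofNat 13, 30), (.ofNat 18, 32), (.ofNat
  10, 33), (.ofNat 15, 35), (.ofNat 23, 7)])))) (.far (.ofNat 0) [(.negSucc 7787, 1), (.ofNat 958, 2), (.negSucc
  14720, 4), (.ofNat 8900, 6), (.ofNat 1967, 7), (.ofNat 958, 8), (.ofNat 5777, 12), (.ofNat 4527, 16), (.ofNat 677,
  17), (.ofNat 7060, 19), (.ofNat 8344, 21), (.ofNat 12783, 24), (.ofNat 8812, 25), (.ofNat 6929, 26), (.ofNat 12987,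
  27), (.ofNat 13945, 28), (.ofNat 8840, 29), (.ofNat 19683, 30), (.ofNat 13945, 31), (.ofNat 6004, 32), (.ofNat
  11737, 33), (.ofNat 1663, 37), (.ofNat 8900, 3)])) (.far (.negSucc 1038) [(.negSucc 570, 1), (.ofNat 90, 2),
  (.negSucc 3344, 4), (.ofNat 1342, 6), (.negSucc 1251, 8), (.ofNat 123, 12), (.ofNat 358, 13), (.ofNat 447, 14),
  (.ofNat 951, 17), (.ofNat 1969, 19), (.ofNat 1466, 21), (.ofNat 4081, 23), (.ofNat 4045, 24), (.ofNat 3240, 25),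
  (.ofNat 3430, 26), (.ofNat 6561, 27), (.ofNat 2144, 28), (.ofNat 4979, 29), (.ofNat 1579, 30), (.ofNat 2948, 31),
  (.ofNat 3933, 32), (.ofNat 3038, 33), (.ofNat 626, 36), (.ofNat 16, 37)])) (.far (.negSucc 76) [(.negSucc 459, 1),
  (.negSucc 101, 2), (.negSucc 459, 4), (.ofNat 157, 5), (.negSucc 5, 6), (.negSucc 107, 8), (.ofNat 108, 9), (.ofNat
  302, 12), (.ofNat 62, 15), (.ofNat 214, 17), (.ofNat 200, 19), (.ofNat 528, 21), (.ofNat 553, 24), (.ofNat 119,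
  25), (.ofNat 289, 26), (.ofNat 55, 27), (.ofNat 125, 28), (.ofNat 459, 29), (.ofNat 613, 30), (.ofNat 729, 31),
  (.ofNat 627, 32), (.ofNat 678, 33), (.ofNat 148, 37)])) (.far (.ofNat 6205) [(.negSucc 257, 1), (.ofNat 15394, 2),
  (.negSucc 19851, 4), (.ofNat 12596, 6), (.ofNat 12875, 7), (.negSucc 4478, 8), (.ofNat 7276, 9), (.ofNat 6205, 12),
  (.ofNat 5106, 18), (.ofNat 258, 19), (.ofNat 13902, 21), (.ofNat 24717, 24), (.ofNat 24296, 25), (.ofNat 31852,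
  26), (.ofNat 59049, 27), (.ofNat 35769, 28), (.ofNat 43108, 29), (.ofNat 33471, 30), (.ofNat 32131, 31), (.ofNat
  47524, 32), (.ofNat 36610, 33), (.ofNat 291, 37)])) (.far (.negSucc 23) [(.negSucc 748, 1), (.negSucc 347, 2),
  (.negSucc 812, 4), (.ofNat 24, 5), (.negSucc 155, 6), (.negSucc 167, 8), (.ofNat 451, 12), (.ofNat 64, 14), (.ofNat
  421, 17), (.ofNat 672, 19), (.ofNat 294, 21), (.ofNat 529, 22), (.ofNat 443, 24), (.ofNat 525, 25), (.ofNat 1374,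
  26), (.ofNat 1174, 27), (.ofNat 1531, 28), (.ofNat 1825, 29), (.ofNat 2187, 30), (.ofNat 1575, 31), (.ofNat 1563,
  32), (.ofNat 1293, 33), (.ofNat 449, 37)])) (.far (.negSucc 4325) [(.negSucc 5039, 1), (.negSucc 2006, 2),
  (.negSucc 8651, 4), (.ofNat 268, 5), (.negSucc 1069, 6), (.negSucc 1738, 8), (.ofNat 1070, 9), (.ofNat 3612, 14),
  (.ofNat 20384, 17), (.ofNat 20830, 19), (.ofNat 12088, 22), (.ofNat 17539, 23), (.ofNat 36146, 24), (.ofNat 37841,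
  25), (.ofNat 41832, 26), (.ofNat 37149, 27), (.ofNat 59049, 28), (.ofNat 6235, 29), (.ofNat 24845, 30), (.ofNat
  58603, 31), (.ofNat 57934, 32), (.ofNat 56284, 33), (.ofNat 12366, 37)])) (.far (.negSucc 337) [(.negSucc 666, 1),
  (.negSucc 461, 2), (.negSucc 728, 4), (.ofNat 86, 5), (.negSucc 134, 6), (.negSucc 228, 8), (.ofNat 14, 9), (.ofNat
  26, 10), (.ofNat 219, 12), (.ofNat 24, 19), (.ofNat 193, 20), (.ofNat 72, 21), (.ofNat 215, 24), (.ofNat 249, 25),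
  (.ofNat 217, 26), (.ofNat 138, 27), (.negSucc 39, 28), (.negSucc 106, 29), (.negSucc 187, 30), (.ofNat 8, 31),
  (.ofNat 2, 32), (.negSucc 233, 33)])) (.far (.ofNat 440) [(.negSucc 555, 1), (.ofNat 391, 2), (.negSucc 1021, 4),
  (.ofNat 517, 5), (.ofNat 414, 6), (.ofNat 503, 8), (.ofNat 10, 10), (.ofNat 164, 14), (.ofNat 87, 16), (.ofNat 252,
  17), (.ofNat 644, 19), (.ofNat 134, 20), (.ofNat 317, 21), (.ofNat 1674, 24), (.ofNat 1874, 25), (.ofNat 1030, 26),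
  (.ofNat 917, 27), (.ofNat 1382, 28), (.ofNat 1952, 29), (.ofNat 2187, 30), (.ofNat 1134, 31), (.ofNat 1534, 32),
  (.ofNat 1674, 33)])))

/-- a certificate -/
noncomputable def c45 : Hd × Tr :=
  ((2332800, [], [(1, 0), (2, 0), (4, 0), (6, 0), (8, 0), (10, 0), (14, 0)]), (.bf 8 20 (.bf 3 363 (.bf 4 123 (.bf 5
  42 (.bf 1 896 (.bf 2 374 (.bm 3 0 (.bm 34 0 (.far (.ofNat 68) [(.negSucc 117, 1), (.ofNat 12, 2), (.negSucc 99, 3),
  (.negSucc 242, 4), (.ofNat 6, 5), (.negSucc 5, 6), (.ofNat 62, 7), (.ofNat 60, 8), (.negSucc 47, 10), (.ofNat 91,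
  12), (.ofNat 65, 14), (.ofNat 11, 17), (.ofNat 33, 21), (.ofNat 26, 26), (.ofNat 3, 28), (.negSucc 18, 29), (.ofNat
  58, 30), (.negSucc 144, 31), (.ofNat 95, 32), (.negSucc 37, 33), (.ofNat 88, 35), (.negSucc 119, 34)]) (.bm 5 0
  (.bm 7 0 (.bm 9 0 (.bm 11 0 (.far (.ofNat 1) [(.negSucc 0, 1), (.ofNat 30, 2), (.ofNat 5, 3), (.negSucc 4, 4),
  (.negSucc 4, 5), (.ofNat 64, 6), (.negSucc 4, 7), (.negSucc 31, 8), (.negSucc 3, 9), (.negSucc 0, 10), (.negSucc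
  242, 11), (.ofNat 18, 12), (.ofNat 7, 15), (.ofNat 34, 25), (.negSucc 14, 29), (.ofNat 10, 30), (.negSucc 7, 31),
  (.negSucc 109, 32), (.ofNat 2, 33)]) (.far (.negSucc 49) [(.negSucc 60, 1), (.negSucc 0, 2), (.negSucc 30, 3),
  (.negSucc 80, 4), (.negSucc 23, 5), (.ofNat 18, 6), (.ofNat 27, 7), (.negSucc 15, 8), (.negSucc 10, 9), (.negSucc
  19, 10), (.ofNat 11, 13), (.negSucc 6, 14), (.ofNat 16, 19), (.ofNat 21, 21), (.ofNat 29, 24), (.ofNat 16, 26),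
  (.ofNat 29, 27), (.ofNat 3, 28), (.negSucc 4, 30), (.negSucc 7, 31), (.ofNat 23, 32), (.ofNat 1, 33), (.ofNat 7,
  34), (.ofNat 58, 11)])) (.far (.negSucc 121) [(.negSucc 187, 1), (.negSucc 116, 2), (.negSucc 20, 3), (.negSucc
  242, 4), (.ofNat 61, 5), (.negSucc 24, 6), (.negSucc 102, 7), (.negSucc 102, 8), (.ofNat 29, 10), (.ofNat 7, 12),
  (.negSucc 8, 14), (.ofNat 12, 21), (.ofNat 110, 24), (.ofNat 49, 25), (.ofNat 70, 27), (.negSucc 19, 28), (.negSucc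
  50, 29), (.negSucc 30, 30), (.negSucc 49, 31), (.negSucc 93, 32), (.negSucc 14, 33), (.ofNat 33, 34), (.ofNat 11,
  36), (.ofNat 80, 9)])) (.far (.negSucc 14) [(.negSucc 12, 1), (.ofNat 33, 2), (.negSucc 43, 3), (.negSucc 80, 4),
  (.negSucc 8, 5), (.ofNat 27, 6), (.negSucc 25, 8), (.negSucc 24, 10), (.ofNat 40, 14), (.ofNat 14, 17), (.ofNat 7,
  21), (.ofNat 15, 26), (.ofNat 2, 27), (.negSucc 9, 28), (.negSucc 3, 29), (.ofNat 28, 30), (.negSucc 30, 31),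
  (.ofNat 49, 32), (.ofNat 16, 33), (.ofNat 12, 36), (.ofNat 61, 7)])) (.far (.negSucc 27) [(.negSucc 25, 1), (.ofNat
  16, 2), (.negSucc 46, 3), (.negSucc 80, 4), (.negSucc 0, 6), (.ofNat 28, 7), (.ofNat 3, 8), (.ofNat 11, 9),
  (.negSucc 1, 10), (.ofNat 9, 14), (.ofNat 32, 25), (.ofNat 2, 27), (.negSucc 7, 28), (.ofNat 18, 29), (.ofNat 25,
  30), (.negSucc 19, 31), (.ofNat 58, 32), (.negSucc 4, 33), (.ofNat 10, 37), (.ofNat 46, 5)]))) (.far (.negSucc 16)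
  [(.negSucc 23, 1), (.ofNat 2, 2), (.negSucc 80, 4), (.ofNat 1, 5), (.ofNat 36, 6), (.negSucc 8, 8), (.negSucc 39,
  10), (.ofNat 20, 12), (.negSucc 45, 14), (.ofNat 48, 16), (.ofNat 26, 21), (.ofNat 50, 24), (.ofNat 33, 25),
  (.ofNat 59, 27), (.ofNat 65, 28), (.ofNat 20, 29), (.ofNat 65, 30), (.ofNat 35, 31), (.negSucc 10, 32), (.ofNat 56,
  33), (.ofNat 64, 3)])) (.far (.negSucc 432) [(.negSucc 489, 1), (.negSucc 26, 2), (.negSucc 1164, 4), (.ofNat 267,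
  6), (.negSucc 676, 8), (.negSucc 489, 10), (.ofNat 299, 13), (.ofNat 49, 14), (.ofNat 48, 16), (.ofNat 1029, 19),
  (.ofNat 709, 21), (.ofNat 1454, 23), (.ofNat 1463, 24), (.ofNat 1051, 25), (.ofNat 1028, 26), (.ofNat 2187, 27),
  (.ofNat 1073, 28), (.ofNat 1782, 29), (.ofNat 298, 30), (.ofNat 1062, 31), (.ofNat 975, 32), (.ofNat 1461, 33),
  (.ofNat 361, 36)])) (.far (.negSucc 583) [(.negSucc 882, 1), (.negSucc 509, 2), (.ofNat 76, 3), (.negSucc 1418, 4),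
  (.ofNat 231, 5), (.negSucc 155, 6), (.ofNat 356, 7), (.negSucc 771, 8), (.negSucc 831, 10), (.ofNat 820, 12),
  (.negSucc 970, 14), (.ofNat 770, 17), (.ofNat 93, 19), (.ofNat 1573, 21), (.ofNat 1508, 24), (.ofNat 863, 26),
  (.ofNat 479, 27), (.negSucc 447, 28), (.ofNat 1028, 29), (.ofNat 691, 30), (.ofNat 1849, 31), (.ofNat 2187, 32),
  (.ofNat 1554, 33), (.ofNat 106, 35)])) (.far (.ofNat 227) [(.negSucc 45, 1), (.ofNat 558, 2), (.negSucc 788, 4),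
  (.ofNat 500, 6), (.ofNat 709, 7), (.negSucc 201, 8), (.ofNat 227, 9), (.negSucc 33, 10), (.ofNat 195, 12), (.ofNat
  22, 14), (.ofNat 78, 16), (.ofNat 109, 18), (.ofNat 512, 21), (.ofNat 836, 24), (.ofNat 891, 25), (.ofNat 1177,
  26), (.ofNat 2187, 27), (.ofNat 1236, 28), (.ofNat 1647, 29), (.ofNat 1258, 30), (.ofNat 1117, 31), (.ofNat 1810,
  32), (.ofNat 1429, 33), (.ofNat 72, 37)])) (.far (.negSucc 270) [(.negSucc 1243, 1), (.negSucc 522, 2), (.negSucc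
  1754, 4), (.negSucc 760, 6), (.negSucc 746, 8), (.negSucc 1019, 10), (.negSucc 508, 14), (.ofNat 974, 19), (.ofNat
  238, 21), (.ofNat 112, 23), (.ofNat 518, 25), (.ofNat 1245, 26), (.ofNat 968, 27), (.ofNat 1736, 28), (.ofNat 1500,
  29), (.ofNat 2187, 30), (.ofNat 973, 31), (.ofNat 987, 32), (.ofNat 1484, 33), (.ofNat 359, 37)])) (.far (.negSucc
  80833) [(.negSucc 149950, 1), (.negSucc 97768, 2), (.negSucc 177146, 4), (.ofNat 14962, 5), (.negSucc 74793, 6),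
  (.negSucc 82806, 8), (.ofNat 39, 9), (.negSucc 74754, 10), (.ofNat 1024, 13), (.negSucc 47558, 14), (.ofNat 7174,
  17), (.ofNat 62352, 19), (.ofNat 67650, 24), (.ofNat 104831, 25), (.ofNat 69526, 26), (.ofNat 52263, 27), (.ofNat
  103659, 28), (.negSucc 115312, 29), (.negSucc 82881, 30), (.ofNat 49504, 31), (.ofNat 41492, 32), (.ofNat 66439,
  33), (.ofNat 9915, 37)])) (.far (.ofNat 8196) [(.negSucc 15481, 1), (.ofNat 3051, 2), (.negSucc 24093, 4), (.ofNat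
  16462, 5), (.ofNat 9559, 6), (.ofNat 18679, 8), (.negSucc 4277, 10), (.ofNat 1329, 14), (.ofNat 6241, 17), (.ofNat
  13457, 19), (.ofNat 6539, 20), (.ofNat 6035, 21), (.ofNat 46370, 24), (.ofNat 55409, 25), (.ofNat 26237, 26),
  (.ofNat 21960, 27), (.ofNat 41485, 28), (.ofNat 59049, 29), (.ofNat 56869, 30), (.ofNat 29901, 31), (.ofNat 42025,
  32), (.ofNat 48883, 33)])))

/-- a certificate -/
noncomputable def c46 : Hd × Tr :=
  ((10200960, [], [(10, 0)]), (.bf 8 0 (.far (.negSucc 14) [(.ofNat 30, 5), (.ofNat 52, 9), (.negSucc 67, 10),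
  (.ofNat 12, 15), (.ofNat 2, 19), (.negSucc 1, 20), (.ofNat 81, 21), (.ofNat 12, 22), (.negSucc 26, 24), (.ofNat 43,
  25), (.ofNat 12, 27), (.ofNat 13, 28), (.negSucc 12, 30), (.ofNat 33, 31), (.negSucc 69, 33), (.ofNat 56, 34),
  (.ofNat 38, 35), (.ofNat 61, 37)]) (.far (.negSucc 49) [(.negSucc 9, 10), (.ofNat 13, 13), (.ofNat 10, 14), (.ofNat
  12, 15), (.negSucc 30, 18), (.ofNat 27, 19), (.negSucc 14, 20), (.negSucc 4, 21), (.ofNat 30, 22), (.negSucc 36,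
  23), (.ofNat 43, 24), (.ofNat 46, 25), (.ofNat 43, 26), (.ofNat 33, 27), (.ofNat 73, 28), (.ofNat 24, 29), (.ofNat
  24, 30), (.ofNat 71, 31), (.ofNat 81, 32), (.ofNat 70, 33), (.ofNat 32, 34)])))

/-- a certificate -/
noncomputable def c47 : Hd × Tr :=
  ((10200960, [], [(14, 0)]), (.bf 8 0 (.far (.negSucc 143) [(.ofNat 127, 5), (.ofNat 48, 7), (.ofNat 506, 9),
  (.negSucc 143, 14), (.ofNat 31, 15), (.ofNat 153, 18), (.ofNat 48, 19), (.ofNat 29, 20), (.ofNat 729, 21),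
  (.negSucc 152, 22), (.ofNat 503, 23), (.negSucc 528, 24), (.negSucc 154, 25), (.ofNat 77, 26), (.ofNat 351, 27),
  (.ofNat 150, 28), (.negSucc 315, 29), (.ofNat 58, 30), (.ofNat 129, 31), (.ofNat 33, 32), (.negSucc 272, 33),
  (.ofNat 55, 34), (.ofNat 379, 37)]) (.far (.negSucc 728) [(.ofNat 106, 13), (.negSucc 105, 14), (.negSucc 240, 18),
  (.ofNat 310, 19), (.negSucc 81, 20), (.ofNat 104, 21), (.ofNat 418, 22), (.negSucc 431, 23), (.ofNat 185, 24),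
  (.ofNat 182, 25), (.ofNat 228, 26), (.negSucc 14, 27), (.ofNat 195, 28), (.ofNat 108, 29), (.negSucc 95, 30),
  (.ofNat 332, 31), (.ofNat 124, 32), (.ofNat 295, 33), (.ofNat 279, 34), (.ofNat 5, 35), (.ofNat 155, 36)])))

/-- certificates -/
noncomputable def CL2 : List (Hd × Tr) :=
  [c44, c45, c46, c47]

theorem okC2 : okL TAB.Co3.D (TAB.Sm2.mkRows TAB.Co3.A TAB.Co3.B) P Z CL2 = true := by decide +kernel

/-- a certificate -/
noncomputable def c48 : Hd × Tr :=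
  ((1749600, [], [(1, 0), (2, 0), (4, 0), (6, 0), (8, 0), (10, 0), (14, 0)]), (.bf 8 30 (.bf 9 5 (.bf 3 526 (.bf 4
  148 (.bf 5 70 (.bf 1 1120 (.bf 2 440 (.bm 34 2 (.bm 34 0 (.far (.ofNat 330) [(.negSucc 474, 1), (.negSucc 136, 2),
  (.negSucc 728, 4), (.ofNat 143, 5), (.negSucc 76, 6), (.ofNat 218, 8), (.negSucc 161, 10), (.ofNat 487, 12),
  (.ofNat 92, 14), (.ofNat 114, 16), (.ofNat 62, 19), (.ofNat 331, 21), (.ofNat 242, 24), (.ofNat 220, 25), (.ofNat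
  283, 26), (.ofNat 199, 27), (.ofNat 382, 28), (.ofNat 172, 29), (.ofNat 463, 30), (.ofNat 295, 32), (.ofNat 179,
  33), (.ofNat 297, 35), (.ofNat 28, 37), (.negSucc 439, 34)]) (.bm 7 0 (.bm 36 1 (.bm 12 0 (.bm 13 0 (.bm 15 0 (.bf
  3 457 (.bf 4 97 (.bf 5 49 (.bf 1 896 (.bm 3 0 (.bm 34 1 (.bm 5 0 (.bm 35 0 (.far (.ofNat 32) [(.ofNat 56, 1),
  (.ofNat 224, 2), (.ofNat 37, 3), (.negSucc 46, 4), (.ofNat 22, 5), (.ofNat 153, 6), (.ofNat 86, 7), (.negSucc 162,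
  8), (.ofNat 1, 9), (.negSucc 49, 10), (.negSucc 86, 12), (.negSucc 179, 13), (.negSucc 49, 14), (.negSucc 75, 15),
  (.ofNat 19, 17), (.ofNat 40, 20), (.ofNat 1, 21), (.ofNat 95, 24), (.ofNat 202, 25), (.ofNat 161, 27), (.ofNat 4,
  31), (.ofNat 65, 33), (.ofNat 95, 34), (.ofNat 80, 36), (.negSucc 242, 35)]) (.bm 9 0 (.bm 37 0 (.far (.negSucc
  873) [(.negSucc 1220, 1), (.negSucc 1714, 2), (.negSucc 378, 3), (.negSucc 2186, 4), (.negSucc 426, 5), (.negSucc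
  47, 6), (.negSucc 488, 7), (.negSucc 47, 8), (.negSucc 636, 9), (.negSucc 153, 10), (.ofNat 522, 12), (.ofNat 1495,
  13), (.ofNat 596, 14), (.negSucc 1607, 15), (.ofNat 345, 17), (.ofNat 1143, 21), (.ofNat 194, 24), (.ofNat 557,
  28), (.ofNat 407, 30), (.ofNat 166, 33), (.negSucc 739, 34), (.ofNat 1941, 35), (.negSucc 52, 36), (.negSucc 287,
  37)]) (.far (.ofNat 74) [(.negSucc 103, 1), (.negSucc 108, 2), (.negSucc 49, 3), (.negSucc 225, 4), (.negSucc 43,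
  5), (.ofNat 5, 6), (.negSucc 16, 7), (.ofNat 113, 8), (.negSucc 67, 9), (.ofNat 10, 10), (.ofNat 39, 12), (.ofNat
  154, 13), (.ofNat 58, 14), (.negSucc 73, 15), (.ofNat 4, 16), (.ofNat 102, 19), (.ofNat 161, 21), (.ofNat 84, 27),
  (.ofNat 86, 28), (.ofNat 79, 29), (.ofNat 243, 30), (.ofNat 108, 32), (.ofNat 124, 33), (.negSucc 169, 34), (.ofNat
  242, 35), (.negSucc 52, 36), (.ofNat 30, 37)])) (.far (.ofNat 46) [(.negSucc 187, 1), (.negSucc 37, 2), (.negSucc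
  7, 3), (.negSucc 242, 4), (.ofNat 65, 5), (.negSucc 41, 6), (.negSucc 8, 7), (.ofNat 114, 8), (.negSucc 53, 10),
  (.ofNat 132, 12), (.ofNat 53, 13), (.negSucc 22, 15), (.ofNat 59, 19), (.ofNat 128, 21), (.ofNat 75, 24), (.ofNat
  59, 26), (.ofNat 28, 27), (.ofNat 87, 28), (.ofNat 41, 29), (.ofNat 139, 30), (.ofNat 156, 32), (.ofNat 12, 33),
  (.negSucc 126, 34), (.ofNat 147, 35), (.ofNat 39, 9)]))) (.far (.ofNat 2) [(.negSucc 0, 1), (.ofNat 17, 2),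
  (.negSucc 12, 3), (.negSucc 26, 4), (.negSucc 3, 6), (.ofNat 17, 7), (.ofNat 12, 8), (.ofNat 3, 9), (.negSucc 8,
  10), (.ofNat 4, 12), (.negSucc 11, 13), (.ofNat 6, 14), (.negSucc 7, 15), (.ofNat 6, 21), (.ofNat 8, 25), (.ofNat
  8, 27), (.ofNat 4, 29), (.ofNat 10, 30), (.ofNat 10, 32), (.ofNat 1, 33), (.negSucc 6, 34), (.ofNat 2, 37), (.ofNat
  14, 5)])) (.far (.negSucc 80) [(.negSucc 8, 1), (.negSucc 8, 2), (.negSucc 18, 3), (.ofNat 3, 4), (.ofNat 10, 5),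
  (.ofNat 2, 6), (.negSucc 2, 7), (.negSucc 33, 8), (.ofNat 9, 9), (.negSucc 4, 10), (.negSucc 42, 12), (.ofNat 9,
  13), (.ofNat 5, 14), (.ofNat 23, 15), (.ofNat 1, 23), (.ofNat 4, 29), (.ofNat 17, 31), (.ofNat 23, 33), (.ofNat 12,
  36), (.ofNat 45, 34)])) (.far (.ofNat 0) [(.negSucc 2, 1), (.ofNat 19, 2), (.negSucc 44, 4), (.ofNat 63, 6),
  (.ofNat 33, 7), (.negSucc 7, 8), (.negSucc 6, 10), (.negSucc 8, 12), (.negSucc 4, 13), (.negSucc 45, 14), (.negSucc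
  45, 15), (.ofNat 6, 19), (.ofNat 13, 21), (.ofNat 53, 24), (.ofNat 19, 25), (.ofNat 20, 26), (.ofNat 81, 27),
  (.ofNat 2, 28), (.ofNat 13, 29), (.ofNat 32, 30), (.ofNat 17, 33), (.ofNat 43, 3)])) (.far (.negSucc 171)
  [(.negSucc 238, 1), (.negSucc 47, 2), (.ofNat 189, 3), (.negSucc 337, 4), (.ofNat 9, 5), (.ofNat 39, 6), (.negSucc
  17, 7), (.negSucc 215, 8), (.ofNat 77, 9), (.negSucc 249, 10), (.negSucc 10, 12), (.negSucc 50, 13), (.negSucc 456,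
  14), (.ofNat 207, 19), (.ofNat 544, 21), (.ofNat 628, 24), (.ofNat 207, 26), (.ofNat 328, 27), (.ofNat 300, 29),
  (.ofNat 468, 30), (.ofNat 664, 31), (.ofNat 507, 32), (.ofNat 729, 33), (.ofNat 110, 34)])) (.far (.ofNat 25)
  [(.negSucc 0, 1), (.ofNat 161, 2), (.negSucc 368, 4), (.ofNat 225, 6), (.ofNat 311, 7), (.negSucc 148, 8), (.ofNat
  59, 9), (.negSucc 25, 10), (.negSucc 7, 13), (.negSucc 92, 14), (.negSucc 117, 15), (.ofNat 123, 21), (.ofNat 275,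
  24), (.ofNat 254, 25), (.ofNat 350, 26), (.ofNat 729, 27), (.ofNat 176, 28), (.ofNat 383, 29), (.ofNat 253, 30),
  (.ofNat 155, 31), (.ofNat 427, 32), (.ofNat 329, 33), (.ofNat 2, 34)])) (.far (.negSucc 204) [(.negSucc 520, 1),
  (.negSucc 383, 2), (.negSucc 728, 4), (.ofNat 47, 5), (.negSucc 425, 6), (.negSucc 207, 7), (.negSucc 425, 8),
  (.ofNat 12, 9), (.negSucc 502, 10), (.ofNat 17, 12), (.negSucc 235, 13), (.negSucc 329, 14), (.negSucc 56, 15),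
  (.ofNat 132, 19), (.ofNat 79, 25), (.ofNat 225, 26), (.ofNat 317, 27), (.ofNat 478, 28), (.ofNat 221, 29), (.ofNat
  312, 30), (.ofNat 251, 33), (.ofNat 86, 36)])) (.far (.negSucc 5727) [(.negSucc 30751, 1), (.negSucc 16296, 2),
  (.negSucc 43075, 4), (.ofNat 12806, 5), (.negSucc 14349, 6), (.negSucc 15174, 7), (.negSucc 17200, 8), (.ofNat
  2307, 9), (.negSucc 25752, 10), (.negSucc 16866, 12), (.negSucc 26936, 13), (.negSucc 15024, 14), (.negSucc 2367,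
  15), (.ofNat 13359, 19), (.ofNat 2631, 23), (.ofNat 51830, 24), (.ofNat 51172, 25), (.ofNat 13359, 26), (.ofNat
  33147, 27), (.ofNat 58988, 28), (.ofNat 877, 30), (.ofNat 17902, 31), (.ofNat 15052, 32), (.ofNat 59049, 33),
  (.ofNat 6789, 36)])) (.far (.negSucc 336) [(.negSucc 509, 1), (.ofNat 335, 2), (.negSucc 2186, 4), (.negSucc 590,
  6), (.negSucc 155, 7), (.ofNat 1, 8), (.negSucc 923, 10), (.ofNat 491, 12), (.negSucc 604, 13), (.ofNat 1172, 14),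
  (.ofNat 914, 16), (.ofNat 846, 21), (.ofNat 157, 23), (.ofNat 912, 25), (.ofNat 161, 27), (.ofNat 2067, 28),
  (.ofNat 743, 29), (.ofNat 2007, 30), (.ofNat 1416, 31), (.ofNat 1432, 32), (.ofNat 1502, 33), (.ofNat 1837, 15)]))
  (.far (.negSucc 80) [(.negSucc 22, 1), (.negSucc 30, 2), (.ofNat 2, 3), (.negSucc 21, 4), (.ofNat 4, 5), (.ofNat 1,
  6), (.ofNat 12, 7), (.negSucc 35, 8), (.negSucc 10, 10), (.negSucc 13, 12), (.negSucc 1, 14), (.ofNat 15, 18),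
  (.ofNat 26, 19), (.ofNat 21, 26), (.ofNat 36, 31), (.ofNat 10, 33), (.ofNat 36, 34), (.ofNat 72, 13)])) (.far
  (.negSucc 30) [(.negSucc 61, 1), (.negSucc 19, 2), (.negSucc 80, 4), (.ofNat 8, 5), (.negSucc 0, 6), (.negSucc 20,
  7), (.negSucc 20, 8), (.ofNat 10, 10), (.ofNat 12, 13), (.ofNat 16, 14), (.ofNat 23, 17), (.ofNat 13, 21), (.ofNat
  48, 24), (.ofNat 26, 25), (.ofNat 23, 26), (.ofNat 25, 27), (.ofNat 28, 28), (.ofNat 15, 29), (.ofNat 16, 31),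
  (.ofNat 7, 33), (.negSucc 5, 34), (.ofNat 70, 12)])) (.far (.negSucc 80) [(.negSucc 46, 1), (.negSucc 4, 2),
  (.negSucc 58, 4), (.ofNat 32, 5), (.negSucc 4, 6), (.ofNat 26, 7), (.negSucc 16, 8), (.ofNat 7, 9), (.negSucc 41,
  10), (.ofNat 31, 14), (.ofNat 21, 16), (.ofNat 24, 21), (.ofNat 2, 27), (.ofNat 29, 28), (.ofNat 1, 29), (.ofNat 6,
  30), (.ofNat 11, 31), (.ofNat 52, 32), (.ofNat 25, 34), (.ofNat 44, 36)])) (.far (.negSucc 14) [(.negSucc 18, 1),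
  (.ofNat 17, 2), (.negSucc 80, 4), (.ofNat 11, 5), (.ofNat 14, 6), (.negSucc 19, 8), (.negSucc 41, 10), (.ofNat 5,
  13), (.ofNat 15, 14), (.ofNat 7, 16), (.ofNat 9, 17), (.ofNat 20, 21), (.ofNat 21, 25), (.ofNat 9, 26), (.ofNat 19,
  27), (.ofNat 11, 28), (.ofNat 5, 29), (.ofNat 38, 30), (.ofNat 23, 32), (.ofNat 31, 33), (.ofNat 1, 37), (.ofNat
  53, 7)]))) (.far (.negSucc 80) [(.negSucc 30, 1), (.negSucc 29, 2), (.negSucc 24, 4), (.ofNat 9, 5), (.ofNat 2, 6),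
  (.negSucc 32, 8), (.ofNat 16, 9), (.ofNat 5, 10), (.ofNat 38, 13), (.ofNat 19, 14), (.ofNat 1, 15), (.ofNat 12,
  16), (.ofNat 12, 17), (.ofNat 12, 24), (.ofNat 23, 26), (.ofNat 9, 28), (.ofNat 6, 30), (.ofNat 35, 31), (.ofNat 8,
  33), (.ofNat 10, 36), (.ofNat 40, 34)])) (.far (.negSucc 245) [(.negSucc 344, 1), (.negSucc 54, 2), (.negSucc 497,
  4), (.negSucc 44, 6), (.negSucc 153, 8), (.negSucc 339, 10), (.ofNat 72, 14), (.ofNat 95, 16), (.ofNat 241, 19),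
  (.ofNat 201, 21), (.ofNat 480, 23), (.ofNat 495, 24), (.ofNat 287, 25), (.ofNat 241, 26), (.ofNat 729, 27), (.ofNat
  322, 28), (.ofNat 530, 29), (.ofNat 289, 31), (.ofNat 156, 32), (.ofNat 488, 33), (.ofNat 118, 36)])) (.far
  (.negSucc 39) [(.negSucc 97, 1), (.negSucc 49, 2), (.negSucc 97, 4), (.ofNat 17, 5), (.negSucc 47, 6), (.negSucc
  46, 8), (.ofNat 9, 9), (.negSucc 66, 10), (.ofNat 89, 12), (.negSucc 69, 14), (.ofNat 29, 15), (.ofNat 57, 17),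
  (.ofNat 38, 19), (.ofNat 175, 21), (.ofNat 153, 24), (.ofNat 96, 26), (.ofNat 32, 27), (.ofNat 134, 29), (.ofNat
  102, 30), (.ofNat 239, 31), (.ofNat 243, 32), (.ofNat 188, 33), (.ofNat 13, 35), (.ofNat 6, 37)])) (.far (.ofNat
  12) [(.negSucc 23, 1), (.ofNat 55, 2), (.negSucc 98, 4), (.ofNat 37, 6), (.ofNat 57, 7), (.negSucc 23, 8), (.ofNat
  25, 9), (.negSucc 15, 10), (.ofNat 35, 12), (.ofNat 14, 14), (.ofNat 58, 21), (.ofNat 100, 24), (.ofNat 95, 25),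
  (.ofNat 124, 26), (.ofNat 243, 27), (.ofNat 126, 28), (.ofNat 166, 29), (.ofNat 99, 30), (.ofNat 128, 31), (.ofNat
  168, 32), (.ofNat 128, 33)])) (.far (.negSucc 6050) [(.negSucc 11245, 1), (.negSucc 6084, 2), (.negSucc 19682, 4),
  (.ofNat 1992, 5), (.negSucc 4004, 6), (.negSucc 9307, 8), (.negSucc 9219, 10), (.ofNat 126, 12), (.negSucc 6084,
  14), (.ofNat 3076, 19), (.ofNat 376, 21), (.ofNat 2793, 25), (.ofNat 3222, 26), (.ofNat 4739, 27), (.ofNat 7665,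
  28), (.ofNat 4402, 29), (.ofNat 7862, 30), (.ofNat 5122, 33), (.ofNat 1973, 37)])) (.far (.negSucc 9078) [(.negSucc
  17129, 1), (.negSucc 8760, 2), (.negSucc 19187, 4), (.ofNat 4025, 5), (.negSucc 5265, 6), (.ofNat 2786, 7),
  (.negSucc 10410, 8), (.ofNat 2481, 9), (.negSucc 8459, 10), (.negSucc 3615, 14), (.ofNat 12615, 17), (.ofNat 16641,
  19), (.ofNat 33653, 24), (.ofNat 35516, 25), (.ofNat 33116, 26), (.ofNat 45017, 27), (.ofNat 59049, 28), (.ofNat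
  11842, 30), (.ofNat 49348, 31), (.ofNat 44203, 32), (.ofNat 54705, 33), (.ofNat 12848, 37)])) (.far (.negSucc 685)
  [(.negSucc 1681, 1), (.negSucc 899, 2), (.negSucc 2186, 4), (.ofNat 301, 5), (.negSucc 260, 6), (.negSucc 652, 8),
  (.ofNat 238, 9), (.negSucc 75, 10), (.ofNat 429, 12), (.negSucc 137, 14), (.ofNat 162, 16), (.ofNat 105, 19),
  (.ofNat 320, 20), (.ofNat 320, 21), (.ofNat 749, 24), (.ofNat 833, 25), (.ofNat 614, 26), (.ofNat 896, 27), (.ofNat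
  108, 28), (.ofNat 176, 32)])) (.far (.negSucc 461) [(.negSucc 6226, 1), (.negSucc 3062, 2), (.negSucc 12964, 4),
  (.ofNat 7856, 5), (.ofNat 3627, 6), (.ofNat 6090, 8), (.negSucc 1295, 10), (.ofNat 1259, 14), (.ofNat 2721, 16),
  (.ofNat 5765, 17), (.ofNat 953, 19), (.ofNat 124, 21), (.ofNat 15928, 24), (.ofNat 17297, 25), (.ofNat 6718, 26),
  (.ofNat 5719, 27), (.ofNat 11901, 28), (.ofNat 19683, 29), (.ofNat 19683, 30), (.ofNat 5869, 31), (.ofNat 12514,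
  32), (.ofNat 16114, 33), (.ofNat 2755, 35)])))

/-- certificates -/
noncomputable def CL3 : List (Hd × Tr) :=
  [c48]

theorem okC3 : okL TAB.Co3.D (TAB.Sm2.mkRows TAB.Co3.A TAB.Co3.B) P Z CL3 = true := by decide +kernel

/-- a certificate -/
noncomputable def c49 : Hd × Tr :=
  ((1458000, [], [(1, 0), (2, 0), (4, 0), (6, 0), (8, 0), (10, 0), (14, 0)]), (.bf 8 37 (.bf 9 7 (.bf 3 570 (.bf 4
  141 (.bf 5 84 (.bf 1 896 (.bf 2 440 (.bm 3 1 (.bm 7 0 (.bm 36 1 (.bm 37 1 (.bm 12 0 (.bm 13 0 (.bf 3 450 (.bm 34 1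
  (.bm 34 0 (.far (.ofNat 132) [(.negSucc 86, 1), (.ofNat 48, 2), (.negSucc 242, 4), (.ofNat 21, 5), (.ofNat 45, 6),
  (.ofNat 22, 7), (.negSucc 29, 8), (.negSucc 53, 10), (.ofNat 90, 12), (.negSucc 72, 13), (.negSucc 17, 14), (.ofNat
  34, 19), (.ofNat 98, 21), (.ofNat 118, 24), (.ofNat 134, 25), (.ofNat 57, 26), (.ofNat 161, 27), (.ofNat 101, 28),
  (.ofNat 76, 29), (.ofNat 99, 30), (.ofNat 66, 32), (.ofNat 93, 33), (.negSucc 94, 34)]) (.bm 11 0 (.far (.ofNat 78)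
  [(.ofNat 5, 1), (.ofNat 19, 2), (.negSucc 17, 4), (.ofNat 5, 5), (.negSucc 1, 6), (.negSucc 3, 7), (.ofNat 9, 8),
  (.negSucc 16, 10), (.ofNat 56, 12), (.negSucc 10, 13), (.ofNat 3, 14), (.ofNat 14, 24), (.ofNat 22, 25), (.ofNat
  10, 27), (.ofNat 6, 28), (.ofNat 26, 29), (.ofNat 8, 30), (.ofNat 10, 32), (.ofNat 18, 33), (.negSucc 42, 34),
  (.negSucc 80, 11)]) (.bm 15 0 (.far (.negSucc 118) [(.negSucc 193, 1), (.negSucc 15, 2), (.negSucc 242, 4), (.ofNat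
  5, 5), (.ofNat 7, 6), (.ofNat 74, 7), (.negSucc 48, 8), (.negSucc 92, 10), (.ofNat 147, 11), (.negSucc 45, 12),
  (.negSucc 10, 13), (.negSucc 26, 14), (.negSucc 51, 15), (.ofNat 53, 19), (.ofNat 97, 21), (.ofNat 99, 24), (.ofNat
  49, 25), (.ofNat 53, 26), (.ofNat 141, 27), (.ofNat 9, 28), (.ofNat 7, 29), (.ofNat 44, 33), (.ofNat 19, 34)])
  (.far (.negSucc 80) [(.negSucc 44, 1), (.negSucc 16, 2), (.negSucc 42, 4), (.ofNat 7, 5), (.negSucc 12, 6), (.ofNat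
  3, 7), (.negSucc 20, 8), (.negSucc 23, 10), (.ofNat 74, 11), (.negSucc 24, 12), (.ofNat 4, 13), (.ofNat 10, 14),
  (.ofNat 32, 21), (.ofNat 11, 24), (.ofNat 11, 27), (.ofNat 33, 28), (.ofNat 41, 31), (.ofNat 13, 33), (.ofNat 33,
  34), (.ofNat 14, 15)])))) (.far (.negSucc 6560) [(.negSucc 860, 1), (.negSucc 912, 2), (.ofNat 833, 4), (.ofNat
  933, 6), (.negSucc 448, 7), (.negSucc 1294, 8), (.ofNat 137, 9), (.ofNat 688, 10), (.negSucc 2849, 12), (.ofNat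
  807, 13), (.ofNat 307, 14), (.ofNat 555, 15), (.ofNat 189, 16), (.ofNat 86, 19), (.ofNat 903, 23), (.ofNat 383,
  26), (.ofNat 2227, 31), (.ofNat 881, 36), (.ofNat 3530, 34)])) (.far (.negSucc 675) [(.negSucc 3578, 1), (.negSucc
  1804, 2), (.ofNat 38, 3), (.negSucc 4802, 4), (.ofNat 1624, 5), (.negSucc 1548, 6), (.negSucc 1585, 7), (.negSucc
  1948, 8), (.ofNat 321, 9), (.negSucc 3033, 10), (.negSucc 1842, 12), (.negSucc 3135, 13), (.negSucc 1804, 14),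
  (.ofNat 1652, 19), (.ofNat 5865, 24), (.ofNat 5657, 25), (.ofNat 1490, 26), (.ofNat 3702, 27), (.ofNat 6534, 28),
  (.ofNat 48, 30), (.ofNat 1822, 31), (.ofNat 1423, 32), (.ofNat 6561, 33), (.ofNat 814, 36)])) (.far (.negSucc 63)
  [(.negSucc 53, 1), (.negSucc 54, 2), (.negSucc 69, 4), (.ofNat 5, 5), (.negSucc 8, 6), (.ofNat 14, 7), (.negSucc
  11, 8), (.negSucc 26, 10), (.ofNat 19, 12), (.negSucc 0, 14), (.ofNat 42, 19), (.ofNat 21, 21), (.ofNat 24, 26),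
  (.ofNat 7, 27), (.ofNat 10, 31), (.ofNat 6, 32), (.ofNat 29, 35), (.negSucc 2, 36), (.ofNat 81, 13)])) (.far
  (.negSucc 39) [(.negSucc 65, 1), (.negSucc 28, 2), (.negSucc 80, 4), (.ofNat 14, 5), (.negSucc 18, 6), (.negSucc
  26, 7), (.negSucc 18, 8), (.ofNat 6, 9), (.ofNat 24, 10), (.ofNat 15, 13), (.ofNat 13, 14), (.ofNat 26, 17),
  (.ofNat 7, 21), (.ofNat 36, 24), (.ofNat 28, 25), (.ofNat 26, 26), (.ofNat 17, 27), (.ofNat 4, 28), (.ofNat 2, 29),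
  (.ofNat 54, 12)])) (.far (.negSucc 25) [(.negSucc 77, 1), (.negSucc 17, 2), (.negSucc 80, 4), (.ofNat 22, 5),
  (.ofNat 25, 6), (.ofNat 5, 7), (.ofNat 3, 8), (.ofNat 28, 9), (.ofNat 21, 10), (.ofNat 4, 14), (.ofNat 25, 16),
  (.ofNat 6, 21), (.ofNat 48, 24), (.ofNat 18, 25), (.ofNat 2, 26), (.ofNat 34, 27), (.ofNat 20, 28), (.ofNat 43,
  29), (.ofNat 61, 30), (.ofNat 5, 31), (.ofNat 3, 32), (.ofNat 54, 33), (.negSucc 2, 36), (.ofNat 40, 37)])) (.far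
  (.negSucc 66) [(.negSucc 57, 1), (.negSucc 34, 2), (.negSucc 80, 4), (.ofNat 39, 5), (.negSucc 13, 6), (.negSucc 6,
  7), (.negSucc 32, 8), (.negSucc 59, 10), (.ofNat 18, 12), (.ofNat 15, 14), (.ofNat 30, 16), (.ofNat 34, 21),
  (.ofNat 33, 24), (.ofNat 13, 25), (.ofNat 7, 26), (.ofNat 47, 27), (.ofNat 36, 28), (.ofNat 5, 29), (.ofNat 20,
  32), (.ofNat 26, 33), (.ofNat 9, 35), (.ofNat 48, 36)])) (.far (.negSucc 17) [(.negSucc 15, 1), (.ofNat 15, 2),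
  (.negSucc 80, 4), (.ofNat 9, 5), (.ofNat 20, 6), (.negSucc 17, 8), (.negSucc 40, 10), (.ofNat 3, 13), (.ofNat 19,
  14), (.ofNat 8, 17), (.ofNat 21, 21), (.ofNat 20, 25), (.ofNat 8, 26), (.ofNat 18, 27), (.ofNat 11, 28), (.ofNat 6,
  29), (.ofNat 35, 30), (.ofNat 23, 32), (.ofNat 27, 33), (.ofNat 2, 37), (.ofNat 54, 7)])) (.far (.negSucc 7)
  [(.negSucc 3, 1), (.ofNat 5, 2), (.negSucc 26, 4), (.ofNat 14, 6), (.negSucc 1, 8), (.negSucc 11, 10), (.ofNat 5,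
  12), (.ofNat 2, 13), (.negSucc 13, 14), (.ofNat 13, 16), (.ofNat 7, 21), (.ofNat 15, 24), (.ofNat 10, 25), (.ofNat
  18, 27), (.ofNat 18, 28), (.ofNat 5, 29), (.ofNat 19, 30), (.ofNat 10, 31), (.ofNat 12, 33), (.ofNat 20, 3)]))
  (.far (.negSucc 24) [(.negSucc 32, 1), (.negSucc 12, 2), (.negSucc 64, 4), (.ofNat 5, 5), (.ofNat 6, 6), (.negSucc
  31, 8), (.negSucc 17, 10), (.ofNat 22, 13), (.negSucc 10, 14), (.ofNat 2, 16), (.ofNat 37, 19), (.ofNat 22, 21),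
  (.ofNat 51, 23), (.ofNat 50, 24), (.ofNat 44, 25), (.ofNat 37, 26), (.ofNat 81, 27), (.ofNat 23, 28), (.ofNat 55,
  29), (.ofNat 27, 31), (.ofNat 28, 32), (.ofNat 40, 33), (.ofNat 7, 36)])) (.far (.negSucc 365) [(.negSucc 504, 1),
  (.negSucc 328, 2), (.negSucc 728, 4), (.ofNat 136, 5), (.negSucc 211, 6), (.negSucc 385, 8), (.ofNat 1, 9),
  (.negSucc 478, 10), (.ofNat 179, 12), (.negSucc 454, 14), (.ofNat 176, 15), (.ofNat 484, 21), (.ofNat 445, 24),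
  (.ofNat 47, 26), (.ofNat 152, 27), (.ofNat 159, 29), (.ofNat 444, 31), (.ofNat 469, 32), (.ofNat 497, 33), (.ofNat
  75, 35)])) (.far (.negSucc 4) [(.negSucc 46, 1), (.ofNat 118, 2), (.negSucc 351, 4), (.ofNat 140, 6), (.ofNat 195,
  7), (.negSucc 151, 8), (.ofNat 41, 9), (.negSucc 88, 10), (.ofNat 42, 12), (.negSucc 21, 14), (.ofNat 145, 21),
  (.ofNat 278, 24), (.ofNat 257, 25), (.ofNat 291, 26), (.ofNat 729, 27), (.ofNat 278, 28), (.ofNat 423, 29), (.ofNat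
  217, 30), (.ofNat 257, 31), (.ofNat 396, 32), (.ofNat 361, 33)])) (.far (.negSucc 5121) [(.negSucc 11434, 1),
  (.negSucc 5539, 2), (.negSucc 19682, 4), (.ofNat 1315, 5), (.negSucc 5651, 6), (.negSucc 8098, 8), (.negSucc 10411,
  10), (.ofNat 759, 12), (.negSucc 4610, 14), (.ofNat 110, 16), (.ofNat 4130, 19), (.ofNat 1786, 21), (.ofNat 3791,
  25), (.ofNat 4130, 26), (.ofNat 4854, 27), (.ofNat 6364, 28), (.ofNat 1849, 29), (.ofNat 6992, 30), (.ofNat 4529,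
  33)])) (.far (.negSucc 4537) [(.negSucc 12207, 1), (.negSucc 5424, 2), (.negSucc 14729, 4), (.ofNat 3456, 5),
  (.negSucc 4592, 6), (.ofNat 567, 7), (.negSucc 5241, 8), (.negSucc 7865, 10), (.negSucc 4776, 14), (.ofNat 1494,
  17), (.ofNat 5708, 19), (.ofNat 13113, 24), (.ofNat 16440, 25), (.ofNat 9952, 26), (.ofNat 10936, 27), (.ofNat
  19683, 28), (.ofNat 12196, 31), (.ofNat 11548, 32), (.ofNat 16356, 33), (.ofNat 1686, 37)])) (.far (.negSucc 739)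
  [(.negSucc 1811, 1), (.negSucc 1052, 2), (.negSucc 2186, 4), (.ofNat 390, 5), (.negSucc 333, 6), (.negSucc 625, 8),
  (.ofNat 146, 9), (.negSucc 150, 10), (.ofNat 435, 12), (.negSucc 142, 14), (.ofNat 159, 16), (.ofNat 89, 19),
  (.ofNat 482, 20), (.ofNat 239, 21), (.ofNat 820, 24), (.ofNat 963, 25), (.ofNat 571, 26), (.ofNat 595, 27), (.ofNat
  167, 28), (.ofNat 74, 32)])) (.far (.negSucc 290) [(.negSucc 2270, 1), (.negSucc 1235, 2), (.negSucc 4624, 4),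
  (.ofNat 2718, 5), (.ofNat 1172, 6), (.ofNat 1911, 8), (.negSucc 459, 10), (.ofNat 417, 14), (.ofNat 1009, 16),
  (.ofNat 1979, 17), (.ofNat 232, 19), (.ofNat 5422, 24), (.ofNat 5784, 25), (.ofNat 2211, 26), (.ofNat 1911, 27),
  (.ofNat 3959, 28), (.ofNat 6561, 29), (.ofNat 6561, 30), (.ofNat 1836, 31), (.ofNat 4053, 32), (.ofNat 5422, 33),
  (.ofNat 1022, 35)])))

/-- certificates -/
noncomputable def CL4 : List (Hd × Tr) :=
  [c49]

theorem okC4 : okL TAB.Co3.D (TAB.Sm2.mkRows TAB.Co3.A TAB.Co3.B) P Z CL4 = true := by decide +kernel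

/-- a certificate -/
noncomputable def c50 : Hd × Tr :=
  ((1166400, [], [(1, 0), (2, 0), (4, 0), (6, 0), (8, 0), (10, 0), (14, 0)]), (.bf 8 50 (.bf 9 5 (.bf 3 750 (.bf 4
  171 (.bf 5 105 (.bf 1 1568 (.bf 2 616 (.bm 3 1 (.bm 34 2 (.bm 7 0 (.bm 9 1 (.bm 37 2 (.bm 11 1 (.bf 8 45 (.bf 4 141
  (.bf 2 594 (.bm 1002 0 (.far (.ofNat 0) [(.negSucc 0, 1002)]) (.bm 1003 0 (.far (.ofNat 0) [(.negSucc 0, 1003)])
  (.bm 1004 0 (.far (.ofNat 0) [(.ofNat 1, 1002), (.negSucc 0, 1004)]) (.bf 9 0 (.bf 8 15 (.far (.ofNat 108)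
  [(.negSucc 117, 1), (.ofNat 7, 2), (.negSucc 242, 4), (.ofNat 50, 5), (.ofNat 51, 6), (.negSucc 91, 7), (.ofNat 42,
  8), (.negSucc 2, 9), (.ofNat 5, 10), (.ofNat 77, 12), (.ofNat 99, 19), (.ofNat 103, 21), (.ofNat 3, 25), (.ofNat
  99, 26), (.ofNat 117, 27), (.ofNat 18, 28), (.ofNat 29, 32), (.ofNat 67, 33)]) (.bf 3 216 (.bf 5 63 (.bf 5 21 (.far
  (.ofNat 172) [(.negSucc 109, 1), (.ofNat 38, 2), (.negSucc 242, 4), (.ofNat 96, 5), (.ofNat 77, 6), (.negSucc 130,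
  7), (.ofNat 117, 8), (.negSucc 59, 9), (.negSucc 1, 10), (.ofNat 74, 12), (.ofNat 20, 17), (.ofNat 131, 19),
  (.ofNat 93, 21), (.ofNat 19, 25), (.ofNat 94, 26), (.ofNat 55, 27), (.ofNat 21, 28), (.ofNat 44, 29), (.ofNat 40,
  32), (.ofNat 79, 33), (.ofNat 2, 35)]) (.bf 2 66 (.bm 3 0 (.bm 34 0 (.bm 5 0 (.bm 9 0 (.far (.ofNat 21) [(.negSucc
  7, 1), (.ofNat 2, 2), (.negSucc 0, 3), (.negSucc 26, 4), (.ofNat 10, 5), (.ofNat 10, 6), (.negSucc 10, 7), (.ofNat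
  12, 8), (.negSucc 2, 10), (.ofNat 9, 12), (.ofNat 1, 14), (.ofNat 10, 19), (.ofNat 11, 21), (.ofNat 1, 25), (.ofNat
  17, 26), (.ofNat 12, 27), (.ofNat 4, 28), (.ofNat 9, 29), (.ofNat 8, 32), (.ofNat 13, 33), (.negSucc 2, 34),
  (.ofNat 4, 35), (.negSucc 9, 9)]) (.bm 36 1 (.bm 36 0 (.far (.ofNat 40) [(.negSucc 21, 1), (.ofNat 11, 2), (.ofNat
  5, 3), (.negSucc 80, 4), (.negSucc 10, 6), (.negSucc 30, 7), (.ofNat 34, 8), (.negSucc 15, 10), (.ofNat 17, 12),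
  (.ofNat 16, 14), (.ofNat 11, 17), (.ofNat 27, 19), (.ofNat 27, 21), (.ofNat 13, 24), (.ofNat 13, 25), (.ofNat 38,
  26), (.ofNat 27, 27), (.ofNat 2, 28), (.ofNat 23, 29), (.ofNat 2, 32), (.ofNat 13, 33), (.negSucc 36, 34), (.ofNat
  23, 35), (.negSucc 16, 36)]) (.bm 37 0 (.far (.ofNat 90) [(.negSucc 174, 1), (.negSucc 112, 2), (.negSucc 56, 3),
  (.negSucc 242, 4), (.ofNat 40, 5), (.negSucc 72, 6), (.negSucc 50, 7), (.negSucc 10, 9), (.negSucc 27, 10), (.ofNat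
  203, 12), (.ofNat 57, 14), (.ofNat 57, 17), (.ofNat 34, 19), (.ofNat 90, 21), (.ofNat 62, 24), (.ofNat 62, 25),
  (.ofNat 124, 26), (.ofNat 90, 27), (.ofNat 73, 28), (.ofNat 73, 32), (.negSucc 67, 34), (.ofNat 73, 35), (.ofNat 6,
  36), (.negSucc 67, 37)]) (.far (.ofNat 179) [(.negSucc 191, 1), (.ofNat 230, 2), (.ofNat 64, 3), (.negSucc 728, 4),
  (.negSucc 25, 5), (.negSucc 229, 6), (.negSucc 242, 7), (.ofNat 384, 8), (.ofNat 153, 9), (.negSucc 191, 10),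
  (.ofNat 217, 14), (.ofNat 77, 19), (.ofNat 281, 20), (.ofNat 179, 21), (.ofNat 51, 25), (.ofNat 358, 26), (.ofNat
  77, 27), (.ofNat 128, 29), (.ofNat 51, 32), (.negSucc 408, 34), (.ofNat 230, 35), (.negSucc 191, 36), (.ofNat 128,
  37)]))) (.far (.ofNat 1) [(.negSucc 61, 1), (.ofNat 17, 2), (.negSucc 21, 3), (.negSucc 80, 4), (.ofNat 42, 5),
  (.negSucc 9, 6), (.ofNat 2, 7), (.ofNat 16, 8), (.ofNat 6, 9), (.negSucc 29, 10), (.ofNat 32, 12), (.ofNat 20, 14),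
  (.ofNat 16, 19), (.ofNat 35, 21), (.ofNat 19, 25), (.ofNat 16, 26), (.ofNat 16, 27), (.ofNat 32, 28), (.ofNat 23,
  29), (.ofNat 70, 32), (.negSucc 8, 34), (.ofNat 5, 35), (.ofNat 25, 36)]))) (.far (.ofNat 17) [(.negSucc 58, 1),
  (.ofNat 1, 2), (.negSucc 4, 3), (.negSucc 80, 4), (.negSucc 18, 6), (.negSucc 15, 7), (.ofNat 37, 8), (.negSucc 29,
  10), (.ofNat 22, 12), (.ofNat 20, 14), (.ofNat 16, 19), (.ofNat 29, 21), (.ofNat 3, 25), (.ofNat 16, 26), (.ofNat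
  18, 27), (.ofNat 17, 28), (.ofNat 13, 29), (.ofNat 16, 32), (.ofNat 10, 33), (.negSucc 14, 34), (.ofNat 20, 35),
  (.ofNat 32, 5)])) (.far (.ofNat 20) [(.negSucc 68, 1), (.negSucc 37, 2), (.negSucc 20, 3), (.negSucc 80, 4),
  (.ofNat 53, 5), (.ofNat 11, 6), (.negSucc 30, 7), (.ofNat 11, 8), (.negSucc 10, 9), (.ofNat 17, 10), (.negSucc 2,
  11), (.ofNat 36, 12), (.ofNat 18, 14), (.ofNat 7, 15), (.ofNat 16, 17), (.ofNat 2, 19), (.ofNat 10, 21), (.ofNat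
  18, 26), (.ofNat 18, 27), (.ofNat 3, 28), (.ofNat 26, 33), (.ofNat 27, 34)])) (.far (.ofNat 85) [(.ofNat 13, 1),
  (.negSucc 26, 2), (.negSucc 242, 4), (.ofNat 28, 5), (.ofNat 145, 6), (.negSucc 151, 7), (.ofNat 145, 8), (.negSucc
  69, 10), (.ofNat 34, 12), (.negSucc 46, 14), (.ofNat 10, 17), (.ofNat 101, 19), (.ofNat 116, 21), (.ofNat 3, 25),
  (.ofNat 111, 26), (.ofNat 127, 27), (.ofNat 89, 28), (.ofNat 104, 29), (.ofNat 212, 33), (.ofNat 12, 34), (.ofNat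
  9, 35), (.ofNat 81, 3)])) (.far (.ofNat 162) [(.negSucc 92, 1), (.ofNat 22, 2), (.negSucc 242, 4), (.ofNat 88, 5),
  (.ofNat 85, 6), (.negSucc 85, 7), (.ofNat 103, 8), (.negSucc 59, 9), (.negSucc 21, 10), (.ofNat 57, 12), (.negSucc
  4, 14), (.ofNat 110, 19), (.ofNat 97, 21), (.ofNat 110, 26), (.ofNat 116, 27), (.ofNat 51, 28), (.ofNat 87, 29),
  (.ofNat 65, 32), (.ofNat 131, 33), (.ofNat 29, 35)]))) (.far (.ofNat 11) [(.ofNat 4, 1), (.ofNat 3, 2), (.negSucc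
  22, 4), (.ofNat 5, 5), (.ofNat 12, 6), (.negSucc 0, 7), (.ofNat 5, 8), (.negSucc 3, 10), (.negSucc 8, 11), (.ofNat
  3, 12), (.ofNat 1, 14), (.ofNat 5, 21), (.ofNat 1, 24), (.ofNat 16, 26), (.ofNat 27, 27), (.ofNat 7, 28), (.ofNat
  19, 29), (.ofNat 14, 32), (.ofNat 21, 33), (.ofNat 5, 35)])) (.far (.ofNat 26480) [(.negSucc 23789, 1), (.negSucc
  707, 2), (.negSucc 59048, 4), (.ofNat 22090, 5), (.ofNat 10535, 6), (.negSucc 24610, 7), (.ofNat 25687, 8),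
  (.negSucc 10648, 9), (.negSucc 11157, 10), (.ofNat 3965, 12), (.negSucc 4190, 14), (.ofNat 24214, 19), (.ofNat
  15010, 21), (.ofNat 3370, 24), (.ofNat 24214, 26), (.ofNat 19400, 27), (.ofNat 24554, 28), (.ofNat 18833, 32),
  (.ofNat 34268, 33), (.ofNat 15350, 35)]))) (.bf 1 1120 (.bm 34 0 (.far (.ofNat 16) [(.negSucc 31, 1), (.negSucc 15,
  2), (.negSucc 80, 4), (.negSucc 9, 6), (.negSucc 34, 7), (.negSucc 5, 8), (.negSucc 13, 10), (.ofNat 40, 12),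
  (.negSucc 0, 14), (.ofNat 4, 16), (.ofNat 4, 19), (.ofNat 23, 21), (.ofNat 41, 24), (.ofNat 36, 25), (.ofNat 49,
  26), (.ofNat 29, 27), (.ofNat 20, 28), (.ofNat 6, 32), (.ofNat 15, 35), (.negSucc 43, 34)]) (.bm 5 0 (.bm 9 0 (.bm
  11 0 (.bm 12 0 (.bm 13 0 (.bm 15 0 (.bm 16 0 (.bf 8 5 (.far (.ofNat 47) [(.ofNat 29, 1), (.ofNat 14, 2), (.negSucc
  9, 4), (.negSucc 20, 5), (.negSucc 6, 6), (.negSucc 16, 7), (.negSucc 6, 8), (.negSucc 9, 9), (.negSucc 16, 10),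
  (.negSucc 80, 11), (.ofNat 35, 12), (.negSucc 0, 13), (.ofNat 12, 14), (.negSucc 8, 15), (.ofNat 2, 16), (.ofNat
  15, 24), (.ofNat 33, 25), (.ofNat 3, 36)]) (.far (.negSucc 235) [(.negSucc 343, 1), (.negSucc 598, 2), (.negSucc
  707, 4), (.negSucc 203, 5), (.negSucc 219, 6), (.negSucc 707, 7), (.negSucc 563, 8), (.negSucc 228, 9), (.negSucc
  209, 10), (.negSucc 728, 11), (.negSucc 129, 12), (.negSucc 728, 13), (.negSucc 553, 14), (.negSucc 312, 15),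
  (.negSucc 598, 16), (.ofNat 420, 24), (.ofNat 214, 27), (.ofNat 344, 31)])) (.far (.negSucc 3) [(.negSucc 15, 1),
  (.negSucc 6, 2), (.negSucc 22, 4), (.ofNat 1, 5), (.negSucc 0, 6), (.negSucc 6, 7), (.negSucc 1, 8), (.ofNat 3,
  10), (.negSucc 36, 11), (.ofNat 8, 12), (.negSucc 18, 13), (.ofNat 11, 14), (.ofNat 15, 15), (.ofNat 16, 25),
  (.ofNat 8, 30), (.ofNat 1, 31), (.ofNat 4, 36), (.ofNat 2187, 1002), (.ofNat 8, 16)])) (.far (.negSucc 0)
  [(.negSucc 0, 1), (.ofNat 1, 2), (.negSucc 0, 5), (.ofNat 2, 6), (.ofNat 1, 8), (.negSucc 2, 9), (.negSucc 18, 11),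
  (.negSucc 0, 12), (.negSucc 10, 13), (.negSucc 0, 14), (.ofNat 5, 25), (.ofNat 1, 26), (.ofNat 1, 31), (.ofNat
  2187, 1002), (.ofNat 8, 15)])) (.far (.negSucc 2) [(.negSucc 4, 1), (.negSucc 1, 2), (.negSucc 9, 4), (.ofNat 5,
  5), (.negSucc 0, 6), (.negSucc 2, 7), (.negSucc 1, 8), (.ofNat 4, 9), (.negSucc 1, 10), (.negSucc 17, 11), (.ofNat
  6, 12), (.ofNat 6, 24), (.ofNat 1, 26), (.ofNat 3, 30), (.ofNat 2, 31), (.ofNat 2187, 1002), (.ofNat 170, 1004),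
  (.ofNat 9, 13)])) (.far (.negSucc 2) [(.negSucc 51, 1), (.negSucc 34, 2), (.negSucc 89, 4), (.ofNat 11, 5),
  (.negSucc 7, 6), (.negSucc 26, 7), (.negSucc 26, 8), (.ofNat 11, 9), (.negSucc 114, 11), (.ofNat 37, 14), (.ofNat
  6, 16), (.ofNat 29, 24), (.ofNat 29, 25), (.ofNat 19, 31), (.negSucc 9, 34), (.ofNat 14, 36), (.ofNat 19683, 1002),
  (.ofNat 1577, 1004), (.ofNat 59, 12)])) (.far (.negSucc 867) [(.negSucc 1293, 1), (.negSucc 403, 2), (.negSucc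
  2186, 4), (.ofNat 264, 5), (.ofNat 226, 6), (.ofNat 181, 7), (.negSucc 836, 8), (.ofNat 56, 9), (.negSucc 415, 10),
  (.ofNat 34, 13), (.negSucc 488, 14), (.ofNat 196, 19), (.ofNat 695, 21), (.ofNat 754, 24), (.ofNat 629, 25),
  (.ofNat 196, 26), (.ofNat 1002, 27), (.ofNat 402, 28), (.ofNat 81, 29), (.ofNat 85, 32), (.ofNat 233, 33), (.ofNat
  110, 34), (.negSucc 11, 37), (.ofNat 933, 11)])) (.far (.negSucc 117) [(.negSucc 227, 1), (.negSucc 29, 2),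
  (.negSucc 421, 4), (.ofNat 34, 5), (.negSucc 3, 6), (.negSucc 219, 7), (.negSucc 75, 8), (.ofNat 68, 10), (.ofNat
  46, 13), (.negSucc 21, 14), (.ofNat 122, 19), (.ofNat 80, 21), (.ofNat 220, 24), (.ofNat 152, 25), (.ofNat 122,
  26), (.ofNat 175, 27), (.ofNat 4, 28), (.ofNat 77, 30), (.ofNat 7, 31), (.ofNat 6561, 1002), (.ofNat 152, 9)]))
  (.far (.negSucc 88) [(.negSucc 205, 1), (.negSucc 19, 2), (.negSucc 242, 4), (.negSucc 92, 6), (.ofNat 1, 7),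
  (.ofNat 7, 8), (.ofNat 35, 9), (.negSucc 115, 10), (.ofNat 11, 12), (.ofNat 1, 13), (.ofNat 22, 14), (.ofNat 21,
  16), (.ofNat 42, 21), (.ofNat 37, 24), (.ofNat 81, 25), (.ofNat 64, 27), (.ofNat 6, 28), (.ofNat 86, 5)]))) (.far
  (.negSucc 365) [(.negSucc 605, 1), (.negSucc 498, 2), (.negSucc 728, 4), (.ofNat 127, 5), (.negSucc 298, 6),
  (.negSucc 147, 7), (.negSucc 365, 8), (.ofNat 54, 9), (.negSucc 322, 10), (.ofNat 114, 12), (.negSucc 367, 14),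
  (.ofNat 66, 20), (.ofNat 165, 21), (.ofNat 238, 24), (.ofNat 100, 26), (.ofNat 117, 27), (.ofNat 55, 31), (.ofNat
  8, 32), (.ofNat 152, 33), (.ofNat 84, 35)])))))) (.far (.negSucc 147) [(.negSucc 10, 1), (.negSucc 72, 2), (.ofNat
  61, 3), (.negSucc 136, 4), (.negSucc 17, 6), (.negSucc 189, 7), (.negSucc 95, 8), (.negSucc 195, 10), (.negSucc
  274, 11), (.ofNat 69, 13), (.ofNat 83, 15), (.ofNat 131, 16), (.ofNat 173, 19), (.ofNat 679, 23), (.ofNat 459, 24),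
  (.ofNat 276, 25), (.ofNat 173, 26), (.ofNat 729, 27), (.ofNat 303, 28), (.ofNat 639, 29), (.ofNat 322, 31), (.ofNat
  149, 32), (.ofNat 496, 33), (.ofNat 113, 36), (.ofNat 7, 37)])) (.far (.negSucc 274) [(.negSucc 466, 1), (.negSucc
  299, 2), (.negSucc 728, 4), (.negSucc 322, 6), (.negSucc 215, 7), (.negSucc 322, 8), (.negSucc 393, 10), (.ofNat
  25, 12), (.negSucc 347, 14), (.ofNat 8, 17), (.ofNat 175, 19), (.ofNat 71, 25), (.ofNat 183, 26), (.ofNat 149, 27),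
  (.ofNat 215, 28), (.ofNat 79, 29), (.ofNat 208, 30), (.ofNat 71, 33)])) (.far (.negSucc 130) [(.negSucc 974, 1),
  (.negSucc 429, 2), (.negSucc 1517, 4), (.ofNat 844, 5), (.ofNat 367, 6), (.negSucc 769, 7), (.ofNat 215, 8),
  (.ofNat 58, 10), (.negSucc 167, 14), (.ofNat 75, 17), (.ofNat 75, 19), (.ofNat 2187, 24), (.ofNat 1888, 25),
  (.ofNat 814, 26), (.ofNat 982, 27), (.ofNat 1074, 28), (.ofNat 1586, 29), (.ofNat 1586, 30), (.ofNat 655, 31),
  (.ofNat 503, 32), (.ofNat 1263, 33), (.ofNat 110, 35)])) (.far (.negSucc 11) [(.negSucc 12, 1), (.negSucc 0, 2),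
  (.negSucc 26, 4), (.ofNat 6, 6), (.ofNat 2, 7), (.negSucc 7, 8), (.negSucc 6, 10), (.negSucc 4, 14), (.ofNat 1,
  19), (.ofNat 8, 21), (.ofNat 11, 24), (.ofNat 4, 25), (.ofNat 1, 26), (.ofNat 12, 27), (.ofNat 7, 28), (.ofNat 2,
  29), (.ofNat 1, 32), (.ofNat 3, 33), (.ofNat 1, 35), (.ofNat 13, 11)])) (.far (.negSucc 14) [(.negSucc 24, 1),
  (.negSucc 6, 2), (.negSucc 26, 4), (.ofNat 2, 5), (.ofNat 12, 6), (.ofNat 5, 7), (.ofNat 4, 8), (.ofNat 5, 9),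
  (.ofNat 8, 10), (.ofNat 5, 14), (.ofNat 9, 16), (.ofNat 16, 24), (.ofNat 2, 25), (.ofNat 3, 26), (.ofNat 9, 27),
  (.ofNat 2, 28), (.ofNat 14, 29), (.ofNat 16, 30), (.ofNat 2, 31), (.ofNat 4, 32), (.ofNat 11, 33), (.ofNat 14,
  37)])) (.far (.negSucc 19) [(.negSucc 9, 1), (.negSucc 6, 2), (.negSucc 26, 4), (.ofNat 2, 5), (.negSucc 7, 6),
  (.negSucc 14, 7), (.ofNat 5, 8), (.negSucc 4, 10), (.ofNat 3, 13), (.ofNat 9, 14), (.ofNat 3, 15), (.ofNat 6, 17),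
  (.ofNat 5, 21), (.ofNat 3, 24), (.ofNat 7, 25), (.ofNat 6, 26), (.ofNat 1, 27), (.ofNat 2, 30), (.ofNat 1, 33),
  (.ofNat 1, 37), (.ofNat 16, 9)])) (.far (.negSucc 15) [(.negSucc 5, 1), (.ofNat 1, 2), (.negSucc 23, 4), (.ofNat 8,
  6), (.negSucc 14, 8), (.negSucc 12, 10), (.ofNat 10, 13), (.ofNat 1, 14), (.ofNat 5, 21), (.ofNat 8, 25), (.ofNat
  3, 27), (.ofNat 3, 28), (.ofNat 1, 29), (.ofNat 10, 30), (.ofNat 8, 32), (.ofNat 4, 33), (.ofNat 2, 37), (.ofNat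
  27, 7)])) (.far (.negSucc 80) [(.negSucc 21, 1), (.negSucc 19, 2), (.negSucc 4, 4), (.ofNat 11, 5), (.ofNat 11, 6),
  (.negSucc 32, 8), (.ofNat 9, 9), (.negSucc 2, 10), (.ofNat 25, 13), (.ofNat 11, 14), (.ofNat 16, 16), (.ofNat 7,
  17), (.ofNat 3, 24), (.ofNat 18, 26), (.ofNat 8, 28), (.ofNat 28, 31), (.ofNat 6, 33), (.ofNat 38, 34)])) (.far
  (.negSucc 9) [(.negSucc 4, 1), (.ofNat 5, 2), (.negSucc 26, 4), (.ofNat 12, 6), (.negSucc 1, 8), (.negSucc 13, 10),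
  (.ofNat 5, 12), (.ofNat 5, 13), (.negSucc 16, 14), (.ofNat 15, 16), (.ofNat 7, 21), (.ofNat 13, 24), (.ofNat 10,
  25), (.ofNat 17, 27), (.ofNat 17, 28), (.ofNat 5, 29), (.ofNat 17, 30), (.ofNat 10, 31), (.ofNat 12, 33), (.ofNat
  20, 3)])) (.far (.negSucc 241) [(.negSucc 301, 1), (.negSucc 94, 2), (.negSucc 519, 4), (.ofNat 9, 5), (.ofNat 35,
  6), (.negSucc 218, 8), (.negSucc 268, 10), (.negSucc 47, 14), (.ofNat 127, 16), (.ofNat 218, 19), (.ofNat 177, 21),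
  (.ofNat 474, 23), (.ofNat 488, 24), (.ofNat 293, 25), (.ofNat 218, 26), (.ofNat 729, 27), (.ofNat 300, 28), (.ofNat
  504, 29), (.ofNat 177, 31), (.ofNat 212, 32), (.ofNat 462, 33), (.ofNat 146, 36)])) (.far (.negSucc 121) [(.negSucc
  167, 1), (.negSucc 109, 2), (.ofNat 59, 3), (.negSucc 242, 4), (.ofNat 45, 5), (.negSucc 11, 6), (.negSucc 128, 8),
  (.negSucc 159, 10), (.ofNat 60, 12), (.negSucc 209, 14), (.ofNat 161, 21), (.ofNat 207, 24), (.ofNat 16, 26),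
  (.ofNat 109, 27), (.ofNat 53, 29), (.ofNat 148, 31), (.ofNat 98, 32), (.ofNat 166, 33), (.ofNat 25, 35)])) (.far
  (.negSucc 98) [(.negSucc 10, 1), (.negSucc 41, 2), (.negSucc 105, 4), (.ofNat 18, 6), (.ofNat 73, 7), (.negSucc 39,
  8), (.ofNat 1, 9), (.negSucc 12, 10), (.ofNat 88, 13), (.negSucc 8, 14), (.ofNat 28, 21), (.ofNat 59, 24), (.ofNat
  95, 26), (.ofNat 243, 27), (.ofNat 58, 28), (.ofNat 126, 29), (.ofNat 58, 30), (.ofNat 32, 31), (.ofNat 138, 32),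
  (.ofNat 112, 33), (.ofNat 86, 35)])) (.far (.negSucc 0) [(.negSucc 0, 1), (.negSucc 0, 2), (.negSucc 0, 4),
  (.negSucc 0, 6), (.negSucc 0, 8), (.negSucc 0, 10), (.negSucc 0, 14)])) (.far (.negSucc 10302) [(.negSucc 24620,
  1), (.negSucc 10477, 2), (.negSucc 30343, 4), (.ofNat 7731, 5), (.negSucc 6014, 6), (.ofNat 7946, 7), (.negSucc
  13446, 8), (.negSucc 16714, 10), (.negSucc 3045, 14), (.ofNat 9090, 17), (.ofNat 15677, 19), (.ofNat 5720, 23),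
  (.ofNat 32636, 24), (.ofNat 39048, 25), (.ofNat 27696, 26), (.ofNat 24154, 27), (.ofNat 59049, 28), (.ofNat 9013,
  30), (.ofNat 41762, 31), (.ofNat 34330, 32), (.ofNat 52637, 33), (.ofNat 10660, 37)])) (.far (.negSucc 1960)
  [(.negSucc 4909, 1), (.negSucc 2351, 2), (.negSucc 6560, 4), (.ofNat 949, 5), (.negSucc 645, 6), (.negSucc 1764,
  8), (.ofNat 517, 9), (.negSucc 490, 10), (.ofNat 926, 12), (.ofNat 41, 14), (.ofNat 173, 16), (.ofNat 903, 19),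
  (.ofNat 559, 20), (.ofNat 1114, 21), (.ofNat 2246, 24), (.ofNat 2397, 25), (.ofNat 1462, 26), (.ofNat 2096, 27),
  (.ofNat 134, 28)])) (.far (.negSucc 96) [(.negSucc 756, 1), (.negSucc 411, 2), (.negSucc 1541, 4), (.ofNat 906, 5),
  (.ofNat 391, 6), (.ofNat 637, 8), (.negSucc 152, 10), (.ofNat 139, 14), (.ofNat 336, 16), (.ofNat 660, 17), (.ofNat
  77, 19), (.ofNat 1807, 24), (.ofNat 1928, 25), (.ofNat 737, 26), (.ofNat 637, 27), (.ofNat 1320, 28), (.ofNat 2187,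
  29), (.ofNat 2187, 30), (.ofNat 612, 31), (.ofNat 1351, 32), (.ofNat 1807, 33), (.ofNat 341, 35)])))

/-- a certificate -/
noncomputable def c51 : Hd × Tr :=
  ((10200960, [(1005, 4080385), (2041192, 6120576)], [(1005, 4080385), (2041192, 6120576)]), (.far (.negSucc 32)
  [(.negSucc 12, 16), (.negSucc 9, 18), (.ofNat 15, 20), (.ofNat 6, 25), (.ofNat 7, 26), (.ofNat 4, 27), (.negSucc 9,
  30), (.negSucc 4, 31), (.ofNat 6, 33), (.ofNat 243, 1005), (.negSucc 7, 2041192)]))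

/-- a certificate -/
noncomputable def c52 : Hd × Tr :=
  ((10368000, [], []), (.far (.ofNat 3331) [(.ofNat 2220, 2), (.ofNat 555, 5), (.ofNat 278, 6), (.ofNat 1665, 7),
  (.ofNat 2498, 8), (.ofNat 1110, 12), (.ofNat 1665, 14), (.ofNat 1665, 15), (.ofNat 1665, 16), (.ofNat 1665, 18),
  (.ofNat 1665, 19), (.ofNat 4834, 20), (.ofNat 3053, 21), (.ofNat 1642, 23), (.ofNat 12675, 24), (.ofNat 14618, 25),
  (.ofNat 14895, 26), (.ofNat 16005, 27), (.ofNat 17116, 28), (.ofNat 19683, 29), (.ofNat 18989, 30), (.ofNat 16838,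
  31), (.ofNat 19059, 32), (.ofNat 18781, 33)]))

/-- certificates -/
noncomputable def CL5 : List (Hd × Tr) :=
  [c50, c51, c52]

theorem okC5 : okL TAB.Co3.D (TAB.Sm2.mkRows TAB.Co3.A TAB.Co3.B) P Z CL5 = true := by decide +kernel

/-- the enumeration -/
theorem lst0 {K : Type} [Group K] [Finite K] (h : In K TAB.Co3.D (TAB.Sm2.mkRows TAB.Co3.A TAB.Co3.B)) :
    Lst K SV :=
  lst_of_enum (E := E) h ok1 (H940.Eng.D.ords_co3 base) (fun _ => List.not_mem_nil) List.mem_cons_self (dv_iff.1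
  (by decide +kernel)) okB1 (l1 := [(23, 1), (11, 1), (7, 1)]) rfl (W := [W0, W1].flatten) (by decide +kernel) <|
  forall_flatten <|
    fa_cons (fun _ h => ⟨_, okD0, h⟩) <| fa_cons (fun _ h => ⟨_, okD1, h⟩) <| fa_nil

/-- the heads -/
def FL : List Hd :=
  [(6072, [(1552, 3312)], [(4, 0), (1552, 3312)]), (1796256000, [], [(4, 0)]), (244823040, [], []), (391910400, [],
  []), (279936000, [], []), (195955200, [], []), (139968000, [], []), (130636800, [], []), (97977600, [], []),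
  (93312000, [], []), (69984000, [], []), (65318400, [], []), (55987200, [], []), (48988800, [], []), (46656000, [],
  []), (43545600, [], []), (34992000, [], []), (32659200, [], []), (31104000, [], []), (27993600, [], []), (23328000,
  [], []), (21772800, [], []), (18662400, [], []), (17496000, [], []), (16329600, [], [(1, 0), (2, 0), (4, 0), (6,
  0)]), (10200960, [], [(1, 0)]), (10200960, [], [(2, 0)]), (10200960, [], [(4, 0)]), (10200960, [], [(6, 0)]),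
  (15552000, [], []), (13996800, [], []), (11664000, [], []), (10886400, [], [(1, 0), (2, 0), (4, 0), (6, 0)]),
  (9331200, [], [(1, 0), (4, 0)]), (8748000, [], []), (7776000, [], [(1, 0), (2, 0), (4, 0), (6, 0), (8, 0)]),
  (10200960, [], [(8, 0)]), (6998400, [], []), (6220800, [], [(1, 0), (4, 0)]), (5832000, [], [(1, 0), (4, 0)]),
  (5443200, [], [(1, 0), (2, 0), (4, 0), (6, 0), (8, 0)]), (4665600, [], [(1, 0), (4, 0), (6, 0), (8, 0)]), (4374000,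
  [], [(1, 0), (4, 0), (8, 0)]), (3499200, [], [(1, 0), (2, 0), (4, 0), (6, 0), (8, 0)]), (2916000, [], [(1, 0), (2,
  0), (4, 0), (6, 0), (8, 0)]), (2332800, [], [(1, 0), (2, 0), (4, 0), (6, 0), (8, 0), (10, 0), (14, 0)]), (10200960,
  [], [(10, 0)]), (10200960, [], [(14, 0)]), (1749600, [], [(1, 0), (2, 0), (4, 0), (6, 0), (8, 0), (10, 0), (14,
  0)]), (1458000, [], [(1, 0), (2, 0), (4, 0), (6, 0), (8, 0), (10, 0), (14, 0)]), (1166400, [], [(1, 0), (2, 0), (4,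
  0), (6, 0), (8, 0), (10, 0), (14, 0)]), (10200960, [(1005, 4080385), (2041192, 6120576)], [(1005, 4080385),
  (2041192, 6120576)]), (10368000, [], [])]

/-- scripts -/
noncomputable def S0 : List ((ℕ × ℕ) × Ps) :=
  [((6072, 276), (.br 4 (.kx 0) (.ky 1))), ((1814400, 2025), (.ky 2)), ((10200960, 1265), (.ky 3)), ((10200960,
  1771), (.ky 4)), ((10200960, 2530), (.ky 5)), ((10200960, 3542), (.ky 6)), ((10200960, 3795), (.ky 7)), ((10200960,
  5060), (.ky 8)), ((10200960, 5313), (.ky 9)), ((10200960, 7084), (.ky 10)), ((10200960, 7590), (.ky 11)),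
  ((10200960, 8855), (.ky 12)), ((10200960, 10120), (.ky 13)), ((10200960, 10626), (.ky 14)), ((10200960, 11385),
  (.ky 15)), ((10200960, 14168), (.ky 16)), ((10200960, 15180), (.ky 17)), ((10200960, 15939), (.ky 18)), ((10200960,
  17710), (.ky 19)), ((10200960, 21252), (.ky 20)), ((10200960, 22770), (.ky 21)), ((10200960, 26565), (.ky 22)),
  ((10200960, 28336), (.ky 23)), ((10200960, 30360), (.br 6 (.kx 28) (.br 4 (.kx 27) (.br 2 (.kx 26) (.br 1 (.kx 25)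
  (.ky 24)))))), ((10200960, 31878), (.ky 29)), ((10200960, 35420), (.ky 30)), ((10200960, 42504), (.ky 31)),
  ((10200960, 45540), (.br 6 (.kx 28) (.br 4 (.kx 27) (.br 2 (.kx 26) (.br 1 (.kx 25) (.ky 32)))))), ((10200960,
  53130), (.br 4 (.kx 27) (.br 1 (.kx 25) (.ky 33)))), ((10200960, 56672), (.ky 34)), ((10200960, 63756), (.br 8 (.kx
  36) (.br 6 (.kx 28) (.br 4 (.kx 27) (.br 2 (.kx 26) (.br 1 (.kx 25) (.ky 35))))))), ((10200960, 70840), (.ky 37)),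
  ((10200960, 79695), (.br 4 (.kx 27) (.br 1 (.kx 25) (.ky 38)))), ((10200960, 85008), (.br 4 (.kx 27) (.br 1 (.kx
  25) (.ky 39)))), ((10200960, 91080), (.br 8 (.kx 36) (.br 6 (.kx 28) (.br 4 (.kx 27) (.br 2 (.kx 26) (.br 1 (.kx
  25) (.ky 40))))))), ((10200960, 106260), (.br 8 (.kx 36) (.br 6 (.kx 28) (.br 4 (.kx 27) (.br 1 (.kx 25) (.ky
  41)))))), ((10200960, 113344), (.br 8 (.kx 36) (.br 4 (.kx 27) (.br 1 (.kx 25) (.ky 42))))), ((10200960, 141680),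
  (.br 8 (.kx 36) (.br 6 (.kx 28) (.br 4 (.kx 27) (.br 2 (.kx 26) (.br 1 (.kx 25) (.ky 43))))))), ((10200960,
  170016), (.br 8 (.kx 36) (.br 6 (.kx 28) (.br 4 (.kx 27) (.br 2 (.kx 26) (.br 1 (.kx 25) (.ky 44))))))),
  ((10200960, 212520), (.br 14 (.kx 47) (.br 10 (.kx 46) (.br 8 (.kx 36) (.br 6 (.kx 28) (.br 4 (.kx 27) (.br 2 (.kx
  26) (.br 1 (.kx 25) (.ky 45))))))))), ((10200960, 283360), (.br 14 (.kx 47) (.br 10 (.kx 46) (.br 8 (.kx 36) (.br 6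
  (.kx 28) (.br 4 (.kx 27) (.br 2 (.kx 26) (.br 1 (.kx 25) (.ky 48))))))))), ((10200960, 340032), (.br 14 (.kx 47)
  (.br 10 (.kx 46) (.br 8 (.kx 36) (.br 6 (.kx 28) (.br 4 (.kx 27) (.br 2 (.kx 26) (.br 1 (.kx 25) (.ky 49))))))))),
  ((10200960, 425040), (.br 14 (.kx 47) (.br 10 (.kx 46) (.br 8 (.kx 36) (.br 6 (.kx 28) (.br 4 (.kx 27) (.br 2 (.kx
  26) (.br 1 (.kx 25) (.ky 50))))))))), ((10200960, 1020096), (.kx 51)), ((244823040, 276), (.kx 2)), ((244823040,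
  552), (.kx 2)), ((244823040, 1265), (.ky 3)), ((244823040, 1771), (.ky 4)), ((244823040, 2530), (.ky 5)),
  ((244823040, 3542), (.ky 6)), ((244823040, 3795), (.ky 7)), ((244823040, 5060), (.ky 8)), ((244823040, 5313), (.ky
  9)), ((244823040, 7084), (.ky 10)), ((244823040, 7590), (.ky 11)), ((244823040, 8855), (.ky 12)), ((244823040,
  10120), (.ky 13)), ((244823040, 10626), (.ky 14)), ((244823040, 11385), (.ky 15)), ((244823040, 14168), (.ky 16))]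

/-- scripts -/
noncomputable def S1 : List ((ℕ × ℕ) × Ps) :=
  [((244823040, 15180), (.ky 17)), ((244823040, 15939), (.ky 18)), ((244823040, 17710), (.ky 19)), ((244823040,
  21252), (.ky 20)), ((244823040, 22770), (.ky 21)), ((244823040, 26565), (.ky 22)), ((244823040, 28336), (.ky 23)),
  ((244823040, 30360), (.kx 2)), ((244823040, 31878), (.ky 29)), ((244823040, 34155), (.kx 2)), ((244823040, 35420),
  (.ky 30)), ((244823040, 42504), (.ky 31)), ((244823040, 45540), (.kx 2)), ((244823040, 47817), (.ky 52)),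
  ((244823040, 53130), (.kx 2)), ((244823040, 56672), (.ky 34)), ((244823040, 63756), (.kx 2)), ((244823040, 68310),
  (.kx 2)), ((244823040, 70840), (.ky 37)), ((244823040, 79695), (.kx 2)), ((244823040, 85008), (.kx 2)),
  ((244823040, 91080), (.kx 2)), ((244823040, 95634), (.kx 2)), ((244823040, 106260), (.kx 2)), ((244823040, 113344),
  (.kx 2)), ((244823040, 127512), (.kx 2)), ((244823040, 136620), (.kx 2)), ((244823040, 141680), (.kx 2)),
  ((244823040, 159390), (.kx 2)), ((244823040, 170016), (.kx 2)), ((244823040, 191268), (.kx 2)), ((244823040,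
  212520), (.kx 2)), ((244823040, 226688), (.kx 2)), ((244823040, 239085), (.kx 2)), ((244823040, 255024), (.kx 2)),
  ((244823040, 273240), (.kx 2)), ((244823040, 283360), (.kx 2)), ((244823040, 318780), (.kx 2)), ((244823040,
  340032), (.kx 2)), ((244823040, 382536), (.kx 2)), ((244823040, 425040), (.kx 2)), ((244823040, 453376), (.kx 2)),
  ((244823040, 510048), (.kx 2)), ((244823040, 566720), (.kx 2)), ((244823040, 637560), (.kx 2)), ((244823040,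
  680064), (.kx 2)), ((244823040, 765072), (.kx 2)), ((244823040, 850080), (.kx 2)), ((244823040, 906752), (.kx 2)),
  ((244823040, 1020096), (.kx 2)), ((244823040, 1133440), (.kx 2)), ((244823040, 1275120), (.kx 2)), ((244823040,
  1360128), (.kx 2)), ((244823040, 1530144), (.kx 2)), ((244823040, 1700160), (.kx 2)), ((244823040, 2040192), (.kx
  2)), ((244823040, 2266880), (.kx 2)), ((244823040, 2550240), (.kx 2)), ((244823040, 2720256), (.kx 2)),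
  ((244823040, 3400320), (.kx 2))]

/-- scripts -/
noncomputable def S2 : List ((ℕ × ℕ) × Ps) :=
  [((244823040, 4080384), (.kx 2)), ((244823040, 4533760), (.kx 2)), ((244823040, 5100480), (.kx 2)), ((244823040,
  6120576), (.kx 2)), ((244823040, 6800640), (.kx 2)), ((244823040, 8160768), (.kx 2)), ((244823040, 10200960), (.kx
  2)), ((898128000, 2025), (.ky 2))]

theorem okC : ∀ x ∈ FL, ∃ CL, okL TAB.Co3.D (TAB.Sm2.mkRows TAB.Co3.A TAB.Co3.B) P Z CL = true ∧ x ∈ CL.map Prod.fst := by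
  rw [show FL = [CL0.map Prod.fst, CL1.map Prod.fst, CL2.map Prod.fst, CL3.map Prod.fst, CL4.map Prod.fst, CL5.map
  Prod.fst].flatten by decide +kernel]
  exact forall_flatten <| fa_cons (fun _ h => ⟨_, okC0, h⟩) <| fa_cons (fun _ h => ⟨_, okC1, h⟩) <| fa_cons (fun _ h => ⟨_, okC2, h⟩) <| fa_cons (fun _ h => ⟨_, okC3, h⟩) <|
    fa_cons (fun _ h => ⟨_, okC4, h⟩) <| fa_cons (fun _ h => ⟨_, okC5, h⟩) <| fa_nil

/-- **the list** -/
theorem lst {K : Type} [Group K] [Finite K] (h : In K TAB.Co3.D (TAB.Sm2.mkRows TAB.Co3.A TAB.Co3.B)) :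
    Lst K L :=
  lst_of_cert h (lst0 h) (l := E.l) (by decide +kernel) (SG := [1, 2, 4, 6, 8, 10, 14]) (by decide +kernel) okC (SS
  := [S0, S1, S2].flatten) (by decide +kernel) (by decide +kernel)

end Cfsg.Agent.SM.Sp.NCo3
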