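import Cfsg.Agent.SM.Sp.Enum
import Cfsg.Agent.TAB.F23.Tab

/-!
# SM (S3570), sporadic socles: Fi23 (helper26; generated by notes/SM/sp26/gen2.py.txt)
-/

set_option autoImplicit false
set_option Elab.async false

namespace Cfsg.Agent.SM.Sp.NFi23

open Cfsg Cfsg.Agent.TAB.Eng Cfsg.Agent.H940.Eng Cfsg.Agent.TH.Spor

/-- local data -/
def loc : List LD :=
  [⟨23, 23, [(11, 1), (23, 1)]⟩, ⟨17, 17, [(2, 4), (17, 1)]⟩, ⟨13, 468, [(2, 2), (3, 2), (13, 1)]⟩, ⟨11, 88, [(2, 3),
  (5, 1), (11, 1)]⟩, ⟨7, 5040, [(2, 4), (3, 2), (5, 1), (7, 1)]⟩]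

/-- the pairs which remain -/
def L : List (ℕ × ℕ) :=
  []

/-- the candidates -/
def SV : List (ℕ × ℕ) :=
  []

/-- the data -/
def E : Ed :=
  ⟨4089470473293004800, [(23, 1), (17, 1), (13, 1), (11, 1), (7, 1), (5, 2), (3, 13), (2, 18)], H940.Eng.D.o_fi23,
  loc, 782, [], [], [60, 168, 360, 504, 660, 1092, 2448, 2520, 4080, 5616, 6048, 6072, 7800, 7920, 9828, 20160,
  25920, 29120, 62400, 95040, 181440, 262080, 443520, 604800, 979200, 1451520, 1814400, 3265920, 4245696, 6065280,
  10200960, 13685760, 17971200, 19958400, 174182400, 197406720, 239500800, 244823040, 251596800, 3113510400,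
  4585351680, 9196830720, 47377612800, 448345497600, 4952179814400, 64561751654400], SV⟩

theorem ok1 : okEd TAB.F23.D TAB.F23.R E = true := by decide +kernel

theorem okB1 : okB E ⟨23, 23, [(11, 1), (23, 1)]⟩ = true := by decide +kernel

/-- pieces -/
def W0 : List (ℕ × ℕ) :=
  [(6072, 1), (6072, 11), (6072, 23), (6072, 253), (10200960, 1), (10200960, 7), (10200960, 11), (10200960, 77),
  (10200960, 23), (10200960, 161), (10200960, 253), (10200960, 1771), (244823040, 1), (244823040, 7), (244823040,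
  11)]

theorem okD0 : okD E [(5, 2), (3, 13), (2, 18)] W0 = true := by decide +kernel

/-- pieces -/
def W1 : List (ℕ × ℕ) :=
  [(244823040, 77), (244823040, 23), (244823040, 161), (244823040, 253), (244823040, 1771)]

theorem okD1 : okD E [(5, 2), (3, 13), (2, 18)] W1 = true := by decide +kernel

/-- the enumeration -/
theorem lst0 {K : Type} [Group K] [Finite K] (h : In K TAB.F23.D TAB.F23.R) :
    Lst K SV :=
  lst_of_enum (E := E) h ok1 (H940.Eng.D.ords_fi23 base) (fun _ => List.not_mem_nil) List.mem_cons_self (dv_iff.1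
  (by decide +kernel)) okB1 (l1 := [(23, 1), (17, 1), (13, 1), (11, 1), (7, 1)]) rfl (W := [W0, W1].flatten)
  (by decide +kernel) <| forall_flatten <|
    fa_cons (fun _ h => ⟨_, okD0, h⟩) <| fa_cons (fun _ h => ⟨_, okD1, h⟩) <| fa_nil

end Cfsg.Agent.SM.Sp.NFi23
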