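import Cfsg.Agent.SM.Sp.Enum
import Cfsg.Agent.TAB.F24.Use

/-!
# SM (S3570), sporadic socles: Fi24 (helper26; generated by notes/SM/sp26/gen2.py.txt)
-/

set_option autoImplicit false
set_option Elab.async false

namespace Cfsg.Agent.SM.Sp.NFi24

open Cfsg Cfsg.Agent.TAB.Eng Cfsg.Agent.H940.Eng Cfsg.Agent.TH.Spor

/-- local data -/
def loc : List LD :=
  [⟨29, 29, [(2, 1), (7, 1), (29, 1)]⟩, ⟨23, 23, [(11, 1), (23, 1)]⟩, ⟨17, 17, [(2, 4), (17, 1)]⟩, ⟨13, 2808, [(2,
  3), (3, 3), (13, 1)]⟩, ⟨11, 264, [(2, 3), (3, 1), (5, 1), (11, 1)]⟩]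

/-- the pairs which remain -/
def L : List (ℕ × ℕ) :=
  []

/-- the candidates -/
def SV : List (ℕ × ℕ) :=
  []

/-- the data -/
def E : Ed :=
  ⟨1255205709190661721292800, [(29, 1), (23, 1), (17, 1), (13, 1), (11, 1), (7, 3), (5, 2), (3, 16), (2, 21)],
  H940.Eng.D.o_fi24p, loc, 8671, [], [], [60, 168, 360, 504, 660, 1092, 2448, 2520, 4080, 5616, 6048, 6072, 7800,
  7920, 9828, 12180, 20160, 25920, 29120, 58800, 62400, 95040, 181440, 262080, 443520, 604800, 979200, 1451520,
  1814400, 3265920, 4245696, 6065280, 10200960, 13685760, 17971200, 19958400, 42456960, 174182400, 197406720,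
  211341312, 239500800, 244823040, 251596800, 1056706560, 3113510400, 4030387200, 4585351680, 9196830720,
  43589145600, 47377612800, 448345497600, 4952179814400, 25015379558400, 64561751654400, 4089470473293004800], SV⟩

theorem ok1 : okEd TAB.F24.DT TAB.F24.tabT E = true := by decide +kernel

theorem okB1 : okB E ⟨29, 29, [(2, 1), (7, 1), (29, 1)]⟩ = true := by decide +kernel

/-- pieces -/
def W0 : List (ℕ × ℕ) :=
  [(12180, 1)]

theorem okD0 : okD E [(29, 1), (23, 1), (17, 1), (13, 1), (11, 1), (7, 3), (5, 2), (3, 16), (2, 21)] W0 = true := by decide +kernel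

/-- the enumeration -/
theorem lst0 {K : Type} [Group K] [Finite K] (h : In K TAB.F24.DT TAB.F24.tabT) :
    Lst K SV :=
  lst_of_enum (E := E) h ok1 (H940.Eng.D.ords_fi24p base) (fun _ => List.not_mem_nil) List.mem_cons_self (dv_iff.1
  (by decide +kernel)) okB1 (l1 := []) rfl (W := [W0].flatten) (by decide +kernel) <| forall_flatten <|
    fa_cons (fun _ h => ⟨_, okD0, h⟩) <| fa_nil

end Cfsg.Agent.SM.Sp.NFi24
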