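import Cfsg.Agent.SM.Sp.Enum
import Cfsg.Agent.TAB.He.Dat

/-!
# SM (S3570), sporadic socles: He (helper26; generated by notes/SM/sp26/gen2.py.txt)
-/

set_option autoImplicit false
set_option Elab.async false

namespace Cfsg.Agent.SM.Sp.NHe

open Cfsg Cfsg.Agent.TAB.Eng Cfsg.Agent.H940.Eng Cfsg.Agent.TH.Spor

/-- local data -/
def loc : List LD :=
  [⟨17, 17, [(2, 3), (17, 1)]⟩]

/-- the pairs which remain -/
def L : List (ℕ × ℕ) :=
  []

/-- the candidates -/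
def SV : List (ℕ × ℕ) :=
  [(2448, 68), (2448, 102), (2448, 136), (2448, 153), (4080, 68), (4080, 136), (979200, 68), (979200, 85), (979200,
  102), (979200, 136), (979200, 153), (979200, 170), (979200, 204), (979200, 255), (979200, 272), (979200, 306),
  (979200, 340), (979200, 408), (979200, 425), (979200, 510), (979200, 544), (979200, 612), (979200, 680), (979200,
  765), (979200, 816), (979200, 850), (979200, 1020), (979200, 1088), (979200, 1224), (979200, 1275), (979200, 1360),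
  (979200, 1530), (979200, 1632), (979200, 1700), (979200, 2040), (979200, 2176), (979200, 2448), (979200, 2550),
  (979200, 2720), (979200, 3060), (979200, 3264), (979200, 3400), (979200, 3825), (979200, 4080), (979200, 4896),
  (979200, 5100), (979200, 5440), (979200, 6120), (979200, 6528), (979200, 6800), (979200, 8160), (979200, 10200),
  (979200, 10880), (979200, 13056), (979200, 13600), (979200, 16320), (979200, 20400), (979200, 27200), (979200,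
  32640), (979200, 40800), (979200, 54400)]

/-- the data -/
def E : Ed :=
  ⟨4030387200, [(17, 1), (7, 3), (5, 2), (3, 3), (2, 10)], H940.Eng.D.o_he, loc, 51, [], [(17, 19), (5, 8)], [60,
  168, 360, 504, 2448, 2520, 4080, 6048, 20160, 58800, 604800, 979200], SV⟩

theorem ok1 : okEd TAB.He.D TAB.He.RR E = true := by decide +kernel

/-- the types of prime order -/
def P : List (ℕ × ℕ × ℕ) :=
  [(17, 19, 474163200), (7, 10, 6854400), (7, 11, 3916800), (7, 12, 82252800), (5, 8, 13434624), (3, 3, 533120), (3,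
  4, 7996800), (2, 1, 24990), (2, 2, 187425)]

/-- the types -/
def Z : List Ze :=
  [(1, 2, 24990, [1]), (2, 2, 187425, [2]), (3, 3, 533120, [3]), (4, 3, 7996800, [4]), (5, 4, 5997600, [1]), (6, 4,
  10495800, [2]), (7, 4, 31487400, [2]), (8, 5, 13434624, [8]), (9, 6, 55977600, [3, 1]), (10, 7, 6854400, [10]),
  (11, 7, 3916800, [11]), (12, 7, 82252800, [12]), (13, 8, 251899200, [2]), (14, 10, 201519360, [8, 1]), (15, 12,
  335865600, [3, 1]), (16, 14, 143942400, [10, 1]), (17, 14, 575769600, [12, 2]), (18, 15, 268692480, [8, 3]), (19,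
  17, 474163200, [19]), (20, 21, 383846400, [11, 3]), (21, 28, 287884800, [10, 1]), (22, 6, 167932800, [4, 2]), (23,
  12, 335865600, [4, 2]), (24, 21, 383846400, [10, 4])]

theorem okB1 : okB E ⟨17, 17, [(2, 3), (17, 1)]⟩ = true := by decide +kernel

/-- pieces -/
def W0 : List (ℕ × ℕ) :=
  [(2448, 1), (4080, 1), (979200, 1)]

theorem okD0 : okD E [(17, 1), (7, 3), (5, 2), (3, 3), (2, 10)] W0 = true := by decide +kernel

/-- a certificate -/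
noncomputable def c0 : Hd × Tr :=
  ((59270400, [], []), (.far (.ofNat 0) [(.negSucc 1, 1), (.negSucc 1, 2), (.negSucc 8, 3), (.negSucc 1, 4), (.ofNat
  4, 5), (.negSucc 3, 6), (.negSucc 7, 7), (.negSucc 2, 8), (.ofNat 2, 10), (.ofNat 2, 15), (.ofNat 1, 17), (.negSucc
  0, 18), (.ofNat 1, 21), (.negSucc 0, 22)]))

/-- a certificate -/
noncomputable def c1 : Hd × Tr :=
  ((39513600, [], []), (.far (.ofNat 0) [(.negSucc 1, 1), (.negSucc 1, 2), (.negSucc 8, 3), (.negSucc 1, 4), (.ofNat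
  4, 5), (.negSucc 3, 6), (.negSucc 7, 7), (.negSucc 2, 8), (.ofNat 2, 10), (.ofNat 2, 15), (.ofNat 1, 17), (.negSucc
  0, 18), (.ofNat 1, 21), (.negSucc 0, 22)]))

/-- a certificate -/
noncomputable def c2 : Hd × Tr :=
  ((29635200, [], []), (.far (.ofNat 9) [(.negSucc 8, 1), (.negSucc 26, 3), (.negSucc 1, 4), (.ofNat 1, 5), (.negSucc
  25, 6), (.negSucc 7, 7), (.negSucc 6, 8), (.ofNat 9, 10), (.ofNat 4, 15), (.negSucc 0, 16), (.ofNat 4, 17), (.ofNat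
  4, 20), (.ofNat 4, 21), (.negSucc 12, 22), (.ofNat 8, 23), (.negSucc 0, 24)]))

/-- a certificate -/
noncomputable def c3 : Hd × Tr :=
  ((26342400, [], []), (.far (.ofNat 0) [(.negSucc 1, 1), (.negSucc 1, 2), (.negSucc 8, 3), (.negSucc 1, 4), (.ofNat
  4, 5), (.negSucc 3, 6), (.negSucc 7, 7), (.negSucc 2, 8), (.ofNat 2, 10), (.ofNat 2, 15), (.ofNat 1, 17), (.negSucc
  0, 18), (.ofNat 1, 21), (.negSucc 0, 22)]))

/-- a certificate -/
noncomputable def c4 : Hd × Tr :=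
  ((47416320, [], []), (.far (.ofNat 9) [(.negSucc 8, 3), (.negSucc 8, 6), (.ofNat 9, 10), (.ofNat 9, 11), (.ofNat 4,
  17), (.negSucc 8, 22), (.ofNat 9, 23)]))

/-- a certificate -/
noncomputable def c5 : Hd × Tr :=
  ((23708160, [], []), (.far (.ofNat 9) [(.negSucc 8, 3), (.negSucc 8, 6), (.ofNat 9, 10), (.ofNat 9, 11), (.ofNat 4,
  17), (.negSucc 8, 22), (.ofNat 9, 23)]))

/-- a certificate -/
noncomputable def c6 : Hd × Tr :=
  ((19756800, [], []), (.far (.ofNat 9) [(.negSucc 8, 3), (.negSucc 8, 6), (.ofNat 9, 10), (.ofNat 9, 11), (.ofNat 4,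
  17), (.negSucc 8, 22), (.ofNat 9, 23)]))

/-- a certificate -/
noncomputable def c7 : Hd × Tr :=
  ((15805440, [], []), (.far (.ofNat 2) [(.negSucc 3, 1), (.negSucc 8, 3), (.negSucc 0, 4), (.negSucc 6, 6),
  (.negSucc 1, 7), (.negSucc 1, 9), (.ofNat 4, 10), (.ofNat 1, 15), (.ofNat 1, 17), (.ofNat 1, 21), (.negSucc 2,
  22)]))

/-- a certificate -/
noncomputable def c8 : Hd × Tr :=
  ((14817600, [], []), (.far (.ofNat 0) [(.negSucc 1, 1), (.negSucc 1, 2), (.negSucc 8, 3), (.negSucc 1, 4), (.ofNat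
  4, 5), (.negSucc 3, 6), (.negSucc 7, 7), (.negSucc 2, 8), (.ofNat 2, 10), (.ofNat 2, 15), (.ofNat 1, 17), (.negSucc
  0, 18), (.ofNat 1, 21), (.negSucc 0, 22)]))

/-- a certificate -/
noncomputable def c9 : Hd × Tr :=
  ((13171200, [], []), (.far (.ofNat 0) [(.negSucc 1, 1), (.negSucc 1, 2), (.negSucc 8, 3), (.negSucc 1, 4), (.ofNat
  4, 5), (.negSucc 3, 6), (.negSucc 7, 7), (.negSucc 2, 8), (.ofNat 2, 10), (.ofNat 2, 15), (.ofNat 1, 17), (.negSucc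
  0, 18), (.ofNat 1, 21), (.negSucc 0, 22)]))

/-- a certificate -/
noncomputable def c10 : Hd × Tr :=
  ((11854080, [], []), (.far (.ofNat 0) [(.negSucc 1, 1), (.negSucc 1, 2), (.negSucc 8, 3), (.negSucc 1, 4), (.ofNat
  4, 5), (.negSucc 3, 6), (.negSucc 7, 7), (.negSucc 2, 8), (.ofNat 2, 10), (.ofNat 2, 15), (.ofNat 1, 17), (.negSucc
  0, 18), (.ofNat 1, 21), (.negSucc 0, 22)]))

/-- a certificate -/
noncomputable def c11 : Hd × Tr :=
  ((9878400, [], []), (.far (.ofNat 27) [(.negSucc 26, 3), (.negSucc 26, 6), (.ofNat 27, 10), (.ofNat 27, 11),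
  (.ofNat 13, 17), (.negSucc 26, 22), (.ofNat 27, 23)]))

/-- a certificate -/
noncomputable def c12 : Hd × Tr :=
  ((9483264, [], []), (.far (.ofNat 0) [(.negSucc 3, 2), (.negSucc 26, 3), (.negSucc 26, 7), (.ofNat 7, 15), (.ofNat
  2, 17), (.negSucc 3, 18), (.ofNat 2, 21)]))

/-- a certificate -/
noncomputable def c13 : Hd × Tr :=
  ((7902720, [], []), (.far (.ofNat 0) [(.negSucc 1, 1), (.negSucc 1, 2), (.negSucc 8, 3), (.negSucc 1, 4), (.ofNat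
  4, 5), (.negSucc 3, 6), (.negSucc 7, 7), (.negSucc 2, 8), (.ofNat 2, 10), (.ofNat 2, 15), (.ofNat 1, 17), (.negSucc
  0, 18), (.ofNat 1, 21), (.negSucc 0, 22)]))

/-- a certificate -/
noncomputable def c14 : Hd × Tr :=
  ((7408800, [], []), (.far (.ofNat 0) [(.negSucc 1, 1), (.negSucc 1, 2), (.negSucc 8, 3), (.negSucc 1, 4), (.ofNat
  4, 5), (.negSucc 3, 6), (.negSucc 7, 7), (.negSucc 2, 8), (.ofNat 2, 10), (.ofNat 2, 15), (.ofNat 1, 17), (.negSucc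
  0, 18), (.ofNat 1, 21), (.negSucc 0, 22)]))

/-- a certificate -/
noncomputable def c15 : Hd × Tr :=
  ((6585600, [], []), (.far (.ofNat 2) [(.negSucc 3, 1), (.negSucc 8, 3), (.negSucc 0, 4), (.negSucc 6, 6), (.negSucc
  1, 7), (.negSucc 1, 9), (.ofNat 4, 10), (.ofNat 1, 15), (.ofNat 1, 17), (.ofNat 1, 21), (.negSucc 2, 22)]))

/-- a certificate -/
noncomputable def c16 : Hd × Tr :=
  ((5927040, [], []), (.far (.ofNat 27) [(.negSucc 26, 3), (.negSucc 26, 6), (.ofNat 27, 10), (.ofNat 27, 11),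
  (.ofNat 13, 17), (.negSucc 26, 22), (.ofNat 27, 23)]))

/-- a certificate -/
noncomputable def c17 : Hd × Tr :=
  ((5268480, [], []), (.far (.ofNat 27) [(.negSucc 26, 3), (.negSucc 26, 6), (.ofNat 27, 10), (.ofNat 27, 11),
  (.ofNat 13, 17), (.negSucc 26, 22), (.ofNat 27, 23)]))

/-- a certificate -/
noncomputable def c18 : Hd × Tr :=
  ((4939200, [], []), (.far (.ofNat 0) [(.negSucc 4, 2), (.negSucc 21, 3), (.negSucc 4, 4), (.ofNat 16, 5), (.negSucc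
  4, 6), (.negSucc 26, 7), (.negSucc 10, 8), (.ofNat 5, 9), (.ofNat 5, 10), (.ofNat 5, 11), (.ofNat 5, 15), (.ofNat
  3, 17), (.negSucc 4, 18), (.ofNat 5, 23)]))

/-- a certificate -/
noncomputable def c19 : Hd × Tr :=
  ((4741632, [], []), (.far (.ofNat 1) [(.negSucc 0, 2), (.negSucc 8, 3), (.negSucc 2, 6), (.negSucc 1, 7), (.ofNat
  1, 15), (.ofNat 2, 17), (.ofNat 1, 20), (.negSucc 0, 24)]))

/-- a certificate -/
noncomputable def c20 : Hd × Tr :=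
  ((3951360, [], []), (.far (.negSucc 3) [(.negSucc 4, 2), (.negSucc 20, 3), (.negSucc 4, 4), (.ofNat 17, 5),
  (.negSucc 3, 6), (.negSucc 26, 7), (.negSucc 9, 8), (.ofNat 5, 9), (.ofNat 1, 10), (.ofNat 1, 11), (.ofNat 5, 15),
  (.negSucc 4, 18), (.ofNat 1, 23)]))

/-- a certificate -/
noncomputable def c21 : Hd × Tr :=
  ((3704400, [], []), (.far (.ofNat 27) [(.negSucc 26, 3), (.negSucc 26, 6), (.ofNat 27, 10), (.ofNat 27, 11),
  (.ofNat 13, 17), (.negSucc 26, 22), (.ofNat 27, 23)]))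

/-- a certificate -/
noncomputable def c22 : Hd × Tr :=
  ((3292800, [], []), (.far (.negSucc 4) [(.negSucc 4, 2), (.negSucc 20, 3), (.negSucc 4, 4), (.ofNat 17, 5),
  (.negSucc 3, 6), (.negSucc 26, 7), (.negSucc 9, 8), (.ofNat 4, 9), (.ofNat 1, 10), (.ofNat 5, 15), (.negSucc 4,
  18)]))

/-- a certificate -/
noncomputable def c23 : Hd × Tr :=
  ((3161088, [], []), (.far (.ofNat 81) [(.negSucc 39, 3), (.negSucc 39, 5), (.negSucc 39, 6), (.ofNat 40, 10),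
  (.ofNat 40, 11), (.negSucc 39, 12), (.negSucc 39, 14), (.ofNat 41, 15), (.ofNat 61, 17), (.ofNat 40, 23)]))

/-- a certificate -/
noncomputable def c24 : Hd × Tr :=
  ((2963520, [], []), (.far (.ofNat 27) [(.negSucc 26, 3), (.negSucc 26, 6), (.ofNat 27, 10), (.ofNat 27, 11),
  (.ofNat 13, 17), (.negSucc 26, 22), (.ofNat 27, 23)]))

/-- a certificate -/
noncomputable def c25 : Hd × Tr :=
  ((2634240, [], []), (.far (.ofNat 0) [(.negSucc 8, 3), (.ofNat 3, 5), (.negSucc 5, 6), (.negSucc 4, 7), (.negSucc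
  1, 8), (.negSucc 5, 22)]))

/-- a certificate -/
noncomputable def c26 : Hd × Tr :=
  ((2469600, [], []), (.far (.ofNat 27) [(.negSucc 26, 3), (.negSucc 26, 6), (.ofNat 27, 10), (.ofNat 27, 11),
  (.ofNat 13, 17), (.negSucc 26, 22), (.ofNat 27, 23)]))

/-- a certificate -/
noncomputable def c27 : Hd × Tr :=
  ((2370816, [], []), (.far (.ofNat 0) [(.negSucc 8, 3), (.negSucc 1, 4), (.negSucc 4, 7), (.ofNat 2, 15), (.ofNat 2,
  17)]))

/-- a certificate -/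
noncomputable def c28 : Hd × Tr :=
  ((1975680, [], []), (.far (.ofNat 540) [(.ofNat 309, 2), (.ofNat 849, 4), (.ofNat 1081, 5), (.ofNat 1081, 6),
  (.ofNat 1467, 7), (.ofNat 2547, 8), (.ofNat 3010, 9), (.ofNat 4554, 10), (.ofNat 4245, 11), (.ofNat 4863, 12),
  (.ofNat 5480, 13), (.ofNat 6021, 14), (.ofNat 425, 17), (.ofNat 309, 18), (.ofNat 2161, 19), (.ofNat 1930, 20),
  (.ofNat 3010, 21), (.ofNat 4708, 22), (.ofNat 6561, 23), (.ofNat 1853, 24)]))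

/-- a certificate -/
noncomputable def c29 : Hd × Tr :=
  ((1852200, [], []), (.far (.negSucc 62) [(.ofNat 39, 4), (.negSucc 12, 5), (.negSucc 5, 6), (.negSucc 20, 7),
  (.negSucc 12, 8), (.ofNat 153, 9), (.ofNat 25, 10), (.ofNat 141, 12), (.ofNat 176, 13), (.ofNat 243, 14), (.ofNat
  25, 15), (.ofNat 37, 19), (.ofNat 103, 20), (.ofNat 114, 21), (.ofNat 192, 22), (.ofNat 219, 23), (.ofNat 12,
  24)]))

/-- a certificate -/
noncomputable def c30 : Hd × Tr :=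
  ((1646400, [], []), (.far (.ofNat 0) [(.negSucc 7, 3), (.negSucc 7, 4), (.ofNat 1, 5), (.negSucc 6, 6), (.negSucc
  7, 7), (.negSucc 6, 8), (.ofNat 7, 9), (.ofNat 81, 10), (.ofNat 32, 11), (.ofNat 56, 12), (.ofNat 56, 13), (.ofNat
  31, 14), (.ofNat 32, 19), (.ofNat 8, 20), (.ofNat 24, 21), (.ofNat 80, 23)]))

/-- a certificate -/
noncomputable def c31 : Hd × Tr :=
  ((1580544, [], []), (.far (.ofNat 1) [(.negSucc 0, 5), (.negSucc 0, 12), (.negSucc 0, 14), (.ofNat 1, 15), (.ofNat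
  1, 17), (.ofNat 1, 22)]))

/-- a certificate -/
noncomputable def c32 : Hd × Tr :=
  ((1481760, [], []), (.far (.negSucc 65) [(.ofNat 66, 4), (.ofNat 331, 9), (.ofNat 331, 10), (.ofNat 133, 11),
  (.ofNat 464, 12), (.ofNat 530, 13), (.ofNat 596, 14), (.ofNat 33, 15), (.ofNat 199, 19), (.ofNat 199, 20), (.ofNat
  298, 21), (.ofNat 398, 22), (.ofNat 729, 23)]))

/-- a certificate -/
noncomputable def c33 : Hd × Tr :=
  ((1317120, [], [(1, 0), (2, 0)]), (.far (.negSucc 2) [(.negSucc 16, 1), (.negSucc 7, 2), (.negSucc 11, 4), (.ofNat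
  6, 5), (.negSucc 12, 6), (.negSucc 22, 7), (.negSucc 20, 8), (.negSucc 4, 9), (.ofNat 17, 10), (.ofNat 8, 12),
  (.negSucc 12, 13), (.negSucc 4, 14), (.negSucc 26, 22)]))

/-- a certificate -/
noncomputable def c34 : Hd × Tr :=
  ((979200, [], [(1, 0)]), (.far (.ofNat 0) [(.negSucc 12, 1), (.negSucc 12, 10), (.negSucc 26, 11), (.ofNat 13, 20),
  (.negSucc 12, 23), (.negSucc 12, 24)]))

/-- a certificate -/
noncomputable def c35 : Hd × Tr :=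
  ((979200, [], [(2, 0)]), (.far (.ofNat 20) [(.negSucc 41, 2), (.ofNat 14, 3), (.ofNat 16, 5), (.ofNat 3, 6),
  (.negSucc 5, 9), (.negSucc 13, 10), (.negSucc 80, 11), (.ofNat 4, 12), (.ofNat 2, 19), (.ofNat 16, 20), (.ofNat 31,
  21)]))

/-- a certificate -/
noncomputable def c36 : Hd × Tr :=
  ((1234800, [], []), (.far (.ofNat 0) [(.negSucc 7, 3), (.negSucc 7, 4), (.ofNat 1, 5), (.negSucc 6, 6), (.negSucc
  7, 7), (.negSucc 6, 8), (.ofNat 7, 9), (.ofNat 81, 10), (.ofNat 32, 11), (.ofNat 56, 12), (.ofNat 56, 13), (.ofNat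
  31, 14), (.ofNat 32, 19), (.ofNat 8, 20), (.ofNat 24, 21), (.ofNat 80, 23)]))

/-- a certificate -/
noncomputable def c37 : Hd × Tr :=
  ((1185408, [], []), (.far (.ofNat 1) [(.negSucc 0, 5), (.negSucc 0, 12), (.negSucc 0, 14), (.ofNat 1, 15), (.ofNat
  1, 17), (.ofNat 1, 22)]))

/-- a certificate -/
noncomputable def c38 : Hd × Tr :=
  ((1053696, [], []), (.far (.ofNat 1) [(.negSucc 0, 5), (.negSucc 0, 12), (.negSucc 0, 14), (.ofNat 1, 15), (.ofNat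
  1, 17), (.ofNat 1, 22)]))

/-- a certificate -/
noncomputable def c39 : Hd × Tr :=
  ((987840, [], []), (.far (.negSucc 414) [(.ofNat 415, 4), (.ofNat 111, 5), (.ofNat 111, 6), (.ofNat 111, 8),
  (.ofNat 1301, 9), (.ofNat 526, 10), (.ofNat 295, 11), (.ofNat 1356, 12), (.ofNat 1772, 13), (.ofNat 2187, 14),
  (.ofNat 208, 15), (.ofNat 471, 19), (.ofNat 858, 20), (.ofNat 1094, 21), (.ofNat 1827, 22), (.ofNat 2002, 23),
  (.ofNat 240, 24)]))

/-- a certificate -/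
noncomputable def c40 : Hd × Tr :=
  ((823200, [], [(1, 0), (2, 0)]), (.far (.negSucc 285) [(.negSucc 259, 1), (.negSucc 259, 2), (.ofNat 208, 5),
  (.negSucc 51, 6), (.negSucc 728, 7), (.negSucc 259, 8), (.ofNat 130, 10), (.negSucc 129, 11), (.ofNat 312, 12),
  (.negSucc 129, 13), (.ofNat 26, 14), (.ofNat 169, 15), (.ofNat 52, 16), (.ofNat 26, 17), (.ofNat 78, 19), (.ofNat
  130, 20), (.ofNat 195, 21), (.negSucc 103, 22), (.ofNat 130, 24)]))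

/-- a certificate -/
noncomputable def c41 : Hd × Tr :=
  ((790272, [], []), (.far (.ofNat 1) [(.negSucc 0, 6), (.ofNat 1, 7), (.negSucc 2, 12), (.negSucc 0, 14), (.ofNat 1,
  15), (.ofNat 1, 16), (.ofNat 2, 17), (.negSucc 0, 19), (.ofNat 2, 22)]))

/-- a certificate -/
noncomputable def c42 : Hd × Tr :=
  ((740880, [], [(1, 0), (2, 0)]), (.bf 10 15 (.bf 10 8 (.far (.ofNat 79) [(.negSucc 21, 1), (.negSucc 127, 2),
  (.negSucc 134, 6), (.negSucc 191, 7), (.negSucc 70, 8), (.ofNat 7, 9), (.ofNat 243, 10), (.ofNat 221, 11), (.ofNat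
  164, 12), (.negSucc 105, 13), (.ofNat 29, 14), (.ofNat 96, 17), (.ofNat 15, 19), (.ofNat 15, 20), (.ofNat 22, 21),
  (.negSucc 205, 22), (.ofNat 236, 23), (.ofNat 15, 24)]) (.bf 11 15 (.far (.negSucc 120) [(.negSucc 220, 1), (.ofNat
  114, 2), (.negSucc 73, 6), (.ofNat 167, 7), (.ofNat 216, 8), (.ofNat 12, 9), (.ofNat 10, 10), (.negSucc 210, 11),
  (.ofNat 131, 12), (.ofNat 243, 13), (.ofNat 141, 14), (.ofNat 46, 15), (.ofNat 176, 18), (.ofNat 117, 19), (.ofNat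
  117, 20), (.ofNat 175, 21), (.ofNat 143, 22), (.negSucc 93, 23), (.ofNat 117, 24)]) (.bf 8 0 (.far (.ofNat 0)
  [(.negSucc 0, 4), (.ofNat 1, 9), (.negSucc 0, 12), (.ofNat 1, 13), (.ofNat 1, 15), (.ofNat 1, 17), (.ofNat 3, 22)])
  (.far (.ofNat 27) [(.negSucc 53, 2), (.negSucc 53, 6), (.negSucc 80, 7), (.negSucc 26, 8), (.ofNat 81, 10), (.ofNat
  81, 11), (.ofNat 54, 12), (.negSucc 53, 13), (.ofNat 40, 17), (.negSucc 80, 22), (.ofNat 81, 23)])))) (.far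
  (.negSucc 111) [(.negSucc 139, 1), (.ofNat 128, 2), (.ofNat 230, 5), (.ofNat 107, 6), (.ofNat 257, 7), (.ofNat 363,
  8), (.ofNat 354, 9), (.ofNat 378, 10), (.ofNat 237, 11), (.ofNat 489, 12), (.ofNat 729, 13), (.ofNat 724, 14),
  (.ofNat 128, 18), (.ofNat 247, 19), (.ofNat 247, 20), (.ofNat 370, 21), (.ofNat 700, 22), (.ofNat 484, 23), (.ofNat
  247, 24)])))

/-- a certificate -/
noncomputable def c43 : Hd × Tr :=
  ((658560, [], [(1, 0), (2, 0)]), (.far (.negSucc 6686) [(.negSucc 2259, 1), (.negSucc 5461, 2), (.negSucc 1506, 4),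
  (.negSucc 5461, 6), (.negSucc 14785, 7), (.negSucc 9323, 8), (.negSucc 9417, 9), (.negSucc 13090, 10), (.negSucc
  15350, 11), (.negSucc 11112, 12), (.negSucc 19211, 13), (.negSucc 18458, 14), (.ofNat 2543, 15), (.ofNat 1601, 16),
  (.ofNat 801, 17), (.negSucc 5932, 19), (.negSucc 4331, 20), (.negSucc 6497, 21), (.negSucc 14785, 22), (.negSucc
  19682, 23), (.negSucc 4331, 24)]))

/-- a certificate -/
noncomputable def c44 : Hd × Tr :=
  ((617400, [], [(1, 0), (2, 0)]), (.far (.negSucc 33) [(.negSucc 35, 1), (.negSucc 33, 2), (.ofNat 19, 5), (.negSucc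
  80, 7), (.negSucc 31, 8), (.ofNat 5, 9), (.ofNat 17, 10), (.negSucc 14, 11), (.ofNat 35, 12), (.negSucc 10, 13),
  (.ofNat 14, 15), (.ofNat 4, 16), (.ofNat 11, 19), (.ofNat 15, 20), (.ofNat 20, 21), (.negSucc 12, 22), (.ofNat 15,
  24)]))

/-- a certificate -/
noncomputable def c45 : Hd × Tr :=
  ((592704, [], []), (.far (.ofNat 44) [(.ofNat 22, 7), (.ofNat 22, 8), (.ofNat 44, 9), (.negSucc 132, 12), (.ofNat
  66, 13), (.negSucc 21, 14), (.ofNat 99, 15), (.ofNat 44, 16), (.ofNat 121, 17), (.negSucc 21, 19), (.ofNat 22, 20),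
  (.ofNat 33, 21), (.ofNat 243, 22), (.ofNat 22, 23), (.ofNat 22, 24)]))

/-- a certificate -/
noncomputable def c46 : Hd × Tr :=
  ((493920, [], [(1, 0), (2, 0)]), (.bf 10 5 (.far (.ofNat 5135) [(.ofNat 2567, 1), (.negSucc 7701, 2), (.negSucc
  2566, 9), (.ofNat 7702, 10), (.ofNat 18827, 11), (.ofNat 2567, 13), (.ofNat 10269, 14), (.ofNat 5135, 19), (.ofNat
  5135, 20), (.ofNat 2567, 21), (.ofNat 19683, 23), (.ofNat 856, 24)]) (.far (.negSucc 834) [(.negSucc 798, 1),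
  (.ofNat 1688, 5), (.ofNat 54, 6), (.ofNat 54, 8), (.ofNat 907, 9), (.ofNat 1298, 10), (.ofNat 499, 11), (.ofNat
  926, 12), (.ofNat 1760, 13), (.ofNat 2187, 14), (.ofNat 603, 16), (.ofNat 250, 19), (.ofNat 853, 20), (.ofNat 1280,
  21), (.ofNat 1797, 22), (.ofNat 1352, 23), (.ofNat 853, 24)])))

/-- a certificate -/
noncomputable def c47 : Hd × Tr :=
  ((395136, [], []), (.far (.ofNat 69) [(.ofNat 35, 7), (.ofNat 35, 8), (.ofNat 69, 9), (.ofNat 69, 10), (.ofNat 69,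
  11), (.negSucc 68, 12), (.ofNat 104, 13), (.ofNat 35, 14), (.ofNat 87, 15), (.ofNat 35, 16), (.ofNat 121, 17),
  (.ofNat 35, 20), (.ofNat 52, 21), (.ofNat 243, 22), (.ofNat 104, 23), (.ofNat 35, 24)]))

/-- a certificate -/
noncomputable def c48 : Hd × Tr :=
  ((370440, [], [(1, 0), (2, 0)]), (.bf 10 16 (.bf 10 2 (.far (.negSucc 0) [(.ofNat 1, 1), (.negSucc 5, 2), (.negSucc
  5, 8), (.negSucc 6, 9), (.negSucc 0, 10), (.negSucc 8, 12), (.negSucc 7, 13), (.negSucc 5, 21), (.negSucc 5, 22),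
  (.ofNat 1, 23)]) (.bf 11 30 (.bf 11 9 (.far (.negSucc 72) [(.negSucc 218, 1), (.negSucc 60, 2), (.negSucc 242, 8),
  (.negSucc 133, 9), (.ofNat 12, 10), (.negSucc 193, 11), (.ofNat 12, 12), (.negSucc 96, 13), (.negSucc 96, 14),
  (.ofNat 85, 16), (.ofNat 85, 20), (.ofNat 36, 21), (.negSucc 242, 22), (.negSucc 193, 23)]) (.bf 12 2 (.bf 8 5 (.bf
  3 59 (.bf 1 128 (.bf 2 0 (.far (.ofNat 1) [(.ofNat 1, 9), (.negSucc 0, 13), (.ofNat 1, 14), (.negSucc 0, 23),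
  (.ofNat 1, 24)]) (.far (.negSucc 0) [(.negSucc 2, 1), (.negSucc 0, 2), (.negSucc 1, 9), (.negSucc 2, 10), (.ofNat
  3, 11), (.ofNat 2, 13), (.negSucc 0, 14), (.ofNat 1, 16), (.ofNat 1, 20), (.ofNat 2, 21), (.ofNat 3, 23)])) (.far
  (.negSucc 183) [(.negSucc 183, 1), (.negSucc 197, 2), (.ofNat 109, 6), (.ofNat 109, 8), (.negSucc 272, 9), (.ofNat
  238, 10), (.ofNat 136, 11), (.negSucc 163, 12), (.ofNat 218, 13), (.ofNat 729, 14), (.ofNat 14, 16), (.ofNat 27,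
  19), (.ofNat 41, 20), (.ofNat 20, 21), (.ofNat 218, 22), (.ofNat 136, 23)])) (.far (.negSucc 24) [(.negSucc 6, 1),
  (.negSucc 26, 2), (.negSucc 8, 9), (.negSucc 6, 10), (.negSucc 10, 11), (.ofNat 16, 12), (.negSucc 17, 13), (.ofNat
  2, 14), (.ofNat 2, 16), (.ofNat 7, 19), (.ofNat 9, 20), (.negSucc 4, 21), (.ofNat 22, 22), (.negSucc 10, 23)]))
  (.far (.ofNat 10) [(.negSucc 168, 1), (.ofNat 10, 2), (.negSucc 107, 8), (.ofNat 20, 9), (.ofNat 243, 10), (.ofNat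
  148, 11), (.ofNat 199, 12), (.ofNat 71, 13), (.ofNat 115, 14), (.ofNat 78, 19), (.ofNat 78, 20), (.ofNat 57, 21),
  (.negSucc 107, 22), (.ofNat 149, 23)])) (.far (.negSucc 143) [(.negSucc 73, 1), (.negSucc 28, 2), (.ofNat 87, 5),
  (.negSucc 115, 8), (.ofNat 137, 9), (.negSucc 8, 10), (.negSucc 82, 11), (.ofNat 95, 12), (.ofNat 152, 13), (.ofNat
  243, 14), (.ofNat 41, 16), (.ofNat 2, 19), (.ofNat 127, 20), (.ofNat 106, 21), (.ofNat 194, 22), (.ofNat 85,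
  23)]))) (.far (.negSucc 861) [(.negSucc 330, 1), (.ofNat 398, 2), (.ofNat 1259, 5), (.ofNat 464, 6), (.ofNat 464,
  8), (.ofNat 1259, 9), (.ofNat 1127, 10), (.ofNat 1591, 11), (.ofNat 1193, 12), (.ofNat 1657, 13), (.ofNat 2054,
  14), (.ofNat 398, 19), (.ofNat 398, 20), (.ofNat 398, 21), (.ofNat 2187, 22), (.ofNat 1591, 23)]))) (.far (.negSucc
  242) [(.negSucc 192, 1), (.ofNat 85, 2), (.ofNat 107, 5), (.ofNat 104, 8), (.ofNat 60, 9), (.negSucc 19, 10),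
  (.negSucc 94, 11), (.ofNat 121, 12), (.ofNat 161, 13), (.ofNat 131, 14), (.ofNat 55, 15), (.ofNat 111, 18), (.ofNat
  75, 19), (.ofNat 75, 20), (.ofNat 67, 21), (.ofNat 211, 22), (.negSucc 94, 23)])))

/-- a certificate -/
noncomputable def c49 : Hd × Tr :=
  ((308700, [], [(1, 0), (2, 0)]), (.bf 10 15 (.bf 10 8 (.far (.ofNat 285) [(.negSucc 189, 1), (.negSucc 189, 2),
  (.ofNat 95, 9), (.ofNat 380, 10), (.ofNat 507, 11), (.ofNat 571, 12), (.ofNat 475, 13), (.ofNat 285, 14), (.ofNat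
  32, 16), (.ofNat 32, 19), (.ofNat 63, 20), (.ofNat 729, 23), (.ofNat 222, 24)]) (.bf 11 22 (.bf 11 15 (.far
  (.negSucc 479) [(.negSucc 1066, 1), (.negSucc 906, 2), (.ofNat 960, 7), (.ofNat 960, 8), (.ofNat 107, 9), (.negSucc
  106, 10), (.negSucc 1173, 11), (.ofNat 2187, 12), (.ofNat 1547, 13), (.ofNat 747, 14), (.ofNat 747, 15), (.ofNat
  853, 16), (.ofNat 1974, 18), (.ofNat 107, 19), (.ofNat 960, 20), (.ofNat 960, 22), (.negSucc 959, 23), (.ofNat 213,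
  24)]) (.bf 12 1 (.far (.ofNat 365) [(.ofNat 153, 1), (.negSucc 57, 2), (.ofNat 345, 7), (.ofNat 345, 8), (.ofNat
  307, 9), (.ofNat 499, 10), (.ofNat 652, 11), (.ofNat 518, 12), (.ofNat 556, 13), (.ofNat 537, 14), (.ofNat 38, 16),
  (.ofNat 173, 18), (.ofNat 38, 19), (.ofNat 77, 20), (.ofNat 345, 22), (.ofNat 729, 23), (.ofNat 77, 24)]) (.far
  (.negSucc 35) [(.negSucc 44, 1), (.negSucc 46, 2), (.ofNat 11, 5), (.ofNat 22, 8), (.negSucc 16, 10), (.negSucc 60,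
  11), (.ofNat 81, 12), (.ofNat 42, 13), (.ofNat 17, 14), (.ofNat 36, 15), (.ofNat 36, 16), (.ofNat 73, 18), (.ofNat
  36, 20), (.ofNat 34, 22), (.negSucc 52, 23), (.ofNat 8, 24)]))) (.far (.ofNat 120) [(.ofNat 45, 1), (.negSucc 295,
  2), (.ofNat 163, 5), (.ofNat 325, 8), (.ofNat 320, 9), (.ofNat 370, 10), (.ofNat 415, 11), (.ofNat 729, 12),
  (.ofNat 562, 13), (.ofNat 537, 14), (.ofNat 167, 15), (.ofNat 160, 16), (.ofNat 334, 18), (.ofNat 160, 20), (.ofNat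
  7, 21), (.ofNat 488, 22), (.ofNat 530, 23), (.ofNat 115, 24)]))) (.far (.ofNat 28) [(.negSucc 298, 1), (.negSucc
  186, 2), (.ofNat 93, 5), (.ofNat 93, 7), (.ofNat 308, 8), (.ofNat 96, 9), (.ofNat 9, 10), (.ofNat 137, 11), (.ofNat
  584, 12), (.ofNat 729, 13), (.ofNat 315, 14), (.ofNat 81, 15), (.ofNat 88, 16), (.ofNat 208, 18), (.ofNat 88, 20),
  (.ofNat 402, 22), (.ofNat 439, 23), (.ofNat 302, 24)])))

/-- a certificate -/
noncomputable def c50 : Hd × Tr :=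
  ((296352, [], []), (.far (.ofNat 0) [(.ofNat 17, 9), (.negSucc 68, 11), (.negSucc 138, 12), (.ofNat 87, 13),
  (.negSucc 51, 14), (.ofNat 113, 15), (.ofNat 69, 16), (.ofNat 113, 17), (.ofNat 9, 20), (.ofNat 43, 21), (.ofNat
  243, 22), (.ofNat 17, 23)]))

/-- a certificate -/
noncomputable def c51 : Hd × Tr :=
  ((246960, [], [(1, 0), (2, 0)]), (.bf 11 38 (.bf 12 3 (.bf 8 5 (.bf 3 63 (.bf 3 6 (.far (.ofNat 46) [(.ofNat 16,
  1), (.ofNat 20, 2), (.ofNat 2, 5), (.ofNat 10, 6), (.ofNat 10, 8), (.ofNat 32, 9), (.ofNat 26, 10), (.ofNat 42,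
  11), (.negSucc 35, 12), (.ofNat 52, 13), (.ofNat 16, 14), (.ofNat 49, 17), (.ofNat 28, 18), (.negSucc 80, 22),
  (.ofNat 42, 23)]) (.bf 4 15 (.bf 1 256 (.bf 2 64 (.bm 15 1 (.bm 17 0 (.bm 3 1 (.bm 3 0 (.far (.ofNat 7) [(.negSucc
  6, 1), (.negSucc 6, 2), (.ofNat 20, 10), (.ofNat 14, 11), (.ofNat 14, 12), (.ofNat 14, 13), (.ofNat 20, 14),
  (.ofNat 4, 16), (.ofNat 14, 17), (.ofNat 3, 19), (.ofNat 7, 20), (.ofNat 8, 21), (.ofNat 14, 23), (.negSucc 26,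
  3)]) (.bm 5 0 (.bm 6 0 (.bm 7 0 (.far (.negSucc 0) [(.negSucc 0, 1), (.negSucc 1, 2), (.negSucc 1, 6), (.negSucc 2,
  7), (.ofNat 1, 10), (.ofNat 1, 12), (.negSucc 1, 13), (.negSucc 0, 14), (.ofNat 1, 17), (.ofNat 1, 18), (.negSucc
  1, 22)]) (.far (.ofNat 0) [(.ofNat 13, 3), (.negSucc 12, 5), (.ofNat 13, 8), (.negSucc 6, 22), (.ofNat 27, 7)]))
  (.far (.negSucc 21) [(.negSucc 9, 1), (.ofNat 3, 2), (.ofNat 21, 3), (.ofNat 6, 5), (.ofNat 8, 9), (.ofNat 17, 12),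
  (.ofNat 16, 13), (.ofNat 19, 14), (.ofNat 1, 15), (.negSucc 10, 17), (.ofNat 1, 18), (.ofNat 7, 19), (.ofNat 7,
  20), (.ofNat 9, 21), (.ofNat 27, 22), (.ofNat 2, 23), (.ofNat 2, 24), (.ofNat 21, 6)])) (.far (.negSucc 26)
  [(.negSucc 10, 1), (.negSucc 3, 2), (.ofNat 16, 3), (.ofNat 6, 6), (.ofNat 9, 9), (.ofNat 7, 10), (.ofNat 7, 12),
  (.ofNat 13, 13), (.ofNat 26, 14), (.ofNat 9, 16), (.negSucc 1, 17), (.ofNat 9, 20), (.ofNat 10, 21), (.ofNat 27,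
  22), (.ofNat 7, 23), (.ofNat 7, 24), (.ofNat 22, 5)]))) (.far (.negSucc 8) [(.negSucc 3, 1), (.ofNat 1, 5), (.ofNat
  4, 6), (.ofNat 1, 9), (.ofNat 4, 12), (.ofNat 2, 13), (.ofNat 5, 14), (.negSucc 1, 17), (.ofNat 2, 18), (.ofNat 2,
  19), (.ofNat 1, 20), (.ofNat 6, 22), (.negSucc 0, 23), (.ofNat 8, 3)])) (.far (.negSucc 44) [(.negSucc 15, 1),
  (.negSucc 69, 2), (.ofNat 9, 5), (.ofNat 18, 8), (.ofNat 12, 9), (.ofNat 3, 10), (.ofNat 15, 11), (.ofNat 81, 12),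
  (.negSucc 0, 13), (.ofNat 18, 14), (.negSucc 5, 15), (.ofNat 11, 16), (.ofNat 23, 18), (.ofNat 17, 19), (.ofNat 28,
  20), (.ofNat 18, 22), (.ofNat 15, 23), (.ofNat 64, 17)])) (.far (.negSucc 8) [(.negSucc 2, 1), (.negSucc 3, 2),
  (.ofNat 1, 5), (.ofNat 2, 8), (.ofNat 2, 9), (.ofNat 1, 11), (.ofNat 1, 12), (.negSucc 1, 13), (.ofNat 1, 14),
  (.ofNat 1, 17), (.ofNat 2, 23), (.ofNat 5, 15)])) (.far (.negSucc 5) [(.negSucc 9, 1), (.negSucc 5, 2), (.ofNat 5,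
  5), (.ofNat 5, 6), (.ofNat 10, 8), (.ofNat 6, 9), (.ofNat 27, 11), (.ofNat 14, 12), (.ofNat 24, 13), (.ofNat 14,
  14), (.ofNat 2, 16), (.ofNat 4, 18), (.ofNat 8, 19), (.ofNat 10, 20), (.ofNat 17, 21), (.ofNat 20, 22), (.ofNat 27,
  23)])) (.far (.negSucc 43) [(.negSucc 41, 1), (.negSucc 60, 2), (.ofNat 25, 6), (.ofNat 96, 8), (.ofNat 122, 10),
  (.ofNat 88, 11), (.ofNat 77, 12), (.ofNat 120, 13), (.ofNat 243, 14), (.ofNat 11, 16), (.ofNat 40, 17), (.ofNat 11,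
  20), (.ofNat 78, 21), (.ofNat 108, 22), (.ofNat 95, 23), (.ofNat 7, 24)])) (.far (.negSucc 146) [(.ofNat 26, 1),
  (.negSucc 28, 2), (.ofNat 143, 4), (.ofNat 456, 9), (.ofNat 112, 11), (.ofNat 361, 12), (.ofNat 537, 13), (.ofNat
  729, 14), (.ofNat 72, 15), (.ofNat 85, 19), (.ofNat 322, 20), (.ofNat 377, 21), (.ofNat 632, 22), (.ofNat 628, 23),
  (.ofNat 42, 24)]))) (.far (.negSucc 11638) [(.negSucc 6161, 1), (.negSucc 12493, 2), (.ofNat 513, 9), (.ofNat 4792,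
  10), (.ofNat 19683, 12), (.negSucc 5476, 13), (.ofNat 4279, 14), (.ofNat 1369, 16), (.ofNat 4964, 19), (.ofNat
  6333, 20), (.ofNat 3937, 21), (.ofNat 12323, 22)])) (.far (.ofNat 182) [(.negSucc 522, 1), (.ofNat 119, 2), (.ofNat
  364, 9), (.ofNat 2092, 10), (.ofNat 1046, 11), (.ofNat 1704, 12), (.ofNat 1276, 13), (.ofNat 1157, 14), (.ofNat 32,
  15), (.ofNat 63, 18), (.ofNat 911, 19), (.ofNat 341, 20), (.ofNat 705, 21), (.ofNat 2187, 23)])) (.far (.negSucc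
  86) [(.negSucc 83, 1), (.negSucc 10, 2), (.ofNat 182, 5), (.ofNat 84, 9), (.ofNat 144, 10), (.ofNat 61, 11),
  (.ofNat 80, 12), (.ofNat 178, 13), (.ofNat 243, 14), (.ofNat 65, 16), (.ofNat 30, 19), (.ofNat 95, 20), (.ofNat
  125, 21), (.ofNat 182, 22), (.ofNat 156, 23), (.ofNat 95, 24)])) (.far (.negSucc 2584) [(.negSucc 993, 1), (.ofNat
  1193, 2), (.ofNat 3778, 5), (.ofNat 1392, 6), (.ofNat 1392, 8), (.ofNat 3778, 9), (.ofNat 3380, 10), (.ofNat 4772,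
  11), (.ofNat 3579, 12), (.ofNat 4970, 13), (.ofNat 6163, 14), (.ofNat 1193, 19), (.ofNat 1193, 20), (.ofNat 1193,
  21), (.ofNat 6561, 22), (.ofNat 4772, 23)])))

/-- certificates -/
noncomputable def CL0 : List (Hd × Tr) :=
  [c0, c1, c2, c3, c4, c5, c6, c7, c8, c9, c10, c11, c12, c13, c14, c15, c16, c17, c18, c19, c20, c21, c22, c23, c24,
  c25, c26, c27, c28, c29, c30, c31, c32, c33, c34, c35, c36, c37, c38, c39, c40, c41, c42, c43, c44, c45, c46, c47,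
  c48, c49, c50, c51]

theorem okC0 : okL TAB.He.D TAB.He.RR P Z CL0 = true := by decide +kernel

/-- a certificate -/
noncomputable def c52 : Hd × Tr :=
  ((197568, [], [(1, 0), (2, 0)]), (.bf 10 9 (.bf 11 16 (.bf 12 2 (.bf 3 45 (.bf 3 15 (.far (.ofNat 509) [(.ofNat
  196, 1), (.ofNat 47, 2), (.ofNat 243, 9), (.ofNat 509, 10), (.ofNat 706, 11), (.ofNat 313, 13), (.ofNat 266, 14),
  (.ofNat 12, 15), (.ofNat 388, 17), (.ofNat 47, 18), (.ofNat 23, 19), (.ofNat 23, 20), (.ofNat 35, 21), (.negSucc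
  382, 22), (.ofNat 729, 23), (.ofNat 23, 24)]) (.bf 4 15 (.bf 1 240 (.bf 2 32 (.bm 18 0 (.bm 3 0 (.far (.ofNat 0)
  [(.negSucc 5, 2), (.negSucc 26, 3), (.ofNat 1, 4), (.ofNat 8, 15), (.ofNat 9, 17), (.ofNat 1, 18), (.ofNat 3, 21)])
  (.far (.negSucc 9) [(.negSucc 17, 1), (.negSucc 14, 2), (.ofNat 10, 9), (.ofNat 18, 10), (.ofNat 9, 13), (.ofNat 9,
  14), (.ofNat 22, 15), (.ofNat 14, 16), (.ofNat 20, 17), (.negSucc 1, 18), (.ofNat 14, 20), (.ofNat 21, 21), (.ofNat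
  81, 22), (.ofNat 14, 23), (.ofNat 14, 24), (.ofNat 26, 3)])) (.far (.negSucc 12) [(.negSucc 9, 1), (.negSucc 44,
  2), (.ofNat 10, 10), (.negSucc 22, 13), (.negSucc 22, 14), (.ofNat 28, 15), (.ofNat 23, 16), (.ofNat 81, 17),
  (.ofNat 16, 20), (.ofNat 5, 21), (.ofNat 52, 22), (.negSucc 12, 23), (.ofNat 31, 18)])) (.far (.negSucc 41)
  [(.negSucc 145, 1), (.negSucc 249, 2), (.ofNat 187, 11), (.ofNat 104, 13), (.ofNat 219, 15), (.ofNat 177, 16),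
  (.ofNat 156, 17), (.ofNat 52, 19), (.ofNat 229, 20), (.ofNat 344, 21), (.ofNat 729, 22), (.ofNat 187, 23)])) (.far
  (.ofNat 1) [(.negSucc 7, 1), (.negSucc 7, 2), (.ofNat 7, 8), (.ofNat 20, 10), (.ofNat 12, 11), (.ofNat 17, 13),
  (.ofNat 27, 14), (.ofNat 6, 15), (.ofNat 5, 16), (.ofNat 12, 17), (.ofNat 5, 20), (.ofNat 12, 21), (.ofNat 26, 22),
  (.ofNat 17, 23), (.ofNat 5, 24)])) (.far (.ofNat 0) [(.ofNat 2187, 1), (.ofNat 10935, 9), (.ofNat 2187, 11),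
  (.ofNat 10935, 13), (.ofNat 10935, 14), (.ofNat 4374, 15), (.ofNat 5467, 17), (.ofNat 4374, 20), (.ofNat 4374, 21),
  (.ofNat 19683, 22), (.ofNat 10935, 23)]))) (.far (.negSucc 95) [(.negSucc 83, 1), (.negSucc 226, 2), (.ofNat 41,
  9), (.negSucc 11, 13), (.negSucc 40, 14), (.ofNat 183, 15), (.ofNat 128, 16), (.ofNat 224, 17), (.ofNat 15, 19),
  (.ofNat 143, 20), (.ofNat 132, 21), (.ofNat 729, 22), (.ofNat 3, 23), (.ofNat 3, 24)])) (.far (.ofNat 251)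
  [(.negSucc 177, 1), (.negSucc 48, 2), (.ofNat 251, 9), (.ofNat 478, 10), (.ofNat 300, 11), (.ofNat 429, 13),
  (.ofNat 227, 14), (.ofNat 340, 15), (.ofNat 126, 16), (.ofNat 413, 17), (.ofNat 101, 19), (.ofNat 227, 20), (.ofNat
  316, 21), (.ofNat 729, 22), (.ofNat 502, 23), (.ofNat 203, 24)])) (.far (.ofNat 94) [(.ofNat 72, 1), (.negSucc 76,
  2), (.ofNat 34, 8), (.ofNat 102, 9), (.ofNat 124, 10), (.ofNat 196, 11), (.ofNat 55, 13), (.ofNat 55, 14), (.ofNat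
  62, 15), (.ofNat 30, 16), (.ofNat 190, 17), (.ofNat 30, 20), (.ofNat 15, 21), (.ofNat 243, 22), (.ofNat 196, 23)]))
  (.far (.negSucc 188) [(.negSucc 728, 1), (.ofNat 221, 2), (.ofNat 37, 8), (.ofNat 60, 9), (.ofNat 577, 13),
  (.negSucc 22, 14), (.ofNat 355, 15), (.ofNat 286, 17), (.ofNat 55, 18), (.ofNat 120, 19), (.ofNat 120, 20), (.ofNat
  88, 21), (.ofNat 664, 22), (.ofNat 115, 23), (.ofNat 115, 24)])))

/-- a certificate -/
noncomputable def c53 : Hd × Tr :=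
  ((148176, [], [(1, 0), (2, 0)]), (.bf 11 26 (.bf 11 5 (.far (.negSucc 10) [(.negSucc 58, 1), (.negSucc 18, 2),
  (.ofNat 9, 10), (.ofNat 48, 13), (.ofNat 9, 14), (.ofNat 53, 15), (.ofNat 29, 16), (.ofNat 9, 17), (.ofNat 19, 19),
  (.ofNat 48, 20), (.ofNat 81, 21), (.ofNat 33, 22), (.ofNat 23, 23), (.ofNat 23, 24)]) (.bf 3 20 (.bf 1 160 (.bf 2 0
  (.far (.ofNat 3) [(.negSucc 0, 2), (.ofNat 2, 9), (.ofNat 1, 14), (.ofNat 2, 15), (.ofNat 2, 16), (.ofNat 1, 18),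
  (.ofNat 2, 22), (.ofNat 1, 24)]) (.far (.negSucc 75) [(.negSucc 144, 1), (.negSucc 242, 2), (.ofNat 101, 11),
  (.ofNat 69, 13), (.ofNat 205, 15), (.ofNat 165, 16), (.ofNat 173, 17), (.ofNat 34, 19), (.ofNat 199, 20), (.ofNat
  281, 21), (.ofNat 729, 22), (.ofNat 103, 23), (.ofNat 2, 24)])) (.far (.ofNat 69) [(.negSucc 194, 1), (.negSucc
  188, 2), (.ofNat 105, 6), (.ofNat 120, 9), (.ofNat 384, 10), (.ofNat 189, 11), (.ofNat 370, 13), (.ofNat 370, 14),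
  (.ofNat 245, 15), (.ofNat 182, 16), (.ofNat 446, 17), (.ofNat 182, 20), (.ofNat 295, 21), (.ofNat 729, 22), (.ofNat
  265, 23), (.ofNat 76, 24)])) (.far (.negSucc 136) [(.negSucc 272, 1), (.negSucc 546, 2), (.ofNat 273, 9), (.ofNat
  273, 10), (.ofNat 137, 13), (.ofNat 615, 15), (.ofNat 342, 16), (.ofNat 820, 17), (.ofNat 68, 19), (.ofNat 410,
  20), (.ofNat 342, 21), (.ofNat 2187, 22), (.ofNat 137, 23), (.ofNat 137, 24)]))) (.far (.negSucc 37) [(.negSucc 76,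
  1), (.negSucc 191, 2), (.ofNat 96, 9), (.ofNat 96, 10), (.ofNat 19, 11), (.ofNat 38, 13), (.ofNat 201, 15), (.ofNat
  115, 16), (.ofNat 288, 17), (.ofNat 19, 19), (.ofNat 134, 20), (.ofNat 106, 21), (.ofNat 729, 22), (.ofNat 58, 23),
  (.ofNat 38, 24)])))

/-- a certificate -/
noncomputable def c54 : Hd × Tr :=
  ((123480, [], [(1, 0), (2, 0)]), (.bf 10 20 (.bf 11 62 (.bf 8 15 (.bf 3 87 (.bf 4 24 (.bf 1 384 (.bf 2 128 (.bm 3 1
  (.bm 3 0 (.far (.negSucc 3) [(.negSucc 13, 1), (.negSucc 11, 2), (.ofNat 4, 5), (.ofNat 12, 9), (.ofNat 14, 10),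
  (.ofNat 5, 12), (.ofNat 14, 13), (.ofNat 5, 14), (.ofNat 2, 15), (.ofNat 3, 16), (.ofNat 7, 17), (.ofNat 2, 18),
  (.ofNat 7, 19), (.ofNat 10, 20), (.ofNat 7, 21), (.negSucc 26, 3)]) (.bf 2 0 (.far (.ofNat 26) [(.negSucc 4, 1),
  (.negSucc 9, 2), (.negSucc 4, 3), (.ofNat 3, 5), (.ofNat 21, 9), (.ofNat 15, 12), (.ofNat 23, 14), (.ofNat 6, 16),
  (.ofNat 3, 17), (.ofNat 5, 22), (.ofNat 27, 24)]) (.far (.negSucc 30) [(.negSucc 125, 1), (.negSucc 89, 2),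
  (.negSucc 125, 3), (.ofNat 12, 5), (.ofNat 12, 9), (.ofNat 243, 11), (.ofNat 3, 12), (.ofNat 108, 13), (.ofNat 55,
  18), (.ofNat 26, 19), (.ofNat 26, 20), (.ofNat 114, 21), (.ofNat 23, 22), (.ofNat 243, 23)]))) (.far (.negSucc 80)
  [(.negSucc 28, 1), (.negSucc 15, 2), (.ofNat 35, 5), (.ofNat 6, 6), (.ofNat 11, 8), (.ofNat 7, 9), (.ofNat 2, 10),
  (.ofNat 11, 12), (.ofNat 47, 14), (.ofNat 13, 16), (.ofNat 13, 18), (.ofNat 13, 20), (.ofNat 46, 22), (.ofNat 63,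
  3)])) (.far (.negSucc 12) [(.negSucc 19, 1), (.negSucc 2, 2), (.ofNat 16, 5), (.ofNat 27, 11), (.ofNat 7, 12),
  (.ofNat 24, 13), (.ofNat 16, 14), (.ofNat 6, 16), (.ofNat 4, 19), (.ofNat 10, 20), (.ofNat 13, 21), (.ofNat 16,
  22), (.ofNat 27, 23)])) (.far (.negSucc 89) [(.negSucc 71, 1), (.negSucc 27, 2), (.ofNat 103, 6), (.ofNat 78, 8),
  (.ofNat 62, 10), (.ofNat 80, 12), (.ofNat 163, 13), (.ofNat 243, 14), (.ofNat 10, 16), (.ofNat 10, 20), (.ofNat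
  100, 21), (.ofNat 179, 22)])) (.far (.negSucc 122) [(.negSucc 36, 1), (.negSucc 72, 2), (.ofNat 10, 4), (.ofNat
  203, 9), (.ofNat 136, 12), (.ofNat 182, 13), (.ofNat 243, 14), (.ofNat 37, 15), (.ofNat 37, 19), (.ofNat 127, 20),
  (.ofNat 134, 21), (.ofNat 200, 22), (.ofNat 179, 23)])) (.far (.negSucc 492) [(.negSucc 302, 1), (.negSucc 477, 2),
  (.ofNat 63, 5), (.ofNat 127, 8), (.ofNat 6, 9), (.ofNat 729, 12), (.ofNat 184, 14), (.ofNat 66, 16), (.ofNat 191,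
  19), (.ofNat 257, 20), (.ofNat 231, 21), (.ofNat 647, 22), (.ofNat 87, 23), (.ofNat 87, 24)])) (.far (.negSucc 210)
  [(.negSucc 453, 1), (.negSucc 88, 2), (.ofNat 122, 5), (.ofNat 405, 9), (.ofNat 729, 10), (.ofNat 551, 11), (.ofNat
  454, 12), (.ofNat 365, 13), (.ofNat 446, 14), (.ofNat 186, 19), (.ofNat 186, 20), (.ofNat 162, 21), (.ofNat 24,
  22), (.ofNat 551, 23)])) (.far (.negSucc 553) [(.negSucc 339, 1), (.ofNat 153, 2), (.ofNat 554, 5), (.ofNat 175,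
  6), (.ofNat 327, 9), (.ofNat 243, 10), (.ofNat 540, 11), (.ofNat 288, 12), (.ofNat 515, 13), (.ofNat 645, 14),
  (.ofNat 48, 19), (.ofNat 48, 20), (.ofNat 729, 22), (.ofNat 540, 23)])) (.far (.negSucc 182) [(.negSucc 242, 1),
  (.ofNat 70, 2), (.ofNat 92, 5), (.ofNat 14, 9), (.ofNat 108, 12), (.ofNat 152, 13), (.ofNat 79, 14), (.ofNat 17,
  15), (.ofNat 34, 18), (.ofNat 43, 19), (.ofNat 43, 20), (.ofNat 12, 21), (.ofNat 92, 22)])))

/-- a certificate -/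
noncomputable def c55 : Hd × Tr :=
  ((98784, [], [(1, 0), (2, 0)]), (.bf 10 18 (.bf 11 46 (.bf 12 4 (.bf 3 75 (.bf 4 33 (.bf 1 480 (.bf 2 128 (.bm 15 0
  (.bm 17 0 (.bm 3 1 (.bm 3 0 (.far (.ofNat 1) [(.negSucc 2, 2), (.ofNat 1, 4), (.ofNat 1, 13), (.ofNat 3, 15),
  (.ofNat 1, 16), (.ofNat 4, 17), (.ofNat 3, 19), (.ofNat 3, 20), (.negSucc 8, 3)]) (.bm 4 0 (.far (.negSucc 40)
  [(.negSucc 40, 1), (.negSucc 33, 2), (.ofNat 81, 3), (.ofNat 11, 15), (.ofNat 7, 16), (.ofNat 24, 17), (.ofNat 20,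
  18), (.ofNat 7, 20), (.ofNat 11, 21), (.ofNat 54, 22), (.negSucc 46, 4)]) (.bm 5 0 (.bm 6 0 (.bm 7 0 (.far (.ofNat
  0) [(.negSucc 3, 2), (.negSucc 4, 3), (.ofNat 3, 4), (.negSucc 4, 5), (.negSucc 1, 6), (.negSucc 8, 7), (.ofNat 4,
  15), (.ofNat 4, 17), (.ofNat 2, 21)]) (.far (.ofNat 81) [(.negSucc 53, 3), (.negSucc 26, 5), (.negSucc 80, 6),
  (.ofNat 27, 8), (.ofNat 81, 10), (.ofNat 81, 11), (.ofNat 40, 17), (.ofNat 81, 23), (.ofNat 54, 7)])) (.far (.ofNat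
  8) [(.negSucc 7, 2), (.negSucc 3, 3), (.ofNat 4, 4), (.negSucc 14, 5), (.ofNat 1, 9), (.ofNat 9, 13), (.ofNat 15,
  15), (.ofNat 15, 17), (.ofNat 8, 19), (.ofNat 8, 20), (.ofNat 4, 21), (.ofNat 27, 22), (.ofNat 17, 6)])) (.far
  (.negSucc 26) [(.negSucc 3, 1), (.negSucc 4, 2), (.negSucc 4, 3), (.ofNat 10, 4), (.ofNat 5, 13), (.ofNat 23, 14),
  (.negSucc 10, 15), (.ofNat 9, 16), (.negSucc 10, 17), (.ofNat 6, 20), (.ofNat 1, 21), (.ofNat 5, 23), (.ofNat 26,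
  5)])))) (.far (.negSucc 15) [(.negSucc 15, 1), (.ofNat 6, 6), (.ofNat 3, 9), (.ofNat 6, 13), (.ofNat 3, 14),
  (.ofNat 8, 15), (.ofNat 3, 16), (.ofNat 9, 17), (.ofNat 4, 18), (.ofNat 3, 20), (.ofNat 27, 22), (.ofNat 23, 3)]))
  (.far (.negSucc 1) [(.negSucc 1, 1), (.negSucc 5, 2), (.ofNat 3, 15), (.ofNat 3, 16), (.ofNat 1, 18), (.ofNat 3,
  20), (.ofNat 1, 21), (.ofNat 7, 22), (.ofNat 9, 17)])) (.far (.negSucc 16) [(.negSucc 24, 1), (.negSucc 43, 2),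
  (.ofNat 5, 6), (.ofNat 31, 9), (.ofNat 26, 10), (.ofNat 15, 11), (.ofNat 13, 13), (.ofNat 28, 16), (.ofNat 79, 17),
  (.ofNat 7, 19), (.ofNat 34, 20), (.ofNat 21, 21), (.ofNat 81, 22), (.ofNat 15, 23), (.ofNat 59, 15)])) (.far
  (.ofNat 18) [(.negSucc 175, 1), (.negSucc 20, 2), (.ofNat 17, 8), (.ofNat 10, 9), (.ofNat 243, 11), (.ofNat 211,
  13), (.ofNat 7, 14), (.ofNat 102, 15), (.ofNat 38, 16), (.ofNat 121, 17), (.ofNat 32, 19), (.ofNat 70, 20), (.ofNat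
  111, 21), (.ofNat 234, 22), (.ofNat 243, 23)])) (.far (.negSucc 73) [(.negSucc 97, 1), (.negSucc 122, 2), (.ofNat
  109, 6), (.ofNat 5, 8), (.ofNat 128, 10), (.ofNat 30, 11), (.ofNat 139, 13), (.ofNat 243, 14), (.ofNat 49, 16),
  (.ofNat 64, 17), (.ofNat 49, 20), (.ofNat 79, 21), (.ofNat 202, 22), (.ofNat 30, 23)])) (.far (.negSucc 230)
  [(.negSucc 153, 2), (.ofNat 77, 4), (.ofNat 591, 9), (.ofNat 462, 13), (.ofNat 565, 14), (.ofNat 39, 15), (.ofNat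
  39, 17), (.ofNat 231, 20), (.ofNat 193, 21), (.ofNat 729, 22), (.ofNat 462, 23)])) (.far (.negSucc 208) [(.negSucc
  208, 1), (.negSucc 300, 2), (.ofNat 109, 15), (.ofNat 120, 16), (.ofNat 68, 19), (.ofNat 188, 20), (.ofNat 207,
  21), (.ofNat 729, 22), (.ofNat 20, 23), (.ofNat 20, 24)])) (.far (.negSucc 143) [(.negSucc 143, 1), (.negSucc 410,
  2), (.ofNat 41, 5), (.ofNat 185, 9), (.ofNat 144, 10), (.ofNat 41, 13), (.ofNat 380, 15), (.ofNat 246, 16), (.ofNat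
  565, 17), (.ofNat 21, 19), (.ofNat 267, 20), (.ofNat 195, 21), (.ofNat 729, 22), (.ofNat 62, 23), (.ofNat 62,
  24)])) (.far (.negSucc 3) [(.ofNat 5, 1), (.negSucc 7, 2), (.ofNat 21, 8), (.ofNat 17, 9), (.ofNat 17, 11), (.ofNat
  12, 13), (.ofNat 4, 14), (.ofNat 16, 15), (.ofNat 22, 17), (.ofNat 1, 19), (.ofNat 1, 20), (.ofNat 81, 22), (.ofNat
  17, 23)])) (.far (.negSucc 251) [(.negSucc 728, 1), (.ofNat 282, 2), (.ofNat 9, 5), (.ofNat 78, 9), (.ofNat 69,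
  10), (.ofNat 486, 13), (.ofNat 375, 15), (.ofNat 239, 17), (.ofNat 98, 18), (.ofNat 137, 19), (.ofNat 137, 20),
  (.ofNat 74, 21), (.ofNat 603, 22)])))

/-- a certificate -/
noncomputable def c56 : Hd × Tr :=
  ((74088, [], [(1, 0), (2, 0)]), (.bf 10 24 (.bf 11 52 (.bf 3 100 (.bf 4 43 (.bf 1 640 (.bf 2 128 (.bm 17 0 (.bm 3 1
  (.bm 3 0 (.far (.ofNat 3) [(.negSucc 9, 2), (.ofNat 3, 4), (.ofNat 3, 13), (.ofNat 10, 15), (.ofNat 2, 16), (.ofNat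
  12, 17), (.ofNat 8, 19), (.ofNat 10, 20), (.negSucc 26, 3)]) (.bm 4 1 (.bm 4 0 (.far (.negSucc 0) [(.negSucc 0, 1),
  (.negSucc 0, 2), (.ofNat 1, 3), (.negSucc 0, 4)]) (.bm 5 1 (.bm 7 1 (.bm 7 0 (.far (.negSucc 43) [(.negSucc 43, 1),
  (.negSucc 36, 2), (.negSucc 26, 3), (.ofNat 40, 4), (.ofNat 20, 15), (.ofNat 7, 16), (.ofNat 13, 17), (.ofNat 7,
  20), (.ofNat 10, 21), (.negSucc 80, 7)]) (.bm 19 1 (.bm 20 0 (.bf 10 17 (.bf 12 3 (.bf 3 40 (.bf 1 320 (.bf 1 0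
  (.far (.ofNat 0) [(.ofNat 1, 3), (.ofNat 1, 7), (.ofNat 1, 22)]) (.bm 15 0 (.bm 16 0 (.bm 18 0 (.bm 5 0 (.far
  (.ofNat 0) [(.negSucc 3, 2), (.negSucc 3, 3), (.negSucc 26, 5), (.ofNat 8, 6), (.ofNat 4, 7), (.ofNat 1, 11),
  (.ofNat 1, 15), (.negSucc 9, 16), (.ofNat 1, 17), (.ofNat 5, 18), (.negSucc 9, 20), (.negSucc 0, 24)]) (.far
  (.negSucc 66) [(.negSucc 20, 1), (.ofNat 25, 2), (.ofNat 63, 3), (.negSucc 31, 4), (.ofNat 67, 7), (.ofNat 4, 8),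
  (.ofNat 46, 14), (.negSucc 80, 15), (.negSucc 10, 16), (.negSucc 11, 17), (.negSucc 8, 18), (.negSucc 10, 20),
  (.ofNat 42, 5)])) (.far (.negSucc 9) [(.ofNat 10, 2), (.ofNat 1, 3), (.negSucc 6, 4), (.ofNat 27, 7), (.ofNat 10,
  8), (.ofNat 10, 14), (.negSucc 12, 15), (.negSucc 7, 16), (.negSucc 0, 17), (.negSucc 7, 20), (.ofNat 9, 18)]))
  (.far (.negSucc 6) [(.negSucc 9, 1), (.negSucc 16, 2), (.ofNat 6, 3), (.ofNat 10, 4), (.ofNat 81, 7), (.ofNat 3,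
  13), (.negSucc 9, 15), (.ofNat 27, 17), (.negSucc 2, 19), (.ofNat 23, 20), (.ofNat 76, 22), (.ofNat 26, 16)]))
  (.far (.negSucc 9) [(.negSucc 9, 1), (.ofNat 10, 2), (.negSucc 80, 3), (.ofNat 60, 4), (.negSucc 36, 7), (.ofNat
  34, 11), (.ofNat 22, 17), (.ofNat 17, 21), (.ofNat 34, 23), (.ofNat 49, 15)]))) (.far (.negSucc 138) [(.ofNat 75,
  1), (.negSucc 95, 2), (.negSucc 164, 3), (.ofNat 20, 4), (.ofNat 34, 6), (.ofNat 191, 7), (.ofNat 209, 8), (.ofNat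
  75, 11), (.ofNat 29, 13), (.ofNat 243, 14), (.ofNat 38, 17), (.negSucc 106, 19), (.negSucc 106, 20), (.ofNat 63,
  21), (.ofNat 75, 23)])) (.far (.ofNat 0) [(.ofNat 1, 3), (.negSucc 0, 5), (.ofNat 2, 7), (.ofNat 1, 8), (.ofNat 3,
  22)])) (.far (.ofNat 2) [(.ofNat 2, 1), (.negSucc 3, 2), (.negSucc 8, 3), (.ofNat 4, 4), (.negSucc 0, 7), (.ofNat
  2, 11), (.ofNat 2, 15), (.ofNat 1, 16), (.ofNat 4, 17), (.ofNat 2, 19), (.ofNat 3, 20), (.ofNat 2, 23)])) (.far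
  (.ofNat 8) [(.negSucc 7, 2), (.negSucc 80, 3), (.ofNat 5, 4), (.ofNat 44, 7), (.ofNat 8, 13), (.ofNat 11, 15),
  (.ofNat 1, 16), (.ofNat 40, 17), (.ofNat 27, 18), (.ofNat 11, 19), (.ofNat 12, 20), (.ofNat 1, 21), (.ofNat 8,
  22)])) (.far (.ofNat 7) [(.ofNat 2, 1), (.negSucc 12, 2), (.negSucc 26, 3), (.ofNat 11, 4), (.ofNat 23, 7), (.ofNat
  10, 11), (.ofNat 5, 13), (.ofNat 2, 15), (.ofNat 10, 16), (.ofNat 25, 17), (.ofNat 23, 22), (.ofNat 10, 23),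
  (.ofNat 10, 20)])) (.far (.negSucc 0) [(.ofNat 4, 1), (.negSucc 12, 2), (.negSucc 26, 3), (.ofNat 12, 4), (.ofNat
  6, 6), (.ofNat 4, 11), (.ofNat 1, 13), (.ofNat 6, 14), (.ofNat 10, 17), (.ofNat 13, 20), (.ofNat 4, 23), (.ofNat
  13, 19)]))) (.far (.ofNat 2) [(.ofNat 1, 1), (.negSucc 3, 2), (.negSucc 8, 3), (.ofNat 4, 4), (.ofNat 4, 11),
  (.ofNat 2, 13), (.ofNat 3, 16), (.ofNat 8, 17), (.ofNat 3, 20), (.ofNat 7, 22), (.ofNat 4, 23), (.ofNat 8, 7)]))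
  (.far (.negSucc 8) [(.negSucc 2, 1), (.negSucc 1, 3), (.ofNat 4, 4), (.ofNat 2, 11), (.ofNat 1, 13), (.ofNat 7,
  14), (.ofNat 2, 16), (.negSucc 1, 17), (.ofNat 2, 20), (.ofNat 1, 22), (.ofNat 2, 23), (.ofNat 7, 5)]))) (.far
  (.ofNat 1) [(.ofNat 2, 1), (.negSucc 0, 2), (.negSucc 8, 3), (.ofNat 1, 8), (.ofNat 1, 9), (.ofNat 2, 11), (.ofNat
  2, 15), (.ofNat 1, 16), (.ofNat 4, 17), (.ofNat 1, 20), (.ofNat 2, 23), (.ofNat 6, 4)]))) (.far (.negSucc 20)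
  [(.negSucc 20, 1), (.ofNat 4, 15), (.ofNat 1, 16), (.ofNat 12, 17), (.ofNat 1, 18), (.ofNat 1, 20), (.ofNat 27,
  22), (.ofNat 24, 3)])) (.far (.negSucc 5) [(.negSucc 5, 1), (.negSucc 18, 2), (.ofNat 8, 15), (.ofNat 8, 16),
  (.ofNat 5, 18), (.ofNat 8, 20), (.ofNat 1, 21), (.ofNat 21, 22), (.ofNat 27, 17)])) (.far (.negSucc 0) [(.negSucc
  7, 1), (.negSucc 4, 2), (.ofNat 9, 11), (.ofNat 7, 13), (.ofNat 3, 16), (.ofNat 1, 18), (.ofNat 2, 19), (.ofNat 4,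
  20), (.ofNat 8, 21), (.ofNat 3, 22), (.ofNat 9, 23)])) (.far (.negSucc 29) [(.negSucc 33, 1), (.negSucc 35, 2),
  (.ofNat 42, 6), (.ofNat 5, 8), (.ofNat 34, 10), (.ofNat 51, 13), (.ofNat 81, 14), (.ofNat 15, 16), (.ofNat 15, 17),
  (.ofNat 15, 20), (.ofNat 28, 21), (.ofNat 72, 22)])) (.far (.negSucc 2749) [(.negSucc 1374, 2), (.ofNat 5587, 9),
  (.ofNat 4125, 13), (.ofNat 5871, 14), (.ofNat 2292, 20), (.ofNat 1375, 21), (.ofNat 6561, 22), (.ofNat 4583, 23)]))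
  (.far (.negSucc 24) [(.negSucc 24, 1), (.negSucc 34, 2), (.ofNat 10, 15), (.ofNat 15, 16), (.ofNat 5, 19), (.ofNat
  20, 20), (.ofNat 25, 21), (.ofNat 81, 22)])) (.far (.negSucc 6) [(.negSucc 6, 2), (.ofNat 7, 8), (.ofNat 7, 9),
  (.ofNat 27, 22)])) (.far (.negSucc 98) [(.negSucc 242, 1), (.ofNat 99, 2), (.ofNat 8, 5), (.ofNat 8, 9), (.ofNat
  152, 13), (.ofNat 96, 15), (.ofNat 56, 17), (.ofNat 20, 18), (.ofNat 30, 19), (.ofNat 30, 20), (.ofNat 7, 21),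
  (.ofNat 160, 22)])))

/-- certificates -/
noncomputable def CL1 : List (Hd × Tr) :=
  [c52, c53, c54, c55, c56]

theorem okC1 : okL TAB.He.D TAB.He.RR P Z CL1 = true := by decide +kernel

/-- the enumeration -/
theorem lst0 {K : Type} [Group K] [Finite K] (h : In K TAB.He.D TAB.He.RR) :
    Lst K SV :=
  lst_of_enum (E := E) h ok1 (H940.Eng.D.ords_he base) (fun _ => List.not_mem_nil) List.mem_cons_self (dv_iff.1
  (by decide +kernel)) okB1 (l1 := []) rfl (W := [W0].flatten) (by decide +kernel) <| forall_flatten <|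
    fa_cons (fun _ h => ⟨_, okD0, h⟩) <| fa_nil

/-- the heads -/
def FL : List Hd :=
  [(59270400, [], []), (39513600, [], []), (29635200, [], []), (26342400, [], []), (47416320, [], []), (23708160, [],
  []), (19756800, [], []), (15805440, [], []), (14817600, [], []), (13171200, [], []), (11854080, [], []), (9878400,
  [], []), (9483264, [], []), (7902720, [], []), (7408800, [], []), (6585600, [], []), (5927040, [], []), (5268480,
  [], []), (4939200, [], []), (4741632, [], []), (3951360, [], []), (3704400, [], []), (3292800, [], []), (3161088,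
  [], []), (2963520, [], []), (2634240, [], []), (2469600, [], []), (2370816, [], []), (1975680, [], []), (1852200,
  [], []), (1646400, [], []), (1580544, [], []), (1481760, [], []), (1317120, [], [(1, 0), (2, 0)]), (979200, [],
  [(1, 0)]), (979200, [], [(2, 0)]), (1234800, [], []), (1185408, [], []), (1053696, [], []), (987840, [], []),
  (823200, [], [(1, 0), (2, 0)]), (790272, [], []), (740880, [], [(1, 0), (2, 0)]), (658560, [], [(1, 0), (2, 0)]),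
  (617400, [], [(1, 0), (2, 0)]), (592704, [], []), (493920, [], [(1, 0), (2, 0)]), (395136, [], []), (370440, [],
  [(1, 0), (2, 0)]), (308700, [], [(1, 0), (2, 0)]), (296352, [], []), (246960, [], [(1, 0), (2, 0)]), (197568, [],
  [(1, 0), (2, 0)]), (148176, [], [(1, 0), (2, 0)]), (123480, [], [(1, 0), (2, 0)]), (98784, [], [(1, 0), (2, 0)]),
  (74088, [], [(1, 0), (2, 0)])]

/-- scripts -/
noncomputable def S0 : List ((ℕ × ℕ) × Ps) :=
  [((2448, 68), (.ky 0)), ((2448, 102), (.ky 1)), ((2448, 136), (.ky 2)), ((2448, 153), (.ky 3)), ((4080, 68), (.ky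
  0)), ((4080, 136), (.ky 2)), ((979200, 68), (.ky 0)), ((979200, 85), (.ky 4)), ((979200, 102), (.ky 1)), ((979200,
  136), (.ky 2)), ((979200, 153), (.ky 3)), ((979200, 170), (.ky 5)), ((979200, 204), (.ky 6)), ((979200, 255), (.ky
  7)), ((979200, 272), (.ky 8)), ((979200, 306), (.ky 9)), ((979200, 340), (.ky 10)), ((979200, 408), (.ky 11)),
  ((979200, 425), (.ky 12)), ((979200, 510), (.ky 13)), ((979200, 544), (.ky 14)), ((979200, 612), (.ky 15)),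
  ((979200, 680), (.ky 16)), ((979200, 765), (.ky 17)), ((979200, 816), (.ky 18)), ((979200, 850), (.ky 19)),
  ((979200, 1020), (.ky 20)), ((979200, 1088), (.ky 21)), ((979200, 1224), (.ky 22)), ((979200, 1275), (.ky 23)),
  ((979200, 1360), (.ky 24)), ((979200, 1530), (.ky 25)), ((979200, 1632), (.ky 26)), ((979200, 1700), (.ky 27)),
  ((979200, 2040), (.ky 28)), ((979200, 2176), (.ky 29)), ((979200, 2448), (.ky 30)), ((979200, 2550), (.ky 31)),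
  ((979200, 2720), (.ky 32)), ((979200, 3060), (.br 2 (.kx 35) (.br 1 (.kx 34) (.ky 33)))), ((979200, 3264), (.ky
  36)), ((979200, 3400), (.ky 37)), ((979200, 3825), (.ky 38)), ((979200, 4080), (.ky 39)), ((979200, 4896), (.br 2
  (.kx 35) (.br 1 (.kx 34) (.ky 40)))), ((979200, 5100), (.ky 41)), ((979200, 5440), (.br 2 (.kx 35) (.br 1 (.kx 34)
  (.ky 42)))), ((979200, 6120), (.br 2 (.kx 35) (.br 1 (.kx 34) (.ky 43)))), ((979200, 6528), (.br 2 (.kx 35) (.br 1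
  (.kx 34) (.ky 44)))), ((979200, 6800), (.ky 45)), ((979200, 8160), (.br 2 (.kx 35) (.br 1 (.kx 34) (.ky 46)))),
  ((979200, 10200), (.ky 47)), ((979200, 10880), (.br 2 (.kx 35) (.br 1 (.kx 34) (.ky 48)))), ((979200, 13056), (.br
  2 (.kx 35) (.br 1 (.kx 34) (.ky 49)))), ((979200, 13600), (.ky 50)), ((979200, 16320), (.br 2 (.kx 35) (.br 1 (.kx
  34) (.ky 51)))), ((979200, 20400), (.br 2 (.kx 35) (.br 1 (.kx 34) (.ky 52)))), ((979200, 27200), (.br 2 (.kx 35)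
  (.br 1 (.kx 34) (.ky 53)))), ((979200, 32640), (.br 2 (.kx 35) (.br 1 (.kx 34) (.ky 54)))), ((979200, 40800), (.br
  2 (.kx 35) (.br 1 (.kx 34) (.ky 55))))]

/-- scripts -/
noncomputable def S1 : List ((ℕ × ℕ) × Ps) :=
  [((979200, 54400), (.br 2 (.kx 35) (.br 1 (.kx 34) (.ky 56))))]

theorem okC : ∀ x ∈ FL, ∃ CL, okL TAB.He.D TAB.He.RR P Z CL = true ∧ x ∈ CL.map Prod.fst := by
  rw [show FL = [CL0.map Prod.fst, CL1.map Prod.fst].flatten by decide +kernel]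
  exact forall_flatten <| fa_cons (fun _ h => ⟨_, okC0, h⟩) <| fa_cons (fun _ h => ⟨_, okC1, h⟩) <| fa_nil

/-- **the list** -/
theorem lst {K : Type} [Group K] [Finite K] (h : In K TAB.He.D TAB.He.RR) :
    Lst K L :=
  lst_of_cert h (lst0 h) (l := E.l) (by decide +kernel) (SG := [1, 2]) (by decide +kernel) okC (SS := [S0,
  S1].flatten) (by decide +kernel) (by decide +kernel)

end Cfsg.Agent.SM.Sp.NHe
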