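import Cfsg.Agent.SM.Sp.Enum
import Cfsg.Agent.TH.Spor.J1

/-!
# SM (S3570), sporadic socles: J1 (helper26; generated by notes/SM/sp26/gen2.py.txt)
-/

set_option autoImplicit false
set_option Elab.async false

namespace Cfsg.Agent.SM.Sp.NJ1

open Cfsg Cfsg.Agent.TAB.Eng Cfsg.Agent.H940.Eng Cfsg.Agent.TH.Spor

/-- local data -/
def loc : List LD :=
  [⟨19, 19, [(2, 1), (3, 1), (19, 1)]⟩, ⟨11, 11, [(2, 1), (5, 1), (11, 1)]⟩, ⟨7, 7, [(2, 1), (3, 1), (7, 1)]⟩, ⟨5,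
  60, [(2, 2), (3, 1), (5, 1)]⟩, ⟨3, 60, [(2, 2), (3, 1), (5, 1)]⟩]

/-- the pairs which remain -/
def L : List (ℕ × ℕ) :=
  []

/-- the candidates -/
def SV : List (ℕ × ℕ) :=
  []

/-- the data -/
def E : Ed :=
  ⟨175560, [(19, 1), (11, 1), (7, 1), (5, 1), (3, 1), (2, 3)], H940.Eng.D.o_j1, loc, 56, [], [], [60, 168, 660], SV⟩

theorem ok1 : okEd TH.Spor.J1.dat TH.Spor.J1.tab E = true := by decide +kernel

theorem okB1 : okB E ⟨19, 19, [(2, 1), (3, 1), (19, 1)]⟩ = true := by decide +kernel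

/-- the enumeration -/
theorem lst0 {K : Type} [Group K] [Finite K] (h : In K TH.Spor.J1.dat TH.Spor.J1.tab) :
    Lst K SV :=
  lst_of_enum (E := E) h ok1 (H940.Eng.D.ords_j1 base) (fun _ => List.not_mem_nil) List.mem_cons_self (dv_iff.1
  (by decide +kernel)) okB1 (l1 := []) rfl (W := [].flatten) (by decide +kernel) <| forall_flatten <|
    fa_nil

end Cfsg.Agent.SM.Sp.NJ1
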