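import Cfsg.Agent.SM.Sp.Enum
import Cfsg.Agent.TAB.J2.Main

/-!
# SM (S3570), sporadic socles: J2 (helper26; generated by notes/SM/sp26/gen2.py.txt)
-/

set_option autoImplicit false
set_option Elab.async false

namespace Cfsg.Agent.SM.Sp.NJ2

open Cfsg Cfsg.Agent.TAB.Eng Cfsg.Agent.H940.Eng Cfsg.Agent.TH.Spor

/-- local data -/
def loc : List LD :=
  [⟨7, 7, [(2, 1), (3, 1), (7, 1)]⟩]

/-- the pairs which remain -/
def L : List (ℕ × ℕ) :=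
  []

/-- the candidates -/
def SV : List (ℕ × ℕ) :=
  [(168, 21), (168, 28), (360, 15), (504, 21), (504, 28), (504, 63), (2520, 15), (2520, 21), (2520, 28), (2520, 35),
  (2520, 42), (2520, 70), (2520, 84), (2520, 105), (2520, 120), (2520, 126), (2520, 315), (6048, 21), (6048, 28),
  (6048, 42), (6048, 56), (6048, 63), (6048, 84), (6048, 112), (6048, 126), (6048, 168), (6048, 189), (6048, 252),
  (20160, 15), (20160, 21), (20160, 28), (20160, 35), (20160, 42), (20160, 56), (20160, 63), (20160, 70), (20160,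
  84), (20160, 105), (20160, 112), (20160, 120), (20160, 126), (20160, 140), (20160, 168), (20160, 210), (20160,
  224), (20160, 280), (20160, 315), (20160, 336), (20160, 420), (20160, 560), (20160, 672), (20160, 840), (20160,
  1120), (20160, 2016)]

/-- the data -/
def E : Ed :=
  ⟨604800, [(7, 1), (5, 2), (3, 3), (2, 7)], H940.Eng.D.o_j2, loc, 14, [], [(7, 10)], [60, 168, 360, 504, 2520, 6048,
  20160], SV⟩

theorem ok1 : okEd TAB.J2.D (TAB.Sm2.mkRows TAB.J2.A TAB.J2.B) E = true := by decide +kernel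

/-- the types of prime order -/
def P : List (ℕ × ℕ × ℕ) :=
  [(7, 10, 86400), (5, 6, 4032), (5, 7, 24192), (3, 3, 560), (3, 4, 16800), (2, 1, 315), (2, 2, 2520)]

/-- the types -/
def Z : List Ze :=
  [(1, 2, 315, [1]), (2, 2, 2520, [2]), (3, 3, 560, [3]), (4, 3, 16800, [4]), (5, 4, 6300, [1]), (6, 5, 4032, [6]),
  (7, 5, 24192, [7]), (8, 6, 25200, [3, 1]), (9, 6, 50400, [4, 2]), (10, 7, 86400, [10]), (11, 8, 75600, [1]), (12,
  10, 60480, [6, 2]), (13, 10, 120960, [7, 1]), (14, 12, 50400, [3, 1]), (15, 15, 80640, [6, 3])]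

theorem okB1 : okB E ⟨7, 7, [(2, 1), (3, 1), (7, 1)]⟩ = true := by decide +kernel

/-- pieces -/
def W0 : List (ℕ × ℕ) :=
  [(168, 1), (504, 1), (2520, 1), (6048, 1), (20160, 1)]

theorem okD0 : okD E [(7, 1), (5, 2), (3, 3), (2, 7)] W0 = true := by decide +kernel

/-- a certificate -/
noncomputable def c0 : Hd × Tr :=
  ((28800, [], []), (.far (.ofNat 1) [(.ofNat 1, 1), (.negSucc 0, 3), (.negSucc 0, 5), (.ofNat 1, 7), (.ofNat 1, 8),
  (.negSucc 0, 9)]))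

/-- a certificate -/
noncomputable def c1 : Hd × Tr :=
  ((21600, [], []), (.far (.ofNat 1) [(.ofNat 1, 1), (.negSucc 0, 3), (.negSucc 0, 5), (.ofNat 1, 7), (.ofNat 1, 8),
  (.negSucc 0, 9)]))

/-- a certificate -/
noncomputable def c2 : Hd × Tr :=
  ((40320, [], []), (.far (.ofNat 0) [(.negSucc 29, 1), (.negSucc 90, 2), (.negSucc 90, 3), (.negSucc 120, 4),
  (.negSucc 90, 5), (.negSucc 151, 6), (.negSucc 60, 7), (.negSucc 151, 8), (.negSucc 90, 9), (.negSucc 242, 10),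
  (.negSucc 29, 12), (.negSucc 90, 14), (.negSucc 120, 15)]))

/-- a certificate -/
noncomputable def c3 : Hd × Tr :=
  ((9600, [], []), (.far (.ofNat 1) [(.ofNat 1, 1), (.negSucc 0, 3), (.negSucc 0, 5), (.ofNat 1, 7), (.ofNat 1, 8),
  (.negSucc 0, 9)]))

/-- a certificate -/
noncomputable def c4 : Hd × Tr :=
  ((17280, [], []), (.far (.ofNat 3) [(.ofNat 3, 1), (.negSucc 2, 2), (.negSucc 6, 3), (.negSucc 8, 5), (.ofNat 6,
  8), (.negSucc 2, 9), (.negSucc 1, 13)]))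

/-- a certificate -/
noncomputable def c5 : Hd × Tr :=
  ((14400, [], []), (.far (.ofNat 1) [(.ofNat 1, 1), (.negSucc 0, 3), (.negSucc 0, 5), (.ofNat 1, 7), (.ofNat 1, 8),
  (.negSucc 0, 9)]))

/-- a certificate -/
noncomputable def c6 : Hd × Tr :=
  ((8640, [], []), (.far (.ofNat 1) [(.ofNat 1, 1), (.negSucc 0, 3), (.negSucc 0, 5), (.ofNat 1, 7), (.ofNat 1, 8),
  (.negSucc 0, 9)]))

/-- a certificate -/
noncomputable def c7 : Hd × Tr :=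
  ((7200, [], []), (.far (.ofNat 1) [(.ofNat 1, 1), (.negSucc 0, 3), (.negSucc 0, 5), (.ofNat 1, 7), (.ofNat 1, 8),
  (.negSucc 0, 9)]))

/-- a certificate -/
noncomputable def c8 : Hd × Tr :=
  ((5760, [], [(1, 0)]), (.bf 6 5 (.far (.ofNat 32) [(.negSucc 15, 1), (.negSucc 15, 4), (.negSucc 80, 5), (.negSucc
  15, 6), (.ofNat 16, 7), (.ofNat 16, 8), (.negSucc 80, 9), (.negSucc 64, 10), (.ofNat 16, 12), (.negSucc 31, 15)])
  (.far (.ofNat 14) [(.ofNat 26, 1), (.ofNat 9, 2), (.ofNat 26, 4), (.ofNat 26, 5), (.ofNat 40, 6), (.ofNat 69, 7),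
  (.ofNat 78, 8), (.ofNat 49, 9), (.ofNat 81, 10), (.ofNat 12, 13), (.ofNat 43, 14), (.ofNat 52, 15)])))

/-- a certificate -/
noncomputable def c9 : Hd × Tr :=
  ((2520, [], [(1, 0)]), (.far (.negSucc 19) [(.negSucc 16, 1), (.ofNat 17, 3), (.ofNat 17, 5), (.negSucc 9, 8),
  (.ofNat 27, 9), (.ofNat 7, 10), (.ofNat 3, 11), (.ofNat 7, 14), (.ofNat 10, 15)]))

/-- a certificate -/
noncomputable def c10 : Hd × Tr :=
  ((5040, [], [(1, 0)]), (.far (.negSucc 137) [(.negSucc 132, 1), (.negSucc 82, 4), (.negSucc 10, 6), (.negSucc 214,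
  7), (.negSucc 242, 8), (.negSucc 21, 9), (.negSucc 120, 10), (.negSucc 43, 14), (.negSucc 32, 15)]))

/-- a certificate -/
noncomputable def c11 : Hd × Tr :=
  ((4800, [], []), (.bf 6 11 (.bf 6 6 (.far (.ofNat 9) [(.ofNat 9, 1), (.negSucc 8, 3), (.negSucc 8, 4), (.negSucc
  26, 5), (.negSucc 8, 6), (.negSucc 26, 9), (.negSucc 17, 10), (.negSucc 8, 14), (.negSucc 12, 15)]) (.bf 7 1 (.far
  (.ofNat 9) [(.ofNat 27, 1), (.ofNat 27, 4), (.ofNat 36, 5), (.ofNat 36, 6), (.ofNat 54, 7), (.ofNat 54, 8), (.ofNat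
  54, 9), (.ofNat 81, 10), (.ofNat 5, 11), (.ofNat 9, 13), (.ofNat 41, 14), (.ofNat 45, 15)]) (.far (.ofNat 0)
  [(.ofNat 2, 2), (.negSucc 1, 5), (.ofNat 2, 7), (.ofNat 3, 8), (.ofNat 2, 15)]))) (.far (.ofNat 0) [(.ofNat 8, 1),
  (.ofNat 1, 2), (.ofNat 8, 4), (.ofNat 13, 5), (.ofNat 14, 6), (.ofNat 20, 7), (.ofNat 20, 8), (.ofNat 19, 9),
  (.ofNat 27, 10), (.ofNat 3, 13), (.ofNat 11, 14), (.ofNat 17, 15)])))

/-- a certificate -/
noncomputable def c12 : Hd × Tr :=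
  ((2520, [], []), (.bf 6 5 (.bf 7 5 (.bf 3 36 (.bf 4 6 (.bf 1 16 (.bf 2 8 (.bm 11 1 (.bm 1 1 (.bm 1 0 (.far
  (.negSucc 48) [(.ofNat 41, 3), (.ofNat 1, 4), (.ofNat 47, 5), (.negSucc 19, 8), (.ofNat 81, 9), (.ofNat 19, 10),
  (.ofNat 9, 11), (.ofNat 7, 13), (.ofNat 18, 14), (.ofNat 27, 15), (.negSucc 38, 1)]) (.bm 3 0 (.bm 4 0 (.bm 5 0
  (.bm 6 0 (.bm 14 0 (.far (.ofNat 0) [(.ofNat 13, 1), (.negSucc 19, 3), (.negSucc 18, 4), (.negSucc 26, 5),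
  (.negSucc 3, 6), (.negSucc 9, 8), (.negSucc 15, 9), (.negSucc 7, 10), (.negSucc 1, 14)]) (.bm 7 0 (.bf 6 0 (.bf 7 0
  (.far (.ofNat 1) [(.negSucc 2, 3), (.ofNat 1, 6), (.ofNat 1, 12), (.ofNat 1, 14), (.ofNat 1, 15)]) (.bf 3 15 (.bf 4
  0 (.bf 1 0 (.far (.ofNat 1) []) (.far (.ofNat 0) [(.negSucc 2, 4), (.negSucc 1, 10), (.negSucc 0, 11), (.ofNat 3,
  13)])) (.far (.negSucc 0) [(.negSucc 0, 4), (.negSucc 0, 7)])) (.far (.negSucc 3) [(.negSucc 8, 1), (.ofNat 2, 2),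
  (.negSucc 1, 7), (.ofNat 9, 9), (.negSucc 3, 10), (.negSucc 1, 11)]))) (.far (.negSucc 1) [(.ofNat 5, 1), (.negSucc
  5, 3), (.negSucc 4, 4), (.ofNat 7, 6), (.ofNat 4, 9), (.ofNat 9, 10), (.negSucc 1, 11), (.ofNat 2, 13), (.ofNat 5,
  14), (.ofNat 7, 15)])) (.far (.ofNat 2) [(.ofNat 2, 1), (.negSucc 1, 3), (.negSucc 0, 5), (.ofNat 1, 6), (.ofNat 3,
  8), (.ofNat 1, 10), (.ofNat 1, 13), (.ofNat 1, 14), (.ofNat 1, 15), (.ofNat 3, 7)]))) (.far (.ofNat 38) [(.ofNat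
  41, 1), (.negSucc 80, 3), (.negSucc 40, 4), (.negSucc 76, 5), (.negSucc 67, 9), (.negSucc 26, 10), (.negSucc 10,
  11), (.ofNat 13, 12), (.ofNat 4, 13), (.ofNat 2, 15), (.ofNat 11, 6)])) (.far (.negSucc 1) [(.negSucc 0, 1),
  (.ofNat 1, 3), (.ofNat 1, 6), (.ofNat 3, 9), (.ofNat 2, 10), (.ofNat 1, 14), (.ofNat 1, 15), (.ofNat 3, 5)])) (.far
  (.negSucc 8) [(.ofNat 9, 1), (.negSucc 8, 10), (.negSucc 4, 11), (.ofNat 4, 14), (.ofNat 9, 4)])) (.far (.negSucc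
  2) [(.ofNat 1, 5), (.ofNat 1, 6), (.ofNat 3, 9), (.ofNat 2, 10), (.ofNat 1, 13), (.ofNat 1, 14), (.ofNat 1, 15),
  (.ofNat 3, 3)]))) (.far (.negSucc 8) [(.ofNat 9, 4), (.negSucc 8, 10), (.negSucc 4, 11), (.ofNat 4, 14), (.ofNat 9,
  1)])) (.far (.negSucc 8) [(.ofNat 4, 3), (.ofNat 1, 4), (.ofNat 1, 7), (.negSucc 6, 8), (.ofNat 4, 9), (.ofNat 7,
  10), (.ofNat 5, 14), (.ofNat 8, 11)])) (.far (.negSucc 67) [(.ofNat 36, 2), (.ofNat 4, 5), (.ofNat 41, 6),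
  (.negSucc 21, 8), (.ofNat 72, 9), (.ofNat 36, 10), (.ofNat 22, 12), (.ofNat 5, 13), (.ofNat 59, 14), (.ofNat 81,
  15)])) (.far (.negSucc 167) [(.ofNat 47, 5), (.ofNat 75, 7), (.negSucc 27, 8), (.ofNat 243, 9), (.negSucc 18, 10),
  (.ofNat 9, 12), (.ofNat 47, 13), (.ofNat 131, 14), (.ofNat 140, 15)])) (.far (.negSucc 0) [(.ofNat 1, 6), (.ofNat
  3, 8), (.ofNat 2, 9), (.ofNat 2, 10), (.ofNat 1, 14), (.ofNat 2, 15)])) (.far (.ofNat 0) [(.ofNat 121, 4), (.ofNat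
  122, 6), (.ofNat 121, 7), (.ofNat 121, 8), (.ofNat 243, 9), (.ofNat 243, 10), (.ofNat 122, 14), (.ofNat 61, 15)]))
  (.far (.negSucc 12) [(.ofNat 17, 2), (.ofNat 9, 6), (.ofNat 24, 7), (.ofNat 27, 8), (.ofNat 11, 9), (.ofNat 13,
  10), (.ofNat 19, 15)])) (.far (.negSucc 53) [(.ofNat 57, 5), (.ofNat 46, 6), (.ofNat 16, 7), (.negSucc 9, 8),
  (.ofNat 77, 9), (.ofNat 81, 10), (.ofNat 27, 14), (.ofNat 64, 15)])))

/-- a certificate -/
noncomputable def c13 : Hd × Tr :=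
  ((10800, [], []), (.far (.ofNat 3) [(.ofNat 3, 1), (.negSucc 2, 2), (.negSucc 6, 3), (.negSucc 8, 5), (.ofNat 6,
  8), (.negSucc 2, 9), (.negSucc 1, 13)]))

/-- a certificate -/
noncomputable def c14 : Hd × Tr :=
  ((5400, [], [(2, 0)]), (.bf 6 7 (.far (.ofNat 0) [(.negSucc 0, 5), (.ofNat 3, 8), (.ofNat 1, 15)]) (.far (.negSucc
  6) [(.ofNat 7, 1), (.negSucc 6, 2), (.ofNat 7, 4), (.ofNat 17, 5), (.ofNat 14, 6), (.ofNat 14, 7), (.ofNat 17, 8),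
  (.ofNat 20, 9), (.ofNat 27, 10), (.ofNat 7, 14), (.ofNat 17, 15)])))

/-- a certificate -/
noncomputable def c15 : Hd × Tr :=
  ((6048, [], [(2, 0)]), (.far (.ofNat 0) [(.negSucc 3, 2), (.negSucc 3, 7), (.negSucc 8, 8)]))

/-- a certificate -/
noncomputable def c16 : Hd × Tr :=
  ((4800, [], [(2, 0)]), (.bf 6 11 (.bf 6 6 (.far (.ofNat 29) [(.ofNat 31, 1), (.negSucc 2, 2), (.negSucc 28, 3),
  (.negSucc 25, 4), (.negSucc 80, 5), (.negSucc 25, 6), (.ofNat 3, 7), (.negSucc 80, 9), (.negSucc 49, 10), (.ofNat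
  1, 11), (.negSucc 24, 14), (.negSucc 39, 15)]) (.bf 7 1 (.far (.ofNat 0) [(.ofNat 27, 1), (.negSucc 26, 2),
  (.negSucc 26, 8), (.ofNat 27, 10), (.ofNat 13, 11), (.ofNat 13, 14), (.negSucc 13, 15)]) (.far (.ofNat 0) [(.ofNat
  2, 2), (.negSucc 1, 5), (.ofNat 2, 7), (.ofNat 3, 8), (.ofNat 2, 15)]))) (.far (.negSucc 6) [(.ofNat 7, 1),
  (.negSucc 1, 2), (.ofNat 7, 4), (.ofNat 17, 5), (.ofNat 14, 6), (.ofNat 18, 7), (.ofNat 12, 8), (.ofNat 20, 9),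
  (.ofNat 27, 10), (.ofNat 7, 14), (.ofNat 17, 15)])))

/-- a certificate -/
noncomputable def c17 : Hd × Tr :=
  ((3600, [], [(1, 0), (2, 0)]), (.bf 6 13 (.bf 7 3 (.bf 3 21 (.bf 3 9 (.far (.ofNat 194) [(.ofNat 342, 1), (.ofNat
  194, 2), (.ofNat 182, 5), (.ofNat 171, 6), (.ofNat 535, 7), (.ofNat 729, 8), (.negSucc 22, 9), (.ofNat 319, 10),
  (.ofNat 11, 12), (.ofNat 182, 13), (.ofNat 171, 14), (.ofNat 456, 15)]) (.bf 4 0 (.far (.ofNat 146) [(.negSucc 291,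
  1), (.negSucc 145, 6), (.negSucc 291, 7), (.negSucc 2186, 8), (.negSucc 291, 9), (.negSucc 582, 10), (.ofNat 146,
  12), (.negSucc 145, 14), (.negSucc 1165, 15)]) (.far (.negSucc 0) [(.ofNat 1, 1), (.negSucc 0, 2), (.ofNat 1, 6),
  (.ofNat 1, 7), (.ofNat 9, 8), (.ofNat 1, 9), (.ofNat 2, 10), (.ofNat 5, 15)]))) (.far (.negSucc 8) [(.negSucc 36,
  1), (.ofNat 9, 2), (.ofNat 131, 4), (.ofNat 122, 6), (.ofNat 103, 7), (.ofNat 112, 8), (.ofNat 243, 9), (.ofNat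
  215, 10), (.ofNat 112, 14), (.ofNat 56, 15)])) (.far (.negSucc 0) [(.ofNat 1, 1), (.ofNat 4, 2), (.ofNat 1, 4),
  (.ofNat 3, 6), (.ofNat 9, 7), (.ofNat 9, 8), (.ofNat 5, 9), (.ofNat 6, 10), (.ofNat 2, 14), (.ofNat 7, 15)])) (.far
  (.negSucc 6) [(.ofNat 7, 1), (.negSucc 1, 2), (.ofNat 7, 4), (.ofNat 17, 5), (.ofNat 14, 6), (.ofNat 18, 7),
  (.ofNat 12, 8), (.ofNat 20, 9), (.ofNat 27, 10), (.ofNat 7, 14), (.ofNat 17, 15)])))

/-- a certificate -/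
noncomputable def c18 : Hd × Tr :=
  ((6048, [], [(1, 0)]), (.far (.ofNat 0) [(.negSucc 0, 1)]))

/-- a certificate -/
noncomputable def c19 : Hd × Tr :=
  ((3200, [], []), (.far (.ofNat 1) [(.ofNat 1, 5), (.ofNat 1, 6), (.negSucc 0, 10)]))

/-- a certificate -/
noncomputable def c20 : Hd × Tr :=
  ((2400, [], [(1, 0), (2, 0)]), (.bf 6 12 (.bf 7 2 (.bf 3 18 (.bf 4 0 (.bf 1 16 (.bm 11 0 (.far (.ofNat 3) [(.ofNat
  5, 5), (.ofNat 8, 6), (.ofNat 9, 8), (.ofNat 2, 9), (.ofNat 3, 10), (.negSucc 5, 11), (.ofNat 5, 13)]) (.far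
  (.ofNat 32) [(.ofNat 49, 1), (.ofNat 32, 4), (.ofNat 81, 7), (.negSucc 80, 8), (.ofNat 49, 10), (.ofNat 32, 12),
  (.ofNat 57, 14), (.ofNat 57, 11)])) (.far (.ofNat 61) [(.negSucc 77, 2), (.ofNat 139, 5), (.ofNat 43, 6), (.ofNat
  182, 7), (.ofNat 243, 9), (.ofNat 69, 10), (.ofNat 9, 12), (.ofNat 139, 13), (.ofNat 130, 14)])) (.far (.ofNat 0)
  [(.ofNat 20, 1), (.negSucc 19, 2), (.ofNat 81, 8), (.ofNat 20, 10), (.ofNat 10, 11), (.ofNat 10, 14), (.ofNat 40,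
  15)])) (.far (.negSucc 4) [(.negSucc 8, 1), (.negSucc 4, 2), (.ofNat 9, 4), (.ofNat 5, 6), (.ofNat 5, 7), (.ofNat
  27, 9), (.ofNat 13, 10), (.ofNat 9, 14)])) (.far (.negSucc 30) [(.ofNat 3, 1), (.ofNat 41, 2), (.ofNat 11, 4),
  (.ofNat 31, 6), (.ofNat 81, 7), (.ofNat 76, 8), (.ofNat 37, 9), (.ofNat 46, 10), (.ofNat 69, 15)])) (.far (.negSucc
  55) [(.ofNat 5, 1), (.negSucc 28, 2), (.ofNat 20, 4), (.ofNat 76, 5), (.ofNat 56, 6), (.ofNat 42, 7), (.ofNat 8,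
  8), (.ofNat 66, 9), (.ofNat 81, 10), (.ofNat 46, 15)])))

/-- a certificate -/
noncomputable def c21 : Hd × Tr :=
  ((20160, [], []), (.far (.negSucc 0) [(.negSucc 0, 1), (.ofNat 1, 3), (.ofNat 1, 5), (.negSucc 0, 7), (.negSucc 0,
  8), (.ofNat 1, 9)]))

/-- a certificate -/
noncomputable def c22 : Hd × Tr :=
  ((2700, [], []), (.far (.negSucc 0) [(.ofNat 1, 1), (.ofNat 1, 4), (.ofNat 2, 6), (.ofNat 3, 7), (.ofNat 9, 8),
  (.ofNat 3, 9), (.ofNat 4, 10), (.ofNat 1, 14), (.ofNat 5, 15)]))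

/-- certificates -/
noncomputable def CL0 : List (Hd × Tr) :=
  [c0, c1, c2, c3, c4, c5, c6, c7, c8, c9, c10, c11, c12, c13, c14, c15, c16, c17, c18, c19, c20, c21, c22]

theorem okC0 : okL TAB.J2.D (TAB.Sm2.mkRows TAB.J2.A TAB.J2.B) P Z CL0 = true := by decide +kernel

/-- the enumeration -/
theorem lst0 {K : Type} [Group K] [Finite K] (h : In K TAB.J2.D (TAB.Sm2.mkRows TAB.J2.A TAB.J2.B)) :
    Lst K SV :=
  lst_of_enum (E := E) h ok1 (H940.Eng.D.ords_j2 base) (fun _ => List.not_mem_nil) List.mem_cons_self (dv_iff.1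
  (by decide +kernel)) okB1 (l1 := []) rfl (W := [W0].flatten) (by decide +kernel) <| forall_flatten <|
    fa_cons (fun _ h => ⟨_, okD0, h⟩) <| fa_nil

/-- the heads -/
def FL : List Hd :=
  [(28800, [], []), (21600, [], []), (40320, [], []), (9600, [], []), (17280, [], []), (14400, [], []), (8640, [],
  []), (7200, [], []), (5760, [], [(1, 0)]), (2520, [], [(1, 0)]), (5040, [], [(1, 0)]), (4800, [], []), (2520, [],
  []), (10800, [], []), (5400, [], [(2, 0)]), (6048, [], [(2, 0)]), (4800, [], [(2, 0)]), (3600, [], [(1, 0), (2,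
  0)]), (6048, [], [(1, 0)]), (3200, [], []), (2400, [], [(1, 0), (2, 0)]), (20160, [], []), (2700, [], [])]

/-- scripts -/
noncomputable def S0 : List ((ℕ × ℕ) × Ps) :=
  [((168, 21), (.ky 0)), ((168, 28), (.ky 1)), ((360, 15), (.ky 2)), ((504, 21), (.ky 0)), ((504, 28), (.ky 1)),
  ((504, 63), (.ky 3)), ((2520, 15), (.ky 2)), ((2520, 21), (.ky 0)), ((2520, 28), (.ky 1)), ((2520, 35), (.ky 4)),
  ((2520, 42), (.ky 5)), ((2520, 70), (.ky 6)), ((2520, 84), (.ky 7)), ((2520, 105), (.br 1 (.kx 9) (.ky 8))),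
  ((2520, 120), (.br 1 (.kx 9) (.ky 10))), ((2520, 126), (.ky 11)), ((2520, 315), (.kx 12)), ((6048, 21), (.ky 0)),
  ((6048, 28), (.ky 1)), ((6048, 42), (.ky 5)), ((6048, 56), (.ky 13)), ((6048, 63), (.ky 3)), ((6048, 84), (.ky 7)),
  ((6048, 112), (.br 2 (.kx 15) (.ky 14))), ((6048, 126), (.br 2 (.kx 15) (.ky 16))), ((6048, 168), (.br 2 (.kx 15)
  (.br 1 (.kx 18) (.ky 17)))), ((6048, 189), (.ky 19)), ((6048, 252), (.br 2 (.kx 15) (.br 1 (.kx 18) (.ky 20)))),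
  ((20160, 15), (.ky 2)), ((20160, 21), (.ky 0)), ((20160, 28), (.ky 1)), ((20160, 35), (.ky 4)), ((20160, 42), (.ky
  5)), ((20160, 56), (.ky 13)), ((20160, 63), (.ky 3)), ((20160, 70), (.ky 6)), ((20160, 84), (.ky 7)), ((20160,
  105), (.kx 21)), ((20160, 112), (.kx 21)), ((20160, 120), (.kx 21)), ((20160, 126), (.kx 21)), ((20160, 140), (.kx
  21)), ((20160, 168), (.kx 21)), ((20160, 210), (.kx 21)), ((20160, 224), (.ky 22)), ((20160, 280), (.kx 21)),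
  ((20160, 315), (.kx 21)), ((20160, 336), (.kx 21)), ((20160, 420), (.kx 21)), ((20160, 560), (.kx 21)), ((20160,
  672), (.kx 21)), ((20160, 840), (.kx 21)), ((20160, 1120), (.kx 21)), ((20160, 2016), (.kx 21))]

theorem okC : ∀ x ∈ FL, ∃ CL, okL TAB.J2.D (TAB.Sm2.mkRows TAB.J2.A TAB.J2.B) P Z CL = true ∧ x ∈ CL.map Prod.fst := by
  rw [show FL = [CL0.map Prod.fst].flatten by decide +kernel]
  exact forall_flatten <| fa_cons (fun _ h => ⟨_, okC0, h⟩) <| fa_nil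

/-- **the list** -/
theorem lst {K : Type} [Group K] [Finite K] (h : In K TAB.J2.D (TAB.Sm2.mkRows TAB.J2.A TAB.J2.B)) :
    Lst K L :=
  lst_of_cert h (lst0 h) (l := E.l) (by decide +kernel) (SG := [1, 2]) (by decide +kernel) okC (SS := [S0].flatten)
  (by decide +kernel) (by decide +kernel)

end Cfsg.Agent.SM.Sp.NJ2
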