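import Cfsg.Agent.SM.Sp.Enum
import Cfsg.Agent.TH.Spor.J3Tab

/-!
# SM (S3570), sporadic socles: J3 (helper26; generated by notes/SM/sp26/gen2.py.txt)
-/

set_option autoImplicit false
set_option Elab.async false

namespace Cfsg.Agent.SM.Sp.NJ3

open Cfsg Cfsg.Agent.TAB.Eng Cfsg.Agent.H940.Eng Cfsg.Agent.TH.Spor

/-- local data -/
def loc : List LD :=
  [⟨19, 19, [(3, 2), (19, 1)]⟩, ⟨17, 17, [(2, 3), (17, 1)]⟩, ⟨5, 60, [(2, 2), (3, 1), (5, 1)]⟩]

/-- the pairs which remain -/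
def L : List (ℕ × ℕ) :=
  []

/-- the candidates -/
def SV : List (ℕ × ℕ) :=
  []

/-- the data -/
def E : Ed :=
  ⟨50232960, [(19, 1), (17, 1), (5, 1), (3, 5), (2, 7)], H940.Eng.D.o_j3, loc, 85, [], [], [60, 360, 2448, 3420,
  4080, 25920], SV⟩

theorem ok1 : okEd TH.Spor.J3.dat TH.Spor.J3.tab E = true := by decide +kernel

theorem okB1 : okB E ⟨19, 19, [(3, 2), (19, 1)]⟩ = true := by decide +kernel

/-- pieces -/
def W0 : List (ℕ × ℕ) :=
  [(3420, 1)]

theorem okD0 : okD E [(19, 1), (17, 1), (5, 1), (3, 5), (2, 7)] W0 = true := by decide +kernel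

/-- the enumeration -/
theorem lst0 {K : Type} [Group K] [Finite K] (h : In K TH.Spor.J3.dat TH.Spor.J3.tab) :
    Lst K SV :=
  lst_of_enum (E := E) h ok1 (H940.Eng.D.ords_j3 base) (fun _ => List.not_mem_nil) List.mem_cons_self (dv_iff.1
  (by decide +kernel)) okB1 (l1 := []) rfl (W := [W0].flatten) (by decide +kernel) <| forall_flatten <|
    fa_cons (fun _ h => ⟨_, okD0, h⟩) <| fa_nil

end Cfsg.Agent.SM.Sp.NJ3
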