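import Cfsg.Agent.SM.Sp.Enum
import Cfsg.Agent.TAB.Ly.Dat

/-!
# SM (S3570), sporadic socles: Ly (helper26; generated by notes/SM/sp26/gen2.py.txt)
-/

set_option autoImplicit false
set_option Elab.async false

namespace Cfsg.Agent.SM.Sp.NLy

open Cfsg Cfsg.Agent.TAB.Eng Cfsg.Agent.H940.Eng Cfsg.Agent.TH.Spor

/-- local data -/
def loc : List LD :=
  [⟨67, 67, [(2, 1), (11, 1), (67, 1)]⟩, ⟨37, 37, [(2, 1), (3, 2), (37, 1)]⟩, ⟨31, 31, [(2, 1), (3, 1), (31, 1)]⟩,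
  ⟨11, 66, [(2, 1), (3, 1), (5, 1), (11, 1)]⟩, ⟨7, 1008, [(2, 4), (3, 2), (7, 1)]⟩]

/-- the pairs which remain -/
def L : List (ℕ × ℕ) :=
  []

/-- the candidates -/
def SV : List (ℕ × ℕ) :=
  []

/-- the data -/
def E : Ed :=
  ⟨51765179004000000, [(67, 1), (37, 1), (31, 1), (11, 1), (7, 1), (5, 6), (3, 7), (2, 8)], H940.Eng.D.o_ly, loc,
  2480, [], [], [60, 168, 360, 504, 660, 2520, 6048, 7920, 20160, 25920, 32736, 95040, 126000, 181440, 372000,
  443520, 604800, 1814400, 3265920, 19958400, 898128000, 5859000000], SV⟩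

theorem ok1 : okEd TAB.Ly.dat TAB.Ly.tb E = true := by decide +kernel

theorem okB1 : okB E ⟨67, 67, [(2, 1), (11, 1), (67, 1)]⟩ = true := by decide +kernel

/-- the enumeration -/
theorem lst0 {K : Type} [Group K] [Finite K] (h : In K TAB.Ly.dat TAB.Ly.tb) :
    Lst K SV :=
  lst_of_enum (E := E) h ok1 (H940.Eng.D.ords_ly base) (fun _ => List.not_mem_nil) List.mem_cons_self (dv_iff.1
  (by decide +kernel)) okB1 (l1 := []) rfl (W := [].flatten) (by decide +kernel) <| forall_flatten <|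
    fa_nil

end Cfsg.Agent.SM.Sp.NLy
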