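import Cfsg.Agent.SM.Sp.Enum
import Cfsg.Agent.TAB.M.Virt

/-!
# SM (S3570), sporadic socles: M (helper26; generated by notes/SM/sp26/gen2.py.txt)
-/

set_option autoImplicit false
set_option Elab.async false

namespace Cfsg.Agent.SM.Sp.NM

open Cfsg Cfsg.Agent.TAB.Eng Cfsg.Agent.H940.Eng Cfsg.Agent.TH.Spor

/-- local data -/
def loc : List LD :=
  [⟨71, 71, [(5, 1), (7, 1), (71, 1)]⟩, ⟨59, 59, [(29, 1), (59, 1)]⟩, ⟨47, 94, [(2, 1), (23, 1), (47, 1)]⟩, ⟨41, 41,
  [(2, 3), (5, 1), (41, 1)]⟩, ⟨31, 558, [(2, 1), (3, 2), (5, 1), (31, 1)]⟩, ⟨29, 87, [(2, 2), (3, 1), (7, 1), (29,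
  1)]⟩, ⟨23, 552, [(2, 3), (3, 1), (11, 1), (23, 1)]⟩, ⟨19, 20520, [(2, 3), (3, 3), (5, 1), (19, 1)]⟩, ⟨17, 45696,
  [(2, 7), (3, 1), (7, 1), (17, 1)]⟩]

/-- the pairs which remain -/
def L : List (ℕ × ℕ) :=
  []

/-- the candidates -/
def SV : List (ℕ × ℕ) :=
  []

/-- the data -/
def E : Ed :=
  ⟨808017424794512875886459904961710757005754368000000000, [(71, 1), (59, 1), (47, 1), (41, 1), (31, 1), (29, 1),
  (23, 1), (19, 1), (17, 1), (13, 3), (11, 2), (7, 6), (5, 9), (3, 20), (2, 46)], H940.Eng.D.o_m, loc, 196883, [],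
  [], [60, 168, 360, 504, 660, 1092, 2448, 2520, 3420, 4080, 5616, 6048, 6072, 7800, 7920, 9828, 12180, 14880, 20160,
  25920, 29120, 32736, 34440, 51888, 58800, 62400, 95040, 102660, 126000, 175560, 178920, 181440, 262080, 265680,
  372000, 443520, 604800, 979200, 1451520, 1814400, 1876896, 3265920, 4245696, 4680000, 5515776, 6065280, 9999360,
  10200960, 13685760, 17971200, 19958400, 32537600, 42456960, 44352000, 50232960, 138297600, 174182400, 197406720,
  211341312, 239500800, 244823040, 251596800, 898128000, 987033600, 1018368000, 1056706560, 1425715200, 1721606400,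
  3113510400, 4030387200, 4585351680, 5859000000, 7254000000, 9196830720, 14742000000, 20158709760, 43589145600,
  47377612800, 145926144000, 237783237120, 448345497600, 460815505920, 495766656000, 653837184000, 2317591180800,
  4106059776000, 4952179814400, 10151968619520, 10461394944000, 23499295948800, 25015379558400, 34693789777920,
  42305421312000, 50759843097600, 53443952640000, 64561751654400, 177843714048000, 273030912000000, 3201186852864000,
  3311126603366400, 21032402889738240, 24815256521932800, 60822550204416000, 65784756654489600, 90745943887872000,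
  1216451004088320000, 4089470473293004800, 4157776806543360000, 25545471085854720000, 50027557148216524800,
  51615733565620224000, 562000363888803840000, 1120527288631296000000, 12926008369442488320000,
  76532479683774853939200, 310224200866619719680000, 1255205709190661721292800, 7755605021665492992000000,
  201645730563302817792000000, 5444434725209176080384000000, 4420880996869850977271808000000,
  132626429906095529318154240000000, 4111419327088961408862781440000000, 4154781481226426191177580544000000], SV⟩

theorem ok1 : okEd TAB.M.dat TAB.M.tabM E = true := by decide +kernel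

theorem okB1 : okB E ⟨71, 71, [(5, 1), (7, 1), (71, 1)]⟩ = true := by decide +kernel

/-- pieces -/
def W0 : List (ℕ × ℕ) :=
  [(178920, 1)]

theorem okD0 : okD E [(71, 1), (59, 1), (47, 1), (41, 1), (31, 1), (29, 1), (23, 1), (19, 1), (17, 1), (13, 3), (11, 2), (7, 6), (5, 9), (3, 20), (2, 46)] W0 = true := by decide +kernel

/-- the enumeration -/
theorem lst0 {K : Type} [Group K] [Finite K] (h : In K TAB.M.dat TAB.M.tabM) :
    Lst K SV :=
  lst_of_enum (E := E) h ok1 (H940.Eng.D.ords_m base) (fun _ => List.not_mem_nil) List.mem_cons_self (dv_iff.1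
  (by decide +kernel)) okB1 (l1 := []) rfl (W := [W0].flatten) (by decide +kernel) <| forall_flatten <|
    fa_cons (fun _ h => ⟨_, okD0, h⟩) <| fa_nil

end Cfsg.Agent.SM.Sp.NM
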