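import Cfsg.Agent.SM.Sp.Enum
import Cfsg.Agent.TAB.McL.Main

/-!
# SM (S3570), sporadic socles: McL (helper26; generated by notes/SM/sp26/gen2.py.txt)
-/

set_option autoImplicit false
set_option Elab.async false

namespace Cfsg.Agent.SM.Sp.NMcL

open Cfsg Cfsg.Agent.TAB.Eng Cfsg.Agent.H940.Eng Cfsg.Agent.TH.Spor

/-- local data -/
def loc : List LD :=
  [⟨11, 11, [(5, 1), (11, 1)]⟩, ⟨7, 14, [(2, 1), (3, 1), (7, 1)]⟩]

/-- the pairs which remain -/
def L : List (ℕ × ℕ) :=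
  []

/-- the candidates -/
def SV : List (ℕ × ℕ) :=
  [(360, 45), (2520, 45), (20160, 45), (25920, 45), (95040, 1485), (181440, 45), (443520, 77), (443520, 154),
  (443520, 231), (443520, 308), (443520, 385), (443520, 462), (443520, 616), (443520, 693), (443520, 770), (443520,
  924), (443520, 1155), (443520, 1232), (443520, 1386), (443520, 1540), (443520, 1848), (443520, 2310), (443520,
  2464), (443520, 2772), (443520, 3080), (443520, 3465), (443520, 3696), (443520, 4620), (443520, 4928), (443520,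
  6160), (443520, 7392), (443520, 9240), (443520, 9856), (443520, 12320), (443520, 14784), (443520, 18480), (443520,
  22176), (443520, 24640), (604800, 5600), (19958400, 45), (19958400, 77), (19958400, 154), (19958400, 231),
  (19958400, 308), (19958400, 385), (19958400, 462), (19958400, 616), (19958400, 693), (19958400, 770), (19958400,
  924), (19958400, 1155), (19958400, 1232), (19958400, 1386), (19958400, 1540), (19958400, 1848), (19958400, 1925),
  (19958400, 2079), (19958400, 2310), (19958400, 2464), (19958400, 2772), (19958400, 3080), (19958400, 3465),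
  (19958400, 3696), (19958400, 3850), (19958400, 4158), (19958400, 4620), (19958400, 4928), (19958400, 4950),
  (19958400, 5544), (19958400, 5775), (19958400, 6160), (19958400, 6237), (19958400, 6930), (19958400, 7392),
  (19958400, 7700), (19958400, 8316), (19958400, 9240), (19958400, 9856), (19958400, 10395), (19958400, 11088),
  (19958400, 11550), (19958400, 12320), (19958400, 12474), (19958400, 13860), (19958400, 14784), (19958400, 15400),
  (19958400, 16632), (19958400, 17325), (19958400, 18480), (19958400, 20790), (19958400, 22176), (19958400, 22275),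
  (19958400, 23100), (19958400, 24640), (19958400, 24948), (19958400, 27720), (19958400, 30800), (19958400, 31185),
  (19958400, 33264), (19958400, 34650), (19958400, 36960), (19958400, 41580), (19958400, 44352), (19958400, 44550),
  (19958400, 46200), (19958400, 49896), (19958400, 51975), (19958400, 55440), (19958400, 61600), (19958400, 62370),
  (19958400, 66528), (19958400, 69300), (19958400, 73920), (19958400, 83160), (19958400, 92400), (19958400, 103950),
  (19958400, 110880), (19958400, 124740), (19958400, 133056), (19958400, 138600), (19958400, 155925), (19958400,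
  166320), (19958400, 178200), (19958400, 184800), (19958400, 207900), (19958400, 221760), (19958400, 246400),
  (19958400, 277200), (19958400, 332640), (19958400, 415800), (19958400, 554400), (19958400, 665280), (19958400,
  831600)]

/-- the data -/
def E : Ed :=
  ⟨898128000, [(11, 1), (7, 1), (5, 3), (3, 6), (2, 7)], H940.Eng.D.o_mcl, loc, 22, [], [(11, 13), (7, 9), (2, 1)],
  [60, 168, 360, 504, 660, 2520, 6048, 7920, 20160, 25920, 95040, 126000, 181440, 443520, 604800, 3265920, 19958400],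
  SV⟩

theorem ok1 : okEd TAB.McL.D TAB.McL.RR E = true := by decide +kernel

/-- the types of prime order -/
def P : List (ℕ × ℕ × ℕ) :=
  [(11, 13, 163296000), (7, 9, 128304000), (5, 5, 1197504), (5, 6, 35925120), (3, 2, 30800), (3, 3, 924000), (2, 1,
  22275)]

/-- the types -/
def Z : List Ze :=
  [(1, 2, 22275, [1]), (2, 3, 30800, [2]), (3, 3, 924000, [3]), (4, 4, 9355500, [1]), (5, 5, 1197504, [5]), (6, 5,
  35925120, [6]), (7, 6, 2494800, [2, 1]), (8, 6, 24948000, [3, 1]), (9, 7, 128304000, [9]), (10, 8, 112266000, [1]),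
  (11, 9, 66528000, [2]), (12, 10, 29937600, [5, 1]), (13, 11, 163296000, [13]), (14, 12, 74844000, [2, 1]), (15, 14,
  128304000, [9, 1]), (16, 15, 59875200, [5, 2]), (17, 30, 59875200, [5, 2, 1])]

theorem okB1 : okB E ⟨11, 11, [(5, 1), (11, 1)]⟩ = true := by decide +kernel

/-- pieces -/
def W0 : List (ℕ × ℕ) :=
  [(660, 1), (660, 11), (7920, 1), (7920, 11), (95040, 1), (95040, 11), (443520, 1), (443520, 7), (443520, 11),
  (443520, 77), (19958400, 1), (19958400, 7)]

theorem okD0 : okD E [(5, 3), (3, 6), (2, 7)] W0 = true := by decide +kernel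

/-- pieces -/
def W1 : List (ℕ × ℕ) :=
  [(19958400, 11), (19958400, 77)]

theorem okD1 : okD E [(5, 3), (3, 6), (2, 7)] W1 = true := by decide +kernel

/-- a certificate -/
noncomputable def c0 : Hd × Tr :=
  ((19958400, [], []), (.far (.negSucc 8) [(.negSucc 4, 2), (.negSucc 2, 3), (.ofNat 9, 5), (.ofNat 4, 6), (.ofNat 5,
  7), (.ofNat 8, 8), (.ofNat 2, 12), (.ofNat 1, 13), (.negSucc 1, 14), (.negSucc 2, 15)]))

/-- a certificate -/
noncomputable def c1 : Hd × Tr :=
  ((604800, [], []), (.far (.negSucc 94) [(.negSucc 94, 4), (.negSucc 1045, 5), (.negSucc 1045, 6), (.negSucc 1140,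
  7), (.negSucc 1140, 8), (.negSucc 1045, 9), (.negSucc 1140, 10), (.negSucc 2091, 11), (.negSucc 1520, 14),
  (.negSucc 1615, 15), (.negSucc 1948, 16), (.negSucc 2186, 17)]))

/-- a certificate -/
noncomputable def c2 : Hd × Tr :=
  ((11664000, [], []), (.far (.ofNat 3) [(.negSucc 2, 6), (.negSucc 2, 7), (.ofNat 1, 14)]))

/-- a certificate -/
noncomputable def c3 : Hd × Tr :=
  ((5832000, [], []), (.far (.ofNat 9) [(.negSucc 8, 6), (.negSucc 8, 7), (.ofNat 4, 14)]))

/-- a certificate -/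
noncomputable def c4 : Hd × Tr :=
  ((3888000, [], []), (.far (.ofNat 9) [(.negSucc 8, 6), (.negSucc 8, 7), (.ofNat 4, 14)]))

/-- a certificate -/
noncomputable def c5 : Hd × Tr :=
  ((2916000, [], []), (.far (.ofNat 9) [(.negSucc 8, 6), (.negSucc 8, 7), (.ofNat 4, 14)]))

/-- a certificate -/
noncomputable def c6 : Hd × Tr :=
  ((2332800, [], []), (.far (.ofNat 9) [(.negSucc 8, 6), (.negSucc 8, 7), (.ofNat 4, 14)]))

/-- a certificate -/
noncomputable def c7 : Hd × Tr :=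
  ((1944000, [], []), (.far (.ofNat 9) [(.negSucc 8, 6), (.negSucc 8, 7), (.ofNat 4, 14)]))

/-- a certificate -/
noncomputable def c8 : Hd × Tr :=
  ((1458000, [], []), (.far (.ofNat 9) [(.negSucc 8, 6), (.negSucc 8, 7), (.ofNat 4, 14)]))

/-- a certificate -/
noncomputable def c9 : Hd × Tr :=
  ((1296000, [], []), (.far (.ofNat 9) [(.negSucc 8, 6), (.negSucc 8, 7), (.ofNat 4, 14)]))

/-- a certificate -/
noncomputable def c10 : Hd × Tr :=
  ((1166400, [], []), (.far (.ofNat 9) [(.negSucc 8, 6), (.negSucc 8, 7), (.ofNat 4, 14)]))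

/-- a certificate -/
noncomputable def c11 : Hd × Tr :=
  ((972000, [], []), (.far (.ofNat 9) [(.negSucc 8, 6), (.negSucc 8, 7), (.ofNat 4, 14)]))

/-- a certificate -/
noncomputable def c12 : Hd × Tr :=
  ((777600, [], []), (.far (.ofNat 27) [(.negSucc 26, 6), (.negSucc 26, 7), (.ofNat 13, 14)]))

/-- a certificate -/
noncomputable def c13 : Hd × Tr :=
  ((729000, [], []), (.far (.ofNat 27) [(.negSucc 26, 6), (.negSucc 26, 7), (.ofNat 13, 14)]))

/-- a certificate -/
noncomputable def c14 : Hd × Tr :=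
  ((648000, [], []), (.far (.ofNat 27) [(.negSucc 26, 6), (.negSucc 26, 7), (.ofNat 13, 14)]))

/-- a certificate -/
noncomputable def c15 : Hd × Tr :=
  ((583200, [], []), (.far (.ofNat 27) [(.negSucc 26, 6), (.negSucc 26, 7), (.ofNat 13, 14)]))

/-- a certificate -/
noncomputable def c16 : Hd × Tr :=
  ((486000, [], []), (.far (.ofNat 27) [(.negSucc 26, 6), (.negSucc 26, 7), (.ofNat 13, 14)]))

/-- a certificate -/
noncomputable def c17 : Hd × Tr :=
  ((388800, [], []), (.far (.ofNat 27) [(.negSucc 26, 6), (.negSucc 26, 7), (.ofNat 13, 14)]))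

/-- a certificate -/
noncomputable def c18 : Hd × Tr :=
  ((364500, [], []), (.far (.ofNat 27) [(.negSucc 26, 6), (.negSucc 26, 7), (.ofNat 13, 14)]))

/-- a certificate -/
noncomputable def c19 : Hd × Tr :=
  ((324000, [], []), (.far (.ofNat 27) [(.negSucc 26, 6), (.negSucc 26, 7), (.ofNat 13, 14)]))

/-- a certificate -/
noncomputable def c20 : Hd × Tr :=
  ((291600, [], []), (.far (.ofNat 27) [(.negSucc 26, 6), (.negSucc 26, 7), (.ofNat 13, 14)]))

/-- a certificate -/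
noncomputable def c21 : Hd × Tr :=
  ((259200, [], []), (.far (.ofNat 27) [(.negSucc 26, 6), (.negSucc 26, 7), (.ofNat 13, 14)]))

/-- a certificate -/
noncomputable def c22 : Hd × Tr :=
  ((243000, [], []), (.far (.ofNat 99) [(.ofNat 77, 5), (.negSucc 85, 7), (.ofNat 70, 8), (.ofNat 77, 9), (.ofNat 99,
  10), (.ofNat 125, 11), (.ofNat 29, 12), (.ofNat 237, 14), (.ofNat 141, 15), (.ofNat 243, 16), (.ofNat 176, 17)]))

/-- a certificate -/
noncomputable def c23 : Hd × Tr :=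
  ((194400, [], [(3, 0)]), (.far (.ofNat 14) [(.negSucc 15, 3), (.ofNat 8, 4), (.ofNat 6, 8), (.negSucc 23, 9),
  (.negSucc 9, 10), (.ofNat 8, 12), (.ofNat 27, 14), (.ofNat 3, 15), (.ofNat 6, 17)]))

/-- a certificate -/
noncomputable def c24 : Hd × Tr :=
  ((443520, [], [(3, 0)]), (.far (.negSucc 10) [(.negSucc 13, 3), (.ofNat 11, 5), (.ofNat 11, 6), (.negSucc 15, 9),
  (.negSucc 26, 10), (.negSucc 23, 11), (.negSucc 2, 14), (.negSucc 13, 15), (.negSucc 12, 16), (.negSucc 1, 17)]))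

/-- a certificate -/
noncomputable def c25 : Hd × Tr :=
  ((182250, [], []), (.far (.ofNat 0) [(.ofNat 1, 14)]))

/-- a certificate -/
noncomputable def c26 : Hd × Tr :=
  ((145800, [], [(3, 0)]), (.far (.ofNat 49) [(.negSucc 20, 3), (.ofNat 5, 4), (.ofNat 9, 5), (.ofNat 40, 8), (.ofNat
  40, 10), (.ofNat 28, 11), (.ofNat 9, 12), (.ofNat 81, 14), (.ofNat 50, 15), (.ofNat 58, 16), (.ofNat 70, 17)]))

/-- a certificate -/
noncomputable def c27 : Hd × Tr :=
  ((121500, [], [(3, 0)]), (.far (.ofNat 134) [(.negSucc 108, 3), (.ofNat 55, 5), (.ofNat 134, 8), (.ofNat 79, 10),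
  (.negSucc 54, 11), (.ofNat 185, 14), (.ofNat 121, 15), (.ofNat 134, 16), (.ofNat 243, 17)]))

/-- a certificate -/
noncomputable def c28 : Hd × Tr :=
  ((97200, [], [(1, 0), (3, 0)]), (.bf 5 5 (.bf 6 0 (.bf 2 0 (.far (.ofNat 2) [(.negSucc 2, 1), (.ofNat 1, 2),
  (.ofNat 1, 14)]) (.far (.ofNat 1727) [(.negSucc 284, 3), (.ofNat 856, 4), (.ofNat 1490, 5), (.ofNat 1347, 8),
  (.ofNat 1442, 11), (.ofNat 380, 12), (.ofNat 1918, 14), (.ofNat 1101, 15), (.ofNat 2187, 16), (.ofNat 1775, 17)]))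
  (.far (.ofNat 24) [(.negSucc 3, 1), (.negSucc 26, 3), (.ofNat 8, 4), (.ofNat 3, 5), (.negSucc 2, 11), (.ofNat 3,
  12), (.ofNat 13, 14), (.negSucc 2, 16)])) (.far (.ofNat 134) [(.negSucc 108, 3), (.ofNat 119, 4), (.ofNat 134, 5),
  (.ofNat 121, 8), (.ofNat 151, 11), (.ofNat 13, 12), (.ofNat 235, 14), (.ofNat 89, 15), (.ofNat 155, 16), (.ofNat
  243, 17)])))

/-- a certificate -/
noncomputable def c29 : Hd × Tr :=
  ((443520, [], [(1, 0)]), (.far (.negSucc 26) [(.negSucc 26, 1), (.ofNat 27, 5), (.ofNat 27, 6), (.ofNat 27, 7),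
  (.ofNat 27, 8), (.negSucc 12, 14), (.negSucc 13, 15)]))

/-- a certificate -/
noncomputable def c30 : Hd × Tr :=
  ((91125, [], []), (.far (.ofNat 3) [(.ofNat 1, 7), (.ofNat 2, 9), (.ofNat 1, 12), (.ofNat 1, 16), (.ofNat 2, 17)]))

/-- a certificate -/
noncomputable def c31 : Hd × Tr :=
  ((72900, [], [(1, 0), (3, 0)]), (.bf 5 10 (.bf 6 0 (.far (.ofNat 7) [(.ofNat 2, 3), (.ofNat 2, 4), (.ofNat 7, 5),
  (.ofNat 9, 8), (.ofNat 1, 13), (.ofNat 2, 15), (.ofNat 9, 16), (.ofNat 7, 17)]) (.far (.negSucc 0) [(.negSucc 0,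
  1), (.negSucc 0, 3), (.ofNat 1, 14)])) (.far (.ofNat 13) [(.ofNat 13, 1), (.negSucc 13, 3), (.ofNat 6, 4), (.ofNat
  21, 14), (.ofNat 17, 15), (.ofNat 14, 16), (.ofNat 27, 17)])))

/-- a certificate -/
noncomputable def c32 : Hd × Tr :=
  ((60750, [], []), (.far (.ofNat 0) [(.ofNat 1, 14)]))

/-- a certificate -/
noncomputable def c33 : Hd × Tr :=
  ((48600, [], [(1, 0), (3, 0), (4, 0)]), (.bf 5 30 (.bf 6 0 (.bf 2 129 (.bf 3 33 (.bf 1 112 (.bm 13 1 (.bm 5 0 (.bm
  6 1 (.bm 6 0 (.far (.ofNat 65) [(.negSucc 60, 1), (.negSucc 64, 3), (.ofNat 61, 4), (.ofNat 45, 5), (.negSucc 21,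
  13), (.ofNat 36, 14), (.ofNat 4, 15), (.ofNat 4, 17), (.negSucc 80, 6)]) (.bm 7 0 (.bm 8 0 (.bm 9 1 (.bm 9 0 (.far
  (.ofNat 27) [(.ofNat 3, 1), (.ofNat 5, 2), (.negSucc 1, 3), (.ofNat 8, 4), (.ofNat 6, 5), (.negSucc 6, 6), (.ofNat
  20, 8), (.ofNat 1, 12), (.ofNat 7, 14), (.ofNat 9, 16), (.ofNat 6, 17), (.negSucc 19, 9)]) (.bm 10 0 (.bm 14 0 (.bm
  15 0 (.bm 11 0 (.far (.negSucc 80) [(.ofNat 17, 3), (.negSucc 16, 4), (.ofNat 30, 5), (.ofNat 70, 6), (.negSucc 10,
  8), (.ofNat 28, 9), (.negSucc 12, 10), (.negSucc 19, 14), (.negSucc 11, 15), (.ofNat 40, 16), (.negSucc 11, 11)])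
  (.bf 5 5 (.far (.negSucc 13) [(.negSucc 1, 1), (.negSucc 8, 3), (.negSucc 3, 4), (.negSucc 6, 5), (.ofNat 14, 6),
  (.ofNat 27, 9), (.ofNat 4, 11), (.ofNat 1, 12), (.ofNat 4, 14), (.ofNat 7, 15)]) (.far (.ofNat 0) [(.ofNat 13, 3),
  (.negSucc 2, 4), (.ofNat 22, 5), (.ofNat 8, 6), (.ofNat 27, 8), (.negSucc 13, 9), (.negSucc 26, 10), (.ofNat 5,
  12), (.ofNat 12, 13), (.negSucc 0, 14), (.negSucc 7, 15), (.ofNat 5, 17)]))) (.far (.ofNat 0) [(.ofNat 27, 1),
  (.negSucc 26, 5), (.negSucc 26, 8), (.ofNat 13, 15)])) (.far (.ofNat 9) [(.negSucc 8, 6), (.negSucc 8, 7), (.ofNat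
  4, 14)])) (.far (.negSucc 80) [(.negSucc 33, 1), (.negSucc 12, 3), (.negSucc 33, 4), (.ofNat 47, 6), (.ofNat 34,
  9), (.ofNat 32, 14), (.ofNat 13, 17), (.ofNat 34, 10)]))) (.far (.negSucc 2) [(.ofNat 3, 3), (.negSucc 2, 4),
  (.negSucc 2, 7), (.ofNat 1, 13), (.ofNat 3, 9)])) (.far (.negSucc 10) [(.negSucc 7, 1), (.ofNat 11, 3), (.negSucc
  5, 4), (.ofNat 17, 5), (.ofNat 20, 6), (.ofNat 5, 13), (.ofNat 2, 14), (.ofNat 19, 16), (.ofNat 7, 17), (.ofNat 27,
  8)])) (.far (.negSucc 8) [(.negSucc 0, 1), (.negSucc 0, 3), (.negSucc 1, 4), (.negSucc 0, 5), (.ofNat 8, 6),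
  (.ofNat 1, 10), (.ofNat 1, 12), (.ofNat 1, 15), (.ofNat 1, 17), (.ofNat 6, 7)]))) (.far (.negSucc 1) [(.ofNat 1,
  5), (.ofNat 1, 7), (.ofNat 1, 8), (.ofNat 2, 16), (.ofNat 1, 17), (.ofNat 3, 6)])) (.far (.ofNat 1) [(.negSucc 1,
  1), (.ofNat 1, 4), (.ofNat 3, 8), (.ofNat 1, 11), (.ofNat 1, 14), (.ofNat 2, 16), (.ofNat 1, 17), (.ofNat 3, 5)]))
  (.far (.negSucc 15) [(.negSucc 1, 1), (.ofNat 7, 2), (.ofNat 24, 3), (.ofNat 11, 4), (.ofNat 27, 8), (.ofNat 11,
  12), (.ofNat 6, 15), (.ofNat 23, 16), (.ofNat 12, 17), (.ofNat 23, 13)])) (.far (.ofNat 20) [(.negSucc 62, 1),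
  (.negSucc 19, 3), (.negSucc 13, 4), (.ofNat 54, 5), (.ofNat 81, 8), (.ofNat 30, 10), (.ofNat 2, 12), (.ofNat 51,
  14), (.ofNat 34, 16), (.ofNat 40, 17)])) (.far (.negSucc 0) [(.negSucc 0, 1), (.negSucc 0, 3), (.negSucc 0, 4)]))
  (.far (.ofNat 122) [(.negSucc 546, 1), (.negSucc 121, 3), (.ofNat 425, 4), (.ofNat 668, 5), (.ofNat 486, 8),
  (.ofNat 182, 12), (.ofNat 304, 14), (.ofNat 729, 16), (.ofNat 243, 17)])) (.far (.negSucc 0) [(.negSucc 0, 1),
  (.negSucc 0, 3), (.ofNat 1, 14)])) (.far (.ofNat 17) [(.negSucc 63, 1), (.negSucc 34, 3), (.ofNat 3, 4), (.ofNat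
  81, 5), (.ofNat 77, 8), (.ofNat 4, 12), (.ofNat 61, 14), (.ofNat 21, 16), (.ofNat 52, 17)])))

/-- a certificate -/
noncomputable def c34 : Hd × Tr :=
  ((443520, [], [(4, 0)]), (.far (.negSucc 13) [(.negSucc 5, 4), (.negSucc 11, 7), (.negSucc 7, 8), (.negSucc 12, 9),
  (.negSucc 26, 10), (.negSucc 18, 11), (.ofNat 3, 13), (.negSucc 12, 14), (.negSucc 22, 15), (.negSucc 26, 16),
  (.negSucc 20, 17)]))

/-- a certificate -/
noncomputable def c35 : Hd × Tr :=
  ((40500, [], [(1, 0), (3, 0), (4, 0)]), (.bf 6 1 (.bf 1 0 (.far (.ofNat 1) [(.negSucc 0, 1), (.negSucc 0, 4),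
  (.ofNat 1, 12)]) (.far (.negSucc 9) [(.negSucc 21, 1), (.negSucc 15, 3), (.negSucc 15, 4), (.ofNat 12, 8), (.ofNat
  12, 10), (.ofNat 27, 14), (.ofNat 9, 16), (.ofNat 6, 17)])) (.far (.negSucc 0) [(.negSucc 0, 1), (.negSucc 0,
  3)])))

/-- a certificate -/
noncomputable def c36 : Hd × Tr :=
  ((36450, [], [(1, 0), (3, 0), (4, 0)]), (.bf 5 25 (.bf 6 0 (.bf 2 76 (.bf 1 0 (.far (.ofNat 3) [(.negSucc 0, 1),
  (.negSucc 0, 4), (.ofNat 2, 8), (.ofNat 1, 12)]) (.far (.ofNat 0) [(.ofNat 1, 14)])) (.far (.ofNat 13122)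
  [(.negSucc 2186, 1), (.ofNat 13122, 3), (.ofNat 2187, 4), (.ofNat 15309, 5), (.ofNat 14215, 8), (.ofNat 1093, 12),
  (.ofNat 8748, 14), (.ofNat 19683, 16)])) (.far (.negSucc 0) [(.negSucc 0, 1), (.negSucc 0, 3), (.negSucc 0, 4)]))
  (.far (.ofNat 0) [(.ofNat 1, 14)])))

/-- a certificate -/
noncomputable def c37 : Hd × Tr :=
  ((466560, [], []), (.far (.ofNat 27) [(.negSucc 26, 6), (.negSucc 26, 7), (.ofNat 13, 14)]))

/-- a certificate -/
noncomputable def c38 : Hd × Tr :=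
  ((432000, [], []), (.far (.ofNat 27) [(.negSucc 26, 6), (.negSucc 26, 7), (.ofNat 13, 14)]))

/-- a certificate -/
noncomputable def c39 : Hd × Tr :=
  ((233280, [], []), (.far (.ofNat 99) [(.ofNat 77, 5), (.negSucc 85, 7), (.ofNat 70, 8), (.ofNat 77, 9), (.ofNat 99,
  10), (.ofNat 125, 11), (.ofNat 29, 12), (.ofNat 237, 14), (.ofNat 141, 15), (.ofNat 243, 16), (.ofNat 176, 17)]))

/-- a certificate -/
noncomputable def c40 : Hd × Tr :=
  ((216000, [], []), (.far (.ofNat 5) [(.ofNat 17, 5), (.negSucc 18, 7), (.negSucc 0, 8), (.negSucc 11, 10), (.ofNat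
  11, 11), (.ofNat 6, 12), (.ofNat 27, 14), (.ofNat 6, 15), (.ofNat 20, 16), (.ofNat 5, 17)]))

/-- certificates -/
noncomputable def CL0 : List (Hd × Tr) :=
  [c0, c1, c2, c3, c4, c5, c6, c7, c8, c9, c10, c11, c12, c13, c14, c15, c16, c17, c18, c19, c20, c21, c22, c23, c24,
  c25, c26, c27, c28, c29, c30, c31, c32, c33, c34, c35, c36, c37, c38, c39, c40]

theorem okC0 : okL TAB.McL.D TAB.McL.RR P Z CL0 = true := by decide +kernel

/-- the enumeration -/
theorem lst0 {K : Type} [Group K] [Finite K] (h : In K TAB.McL.D TAB.McL.RR) :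
    Lst K SV :=
  lst_of_enum (E := E) h ok1 (H940.Eng.D.ords_mcl base) (fun _ => List.not_mem_nil) List.mem_cons_self (dv_iff.1
  (by decide +kernel)) okB1 (l1 := [(11, 1), (7, 1)]) rfl (W := [W0, W1].flatten) (by decide +kernel) <|
  forall_flatten <|
    fa_cons (fun _ h => ⟨_, okD0, h⟩) <| fa_cons (fun _ h => ⟨_, okD1, h⟩) <| fa_nil

/-- the heads -/
def FL : List Hd :=
  [(19958400, [], []), (604800, [], []), (11664000, [], []), (5832000, [], []), (3888000, [], []), (2916000, [], []),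
  (2332800, [], []), (1944000, [], []), (1458000, [], []), (1296000, [], []), (1166400, [], []), (972000, [], []),
  (777600, [], []), (729000, [], []), (648000, [], []), (583200, [], []), (486000, [], []), (388800, [], []),
  (364500, [], []), (324000, [], []), (291600, [], []), (259200, [], []), (243000, [], []), (194400, [], [(3, 0)]),
  (443520, [], [(3, 0)]), (182250, [], []), (145800, [], [(3, 0)]), (121500, [], [(3, 0)]), (97200, [], [(1, 0), (3,
  0)]), (443520, [], [(1, 0)]), (91125, [], []), (72900, [], [(1, 0), (3, 0)]), (60750, [], []), (48600, [], [(1, 0),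
  (3, 0), (4, 0)]), (443520, [], [(4, 0)]), (40500, [], [(1, 0), (3, 0), (4, 0)]), (36450, [], [(1, 0), (3, 0), (4,
  0)]), (466560, [], []), (432000, [], []), (233280, [], []), (216000, [], [])]

/-- scripts -/
noncomputable def S0 : List ((ℕ × ℕ) × Ps) :=
  [((360, 45), (.ky 0)), ((2520, 45), (.ky 0)), ((20160, 45), (.ky 0)), ((25920, 45), (.ky 0)), ((95040, 1485), (.ky
  1)), ((181440, 45), (.ky 0)), ((443520, 77), (.ky 2)), ((443520, 154), (.ky 3)), ((443520, 231), (.ky 4)),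
  ((443520, 308), (.ky 5)), ((443520, 385), (.ky 6)), ((443520, 462), (.ky 7)), ((443520, 616), (.ky 8)), ((443520,
  693), (.ky 9)), ((443520, 770), (.ky 10)), ((443520, 924), (.ky 11)), ((443520, 1155), (.ky 12)), ((443520, 1232),
  (.ky 13)), ((443520, 1386), (.ky 14)), ((443520, 1540), (.ky 15)), ((443520, 1848), (.ky 16)), ((443520, 2310),
  (.ky 17)), ((443520, 2464), (.ky 18)), ((443520, 2772), (.ky 19)), ((443520, 3080), (.ky 20)), ((443520, 3465),
  (.ky 21)), ((443520, 3696), (.ky 22)), ((443520, 4620), (.br 3 (.kx 24) (.ky 23))), ((443520, 4928), (.ky 25)),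
  ((443520, 6160), (.br 3 (.kx 24) (.ky 26))), ((443520, 7392), (.br 3 (.kx 24) (.ky 27))), ((443520, 9240), (.br 3
  (.kx 24) (.br 1 (.kx 29) (.ky 28)))), ((443520, 9856), (.ky 30)), ((443520, 12320), (.br 3 (.kx 24) (.br 1 (.kx 29)
  (.ky 31)))), ((443520, 14784), (.ky 32)), ((443520, 18480), (.br 4 (.kx 34) (.br 3 (.kx 24) (.br 1 (.kx 29) (.ky
  33))))), ((443520, 22176), (.br 4 (.kx 34) (.br 3 (.kx 24) (.br 1 (.kx 29) (.ky 35))))), ((443520, 24640), (.br 4
  (.kx 34) (.br 3 (.kx 24) (.br 1 (.kx 29) (.ky 36))))), ((604800, 5600), (.kx 1)), ((19958400, 45), (.ky 0)),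
  ((19958400, 77), (.ky 2)), ((19958400, 154), (.ky 3)), ((19958400, 231), (.ky 4)), ((19958400, 308), (.ky 5)),
  ((19958400, 385), (.ky 6)), ((19958400, 462), (.ky 7)), ((19958400, 616), (.ky 8)), ((19958400, 693), (.ky 9)),
  ((19958400, 770), (.ky 10)), ((19958400, 924), (.ky 11)), ((19958400, 1155), (.ky 12)), ((19958400, 1232), (.ky
  13)), ((19958400, 1386), (.ky 14)), ((19958400, 1540), (.ky 15)), ((19958400, 1848), (.ky 16)), ((19958400, 1925),
  (.ky 37)), ((19958400, 2079), (.ky 38)), ((19958400, 2310), (.ky 17)), ((19958400, 2464), (.ky 18)), ((19958400,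
  2772), (.ky 19))]

/-- scripts -/
noncomputable def S1 : List ((ℕ × ℕ) × Ps) :=
  [((19958400, 3080), (.ky 20)), ((19958400, 3465), (.ky 21)), ((19958400, 3696), (.ky 22)), ((19958400, 3850), (.ky
  39)), ((19958400, 4158), (.ky 40)), ((19958400, 4620), (.kx 0)), ((19958400, 4928), (.ky 25)), ((19958400, 4950),
  (.kx 0)), ((19958400, 5544), (.kx 0)), ((19958400, 5775), (.kx 0)), ((19958400, 6160), (.kx 0)), ((19958400, 6237),
  (.kx 0)), ((19958400, 6930), (.kx 0)), ((19958400, 7392), (.kx 0)), ((19958400, 7700), (.kx 0)), ((19958400, 8316),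
  (.kx 0)), ((19958400, 9240), (.kx 0)), ((19958400, 9856), (.ky 30)), ((19958400, 10395), (.kx 0)), ((19958400,
  11088), (.kx 0)), ((19958400, 11550), (.kx 0)), ((19958400, 12320), (.kx 0)), ((19958400, 12474), (.kx 0)),
  ((19958400, 13860), (.kx 0)), ((19958400, 14784), (.ky 32)), ((19958400, 15400), (.kx 0)), ((19958400, 16632), (.kx
  0)), ((19958400, 17325), (.kx 0)), ((19958400, 18480), (.kx 0)), ((19958400, 20790), (.kx 0)), ((19958400, 22176),
  (.kx 0)), ((19958400, 22275), (.kx 0)), ((19958400, 23100), (.kx 0)), ((19958400, 24640), (.kx 0)), ((19958400,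
  24948), (.kx 0)), ((19958400, 27720), (.kx 0)), ((19958400, 30800), (.kx 0)), ((19958400, 31185), (.kx 0)),
  ((19958400, 33264), (.kx 0)), ((19958400, 34650), (.kx 0)), ((19958400, 36960), (.kx 0)), ((19958400, 41580), (.kx
  0)), ((19958400, 44352), (.kx 0)), ((19958400, 44550), (.kx 0)), ((19958400, 46200), (.kx 0)), ((19958400, 49896),
  (.kx 0)), ((19958400, 51975), (.kx 0)), ((19958400, 55440), (.kx 0)), ((19958400, 61600), (.kx 0)), ((19958400,
  62370), (.kx 0)), ((19958400, 66528), (.kx 0)), ((19958400, 69300), (.kx 0)), ((19958400, 73920), (.kx 0)),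
  ((19958400, 83160), (.kx 0)), ((19958400, 92400), (.kx 0)), ((19958400, 103950), (.kx 0)), ((19958400, 110880),
  (.kx 0)), ((19958400, 124740), (.kx 0)), ((19958400, 133056), (.kx 0)), ((19958400, 138600), (.kx 0))]

/-- scripts -/
noncomputable def S2 : List ((ℕ × ℕ) × Ps) :=
  [((19958400, 155925), (.kx 0)), ((19958400, 166320), (.kx 0)), ((19958400, 178200), (.kx 0)), ((19958400, 184800),
  (.kx 0)), ((19958400, 207900), (.kx 0)), ((19958400, 221760), (.kx 0)), ((19958400, 246400), (.kx 0)), ((19958400,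
  277200), (.kx 0)), ((19958400, 332640), (.kx 0)), ((19958400, 415800), (.kx 0)), ((19958400, 554400), (.kx 0)),
  ((19958400, 665280), (.kx 0)), ((19958400, 831600), (.kx 0))]

theorem okC : ∀ x ∈ FL, ∃ CL, okL TAB.McL.D TAB.McL.RR P Z CL = true ∧ x ∈ CL.map Prod.fst := by
  rw [show FL = [CL0.map Prod.fst].flatten by decide +kernel]
  exact forall_flatten <| fa_cons (fun _ h => ⟨_, okC0, h⟩) <| fa_nil

/-- **the list** -/
theorem lst {K : Type} [Group K] [Finite K] (h : In K TAB.McL.D TAB.McL.RR) :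
    Lst K L :=
  lst_of_cert h (lst0 h) (l := E.l) (by decide +kernel) (SG := [1, 3, 4]) (by decide +kernel) okC (SS := [S0, S1,
  S2].flatten) (by decide +kernel) (by decide +kernel)

end Cfsg.Agent.SM.Sp.NMcL
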