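import Cfsg.Agent.SM.Sp.Enum
import Cfsg.Agent.TAB.ON.Tab

/-!
# SM (S3570), sporadic socles: ON (helper26; generated by notes/SM/sp26/gen2.py.txt)
-/

set_option autoImplicit false
set_option Elab.async false

namespace Cfsg.Agent.SM.Sp.NON

open Cfsg Cfsg.Agent.TAB.Eng Cfsg.Agent.H940.Eng Cfsg.Agent.TH.Spor

/-- local data -/
def loc : List LD :=
  [⟨31, 31, [(3, 1), (5, 1), (31, 1)]⟩, ⟨19, 19, [(2, 1), (3, 1), (19, 1)]⟩, ⟨11, 11, [(2, 1), (5, 1), (11, 1)]⟩, ⟨5,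
  720, [(2, 4), (3, 2), (5, 1)]⟩]

/-- the pairs which remain -/
def L : List (ℕ × ℕ) :=
  []

/-- the candidates -/
def SV : List (ℕ × ℕ) :=
  []

/-- the data -/
def E : Ed :=
  ⟨460815505920, [(31, 1), (19, 1), (11, 1), (7, 3), (5, 1), (3, 4), (2, 9)], H940.Eng.D.o_opn, loc, 10944, [], [],
  [60, 168, 360, 504, 660, 2520, 6048, 7920, 14880, 20160, 25920, 95040, 175560, 181440, 443520, 1451520, 1876896,
  5515776], SV⟩

theorem ok1 : okEd TAB.ON.dON TAB.ON.tabON E = true := by decide +kernel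

theorem okB1 : okB E ⟨31, 31, [(3, 1), (5, 1), (31, 1)]⟩ = true := by decide +kernel

/-- pieces -/
def W0 : List (ℕ × ℕ) :=
  [(14880, 1)]

theorem okD0 : okD E [(31, 1), (19, 1), (11, 1), (7, 3), (5, 1), (3, 4), (2, 9)] W0 = true := by decide +kernel

/-- the enumeration -/
theorem lst0 {K : Type} [Group K] [Finite K] (h : In K TAB.ON.dON TAB.ON.tabON) :
    Lst K SV :=
  lst_of_enum (E := E) h ok1 (H940.Eng.D.ords_opn base) (fun _ => List.not_mem_nil) List.mem_cons_self (dv_iff.1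
  (by decide +kernel)) okB1 (l1 := []) rfl (W := [W0].flatten) (by decide +kernel) <| forall_flatten <|
    fa_cons (fun _ h => ⟨_, okD0, h⟩) <| fa_nil

end Cfsg.Agent.SM.Sp.NON
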