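import Cfsg.Agent.SM.Sp.Enum
import Cfsg.Agent.TAB.Ru.Dat

/-!
# SM (S3570), sporadic socles: Ru (helper26; generated by notes/SM/sp26/gen2.py.txt)
-/

set_option autoImplicit false
set_option Elab.async false

namespace Cfsg.Agent.SM.Sp.NRu

open Cfsg Cfsg.Agent.TAB.Eng Cfsg.Agent.H940.Eng Cfsg.Agent.TH.Spor

/-- local data -/
def loc : List LD :=
  [⟨29, 29, [(2, 1), (7, 1), (29, 1)]⟩, ⟨13, 208, [(2, 4), (3, 1), (13, 1)]⟩, ⟨7, 56, [(2, 3), (3, 1), (7, 1)]⟩]

/-- the pairs which remain -/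
def L : List (ℕ × ℕ) :=
  []

/-- the candidates -/
def SV : List (ℕ × ℕ) :=
  [(12180, 1015)]

/-- the data -/
def E : Ed :=
  ⟨145926144000, [(29, 1), (13, 1), (7, 1), (5, 3), (3, 3), (2, 14)], H940.Eng.D.o_ru, loc, 378, [], [(29, 27), (13,
  19), (7, 11), (3, 3)], [60, 168, 360, 504, 1092, 2520, 5616, 6048, 7800, 9828, 12180, 20160, 29120, 62400, 126000,
  604800, 17971200, 251596800], SV⟩

theorem ok1 : okEd TAB.Ru.D TAB.Ru.RR E = true := by decide +kernel

/-- the types of prime order -/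
def P : List (ℕ × ℕ × ℕ) :=
  [(29, 27, 10063872000), (13, 19, 2806272000), (7, 11, 5211648000), (5, 8, 486420480), (5, 9, 145926144), (3, 3,
  67558400), (2, 1, 1252800), (2, 2, 593775)]

/-- the types -/
def Z : List Ze :=
  [(1, 2, 1252800, [1]), (2, 2, 593775, [2]), (3, 3, 67558400, [3]), (4, 4, 142506000, [2]), (5, 4, 285012000, [2]),
  (6, 4, 38001600, [2]), (7, 4, 19000800, [2]), (8, 5, 486420480, [8]), (9, 5, 145926144, [9]), (10, 6, 3040128000,
  [3, 2]), (11, 7, 5211648000, [11]), (12, 8, 4560192000, [2]), (13, 8, 2280096000, [2]), (14, 8, 1520064000, [2]),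
  (15, 10, 7296307200, [8, 1]), (16, 10, 3648153600, [9, 2]), (17, 12, 12160512000, [3, 2]), (18, 12, 6080256000, [3,
  2]), (19, 13, 2806272000, [19]), (20, 14, 15634944000, [11, 1]), (21, 15, 9728409600, [8, 3]), (22, 16,
  18240768000, [2]), (23, 20, 14592614400, [9, 2]), (24, 20, 7296307200, [9, 2]), (25, 24, 12160512000, [3, 2]), (26,
  26, 8418816000, [19, 1]), (27, 29, 10063872000, [27])]

theorem okB1 : okB E ⟨29, 29, [(2, 1), (7, 1), (29, 1)]⟩ = true := by decide +kernel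

/-- pieces -/
def W0 : List (ℕ × ℕ) :=
  [(12180, 1)]

theorem okD0 : okD E [(29, 1), (13, 1), (7, 1), (5, 3), (3, 3), (2, 14)] W0 = true := by decide +kernel

/-- a certificate -/
noncomputable def c0 : Hd × Tr :=
  ((143769600, [], []), (.far (.ofNat 27) [(.negSucc 26, 3), (.ofNat 27, 5), (.negSucc 26, 9), (.ofNat 27, 19),
  (.ofNat 27, 22), (.negSucc 26, 23), (.negSucc 26, 24), (.ofNat 13, 25), (.ofNat 27, 26)]))

/-- certificates -/
noncomputable def CL0 : List (Hd × Tr) :=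
  [c0]

theorem okC0 : okL TAB.Ru.D TAB.Ru.RR P Z CL0 = true := by decide +kernel

/-- the enumeration -/
theorem lst0 {K : Type} [Group K] [Finite K] (h : In K TAB.Ru.D TAB.Ru.RR) :
    Lst K SV :=
  lst_of_enum (E := E) h ok1 (H940.Eng.D.ords_ru base) (fun _ => List.not_mem_nil) List.mem_cons_self (dv_iff.1
  (by decide +kernel)) okB1 (l1 := []) rfl (W := [W0].flatten) (by decide +kernel) <| forall_flatten <|
    fa_cons (fun _ h => ⟨_, okD0, h⟩) <| fa_nil

/-- the heads -/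
def FL : List Hd :=
  [(143769600, [], [])]

/-- scripts -/
noncomputable def S0 : List ((ℕ × ℕ) × Ps) :=
  [((12180, 1015), (.ky 0))]

theorem okC : ∀ x ∈ FL, ∃ CL, okL TAB.Ru.D TAB.Ru.RR P Z CL = true ∧ x ∈ CL.map Prod.fst := by
  rw [show FL = [CL0.map Prod.fst].flatten by decide +kernel]
  exact forall_flatten <| fa_cons (fun _ h => ⟨_, okC0, h⟩) <| fa_nil

/-- **the list** -/
theorem lst {K : Type} [Group K] [Finite K] (h : In K TAB.Ru.D TAB.Ru.RR) :
    Lst K L :=
  lst_of_cert h (lst0 h) (l := E.l) (by decide +kernel) (SG := []) (by decide +kernel) okC (SS := [S0].flatten)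
  (by decide +kernel) (by decide +kernel)

end Cfsg.Agent.SM.Sp.NRu
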