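import Cfsg.Agent.SM.Sp.Enum
import Cfsg.Agent.TAB.Th.Tab

/-!
# SM (S3570), sporadic socles: Th (helper26; generated by notes/SM/sp26/gen2.py.txt)
-/

set_option autoImplicit false
set_option Elab.async false

namespace Cfsg.Agent.SM.Sp.NTh

open Cfsg Cfsg.Agent.TAB.Eng Cfsg.Agent.H940.Eng Cfsg.Agent.TH.Spor

/-- local data -/
def loc : List LD :=
  [⟨31, 31, [(3, 1), (5, 1), (31, 1)]⟩, ⟨19, 19, [(2, 1), (3, 2), (19, 1)]⟩, ⟨13, 117, [(2, 2), (3, 2), (13, 1)]⟩]

/-- the pairs which remain -/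
def L : List (ℕ × ℕ) :=
  []

/-- the candidates -/
def SV : List (ℕ × ℕ) :=
  []

/-- the data -/
def E : Ed :=
  ⟨90745943887872000, [(31, 1), (19, 1), (13, 1), (7, 2), (5, 3), (3, 10), (2, 15)], H940.Eng.D.o_th, loc, 248, [],
  [], [60, 168, 360, 504, 1092, 2520, 3420, 5616, 6048, 7800, 9828, 14880, 20160, 25920, 29120, 58800, 62400, 126000,
  181440, 262080, 372000, 604800, 1451520, 1814400, 3265920, 4245696, 5515776, 6065280, 9999360, 17971200, 174182400,
  211341312, 251596800, 4585351680, 20158709760], SV⟩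

theorem ok1 : okEd TAB.Th.D (TAB.Sm2.mkRows TAB.Th.rowA TAB.Th.rowB) E = true := by decide +kernel

theorem okB1 : okB E ⟨31, 31, [(3, 1), (5, 1), (31, 1)]⟩ = true := by decide +kernel

/-- pieces -/
def W0 : List (ℕ × ℕ) :=
  [(14880, 1), (14880, 31), (372000, 1), (372000, 31), (9999360, 1), (9999360, 31)]

theorem okD0 : okD E [(7, 2), (5, 3), (3, 10), (2, 15)] W0 = true := by decide +kernel

/-- pieces -/
def W1 : List (ℕ × ℕ) :=
  [(20158709760, 1)]

theorem okD1 : okD E [(7, 2), (5, 3), (3, 10), (2, 15)] W1 = true := by decide +kernel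

/-- pieces -/
def W2 : List (ℕ × ℕ) :=
  [(20158709760, 31)]

theorem okD2 : okD E [(7, 2), (5, 3), (3, 10), (2, 15)] W2 = true := by decide +kernel

/-- the enumeration -/
theorem lst0 {K : Type} [Group K] [Finite K] (h : In K TAB.Th.D (TAB.Sm2.mkRows TAB.Th.rowA TAB.Th.rowB)) :
    Lst K SV :=
  lst_of_enum (E := E) h ok1 (H940.Eng.D.ords_th base) (fun _ => List.not_mem_nil) List.mem_cons_self (dv_iff.1
  (by decide +kernel)) okB1 (l1 := [(31, 1), (19, 1), (13, 1)]) rfl (W := [W0, W1, W2].flatten) (by decide +kernel)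
  <| forall_flatten <|
    fa_cons (fun _ h => ⟨_, okD0, h⟩) <| fa_cons (fun _ h => ⟨_, okD1, h⟩) <| fa_cons (fun _ h => ⟨_, okD2, h⟩) <| fa_nil

end Cfsg.Agent.SM.Sp.NTh
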