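import Cfsg.Agent.SM.Sp.Enum
import Cfsg.Agent.TAB.Sm2.TitsTab

/-!
# SM (S3570), sporadic socles: Tits (helper26; generated by notes/SM/sp26/gen2.py.txt)
-/

set_option autoImplicit false
set_option Elab.async false

namespace Cfsg.Agent.SM.Sp.NTits

open Cfsg Cfsg.Agent.TAB.Eng Cfsg.Agent.H940.Eng Cfsg.Agent.TH.Spor

/-- local data -/
def loc : List LD :=
  [⟨13, 13, [(2, 1), (3, 1), (13, 1)]⟩]

/-- the pairs which remain -/
def L : List (ℕ × ℕ) :=
  []

/-- the candidates -/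
def SV : List (ℕ × ℕ) :=
  [(5616, 39), (5616, 52), (5616, 78), (5616, 117), (5616, 144), (5616, 156), (5616, 208), (5616, 234), (5616, 351),
  (7800, 52), (7800, 65), (7800, 130), (7800, 260), (7800, 325), (7800, 1300), (62400, 52), (62400, 65), (62400,
  104), (62400, 130), (62400, 208), (62400, 260), (62400, 325), (62400, 416), (62400, 520), (62400, 650), (62400,
  1040), (62400, 1300), (62400, 1600), (62400, 2080), (62400, 2600), (62400, 5200)]

/-- the data -/
def E : Ed :=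
  ⟨17971200, [(13, 1), (5, 2), (3, 3), (2, 11)], [60, 360, 5616, 7800, 62400, 17971200], loc, 26, [], [(13, 13), (5,
  7), (3, 3)], [60, 360, 5616, 7800, 62400], SV⟩

theorem ok1 : okEd TAB.Sm2.Tits.dat (TAB.Sm2.mkRows TAB.Sm2.Tits.rA TAB.Sm2.Tits.rB) E = true := by decide +kernel

/-- the types of prime order -/
def P : List (ℕ × ℕ × ℕ) :=
  [(13, 13, 2764800), (5, 7, 359424), (3, 3, 166400), (2, 1, 1755), (2, 2, 11700)]

/-- the types -/
def Z : List Ze :=
  [(1, 2, 1755, [1]), (2, 2, 11700, [2]), (3, 3, 166400, [3]), (4, 4, 93600, [2]), (5, 4, 280800, [2]), (6, 4,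
  140400, [1]), (7, 5, 359424, [7]), (8, 6, 1497600, [3, 2]), (9, 8, 1123200, [1]), (10, 8, 2246400, [2]), (11, 10,
  1797120, [7, 1]), (12, 12, 2995200, [3, 2]), (13, 13, 2764800, [13]), (14, 16, 4492800, [1])]

theorem okB1 : okB E ⟨13, 13, [(2, 1), (3, 1), (13, 1)]⟩ = true := by decide +kernel

/-- pieces -/
def W0 : List (ℕ × ℕ) :=
  [(5616, 1), (7800, 1), (62400, 1)]

theorem okD0 : okD E [(13, 1), (5, 2), (3, 3), (2, 11)] W0 = true := by decide +kernel

/-- a certificate -/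
noncomputable def c0 : Hd × Tr :=
  ((460800, [], []), (.far (.ofNat 0) [(.ofNat 1, 14)]))

/-- a certificate -/
noncomputable def c1 : Hd × Tr :=
  ((345600, [], []), (.far (.ofNat 1) [(.ofNat 1, 2), (.negSucc 0, 6), (.negSucc 0, 7), (.ofNat 1, 9), (.ofNat 1,
  14)]))

/-- a certificate -/
noncomputable def c2 : Hd × Tr :=
  ((230400, [], []), (.far (.ofNat 1) [(.ofNat 1, 2), (.negSucc 0, 6), (.negSucc 0, 7), (.ofNat 1, 9), (.ofNat 1,
  14)]))

/-- a certificate -/
noncomputable def c3 : Hd × Tr :=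
  ((153600, [], []), (.far (.ofNat 1) [(.ofNat 1, 2), (.negSucc 0, 6), (.negSucc 0, 7), (.ofNat 1, 9), (.ofNat 1,
  14)]))

/-- a certificate -/
noncomputable def c4 : Hd × Tr :=
  ((124800, [], []), (.far (.ofNat 0) [(.ofNat 1, 14)]))

/-- a certificate -/
noncomputable def c5 : Hd × Tr :=
  ((115200, [], []), (.far (.ofNat 1) [(.ofNat 1, 2), (.negSucc 0, 6), (.negSucc 0, 7), (.ofNat 1, 9), (.ofNat 1,
  14)]))

/-- a certificate -/
noncomputable def c6 : Hd × Tr :=
  ((86400, [], []), (.far (.ofNat 0) [(.ofNat 1, 14)]))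

/-- a certificate -/
noncomputable def c7 : Hd × Tr :=
  ((76800, [], []), (.far (.ofNat 0) [(.ofNat 1, 14)]))

/-- a certificate -/
noncomputable def c8 : Hd × Tr :=
  ((51200, [], []), (.far (.ofNat 9) [(.ofNat 5, 3), (.negSucc 4, 5), (.negSucc 4, 6), (.negSucc 3, 7), (.ofNat 4,
  9), (.ofNat 2, 11), (.ofNat 2, 14)]))

/-- a certificate -/
noncomputable def c9 : Hd × Tr :=
  ((276480, [], []), (.far (.ofNat 1) [(.ofNat 1, 2), (.negSucc 0, 6), (.negSucc 0, 7), (.ofNat 1, 9), (.ofNat 1,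
  14)]))

/-- a certificate -/
noncomputable def c10 : Hd × Tr :=
  ((138240, [], []), (.far (.ofNat 1) [(.ofNat 1, 2), (.negSucc 0, 6), (.negSucc 0, 7), (.ofNat 1, 9), (.ofNat 1,
  14)]))

/-- a certificate -/
noncomputable def c11 : Hd × Tr :=
  ((69120, [], []), (.far (.ofNat 1) [(.ofNat 1, 2), (.negSucc 0, 6), (.negSucc 0, 7), (.ofNat 1, 9), (.ofNat 1,
  14)]))

/-- a certificate -/
noncomputable def c12 : Hd × Tr :=
  ((55296, [], []), (.far (.ofNat 9) [(.ofNat 1, 1), (.ofNat 8, 2), (.negSucc 0, 5), (.negSucc 8, 6), (.ofNat 9, 9),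
  (.negSucc 2, 11), (.negSucc 0, 13)]))

/-- a certificate -/
noncomputable def c13 : Hd × Tr :=
  ((7800, [(1003, 2601)], [(1003, 2601)]), (.far (.ofNat 0) [(.ofNat 1, 14), (.ofNat 9, 1003)]))

/-- a certificate -/
noncomputable def c14 : Hd × Tr :=
  ((172800, [], []), (.far (.ofNat 0) [(.ofNat 1, 14)]))

/-- a certificate -/
noncomputable def c15 : Hd × Tr :=
  ((43200, [], []), (.far (.ofNat 1) [(.ofNat 1, 2), (.negSucc 0, 6), (.negSucc 0, 7), (.ofNat 1, 9), (.ofNat 1,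
  14)]))

/-- a certificate -/
noncomputable def c16 : Hd × Tr :=
  ((34560, [], []), (.far (.ofNat 1) [(.ofNat 1, 2), (.negSucc 0, 6), (.negSucc 0, 7), (.ofNat 1, 9), (.ofNat 1,
  14)]))

/-- a certificate -/
noncomputable def c17 : Hd × Tr :=
  ((27648, [], []), (.far (.ofNat 9) [(.ofNat 9, 2), (.negSucc 8, 6), (.ofNat 9, 9), (.ofNat 4, 14)]))

/-- a certificate -/
noncomputable def c18 : Hd × Tr :=
  ((62400, [], []), (.far (.negSucc 5) [(.negSucc 10, 2), (.negSucc 17, 3), (.negSucc 10, 4), (.negSucc 15, 5),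
  (.negSucc 21, 6), (.ofNat 6, 8), (.negSucc 10, 10), (.negSucc 2, 11), (.negSucc 21, 12), (.negSucc 11, 13),
  (.negSucc 26, 14)]))

/-- certificates -/
noncomputable def CL0 : List (Hd × Tr) :=
  [c0, c1, c2, c3, c4, c5, c6, c7, c8, c9, c10, c11, c12, c13, c14, c15, c16, c17, c18]

theorem okC0 : okL TAB.Sm2.Tits.dat (TAB.Sm2.mkRows TAB.Sm2.Tits.rA TAB.Sm2.Tits.rB) P Z CL0 = true := by decide +kernel

/-- the enumeration -/
theorem lst0 {K : Type} [Group K] [Finite K] (h : In K TAB.Sm2.Tits.dat (TAB.Sm2.mkRows TAB.Sm2.Tits.rA TAB.Sm2.Tits.rB)) :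
    Lst K SV :=
  lst_of_enum (E := E) h ok1 (ords_of base (l := [(2, 11), (3, 3), (5, 2), (13, 1)]) (by decide +kernel)
  (by decide +kernel)) (fun _ => List.not_mem_nil) List.mem_cons_self (dv_iff.1 (by decide +kernel)) okB1 (l1 := [])
  rfl (W := [W0].flatten) (by decide +kernel) <| forall_flatten <|
    fa_cons (fun _ h => ⟨_, okD0, h⟩) <| fa_nil

/-- the heads -/
def FL : List Hd :=
  [(460800, [], []), (345600, [], []), (230400, [], []), (153600, [], []), (124800, [], []), (115200, [], []),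
  (86400, [], []), (76800, [], []), (51200, [], []), (276480, [], []), (138240, [], []), (69120, [], []), (55296, [],
  []), (7800, [(1003, 2601)], [(1003, 2601)]), (172800, [], []), (43200, [], []), (34560, [], []), (27648, [], []),
  (62400, [], [])]

/-- scripts -/
noncomputable def S0 : List ((ℕ × ℕ) × Ps) :=
  [((5616, 39), (.ky 0)), ((5616, 52), (.ky 1)), ((5616, 78), (.ky 2)), ((5616, 117), (.ky 3)), ((5616, 144), (.ky
  4)), ((5616, 156), (.ky 5)), ((5616, 208), (.ky 6)), ((5616, 234), (.ky 7)), ((5616, 351), (.ky 8)), ((7800, 52),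
  (.ky 1)), ((7800, 65), (.ky 9)), ((7800, 130), (.ky 10)), ((7800, 260), (.ky 11)), ((7800, 325), (.ky 12)), ((7800,
  1300), (.kx 13)), ((62400, 52), (.ky 1)), ((62400, 65), (.ky 9)), ((62400, 104), (.ky 14)), ((62400, 130), (.ky
  10)), ((62400, 208), (.ky 6)), ((62400, 260), (.ky 11)), ((62400, 325), (.ky 12)), ((62400, 416), (.ky 15)),
  ((62400, 520), (.ky 16)), ((62400, 650), (.ky 17)), ((62400, 1040), (.kx 18)), ((62400, 1300), (.kx 18)), ((62400,
  1600), (.kx 18)), ((62400, 2080), (.kx 18)), ((62400, 2600), (.kx 18)), ((62400, 5200), (.kx 18))]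

theorem okC : ∀ x ∈ FL, ∃ CL, okL TAB.Sm2.Tits.dat (TAB.Sm2.mkRows TAB.Sm2.Tits.rA TAB.Sm2.Tits.rB) P Z CL = true ∧ x ∈ CL.map Prod.fst := by
  rw [show FL = [CL0.map Prod.fst].flatten by decide +kernel]
  exact forall_flatten <| fa_cons (fun _ h => ⟨_, okC0, h⟩) <| fa_nil

/-- **the list** -/
theorem lst {K : Type} [Group K] [Finite K] (h : In K TAB.Sm2.Tits.dat (TAB.Sm2.mkRows TAB.Sm2.Tits.rA TAB.Sm2.Tits.rB)) :
    Lst K L :=
  lst_of_cert h (lst0 h) (l := E.l) (by decide +kernel) (SG := []) (by decide +kernel) okC (SS := [S0].flatten)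
  (by decide +kernel) (by decide +kernel)

end Cfsg.Agent.SM.Sp.NTits
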