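import Cfsg.Agent.SM.Sp.Red
import Cfsg.Agent.SM.Fac
import Cfsg.Agent.SM.Asm

/-!
# SM (S3570), sporadic socles: the glue of the family `fX` (helper33)
-/

set_option autoImplicit false

namespace Cfsg.Agent.SM.Sp

open Cfsg Subgroup Equiv MulAction

section

variable {Ω : Type} [Fintype Ω] [DecidableEq Ω] {X H T M S : Subgroup (Perm Ω)}

/-- the factorisation inside the socle -/
theorem up_fa (u : Up X H T M S) (a : Ω) : Fa (T.subgroupOf S) ((M ⊓ stabilizer (Perm Ω) a).subgroupOf S) :=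
  Rd.fa_of (u.fac a)

theorem up_card (u : Up X H T M S) : Nat.card (T.subgroupOf S) = Nat.card T :=
  Nat.card_congr (subgroupOfEquivOfLe u.le).toEquiv

theorem up_index (u : Up X H T M S) (a : Ω) : ((M ⊓ stabilizer (Perm Ω) a).subgroupOf S).index = Fintype.card Ω :=
  ((u.fac a).relIndex_eq.symm.trans (u.relIndex a) :)

/-- **the order of `T` and the degree are in the list** -/
theorem up_lst (u : Up X H T M S) {L : List (ℕ × ℕ)} (h : Lst S L) : (Nat.card T, Fintype.card Ω) ∈ L := by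
  obtain ⟨a⟩ : Nonempty Ω := Fintype.card_pos_iff.1 (lt_of_lt_of_le two_pos u.two)
  have h1 := h _ _ (up_fa u a)
  rwa [up_card u, up_index u] at h1

end

theorem nil_of {P : Fam} (h : ∀ (K : Type) [Group K] [Finite K], P K → Lst K []) : Nil P :=
  fun _ _ _ _ _ _ _ S u hS => List.not_mem_nil (up_lst u (h S hS))

/-- two tables without a common row -/
theorem bnd_or {P P₁ P₂ : Fam} {R₁ R₂ : Tab} (h₁ : Bnd P₁ R₁) (h₂ : Bnd P₂ R₂)
    (hP : ∀ (S : Type) [Group S], P S → P₁ S ∨ P₂ S) (hd : ∀ t n k₁ k₂, R₁ t n k₁ → R₂ t n k₂ → False) :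
    Bnd P fun t n k => R₁ t n k ∨ R₂ t n k := by
  refine h₁.split h₂ hP fun t n k₁ k₂ a b c => ?_
  rcases a with rfl | a
  · rcases b with rfl | b
    · exact ⟨0, le_rfl, c⟩
    · exact ⟨k₂, (zero_add _).le, Or.inr b⟩
  · rcases b with rfl | b
    · exact ⟨k₁, le_rfl, Or.inl a⟩
    · exact (hd _ _ _ _ a b).elim

/-- the groups without a row, delivered by the engine -/
structure Lsts : Prop where
  j1 : ∀ (K : Type) [Group K] [Finite K], Spor.IsoJ1 K → Lst K []
  j2 : ∀ (K : Type) [Group K] [Finite K], Spor.IsoJ2 K → Lst K []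
  j3 : ∀ (K : Type) [Group K] [Finite K], Spor.IsoJ3 K → Lst K []
  j4 : ∀ (K : Type) [Group K] [Finite K], Spor.IsoJ4 K → Lst K []
  co2 : ∀ (K : Type) [Group K] [Finite K], Spor.IsoCo2 K → Lst K []
  co3 : ∀ (K : Type) [Group K] [Finite K], Spor.IsoCo3 K → Lst K []
  mcl : ∀ (K : Type) [Group K] [Finite K], Spor.IsoMcL K → Lst K []
  he : ∀ (K : Type) [Group K] [Finite K], Spor.IsoHe K → Lst K []
  ru : ∀ (K : Type) [Group K] [Finite K], Spor.IsoRu K → Lst K []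
  on : ∀ (K : Type) [Group K] [Finite K], Spor.IsoON K → Lst K []
  ly : ∀ (K : Type) [Group K] [Finite K], Spor.IsoLy K → Lst K []
  fi23 : ∀ (K : Type) [Group K] [Finite K], Spor.IsoFi23 K → Lst K []
  fi24 : ∀ (K : Type) [Group K] [Finite K], Spor.IsoFi24' K → Lst K []
  hn : ∀ (K : Type) [Group K] [Finite K], Spor.IsoHN K → Lst K []
  th : ∀ (K : Type) [Group K] [Finite K], Spor.IsoTh K → Lst K []
  b : ∀ (K : Type) [Group K] [Finite K], Spor.IsoB K → Lst K []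
  m : ∀ (K : Type) [Group K] [Finite K], Spor.IsoM K → Lst K []
  tits : ∀ (K : Type) [Group K] [Finite K], Lie.IsoTits K → Lst K []

/-- the five Mathieu groups -/
def fMat : Fam := fun S _ => Spor.IsoM11 S ∨ Spor.IsoM12 S ∨ Spor.IsoM22 S ∨ Spor.IsoM23 S ∨ Spor.IsoM24 S

def fHS : Fam := fun S _ => Spor.IsoHS S
def fSuz : Fam := fun S _ => Spor.IsoSuz S
def fFi22 : Fam := fun S _ => Spor.IsoFi22 S
def fCo1 : Fam := fun S _ => Spor.IsoCo1 S

/-- all socles but the Mathieu groups and `HS` are impossible -/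
theorem mat_or_hs (L : Lsts) (suz : Nil fSuz) (fi22 : Nil fFi22) (co1 : Nil fCo1) :
    Nil fun S _ => fX S ∧ ¬ fMat S ∧ ¬ fHS S := by
  intro Ω _ _ X H T M S u ⟨h, h1, h2⟩
  have k : ∀ {P : Fam}, (∀ (K : Type) [Group K] [Finite K], P K → Lst K []) → P S → False :=
    fun hP hS => nil_of hP Ω X H T M S u hS
  rcases h with (h | h | h | h | h | h | h | h | h | h | h | h | h | h | h | h | h | h | h | h | h | h | h | h | h | h) | h
  exacts [h1 (Or.inl h), h1 (Or.inr (Or.inl h)), h1 (Or.inr (Or.inr (Or.inl h))),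
    h1 (Or.inr (Or.inr (Or.inr (Or.inl h)))), h1 (Or.inr (Or.inr (Or.inr (Or.inr h)))), k L.j1 h, k L.j2 h, k L.j3 h,
    k L.j4 h, co1 Ω X H T M S u h, k L.co2 h, k L.co3 h, k L.mcl h, h2 h, suz Ω X H T M S u h, k L.he h, k L.ru h,
    k L.on h, k L.ly h, fi22 Ω X H T M S u h, k L.fi23 h, k L.fi24 h, k L.hn h, k L.th h, k L.b h, k L.m h, k L.tits h]

/-- **the family `fX`** -/
theorem bnd_of (L : Lsts) (suz : Nil fSuz) (fi22 : Nil fFi22) (co1 : Nil fCo1) {RM RH : Tab} (mat : Bnd fMat RM)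
    (hs : Bnd fHS RH) (hd : ∀ t n k₁ k₂, RM t n k₁ → RH t n k₂ → False) :
    Bnd fX fun t n k => RM t n k ∨ RH t n k := by
  refine (bnd_or (P := fun S _ => fMat S ∨ fHS S) mat hs (fun _ _ h => h) hd).or_nil (mat_or_hs L suz fi22 co1)
    fun S _ h => ?_
  by_cases h1 : fMat S ∨ fHS S
  · exact Or.inl h1
  · exact Or.inr ⟨h, fun h2 => h1 (Or.inl h2), fun h2 => h1 (Or.inr h2)⟩

end Cfsg.Agent.SM.Sp
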