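import Cfsg.Agent.SM.Sp.LCo1
import Cfsg.Agent.H367.ClsList
import Cfsg.Agent.SB.SporA.Tool
import Cfsg.Agent.H940.EngLoc

/-!
# SM (S3570), sporadic socles: `A₁₃` has no subgroup of order 31680 (helper26)
-/

set_option autoImplicit false

namespace Cfsg.Agent.SM.Sp

open Cfsg Cfsg.Agent.TH.Spor Cfsg.Agent.H940.Eng

theorem NoS.loc13 (hc : Nat.card (alternatingGroup (Fin 13)) = 3113510400) :
    Loc (alternatingGroup (Fin 13)) ⟨11, 11, [(2, 1), (5, 1), (11, 1)]⟩ := by
  refine loc_of_eq hc (by decide) (by decide) (by decide) fun R hR => ?_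
  have hp : Fact (Nat.Prime 11) := ⟨by norm_num⟩
  obtain ⟨⟨x, h0⟩, hx⟩ := exists_prime_orderOf_dvd_card' (G := R) 11 hR.symm.dvd
  rw [Subgroup.orderOf_mk] at hx
  obtain rfl : Subgroup.zpowers x = R :=
    Subgroup.eq_of_le_of_card_ge (Subgroup.zpowers_le.2 h0) (by rw [Nat.card_zpowers, hx, hR])
  have h1 : 11 ∣ Nat.card (Subgroup.centralizer ({x} : Set (alternatingGroup (Fin 13)))) :=
    hx ▸ Subgroup.orderOf_dvd_natCard _ (Subgroup.mem_centralizer_singleton_iff.2 rfl)
  have h2 := ((by decide +kernel : ∀ c ∈ H367.ClsList.altl 13, 11 ∣ c → c = 3113510400 ∨ c = 11) _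
    (H367.ClsList.alt_mem x) h1).resolve_left fun h2 => by
      have h3 := Subgroup.centralizer_eq_top_iff_subset.1 (Subgroup.eq_top_of_card_eq _ (h2.trans hc.symm)) rfl
      rw [alternatingGroup.center_eq_bot (by simp)] at h3
      rw [show x = 1 from h3, orderOf_one] at hx
      omega
  exact ⟨h2 ▸ Subgroup.card_dvd_of_le (Subgroup.centralizer_le (Set.singleton_subset_iff.2 (Subgroup.mem_zpowers x))),
    (SB.SporA.norm_dvd hp.out hx).trans (by rw [h2]; decide)⟩

/-- a simple group of order `|A₁₃|` has no subgroup of order 31680 -/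
theorem noA13 {S : Type} [Group S] [Finite S] (hs : IsSimpleGroup S) (hn : ¬ IsMulCommutative S)
    (h : Nat.card S = 3113510400) (A : Subgroup S) : Nat.card A ≠ 31680 := fun h1 => by
  obtain ⟨g, hg, hr⟩ := NoS.name hs hn h (l := [(2, 9), (3, 5), (5, 2), (7, 1), (11, 1), (13, 1)]) (by decide +kernel)
    (L := [.alt 13]) (by decide +kernel)
  obtain rfl := List.mem_singleton.1 hg
  obtain ⟨e⟩ := hr
  have h2 := (Nat.card_congr e.symm.toEquiv).trans h
  have h3 : Nat.card (A.map e.toMonoidHom) = 31680 := (Subgroup.card_map_of_injective e.injective).trans h1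
  have h4 := feas_of (l := [(2, 9), (3, 5), (5, 2), (7, 1), (11, 1), (13, 1)]) (by decide +kernel) h2
    (fun S _ _ h4 h5 h6 => D.ords_co1 base S h4 h5 (h6.trans (by decide +kernel))) (NoS.loc13 h2) (H := A.map e.toMonoidHom)
    (by rw [h3]; decide)
  rw [h3] at h4
  exact absurd h4 (by decide +kernel)

/-- **the list for `Co₁`** -/
theorem lst_co1' {K : Type} [Group K] [Finite K] (h : Spor.IsoCo1 K) {X Y : Subgroup K} (f : Fa X Y) :
    Nat.card X = 42305421312000 ∨ Nat.card X = 495766656000 ∨ (Nat.card X, Y.index) ∈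
      [(251596800, 98280), (251596800, 8386560), (4585351680, 98280)] := by
  refine (lst_co1 h f).imp_right (Or.imp_right fun h1 => ?_)
  have h2 : ¬ (Nat.card X = 3113510400 ∧ Y.index = 98280) := fun h2 =>
    noA13 f.simple f.nab h2.1 ((X ⊓ Y).subgroupOf X) (by
      rw [Nat.card_congr (Subgroup.subgroupOfEquivOfLe inf_le_left).toEquiv, ← f.div, h2.1, h2.2])
  simp only [List.mem_cons, Prod.mk.injEq, List.not_mem_nil, or_false] at h1 ⊢
  omega

end Cfsg.Agent.SM.Sp
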