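import Cfsg.Agent.SM.Sp.Defs
import Cfsg.Agent.TH.Spor.InB
import Cfsg.Agent.TH.Spor.EngC
import Cfsg.Agent.H72.AdjPSL
import Cfsg.Agent.H72.AdjSp

/-!
# SM (S3570), sporadic socles: `L₃(9)`, `S₄(8)`, `A₁₄` are not subgroups of `Co₁` (helper26)
-/

set_option autoImplicit false

namespace Cfsg.Agent.SM.Sp.NoS

open Cfsg Cfsg.Agent.TH.Spor Cfsg.Agent.OrdDiv

theorem no_ord {K : Type} [Group K] [Finite K] (h : Spor.IsoCo1 K) (g : K) : orderOf g ∉ [45, 65, 91] := by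
  obtain ⟨T, -, -, -⟩ := in_co1 h
  rw [T.ord]
  exact (by decide +kernel : ∀ t < TAB.Co1.D.n, TAB.Co1.D.ord t ∉ [45, 65, 91]) _ (T.lt g)

variable {S : Type} [Group S] [Finite S]

theorem name (hs : IsSimpleGroup S) (hn : ¬ IsMulCommutative S) {l : List (ℕ × ℕ)} {N : ℕ} (h : Nat.card S = N)
    (hv : valid l N = true) {L : List Grp} (hL : (cands l N).filter (fun g => Nat.beq (ordN g) N) = L) :
    ∃ g ∈ L, Real g S :=
  hL ▸ exists_real_filter base.table (base.known S hs) (fun h1 => hn ⟨⟨h1⟩⟩) hv h.dvd (fun n => Nat.beq n N)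
    (by rw [h]; exact Nat.beq_refl N)

omit [Finite S] in
theorem of_equiv {G : Type} [Group G] (e : S ≃* G) {n : ℕ} (h : ∃ x : G, orderOf x = n) : ∃ x : S, orderOf x = n :=
  h.elim fun x hx => ⟨e.symm x, (e.symm.orderOf_eq x).trans hx⟩

theorem l39 (hs : IsSimpleGroup S) (hn : ¬ IsMulCommutative S) (h : Nat.card S = 42456960) : ∃ x : S, orderOf x = 91 := by
  obtain ⟨g, hg, hr⟩ := name hs hn h (l := [(2, 7), (3, 6), (5, 1), (7, 1), (13, 1)]) (by decide +kernel)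
    (L := [.psl 3 9]) (by decide +kernel)
  obtain rfl := List.mem_singleton.1 hg
  obtain ⟨F, _, _, hF, ⟨e⟩⟩ := hr
  exact of_equiv e (H72.AdjPSL.exists_order_of_block (H72.AdjPSL.hasBlock_singer (a := 3) (d := 91) (by norm_num)
    (by rw [hF]; norm_num) (by rw [hF]; norm_num)) (by norm_num) le_rfl (by rw [hF]; norm_num) 91 dvd_rfl)

theorem s48 (hs : IsSimpleGroup S) (hn : ¬ IsMulCommutative S) (h : Nat.card S = 1056706560) :
    ∃ x : S, orderOf x = 65 := by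
  obtain ⟨g, hg, hr⟩ := name hs hn h (l := [(2, 12), (3, 4), (5, 1), (7, 2), (13, 1)]) (by decide +kernel)
    (L := [.psp 2 8]) (by decide +kernel)
  obtain rfl := List.mem_singleton.1 hg
  obtain ⟨F, _, _, hF, ⟨e⟩⟩ := hr
  have : CharP F 2 := charP_of_card_eq_prime_pow (p := 2) (f := 3) hF
  have h1 : H377.Elt F 2 (-1) 65 := H72.AdjOrth.elt_tn (k := 4) (by norm_num)
    (by rw [Nat.card_eq_fintype_card, hF]; decide)
  exact of_equiv e (H72.AdjSp.of_elt (by norm_num) h1)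

theorem a14 (hs : IsSimpleGroup S) (hn : ¬ IsMulCommutative S) (h : Nat.card S = 43589145600) :
    ∃ x : S, orderOf x = 45 := by
  obtain ⟨g, hg, hr⟩ := name hs hn h (l := [(2, 10), (3, 5), (5, 2), (7, 2), (11, 1), (13, 1)]) (by decide +kernel)
    (L := [.alt 14]) (by decide +kernel)
  obtain rfl := List.mem_singleton.1 hg
  obtain ⟨e⟩ := hr
  obtain ⟨x, hx⟩ := (Equiv.Perm.exists_with_cycleType_iff (Fin 14) (m := {9, 5})).2 (by decide)
  refine of_equiv e ⟨⟨x, Equiv.Perm.mem_alternatingGroup.2 ?_⟩, ?_⟩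
  · rw [Equiv.Perm.sign_of_cycleType, hx]
    decide
  · rw [Subgroup.orderOf_mk, ← Equiv.Perm.lcm_cycleType, hx]
    decide

end Cfsg.Agent.SM.Sp.NoS

namespace Cfsg.Agent.SM.Sp

open Cfsg

/-- no simple subgroup of `Co₁` has the order of `L₃(9)`, `S₄(8)` or `A₁₄` -/
theorem noS_co1 {K : Type} [Group K] [Finite K] (h : Spor.IsoCo1 K) (S : Subgroup K) (hs : IsSimpleGroup S)
    (hn : ¬ IsMulCommutative S) : Nat.card S ≠ 42456960 ∧ Nat.card S ≠ 1056706560 ∧ Nat.card S ≠ 43589145600 := by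
  have key : ∀ n ∈ [45, 65, 91], ¬ ∃ x : S, orderOf x = n := fun n h1 ⟨x, hx⟩ =>
    NoS.no_ord h x (by rwa [Subgroup.orderOf_coe, hx])
  exact ⟨fun h1 => key 91 (by decide) (NoS.l39 hs hn h1), fun h1 => key 65 (by decide) (NoS.s48 hs hn h1),
    fun h1 => key 45 (by decide) (NoS.a14 hs hn h1)⟩

end Cfsg.Agent.SM.Sp
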