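import Cfsg.Agent.SM.Sp.Defs
import Cfsg.Agent.Characters.Central
import Cfsg.Agent.Characters.Counting

/-!
# SM (S3570), sporadic socles: two facts on characters (helper95)

* `boxCh : BoxCh`.
-/

set_option autoImplicit false

namespace Cfsg.Agent.SM.Sp

open Cfsg Cfsg.Agent.Characters

namespace Ch

variable {K : Type} [Group K] (X Y : Subgroup K) [Fintype X] [Fintype Y] {χ : K → ℂ}

theorem shift (x₀ x₁ : X) (y₀ y₁ : Y) (hc : IsClassFunction K χ) :
    ∑ x : X, ∑ y : Y, χ (y₁ * (x₀ * x * x₁) * (y₀ * y)) = ∑ x : X, ∑ y : Y, χ (x * y) := by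
  rw [← Equiv.sum_comp ((Equiv.mulLeft x₀).trans (Equiv.mulRight x₁)) (fun x : X => ∑ y : Y, χ (x * y))]
  refine Finset.sum_congr rfl fun x _ => ?_
  rw [← Equiv.sum_comp ((Equiv.mulLeft y₀).trans (Equiv.mulRight y₁)) (fun y : Y => χ (_ * y))]
  refine Finset.sum_congr rfl fun y _ => ?_
  rw [← hc _ (y₁ : K)⁻¹]
  congr 1
  simp only [Equiv.trans_apply, Equiv.coe_mulLeft, Equiv.coe_mulRight, Subgroup.coe_mul]
  group

theorem sum_zero [Fintype K] (hχ : IsIrrCharacter K χ) (h1 : χ 1 ≠ 1) : ∑ g, χ g = 0 := by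
  have h := Core.classInner_irr_ne hχ Core.isIrr_one fun e => h1 (by rw [e]; rfl)
  rw [Core.classInner_def, mul_eq_zero] at h
  simpa using h.resolve_left (inv_ne_zero Core.card_ne_zero_complex)

theorem prod_zero [Fintype K] (h : Ex78.Pd X Y) (hχ : IsIrrCharacter K χ) (h1 : χ 1 ≠ 1) :
    ∑ x : X, ∑ y : Y, χ (x * y) = 0 := by
  have hc := Core.isIrr_isClassFunction hχ
  have h2 : ∀ g : K, ∑ x : X, ∑ y : Y, χ (x * g * y) = ∑ x : X, ∑ y : Y, χ (x * y) := fun g => by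
    obtain ⟨x₀, hx, y₀, hy, rfl⟩ := h g
    rw [← shift X Y 1 ⟨x₀, hx⟩ ⟨y₀, hy⟩ 1 hc]
    refine Finset.sum_congr rfl fun x _ => Finset.sum_congr rfl fun y _ => ?_
    congr 1
    simp only [Subgroup.coe_one]
    group
  have h3 : ∑ g : K, ∑ x : X, ∑ y : Y, χ (x * g * y) = 0 := by
    rw [Finset.sum_comm]
    refine Finset.sum_eq_zero fun x _ => ?_
    rw [Finset.sum_comm]
    refine Finset.sum_eq_zero fun y _ => ?_
    rw [← sum_zero hχ h1]
    exact Equiv.sum_comp ((Equiv.mulLeft (x : K)).trans (Equiv.mulRight (y : K))) χ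
  simp only [h2] at h3
  rw [Finset.sum_const, nsmul_eq_mul, mul_eq_zero] at h3
  exact h3.resolve_left (by exact_mod_cast Finset.card_ne_zero.2 Finset.univ_nonempty)

theorem one [Finite K] (h : Ex78.Pd X Y) (hχ : IsIrrCharacter K χ) (h1 : χ 1 ≠ 1) :
    ∑ x : X, χ x = 0 ∨ ∑ y : Y, χ y = 0 := by
  have : Fintype K := Fintype.ofFinite K
  have hc := Core.isIrr_isClassFunction hχ
  have h2 : ∀ a : K, ∑ x : X, ∑ y : Y, χ (a * x * a⁻¹ * y) = 0 := fun a => by
    obtain ⟨x₀, hx, y₀, hy, e⟩ := h a⁻¹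
    rw [← prod_zero X Y h hχ h1, ← shift X Y (⟨x₀, hx⟩ : X)⁻¹ ⟨x₀, hx⟩ ⟨y₀, hy⟩ (⟨y₀, hy⟩ : Y)⁻¹ hc]
    refine Finset.sum_congr rfl fun x _ => Finset.sum_congr rfl fun y _ => ?_
    have ea : a = y₀⁻¹ * x₀⁻¹ := by rw [← mul_inv_rev, ← e, inv_inv]
    congr 1
    rw [ea]
    simp only [Subgroup.coe_inv]
    group
  have h3 : ∑ a : K, ∑ x : X, ∑ y : Y, χ (a * x * a⁻¹ * y) =
      Nat.card K / χ 1 * ((∑ x : X, χ x) * ∑ y : Y, χ y) := by
    rw [Finset.sum_comm, Finset.sum_mul_sum, Finset.mul_sum]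
    refine Finset.sum_congr rfl fun x _ => ?_
    rw [Finset.sum_comm, Finset.mul_sum]
    refine Finset.sum_congr rfl fun y _ => ?_
    rw [Central.sum_char_conj_mul hχ]
    ring
  simp only [h2, Finset.sum_const_zero] at h3
  exact mul_eq_zero.1 ((mul_eq_zero.1 h3.symm).resolve_left
    (div_ne_zero Core.card_ne_zero_complex (Core.isIrr_apply_one_ne_zero hχ)))

theorem two [Finite K] (A : Subgroup K) [Fintype A] (n : ℕ) (χ : ℕ → K → ℂ) (d m : ℕ → ℕ)
    (h1 : ∀ j < n, IsIrrCharacter K (χ j)) (h2 : ∀ i < n, ∀ j < n, χ i = χ j → i = j)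
    (h3 : ∀ ψ, IsIrrCharacter K ψ → ∃ j < n, ψ = χ j) (h4 : ∀ j < n, χ j 1 = d j)
    (h5 : ∀ j < n, ∑ x : A, χ j x = (Nat.card A * m j : ℕ)) :
    ∑ j ∈ Finset.range n, d j * m j = A.index ∧ ∃ j < n, d j = 1 ∧ m j = 1 := by
  classical
  have hA : (Nat.card A : ℂ) ≠ 0 := Core.card_ne_zero_complex
  refine ⟨?_, ?_⟩
  · have := Core.finite_irr (G := K)
    have : Fintype (IrrCharacter K) := Fintype.ofFinite _
    have e1 : ∀ g : K, ∑ j ∈ Finset.range n, χ j 1 * χ j g = if g = 1 then (Nat.card K : ℂ) else 0 := fun g => by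
      rw [← Counting.sum_irr_one_mul g]
      refine Finset.sum_bij (fun j hj => ⟨χ j, h1 j (Finset.mem_range.1 hj)⟩) (fun _ _ => Finset.mem_univ _)
        (fun i hi j hj e => h2 i (Finset.mem_range.1 hi) j (Finset.mem_range.1 hj) (congrArg Subtype.val e))
        (fun ψ _ => ?_) fun _ _ => rfl
      obtain ⟨j, hj, e⟩ := h3 ψ.1 ψ.2
      exact ⟨j, Finset.mem_range.2 hj, Subtype.ext e.symm⟩
    have e2 : ∑ x : A, ∑ j ∈ Finset.range n, χ j 1 * χ j x = Nat.card K := by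
      simp only [e1]
      refine (Finset.sum_eq_single (1 : A) (fun x _ hx => if_neg fun e => hx (Subtype.ext e)) (by simp)).trans ?_
      simp
    rw [Finset.sum_comm] at e2
    have e3 : ∑ j ∈ Finset.range n, ∑ x : A, χ j 1 * χ j x =
        Nat.card A * ((∑ j ∈ Finset.range n, d j * m j : ℕ) : ℂ) := by
      rw [Nat.cast_sum, Finset.mul_sum]
      refine Finset.sum_congr rfl fun j hj => ?_
      rw [← Finset.mul_sum, h4 j (Finset.mem_range.1 hj), h5 j (Finset.mem_range.1 hj)]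
      push_cast
      ring
    rw [e3, ← A.card_mul_index, Nat.cast_mul] at e2
    exact_mod_cast mul_left_cancel₀ hA e2
  · obtain ⟨j, hj, e⟩ := h3 1 Core.isIrr_one
    have e1 := h4 j hj
    have e2 := h5 j hj
    rw [← e] at e1 e2
    rw [Pi.one_apply] at e1
    refine ⟨j, hj, by exact_mod_cast e1.symm, ?_⟩
    simp only [Pi.one_apply, Finset.sum_const, Finset.card_univ, nsmul_eq_mul, mul_one] at e2
    rw [← Nat.card_eq_fintype_card, Nat.cast_mul] at e2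
    have e3 : (Nat.card A : ℂ) * 1 = Nat.card A * m j := by rw [mul_one]; exact e2
    exact_mod_cast (mul_left_cancel₀ hA e3).symm

end Ch

/-- **BoxCh** -/
theorem boxCh : BoxCh := fun _ _ _ =>
  ⟨fun X Y _ _ _ h hχ h1 => Ch.one X Y h hχ h1, fun A _ n χ d m => Ch.two A n χ d m⟩

end Cfsg.Agent.SM.Sp
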