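import Cfsg.Agent.SM.Defs
import Cfsg.Agent.SM.Ex78.Base
import Cfsg.Prelude.Def_Characters

/-!
# SM (S3570), sporadic socles: the interface of the numerical engine (helper26)

* `Lc U V` : the normaliser in `U` of a non-trivial characteristic subgroup of `V` lies in `V`;
* `Fa X Y` : what is seen inside the socle `K = X Y`;
* `Lst K L` : the pairs `(|X|, |K : Y|)` lie in `L`;
* `BoxRed`, `BoxLc`, `BoxCh` : the reduction, the consequences of `Lc`, two facts on characters.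
-/

set_option autoImplicit false

namespace Cfsg.Agent.SM.Sp

open Cfsg

/-- the normaliser in `U` of a non-trivial characteristic subgroup of `V` lies in `V` -/
def Lc {K : Type} [Group K] (U V : Subgroup K) : Prop :=
  ∀ C : Subgroup V, C.Characteristic → C ≠ ⊥ → U ⊓ Subgroup.normalizer (C.map V.subtype : Set K) ≤ V

/-- the factorisation `K = X Y` -/
structure Fa {K : Type} [Group K] (X Y : Subgroup K) : Prop where
  simple : IsSimpleGroup X
  nab : ¬ IsMulCommutative X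
  neX : X ≠ ⊤
  neY : Y ≠ ⊤
  pd : Ex78.Pd X Y
  nb : X ⊓ Y ≠ ⊥
  lcX : Lc X (X ⊓ Y)
  lcY : Lc ⊤ Y

/-- **the result of the engine** -/
def Lst (K : Type) [Group K] (L : List (ℕ × ℕ)) : Prop := ∀ X Y : Subgroup K, Fa X Y → (Nat.card X, Y.index) ∈ L

/-- the reduction to the socle -/
def BoxRed : Prop :=
  (∀ (Γ : Type) [Group Γ] [Finite Γ] (M S H T B : Subgroup Γ), Fac M S H T B → Fa (T.subgroupOf S) (B.subgroupOf S)) ∧
    ∀ (K K' : Type) [Group K] [Group K'] (L : List (ℕ × ℕ)), (K ≃* K') → Lst K' L → Lst K L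

/-- no divisor `d > 1` of `m` is `1` modulo `p` -/
def Cl (p m : ℕ) : Prop := ∀ d, d ∣ m → d % p = 1 → d = 1

/-- The consequences of `Lc U V`, `V ≤ U`, `|V| = p ^ k * m`. -/
def BoxLc : Prop :=
  ∀ (K : Type) [Group K] [Finite K] (U V : Subgroup K), V ≤ U → Lc U V → ∀ p k m : ℕ, p.Prime → 0 < k → ¬ p ∣ m →
    Nat.card V = p ^ k * m →
      (Cl p m → V.relIndex U % p = 1) ∧
      (Cl p m → k = 1 → Nat.card {x : U // x ^ p = 1} = 1 + (p - 1) * V.relIndex U) ∧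
      (m = 1 → k ≤ 2 → IsSimpleGroup U → IsMulCommutative U) ∧
      ∀ q j : ℕ, q.Prime → k = 1 → m = q ^ j → (∀ d, d ∣ m → d % p = 1 → d = 1 ∨ d = m) →
        V.relIndex U % p = 1 ∨ V.relIndex U % q = 1

/-- two facts on characters -/
def BoxCh : Prop :=
  ∀ (K : Type) [Group K] [Finite K],
    (∀ (X Y : Subgroup K) [Fintype X] [Fintype Y] (χ : K → ℂ), Ex78.Pd X Y → IsIrrCharacter K χ → χ 1 ≠ 1 →
      ∑ x : X, χ x = 0 ∨ ∑ y : Y, χ y = 0) ∧
    ∀ (A : Subgroup K) [Fintype A] (n : ℕ) (χ : ℕ → K → ℂ) (d m : ℕ → ℕ), (∀ j < n, IsIrrCharacter K (χ j)) →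
      (∀ i < n, ∀ j < n, χ i = χ j → i = j) → (∀ ψ, IsIrrCharacter K ψ → ∃ j < n, ψ = χ j) → (∀ j < n, χ j 1 = d j) →
      (∀ j < n, ∑ x : A, χ j x = (Nat.card A * m j : ℕ)) →
      ∑ j ∈ Finset.range n, d j * m j = A.index ∧ ∃ j < n, d j = 1 ∧ m j = 1

end Cfsg.Agent.SM.Sp
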