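import Cfsg.Agent.SM.Sp.Red

/-!
# SM (S3570), sporadic socles: counting when `|V|` is a product of two primes (helper33)
-/

set_option autoImplicit false

namespace Cfsg.Agent.SM.Sp

open Cfsg Subgroup

namespace Rd

theorem lc5_top {G : Type} [Group G] [Finite G] {V : Subgroup G} (h : Lc ⊤ V) {p m : ℕ} (hp : p.Prime) (hm : m.Prime)
    (hpm : p ≠ m) (hc : Nat.card V = p * m) (hcl : Cl p m) (hs : IsSimpleGroup G) (hn : ¬ IsMulCommutative G) :
    Nat.card {x : G // x ^ (Nat.card G / p) = 1} + (p - 1) * V.index = Nat.card G := by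
  have := Fact.mk hp
  have hd : ¬ p ∣ m := fun h1 => hpm ((Nat.prime_dvd_prime_iff_eq hp hm).1 h1)
  have hV : Nat.card V = p ^ 1 * m := by rw [pow_one, hc]
  obtain ⟨P, h1, h2, h3, h4⟩ := exists_syl hd hV
  obtain ⟨h5, h6⟩ := core h hp one_pos hd hV P h1 (normal_of_card (hcl _ h2 h3) P)
  have hP' : Nat.card ((P : Subgroup V).map V.subtype) = p ^ 1 := by rw [card_map_of_injective V.subtype_injective, h1]
  have hi : ¬ p ∣ ((P : Subgroup V).map V.subtype).index := fun hd' => by
    rw [index_map_subtype, h4] at hd'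
    rcases hp.dvd_mul.1 hd' with h7 | h7
    · exact hd h7
    · rw [Nat.mod_eq_zero_of_dvd h7] at h6
      exact zero_ne_one h6
  let Q : Sylow p G := (IsPGroup.of_card hP').toSylow hi
  have hQ : Nat.card Q = p := hP'.trans (pow_one p)
  have hN : normalizer ((Q : Subgroup G) : Set G) = V := h5
  have hf : (Nat.card G).factorization p = 1 := by
    have h9 := Q.card_eq_multiplicity
    rw [show Nat.card Q = p ^ 1 from hP'] at h9
    exact (Nat.pow_right_injective hp.two_le h9).symm
  have hQc : ∀ a b : Q, a * b = b * a := comm_of_card (p := p) (k := 1) hP' one_le_two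
  have hQC : (Q : Subgroup G) ≤ centralizer ((Q : Subgroup G) : Set G) := fun v hv x hx =>
    congrArg Subtype.val (hQc ⟨x, hx⟩ ⟨v, hv⟩)
  have hCV : centralizer ((Q : Subgroup G) : Set G) ≤ V := hN ▸ centralizer_le_normalizer _
  have hC : centralizer ((Q : Subgroup G) : Set G) ≤ Q := by
    have h7 := relIndex_mul_relIndex _ _ _ hQC hCV
    have h8 : (Q : Subgroup G).relIndex V = m := by
      rw [← h4]
      exact congrArg index (comap_map_eq_self_of_injective V.subtype_injective _)
    rw [h8] at h7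
    rcases (Nat.dvd_prime hm).1 (Dvd.intro _ h7) with h9 | h9
    · exact relIndex_eq_one.1 h9
    · exfalso
      rw [h9] at h7
      have hle : normalizer ((Q : Subgroup G) : Set G) ≤ centralizer ((Q : Subgroup G) : Set G) :=
        hN ▸ relIndex_eq_one.1 (Nat.eq_of_mul_eq_mul_left hm.pos (h7.trans (mul_one m).symm))
      have h10 := MonoidHom.ker_transferSylow_isComplement' Q hle
      rcases (inferInstance : (MonoidHom.transferSylow Q hle).ker.Normal).eq_bot_or_eq_top with h11 | h11
      · rw [h11, isComplement'_bot_left] at h10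
        exact hn ⟨⟨fun a b => congrArg Subtype.val (hQc ⟨a, h10.ge (mem_top a)⟩ ⟨b, h10.ge (mem_top b)⟩)⟩⟩
      · rw [h11, isComplement'_top_left] at h10
        rw [h10, card_bot] at hQ
        exact hp.one_lt.ne hQ
  -- an element of order divisible by `p` has order `p`
  have ho : ∀ x : G, p ∣ orderOf x → orderOf x = p := by
    intro x hx
    have hx0 : orderOf x ≠ 0 := (orderOf_pos x).ne'
    have hy : orderOf (x ^ (orderOf x / p)) = p := orderOf_pow_orderOf_div hx0 hx
    set y := x ^ (orderOf x / p) with hy'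
    obtain ⟨R, hR⟩ := (IsPGroup.of_card (p := p) (n := 1) (G := zpowers y)
      (by rw [Nat.card_zpowers, hy, pow_one])).exists_le_sylow
    obtain ⟨g, hg⟩ := MulAction.exists_smul_eq G R Q
    have h7 : g * y * g⁻¹ ∈ (Q : Subgroup G) := by
      rw [← hg, Sylow.smul_def, Sylow.pointwise_smul_def]
      exact smul_mem_pointwise_smul _ _ _ (hR (mem_zpowers y))
    have h8 : orderOf (g * y * g⁻¹) = p := by
      rw [← hy]
      exact (MulAut.conj g).orderOf_eq y
    have h9 : zpowers (g * y * g⁻¹) = Q :=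
      eq_of_le_of_card_ge (zpowers_le.2 h7) (by rw [Nat.card_zpowers, h8, hQ])
    have h10 : g * x * g⁻¹ ∈ (Q : Subgroup G) := by
      refine hC ?_
      rw [← h9]
      rintro _ ⟨k, rfl⟩
      refine Commute.zpow_left ?_ k
      have h11 : Commute y x := (Commute.refl x).pow_left _
      exact h11.map (MulAut.conj g)
    have h12 : orderOf x ∣ p := by
      rw [← (MulAut.conj g).orderOf_eq x, ← hQ]
      exact orderOf_dvd_natCard _ h10
    exact Nat.dvd_antisymm h12 hx
  have hG : p ∣ Nat.card G := hQ ▸ card_subgroup_dvd_card _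
  have hG' : ¬ p ∣ Nat.card G / p := fun h7 => by
    have h8 : p ^ (1 + 1) ∣ Nat.card G := by
      rw [pow_succ', pow_one, ← Nat.mul_div_cancel' hG]
      exact Nat.mul_dvd_mul_left p h7
    exact Nat.pow_succ_factorization_not_dvd (Nat.card_pos (α := G)).ne' hp (by rw [hf]; exact h8)
  have he : {x : G | x ^ (Nat.card G / p) = 1} = {x : G | orderOf x = p}ᶜ := by
    ext x
    change x ^ (Nat.card G / p) = 1 ↔ ¬ orderOf x = p
    rw [← orderOf_dvd_iff_pow_eq_one]
    refine ⟨fun h7 h8 => hG' (h8 ▸ h7), fun h7 => ?_⟩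
    have h8 : orderOf x ∣ p * (Nat.card G / p) := by
      rw [Nat.mul_div_cancel' hG]
      exact orderOf_dvd_natCard x
    exact Nat.Coprime.dvd_of_dvd_mul_left ((Nat.Prime.coprime_iff_not_dvd hp).2 fun h9 => h7 (ho x h9)).symm h8
  have h13 : Set.ncard {x : G | orderOf x = p} = (p - 1) * V.index := by
    have h14 := H180.MEl.card_order_prime hf
    rw [Q.card_eq_index_normalizer, mul_comm] at h14
    exact h14.trans (congrArg (fun W : Subgroup G => (p - 1) * W.index) hN)
  change Set.ncard {x : G | x ^ (Nat.card G / p) = 1} + _ = _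
  rw [he, ← h13, add_comm, Set.ncard_add_ncard_compl]

end Rd

theorem lc5 {K : Type} [Group K] [Finite K] {U V : Subgroup K} (hle : V ≤ U) (h : Lc U V) {p m : ℕ} (hp : p.Prime)
    (hm : m.Prime) (hpm : p ≠ m) (hc : Nat.card V = p * m) (hcl : Cl p m) (hs : IsSimpleGroup U)
    (hn : ¬ IsMulCommutative U) :
    Nat.card {x : U // x ^ (Nat.card U / p) = 1} + (p - 1) * V.relIndex U = Nat.card U := by
  have h1 := Rd.lc_sub h hle
  rw [subgroupOf_self] at h1
  exact Rd.lc5_top h1 hp hm hpm ((Nat.card_congr (subgroupOfEquivOfLe hle).toEquiv).trans hc) hcl hs hn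

end Cfsg.Agent.SM.Sp
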