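import Cfsg.Agent.SM.Sp.Rows
import Cfsg.Agent.SM.Sp.Red2
import Cfsg.Agent.TH.Spor.EngC

/-!
# SM (S3570), sporadic socles: the enumeration of the pairs `(|X|, |K : Y|)` (helper26)
-/

set_option autoImplicit false

namespace Cfsg.Agent.SM.Sp

open Cfsg Cfsg.Agent.TAB.Eng Cfsg.Agent.TAB.Use Cfsg.Agent.SB.SporL Cfsg.Agent.TH Cfsg.Agent.TH.Spor
  Cfsg.Agent.OrdDiv Cfsg.Agent.H940.Eng

/-- the data of the enumeration -/
structure Ed where
  N : ℕ
  l : List (ℕ × ℕ)
  ords : List ℕ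
  loc : List LD
  md : ℕ
  ni : List ℕ
  one : List (ℕ × ℕ)
  oa : List ℕ
  SV : List (ℕ × ℕ)

/-- the divisors of `m` which are `1` modulo `p` are `1` and `e` -/
noncomputable def clB (l : List (ℕ × ℕ)) (p m e : ℕ) : Bool :=
  allD (fun d => cond (Nat.beq (Nat.mod d p) 1) (cond (Nat.beq d 1) true (Nat.beq d e)) true) l m 1

/-- a normal Sylow subgroup -/
noncomputable def cl1 (l : List (ℕ × ℕ)) (n c : ℕ) : Bool :=
  anyL (fun x => cond (dv x.1 c) (cond (Nat.beq (Nat.mod n x.1) 1) false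
    (frc (Nat.div c (Nat.gcd c (Nat.pow x.1 x.2))) fun m => cond (dv x.1 m) false (clB l x.1 m 1))) false) l

/-- one of two Sylow subgroups is normal -/
noncomputable def cl2 (l : List (ℕ × ℕ)) (n c : ℕ) : Bool :=
  anyL (fun x => cond (dv x.1 c) (frc (Nat.div c x.1) fun m => cond (dv x.1 m) false
    (cond (Nat.beq (Nat.mod n x.1) 1) false (anyL (fun y => cond (dv m (Nat.pow y.1 y.2))
      (cond (Nat.beq (Nat.mod n y.1) 1) false (clB l x.1 m m)) false) l))) false) l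

/-- the local test -/
noncomputable def nf (E : Ed) (m : ℕ) : Bool := anyL (fun ld => cond (dv ld.r m) (!feas E.l ld E.ords m) false) E.loc

/-- the test for a pair -/
noncomputable def leaf (E : Ed) (a n : ℕ) : Bool :=
  cond (Nat.ble n E.md) true (cond (memL n E.ni) true (frc (Nat.div a n) fun c => cond (Nat.beq c 1) true
    (cond (anyL (fun x => cond (Nat.beq c x.1) true (Nat.beq c (Nat.mul x.1 x.1))) E.l) true
      (frc (Nat.div E.N n) fun b =>
        cond (anyL (fun x => cond (dv x.1 c) false (cond (dv x.1 a) (dv x.1 b) false)) E.one) true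
          (cond (nf E b) true (cond (memP a n E.SV) true (cond (cl1 E.l n c) true (cond (cl1 E.l n b) true
            (cond (cl2 E.l n c) true (nf E c))))))))))

/-- the orders of the simple factor -/
noncomputable def okOa (E : Ed) : Bool :=
  allL (fun a => cond (memL a E.oa) true (cond (Nat.beq a E.N) true (frc (Nat.div E.N a) fun n =>
    cond (Nat.ble n E.md) true (cond (memL n E.ni) true (nf E a))))) E.ords

/-- the list of the pieces -/
noncomputable def okW (E : Ed) (r : ℕ) (l1 : List (ℕ × ℕ)) (W : List (ℕ × ℕ)) : Bool :=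
  frcL (divsT l1) fun DV => allL (fun a => cond (dv r a) (allL (fun d => cond (dv d a) (memP a d W) true) DV) true) E.oa

/-- some pieces -/
noncomputable def okD (E : Ed) (l2 : List (ℕ × ℕ)) (W : List (ℕ × ℕ)) : Bool :=
  allL (fun w => allD (leaf E w.1) l2 w.1 w.2) W

/-- the orders of `Y` which are divisible by the prime `ld.r` -/
noncomputable def okB (E : Ed) (ld : LD) : Bool :=
  frcLL (opts ld.r ld.C E.l) fun O => frcL (divsT ld.fN) fun DV => frc ld.N fun Nr =>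
    allL (fun s => cond (dv ld.r s) (allL (fun t => cond (dv t (Nat.div Nr ld.r))
      (cond (nuc DV ld.r Nr s t) (frc (Nat.mul s t) (allO E.N (fun b => frc (Nat.div E.N b) fun n =>
        allL (fun a => cond (dv n a) (cond (dv ld.r a) true (leaf E a n)) true) E.oa) O)) true) true) DV) true)
          (ld.r :: E.ords)

/-- the checks of the data -/
noncomputable def okEd (D : Dat) (R : Rows) (E : Ed) : Bool :=
  Nat.beq E.N D.N && valid E.l E.N && decide (E.l.map fun x => x.1).Nodup && allL (okLD D) E.loc && okMd R E.md &&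
    allL (fun x => isPr x.1 && allL (fun t => !Nat.beq (D.ord t) x.1 || Nat.beq t x.2) (List.range D.n)) E.one &&
      okOa E

theorem cond_ft {a b : Bool} (h : cond a false b = true) : a = false ∧ b = true := by
  cases a
  · exact ⟨rfl, h⟩
  · cases h

theorem ne_of_beq_false {a b : ℕ} (h : Nat.beq a b = false) : a ≠ b := Nat.ne_of_beq_eq_false h

theorem clB_spec {l : List (ℕ × ℕ)} {N p m e : ℕ} (hv : valid l N = true) (hm : m ∣ N) (h : clB l p m e = true) (d : ℕ)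
    (h1 : d ∣ m) (h2 : d % p = 1) : d = 1 ∨ d = e := by
  have h3 := allD_spec (valid_prime hv) _ _ d h h1 (valid_prod hv ▸ h1.trans hm)
  rw [one_mul] at h3
  have h4 := cond_imp_spec h3 (Nat.beq_eq ▸ h2)
  cases h5 : Nat.beq d 1 with
  | true => exact Or.inl (Nat.eq_of_beq_eq_true h5)
  | false =>
    rw [h5] at h4
    exact Or.inr (Nat.eq_of_beq_eq_true h4)

variable {K : Type} [Group K] [Finite K] {D : Dat} {T : TD K D} {R : Rows} {E : Ed} {X Y : Subgroup K}

theorem not_cl1 {l : List (ℕ × ℕ)} (hv : valid l (Nat.card K) = true) {U V : Subgroup K} (h1 : V ≤ U) (h2 : Lc U V) :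
    ¬ cl1 l (V.relIndex U) (Nat.card V) = true := by
  intro h
  obtain ⟨x, hx, h3⟩ := anyL_spec h
  obtain ⟨h4, h5⟩ := cond_ff h3
  obtain ⟨h6, h7⟩ := cond_ft h5
  rw [frc_eq] at h7
  obtain ⟨h8, h9⟩ := cond_ft h7
  have hp := valid_prime hv x hx
  obtain ⟨k, -, hk⟩ := (Nat.dvd_prime_pow hp).1 (Nat.gcd_dvd_right (Nat.card V) (x.1 ^ x.2))
  have h10 : Nat.card V = x.1 ^ k * Nat.div (Nat.card V) (Nat.gcd (Nat.card V) (Nat.pow x.1 x.2)) :=
    hk ▸ (Nat.mul_div_cancel' (Nat.gcd_dvd_left _ _)).symm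
  generalize Nat.div (Nat.card V) (Nat.gcd (Nat.card V) (Nat.pow x.1 x.2)) = m at h8 h9 h10
  have h11 : 0 < k := Nat.pos_of_ne_zero fun h11 => by
    rw [h11, pow_zero, one_mul] at h10
    exact dv_false h8 (h10 ▸ dv_iff.1 h4)
  exact ne_of_beq_false h6 ((boxLc K U V h1 h2 x.1 k m hp h11 (dv_false h8) h10).1 fun d h12 h13 =>
    (clB_spec hv ((Dvd.intro_left _ h10.symm).trans V.card_subgroup_dvd_card) h9 d h12 h13).elim id id)

theorem not_cl2 {l : List (ℕ × ℕ)} (hv : valid l (Nat.card K) = true) {U V : Subgroup K} (h1 : V ≤ U) (h2 : Lc U V) :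
    ¬ cl2 l (V.relIndex U) (Nat.card V) = true := by
  intro h
  obtain ⟨x, hx, h3⟩ := anyL_spec h
  obtain ⟨h4, h5⟩ := cond_ff h3
  rw [frc_eq] at h5
  obtain ⟨h6, h7⟩ := cond_ft h5
  obtain ⟨h8, h9⟩ := cond_ft h7
  obtain ⟨y, hy, h10⟩ := anyL_spec h9
  obtain ⟨h11, h12⟩ := cond_ff h10
  obtain ⟨h13, h14⟩ := cond_ft h12
  have h15 : Nat.card V = x.1 ^ 1 * Nat.div (Nat.card V) x.1 := by
    rw [pow_one]
    exact (Nat.mul_div_cancel' (dv_iff.1 h4)).symm
  generalize Nat.div (Nat.card V) x.1 = m at h6 h11 h14 h15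
  obtain ⟨j, -, hj⟩ := (Nat.dvd_prime_pow (valid_prime hv y hy)).1 (dv_iff.1 h11)
  exact ((boxLc K U V h1 h2 x.1 1 m (valid_prime hv x hx) one_pos (dv_false h6) h15).2.2.2 y.1 j (valid_prime hv y hy)
    rfl hj (clB_spec hv ((Dvd.intro_left _ h15.symm).trans V.card_subgroup_dvd_card) h14)).elim (ne_of_beq_false h8)
      (ne_of_beq_false h13)

omit [Finite K] in
theorem Fa.rel (h : Fa X Y) : (X ⊓ Y).relIndex X = Y.index := by rw [Subgroup.inf_relIndex_left, h.pd.relIndex]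

theorem Fa.div (h : Fa X Y) : Nat.card X / Y.index = Nat.card ↥(X ⊓ Y) :=
  Nat.div_eq_of_eq_mul_left (index_pos' Y) h.pd.card_left.symm

/-- the meaning of the data -/
structure EdOk (T : TD K D) (E : Ed) : Prop where
  card : Nat.card K = E.N
  unif : Unif T
  val : valid E.l E.N = true
  nd : (E.l.map fun x => x.1).Nodup
  ords : Ords.{0} E.N E.ords
  loc : ∀ ld ∈ E.loc, Loc K ld
  md : ∀ A : Subgroup K, A ≠ ⊤ → E.md < A.index
  ni : ∀ A : Subgroup K, A.index ∉ E.ni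
  one : ∀ x ∈ E.one, x.1.Prime ∧ ∀ g : K, orderOf g = x.1 → T.ty g = x.2
  oa : okOa E = true

theorem EdOk.nf (H : EdOk T E) (A : Subgroup K) : ¬ nf E (Nat.card A) = true := by
  intro h
  obtain ⟨ld, h1, h2⟩ := anyL_spec h
  obtain ⟨h3, h4⟩ := cond_ff h2
  rw [feas_of H.val H.card H.ords (H.loc ld h1) (dv_iff.1 h3)] at h4
  cases h4

theorem EdOk.div (H : EdOk T E) (A : Subgroup K) : E.N / A.index = Nat.card A := by
  rw [← H.card]
  exact Nat.div_eq_of_eq_mul_left (index_pos' A) A.card_mul_index.symm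

theorem EdOk.div' (H : EdOk T E) (A : Subgroup K) : E.N / Nat.card A = A.index := by
  rw [← H.card]
  exact Nat.div_eq_of_eq_mul_right Nat.card_pos A.card_mul_index.symm

theorem dvd_inf (hu : Unif T) (h : Ex78.Pd X Y) {p q : ℕ} (hp : p.Prime) (h1 : ∀ g : K, orderOf g = p → T.ty g = q)
    (h2 : p ∣ Nat.card X) (h3 : p ∣ Nat.card Y) : p ∣ Nat.card ↥(X ⊓ Y) := by
  have := Fact.mk hp
  obtain ⟨x, hx⟩ := exists_prime_orderOf_dvd_card' p h2
  obtain ⟨y, hy⟩ := exists_prime_orderOf_dvd_card' p h3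
  rw [← Subgroup.orderOf_coe] at hx hy
  obtain ⟨k, hk⟩ := hu y x (hy ▸ hp) ((h1 _ hy).trans (h1 _ hx).symm)
  obtain ⟨c, hc⟩ := isConj_iff.1 hk
  have h4 := (h.conj c).card_left
  rw [Subgroup.index_map_of_bijective (MulAut.conj c).bijective, ← h.card_left] at h4
  rw [← Nat.eq_of_mul_eq_mul_right (index_pos' Y) h4, ← hx]
  exact Subgroup.orderOf_dvd_natCard _ ⟨x.2, _, Y.pow_mem y.2 k, hc⟩

theorem EdOk.leaf (H : EdOk T E) (h : Fa X Y) (h1 : leaf E (Nat.card X) Y.index = true) :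
    (Nat.card X, Y.index) ∈ E.SV := by
  have hv : valid E.l (Nat.card K) = true := H.card ▸ H.val
  have h2 := cond_true_spec (cond_true_spec h1 fun h2 => absurd (H.md Y h.neY) (not_lt.2 (Nat.le_of_ble_eq_true h2)))
    fun h2 => H.ni Y (memL_spec h2)
  rw [frc_eq, show Nat.div (Nat.card X) Y.index = _ from h.div] at h2
  have h3 := cond_true_spec (cond_true_spec h2 fun h3 => h.nb (Subgroup.card_eq_one.1 (Nat.eq_of_beq_eq_true h3)))
    fun h3 => by
      obtain ⟨x, hx, h4⟩ := anyL_spec h3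
      have hp := valid_prime hv x hx
      have key : ∀ k, 0 < k → k ≤ 2 → Nat.card ↥(X ⊓ Y) ≠ x.1 ^ k := fun k h5 h6 h7 =>
        h.nab ((boxLc K X _ inf_le_left h.lcX x.1 k 1 hp h5 hp.not_dvd_one (by rw [mul_one, h7])).2.2.1 rfl h6 h.simple)
      exact key 2 two_pos le_rfl ((Nat.eq_of_beq_eq_true (cond_true_spec h4 fun h5 =>
        key 1 one_pos one_le_two ((Nat.eq_of_beq_eq_true h5).trans (pow_one _).symm))).trans (pow_two _).symm)
  rw [frc_eq, show Nat.div E.N Y.index = _ from H.div Y] at h3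
  have h4 := cond_true_spec (cond_true_spec h3 fun h4 => by
    obtain ⟨x, hx, h5⟩ := anyL_spec h4
    obtain ⟨h6, h7⟩ := cond_ft h5
    obtain ⟨h8, h9⟩ := cond_ff h7
    exact dv_false h6 (dvd_inf H.unif h.pd (H.one x hx).1 (H.one x hx).2 (dv_iff.1 h8) (dv_iff.1 h9))) (H.nf Y)
  by_contra h5
  exact H.nf _ (cond_true_spec (cond_true_spec (cond_true_spec (cond_true_spec h4 fun h6 => h5 (memP_spec h6))
    (h.rel ▸ not_cl1 hv inf_le_left h.lcX)) (Y.relIndex_top_right ▸ not_cl1 hv le_top h.lcY))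
      (h.rel ▸ not_cl2 hv inf_le_left h.lcX))

theorem EdOk.mem_oa (H : EdOk T E) (h : Fa X Y) : Nat.card X ∈ E.oa := by
  have h1 := allL_spec H.oa _ (H.ords X h.simple (fun h1 => h.nab ⟨⟨h1⟩⟩) (H.card ▸ X.card_subgroup_dvd_card))
  by_contra h2
  have h3 := cond_true_spec (cond_true_spec h1 fun h3 => h2 (memL_spec h3)) fun h3 =>
    h.neX (Subgroup.eq_top_of_card_eq X ((Nat.eq_of_beq_eq_true h3).trans H.card.symm))
  rw [frc_eq, show Nat.div E.N (Nat.card X) = _ from H.div' X] at h3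
  exact H.nf X (cond_true_spec (cond_true_spec h3 fun h4 =>
    absurd (H.md X h.neX) (not_lt.2 (Nat.le_of_ble_eq_true h4))) fun h4 => H.ni X (memL_spec h4))

theorem EdOk.okB (H : EdOk T E) (hF : Fa X Y) {ld : LD} (hl : ld ∈ E.loc) (h : okB E ld = true)
    (hX : ¬ ld.r ∣ Nat.card X) (hr : ld.r ∣ Nat.card Y) : Sp.leaf E (Nat.card X) Y.index = true := by
  obtain ⟨k, s, t, e1, e2, e3, e4, e5, -, e7, e8, -⟩ := struct_sub H.val H.card H.ords (H.loc ld hl) hr
  have h1 : Nat.card Y ∣ E.N := H.card ▸ Y.card_subgroup_dvd_card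
  have h2 : k ∣ E.N := dvd_trans (by rw [e1]; exact ⟨s * t, by ring⟩) h1
  rw [Sp.okB, frcLL_eq, frcL_eq, frc_eq] at h
  have h3 := cond_imp_spec (cond_imp_spec (allL_spec (cond_imp_spec (allL_spec h s e3) (dv_iff.2 e4)) t e5)
    (dv_iff.2 e2)) e8
  rw [frc_eq] at h3
  have h4 := allO_spec (fun p => k.factorization p) _ _ h3 fun x hx => ⟨?_, e7 _ (valid_prime H.val x hx)⟩
  · rw [prod_factor H.val H.nd h2] at h4
    have h5 : Nat.mul s t * k = Nat.card Y := by
      rw [e1]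
      show s * t * k = _
      ring
    rw [h5] at h4
    have h6 := h4 h1
    rw [frc_eq, show Nat.div E.N (Nat.card Y) = _ from H.div' Y] at h6
    exact cond_true_spec (cond_imp_spec (allL_spec h6 _ (H.mem_oa hF)) (dv_iff.2 hF.pd.index_dvd))
      fun h7 => hX (dv_iff.1 h7)
  · by_contra h5
    exact valid_exact H.val x hx (((pow_dvd_pow _ (not_le.1 h5)).trans (Nat.ordProj_dvd _ _)).trans h2)

/-- **the enumeration** -/
theorem EdOk.mem (H : EdOk T E) (h : Fa X Y) {ld : LD} (hl : ld ∈ E.loc) (hd : ld.r ∣ E.N) (hb : Sp.okB E ld = true)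
    {l1 l2 W : List (ℕ × ℕ)} (hs : E.l = l1 ++ l2) (hW : okW E ld.r l1 W = true)
    (hD : ∀ w ∈ W, ∃ W', okD E l2 W' = true ∧ w ∈ W') : (Nat.card X, Y.index) ∈ E.SV := by
  refine H.leaf h ?_
  by_cases h1 : ld.r ∣ Nat.card X
  · have h2 : Y.index ∣ prodl l1 * prodl l2 := by
      rw [← prodl_append, ← hs, valid_prod H.val, ← H.card]
      exact Y.index_dvd_card
    have h3 : ∀ x ∈ l1 ++ l2, x.1.Prime := hs ▸ valid_prime H.val
    obtain ⟨a, b, h4, h5, h6⟩ := Nat.dvd_mul.1 h2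
    have h7 : a * b ∣ Nat.card X := h6 ▸ h.pd.index_dvd
    rw [okW, frcL_eq] at hW
    obtain ⟨W', h8, h9⟩ := hD _ (memP_spec (cond_imp_spec (allL_spec (cond_imp_spec (allL_spec hW _ (H.mem_oa h))
      (dv_iff.2 h1)) a (mem_divsT (fun x hx => h3 x (List.mem_append_left _ hx)) h4))
        (dv_iff.2 ((dvd_mul_right a b).trans h7))))
    rw [← h6]
    exact allD_spec (fun x hx => h3 x (List.mem_append_right _ hx)) _ _ b (allL_spec h8 _ h9)
      ((dvd_mul_left b a).trans h7) h5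
  · exact H.okB h hl hb h1 ((h.pd.prime_dvd (H.loc ld hl).1 (H.card ▸ hd)).resolve_left h1)

theorem edOk_of (hm : T.Mass) (hu : Unif T) (hT : TAB.Use.Tab T R) (h1 : okEd D R E = true) (h2 : Ords.{0} E.N E.ords)
    (h3 : ∀ A : Subgroup K, A.index ∉ E.ni) : EdOk T E := by
  simp only [okEd, Bool.and_eq_true, Nat.beq_eq, decide_eq_true_eq] at h1
  obtain ⟨⟨⟨⟨⟨⟨c1, c2⟩, c3⟩, c4⟩, c5⟩, c6⟩, c7⟩ := h1
  refine ⟨hm.1.trans c1.symm, hu, c2, c3, h2, fun ld hl => loc_of hm (allL_spec c4 ld hl), fun A => md_lt hT c5, h3,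
    fun x hx => ?_, c7⟩
  have h4 := allL_spec c6 x hx
  rw [Bool.and_eq_true] at h4
  refine ⟨isPr_spec h4.1, fun g hg => ?_⟩
  have h5 := allL_spec h4.2 _ (List.mem_range.2 (T.lt g))
  rw [← T.ord, hg, Nat.beq_refl] at h5
  exact Nat.eq_of_beq_eq_true h5

/-- **the result without certificates** -/
theorem lst_of_enum (hI : In K D R) (h1 : okEd D R E = true) (h2 : Ords.{0} E.N E.ords)
    (h3 : ∀ A : Subgroup K, A.index ∉ E.ni) {ld : LD} (hl : ld ∈ E.loc) (hd : ld.r ∣ E.N) (hb : okB E ld = true)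
    {l1 l2 W : List (ℕ × ℕ)} (hs : E.l = l1 ++ l2) (hW : okW E ld.r l1 W = true)
    (hD : ∀ w ∈ W, ∃ W', okD E l2 W' = true ∧ w ∈ W') : Lst K E.SV := by
  obtain ⟨T, hm, hT, hu⟩ := hI
  exact fun X Y h => (edOk_of hm hu hT h1 h2 h3).mem h hl hd hb hs hW hD

/-! ### the scripts -/

/-- how a pair is excluded -/
inductive Ps : Type
  | kx (j : ℕ) : Ps
  | ky (j : ℕ) : Ps
  | kc (j : ℕ) : Ps
  | br (i : ℕ) (s t : Ps) : Ps

/-- the numbers of solutions of `x ^ d = 1` in `X` -/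
noncomputable def cntOk (l : List (ℕ × ℕ)) (a n c : ℕ) (e : ℕ × ℕ) : Bool :=
  anyL (fun x => cond (dv x.1 c) (frc (Nat.div c x.1) fun m => cond (dv x.1 m) false (cond (clB l x.1 m 1)
    (cond (Nat.beq e.1 (Nat.add 1000 x.1)) (Nat.beq e.2 (Nat.add 1 (Nat.mul (Nat.sub x.1 1) n)))
      (cond (Nat.beq e.1 (Nat.add 1000 (Nat.div a x.1)))
        (cond (Nat.beq (Nat.add e.2 (Nat.mul (Nat.sub x.1 1) n)) a) (isPr m) false) false)) false)) false) l

/-- the row vanishes -/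
noncomputable def zOk (z : List ℕ) (e : ℕ × ℕ) : Bool := cond (Nat.beq e.2 0) (memL e.1 z) false

/-- a certificate is used -/
noncomputable def use (FL : List Hd) (j a : ℕ) (f g : ℕ × ℕ → Bool) : Bool :=
  Prod.rec (fun o B => cond (Nat.beq o a) (cond (allL f B.1) (allL g B.2) false) false) (ntd FL (0, [], []) j)

/-- the check of a script -/
noncomputable def runP (l : List (ℕ × ℕ)) (SG : List ℕ) (FL : List Hd) (a n b c : ℕ) (s : Ps) :
    List ℕ → List ℕ → Bool :=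
  Ps.rec (fun j zx _ => use FL j a (cntOk l a n c) fun e => cond (zOk zx e) true (cntOk l a n c e))
    (fun j _ zy => use FL j b (fun _ => false) (zOk zy)) (fun j _ _ => use FL j c (fun _ => false) fun _ => false)
    (fun i _ _ s t zx zy => cond (memL i SG) (cond (s (i :: zx) zy) (t zx (i :: zy)) false) false) s

/-- the scripts -/
noncomputable def okS (N : ℕ) (l : List (ℕ × ℕ)) (SG : List ℕ) (FL : List Hd) (SS : List ((ℕ × ℕ) × Ps)) : Bool :=
  allL (fun x => frc (Nat.div N x.1.2) fun b => frc (Nat.div x.1.1 x.1.2) fun c =>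
    runP l SG FL x.1.1 x.1.2 b c x.2 [] []) SS

variable {Z : List Ze} {l : List (ℕ × ℕ)}

theorem cntOk_spec (hv : valid l (Nat.card K) = true) (hZ : ZS D Z) (h : Fa X Y) (RL : List Ro) {e : ℕ × ℕ}
    (h1 : cntOk l (Nat.card X) Y.index (Nat.card ↥(X ⊓ Y)) e = true) : val T X (row RL Z e.1).2 = e.2 := by
  obtain ⟨x, hx, h2⟩ := anyL_spec h1
  obtain ⟨h3, h4⟩ := cond_ff h2
  rw [frc_eq] at h4
  obtain ⟨h5, h6⟩ := cond_ft h4
  obtain ⟨h7, h8⟩ := cond_ff h6
  have hp := valid_prime hv x hx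
  have h9 : Nat.card ↥(X ⊓ Y) = x.1 * Nat.div (Nat.card ↥(X ⊓ Y)) x.1 := (Nat.mul_div_cancel' (dv_iff.1 h3)).symm
  generalize Nat.div (Nat.card ↥(X ⊓ Y)) x.1 = m at h5 h7 h8 h9
  have h10 : Cl x.1 m := fun d h12 h13 =>
    (clB_spec hv ((Dvd.intro_left _ h9.symm).trans (X ⊓ Y).card_subgroup_dvd_card) h7 d h12 h13).elim id id
  cases h11 : Nat.beq e.1 (Nat.add 1000 x.1) with
  | true =>
    rw [h11, cond_true] at h8
    rw [Nat.eq_of_beq_eq_true h11, Nat.eq_of_beq_eq_true h8, Nat.add_eq, row_add, val_frob hZ,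
      (boxLc K X _ inf_le_left h.lcX x.1 1 m hp one_pos (dv_false h5) (by rw [pow_one, h9])).2.1 h10 rfl, h.rel]
    rfl
  | false =>
    rw [h11, cond_false] at h8
    obtain ⟨h12, h13⟩ := cond_ff h8
    obtain ⟨h14, h15⟩ := cond_ff h13
    have h16 := lc5 inf_le_left h.lcX hp (isPr_spec h15) (fun h16 => dv_false h5 (h16 ▸ dvd_rfl)) h9 h10 h.simple h.nab
    rw [h.rel] at h16
    rw [Nat.eq_of_beq_eq_true h12, Nat.add_eq, row_add, val_frob hZ, Nat.cast_inj]
    exact Nat.add_right_cancel (h16.trans (Nat.eq_of_beq_eq_true h14).symm)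

theorem use_spec {FL : List Hd} (hF : ∀ x ∈ FL, Dead T R Z x) {j : ℕ} {f g : ℕ × ℕ → Bool} (A : Subgroup K)
    (hf : ∀ e, f e = true → (e.2 : ℤ) ≤ val T A (row (rows R.deg R) Z e.1).2)
    (hg : ∀ e, g e = true → val T A (row (rows R.deg R) Z e.1).2 ≤ (e.2 : ℤ)) :
    ¬ use FL j (Nat.card A) f g = true := by
  intro h
  obtain ⟨h1, h2⟩ := cond_ff (show cond (Nat.beq (ntd FL (0, [], []) j).1 (Nat.card A))
    (cond (allL f (ntd FL (0, [], []) j).2.1) (allL g (ntd FL (0, [], []) j).2.2) false) false = true from h)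
  obtain ⟨h3, h4⟩ := cond_ff h2
  rcases ntd_mem FL (0, [], []) j with h5 | h5
  · rw [h5] at h1
    exact Nat.card_pos.ne (Nat.eq_of_beq_eq_true h1)
  · exact hF _ h5 A (Nat.eq_of_beq_eq_true h1).symm (fun e he => hf e (allL_spec h3 e he))
      fun e he => hg e (allL_spec h4 e he)

omit [Finite K] in
theorem zOk_spec {A : Subgroup K} {RL : List Ro} {z : List ℕ} (hz : ∀ i ∈ z, val T A (row RL Z i).2 = 0) {e : ℕ × ℕ}
    (h : zOk z e = true) : val T A (row RL Z e.1).2 ≤ (e.2 : ℤ) :=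
  (hz _ (memL_spec (cond_ff h).2)).le.trans (Int.natCast_nonneg _)

theorem runP_spec (hv : valid l (Nat.card K) = true) (hZ : ZS D Z) (hT : TAB.Use.Tab T R) {SG : List ℕ}
    (hS : okSG R SG = true) {FL : List Hd} (hF : ∀ x ∈ FL, Dead T R Z x) (h : Fa X Y) (s : Ps) : ∀ zx zy : List ℕ,
    (∀ i ∈ zx, val T X (row (rows R.deg R) Z i).2 = 0) → (∀ i ∈ zy, val T Y (row (rows R.deg R) Z i).2 = 0) →
      ¬ runP l SG FL (Nat.card X) Y.index (Nat.card Y) (Nat.card ↥(X ⊓ Y)) s zx zy = true := by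
  induction s with
  | kx j =>
    refine fun zx zy h1 _ => use_spec hF X (fun e he => (cntOk_spec hv hZ h _ he).ge) fun e he => ?_
    cases h2 : zOk zx e with
    | true => exact zOk_spec h1 h2
    | false =>
      rw [h2] at he
      exact (cntOk_spec hv hZ h _ he).le
  | ky j => exact fun zx zy _ h1 => use_spec hF Y (fun _ he => absurd he Bool.false_ne_true) fun e he => zOk_spec h1 he
  | kc j =>
    exact fun zx zy _ _ => use_spec hF _ (fun _ he => absurd he Bool.false_ne_true)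
      fun _ he => absurd he Bool.false_ne_true
  | br i s t ihs iht =>
    intro zx zy h1 h2 h3
    obtain ⟨h4, h5⟩ := cond_ff h3
    obtain ⟨h6, h7⟩ := cond_ff h5
    rcases zero_or (Z := Z) hT hS h.pd (memL_spec h4) with h8 | h8
    · exact ihs _ _ (List.forall_mem_cons.2 ⟨h8, h1⟩) h2 h6
    · exact iht _ _ h1 (List.forall_mem_cons.2 ⟨h8, h2⟩) h7

/-- **the certificates shorten the list** -/
theorem lst_of_cert (hI : In K D R) {SV L : List (ℕ × ℕ)} (h0 : Lst K SV) (hv : valid l D.N = true)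
    {P : List (ℕ × ℕ × ℕ)} {SG : List ℕ} (h1 : (okP D P && okZ D Z && okIdx R && okSG R SG) = true) {FL : List Hd}
    (h2 : ∀ x ∈ FL, ∃ CL, okL D R P Z CL = true ∧ x ∈ CL.map Prod.fst) {SS : List ((ℕ × ℕ) × Ps)}
    (h3 : okS D.N l SG FL SS = true) (h4 : SV = L ++ SS.map Prod.fst) : Lst K L := by
  obtain ⟨T, hm, hT, hu⟩ := hI
  simp only [Bool.and_eq_true] at h1
  obtain ⟨⟨⟨c1, c2⟩, c3⟩, c4⟩ := h1
  intro X Y h
  refine (List.mem_append.1 (h4 ▸ h0 X Y h)).resolve_right fun h5 => ?_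
  obtain ⟨⟨y, s⟩, hx, rfl⟩ := List.mem_map.1 h5
  have h6 := allL_spec h3 _ hx
  have h7 : Nat.div D.N Y.index = Nat.card Y := by
    rw [← hm.1]
    exact Nat.div_eq_of_eq_mul_left (index_pos' Y) Y.card_mul_index.symm
  rw [frc_eq, frc_eq, h7, show Nat.div (Nat.card X) Y.index = _ from h.div] at h6
  exact runP_spec (hm.1 ▸ hv) (zs_of c2) hT c4 (fun x hx => by
    obtain ⟨CL, h8, h9⟩ := h2 x hx
    exact dead_of hm hu hT c3 (zs_of c2) c1 h8 x h9) h s [] [] nofun nofun h6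

end Cfsg.Agent.SM.Sp
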