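import Cfsg.Agent.SM.Sp.Enum

/-!
# SM (S3570), sporadic socles: the enumeration with some orders of `X` skipped (helper26)
-/

set_option autoImplicit false

namespace Cfsg.Agent.SM.Sp

open Cfsg Cfsg.Agent.TAB.Eng Cfsg.Agent.TAB.Use Cfsg.Agent.SB.SporL Cfsg.Agent.TH Cfsg.Agent.TH.Spor
  Cfsg.Agent.OrdDiv Cfsg.Agent.H940.Eng

/-- the order of `X` is skipped or the pair is in the list -/
def Ls2 (K : Type) [Group K] (sk : List ℕ) (L : List (ℕ × ℕ)) : Prop :=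
  ∀ X Y : Subgroup K, Fa X Y → Nat.card X ∈ sk ∨ (Nat.card X, Y.index) ∈ L

/-- the list of the pieces -/
noncomputable def okW2 (E : Ed) (r : ℕ) (l1 : List (ℕ × ℕ)) (sk : List ℕ) (W : List (ℕ × ℕ)) : Bool :=
  frcL (divsT l1) fun DV => allL (fun a => cond (memL a sk) true
    (cond (dv r a) (allL (fun d => cond (dv d a) (memP a d W) true) DV) true)) E.oa

variable {K : Type} [Group K] [Finite K] {D : Dat} {T : TD K D} {R : Rows} {E : Ed} {X Y : Subgroup K}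

theorem EdOk.mem2 (H : EdOk T E) (h : Fa X Y) {ld : LD} (hl : ld ∈ E.loc) (hd : ld.r ∣ E.N) (hb : Sp.okB E ld = true)
    {l1 l2 W : List (ℕ × ℕ)} {sk : List ℕ} (hk : Nat.card X ∉ sk) (hs : E.l = l1 ++ l2)
    (hW : okW2 E ld.r l1 sk W = true) (hD : ∀ w ∈ W, ∃ W', okD E l2 W' = true ∧ w ∈ W') :
    (Nat.card X, Y.index) ∈ E.SV := by
  refine H.leaf h ?_
  by_cases h1 : ld.r ∣ Nat.card X
  · have h2 : Y.index ∣ prodl l1 * prodl l2 := by
      rw [← prodl_append, ← hs, valid_prod H.val, ← H.card]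
      exact Y.index_dvd_card
    have h3 : ∀ x ∈ l1 ++ l2, x.1.Prime := hs ▸ valid_prime H.val
    obtain ⟨a, b, h4, h5, h6⟩ := Nat.dvd_mul.1 h2
    have h7 : a * b ∣ Nat.card X := h6 ▸ h.pd.index_dvd
    rw [okW2, frcL_eq] at hW
    obtain ⟨W', h8, h9⟩ := hD _ (memP_spec (cond_imp_spec (allL_spec (cond_imp_spec (cond_true_spec
      (allL_spec hW _ (H.mem_oa h)) fun h8 => hk (memL_spec h8)) (dv_iff.2 h1)) a
        (mem_divsT (fun x hx => h3 x (List.mem_append_left _ hx)) h4)) (dv_iff.2 ((dvd_mul_right a b).trans h7))))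
    rw [← h6]
    exact allD_spec (fun x hx => h3 x (List.mem_append_right _ hx)) _ _ b (allL_spec h8 _ h9)
      ((dvd_mul_left b a).trans h7) h5
  · exact H.okB h hl hb h1 ((h.pd.prime_dvd (H.loc ld hl).1 (H.card ▸ hd)).resolve_left h1)

theorem ls2_of_enum (hI : In K D R) (h1 : okEd D R E = true) (h2 : Ords.{0} E.N E.ords)
    (h3 : ∀ A : Subgroup K, A.index ∉ E.ni) {ld : LD} (hl : ld ∈ E.loc) (hd : ld.r ∣ E.N) (hb : okB E ld = true)
    {l1 l2 W : List (ℕ × ℕ)} {sk : List ℕ} (hs : E.l = l1 ++ l2) (hW : okW2 E ld.r l1 sk W = true)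
    (hD : ∀ w ∈ W, ∃ W', okD E l2 W' = true ∧ w ∈ W') : Ls2 K sk E.SV := by
  obtain ⟨T, hm, hT, hu⟩ := hI
  exact fun X Y h => or_iff_not_imp_left.2 fun hk => (edOk_of hm hu hT h1 h2 h3).mem2 h hl hd hb hk hs hW hD

theorem ls2_of_cert {Z : List Ze} {l : List (ℕ × ℕ)} (hI : In K D R) {sk : List ℕ} {SV L : List (ℕ × ℕ)}
    (h0 : Ls2 K sk SV) (hv : valid l D.N = true)
    {P : List (ℕ × ℕ × ℕ)} {SG : List ℕ} (h1 : (okP D P && okZ D Z && okIdx R && okSG R SG) = true) {FL : List Hd}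
    (h2 : ∀ x ∈ FL, ∃ CL, okL D R P Z CL = true ∧ x ∈ CL.map Prod.fst) {SS : List ((ℕ × ℕ) × Ps)}
    (h3 : okS D.N l SG FL SS = true) (h4 : SV = L ++ SS.map Prod.fst) : Ls2 K sk L := by
  obtain ⟨T, hm, hT, hu⟩ := hI
  simp only [Bool.and_eq_true] at h1
  obtain ⟨⟨⟨c1, c2⟩, c3⟩, c4⟩ := h1
  intro X Y h
  refine (h0 X Y h).imp_right fun h0 => (List.mem_append.1 (h4 ▸ h0)).resolve_right fun h5 => ?_
  obtain ⟨⟨y, s⟩, hx, rfl⟩ := List.mem_map.1 h5
  have h6 := allL_spec h3 _ hx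
  have h7 : Nat.div D.N Y.index = Nat.card Y := by
    rw [← hm.1]
    exact Nat.div_eq_of_eq_mul_left (index_pos' Y) Y.card_mul_index.symm
  rw [frc_eq, frc_eq, h7, show Nat.div (Nat.card X) Y.index = _ from h.div] at h6
  exact runP_spec (hm.1 ▸ hv) (zs_of c2) hT c4 (fun x hx => by
    obtain ⟨CL, h8, h9⟩ := h2 x hx
    exact dead_of hm hu hT c3 (zs_of c2) c1 h8 x h9) h s [] [] nofun nofun h6

end Cfsg.Agent.SM.Sp
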