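import Cfsg.Agent.SM.Sp.NoS
import Cfsg.Agent.H153.SixOmega
import Cfsg.Agent.S0778
import Cfsg.Agent.LieClassical.SympCenter

/-!
# SM (S3570), sporadic socles: an element of order 13 of `O₇(3)`, `S₆(3)` normalises an abelian 3-group (helper26)
-/

set_option autoImplicit false

namespace Cfsg.Agent.SM.Sp.Par

open Cfsg Matrix Cfsg.Agent.H153.SixOmega
open scoped commutatorElement

/-- an element of order 13 of `N` acts non-trivially on an elementary abelian 3-group -/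
def Pr (G : Type) [Group G] (N : Subgroup G) : Prop :=
  ∃ (E : Subgroup G) (s : G), s ∈ N ∧ (∀ a ∈ E, ∀ b ∈ E, a * b = b * a) ∧ (∀ e ∈ E, e ^ 3 = 1) ∧ s ^ 13 = 1 ∧
    (∀ e ∈ E, s * e * s⁻¹ ∈ E) ∧ ∃ e ∈ E, s * e ≠ e * s

variable {G H : Type} [Group G] [Group H]

theorem key {s e : G} (h1 : s * ⁅s, e⁆ = ⁅s, e⁆ * s) (h2 : ⁅s, e⁆ ^ 3 = 1) (h3 : s ^ 13 = 1) : s * e = e * s := by
  have h4 : s * e = ⁅s, e⁆ * e * s := by rw [commutatorElement_def]; group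
  generalize ⁅s, e⁆ = z at h1 h2 h4
  have h5 : ∀ k : ℕ, s ^ k * e = z ^ k * e * s ^ k := fun k => by
    induction k with
    | zero => simp
    | succ k ih =>
      rw [pow_succ' s, mul_assoc, ih, ← mul_assoc, ← mul_assoc, ((show Commute s z from h1).pow_right k).eq,
        mul_assoc _ s e, h4, pow_succ z]
      simp only [mul_assoc]
  have h6 := h5 13
  rw [h3, one_mul, mul_one, show 13 = 3 * 4 + 1 from rfl, pow_succ, pow_mul, h2, one_pow, one_mul] at h6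
  rw [h4, ← h6]

theorem comm_mem {E : Subgroup G} {s e : G} (h : ∀ e ∈ E, s * e * s⁻¹ ∈ E) (he : e ∈ E) : ⁅s, e⁆ ∈ E :=
  E.mul_mem (h e he) (E.inv_mem he)

theorem Pr.map {N : Subgroup H} (h : Pr H N) (f : H →* G) (hf : f.ker ≤ Subgroup.center H) {M : Subgroup G}
    (hM : ∀ x ∈ N, f x ∈ M) : Pr G M := by
  obtain ⟨E, s, h1, h2, h3, h4, h5, e, he, h6⟩ := h
  refine ⟨E.map f, f s, hM s h1, ?_, ?_, by rw [← map_pow, h4, map_one], ?_, f e, ⟨e, he, rfl⟩, fun h7 => h6 ?_⟩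
  · rintro _ ⟨a, ha, rfl⟩ _ ⟨b, hb, rfl⟩
    rw [← map_mul, h2 a ha b hb, map_mul]
  · rintro _ ⟨a, ha, rfl⟩
    rw [← map_pow, h3 a ha, map_one]
  · rintro _ ⟨a, ha, rfl⟩
    exact ⟨_, h5 a ha, by rw [map_mul, map_mul, map_inv]⟩
  · refine key (Subgroup.mem_center_iff.1 (hf ?_) s) (h3 _ (comm_mem h5 he)) h4
    rw [MonoidHom.mem_ker, map_commutatorElement, commutatorElement_eq_one_iff_mul_comm, h7]

theorem Pr.inj {N : Subgroup H} (h : Pr H N) (f : H →* G) (hf : Function.Injective f) {M : Subgroup G}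
    (hM : ∀ x ∈ N, f x ∈ M) : Pr G M :=
  h.map f (((MonoidHom.ker_eq_bot_iff f).2 hf).le.trans bot_le) hM

theorem Pr.quot {N : Subgroup G} (h : Pr G N) : Pr (G ⧸ Subgroup.center G) ⊤ :=
  h.map (QuotientGroup.mk' _) (QuotientGroup.ker_mk' _).le fun _ _ => trivial

theorem Pr.sub (h : Pr G (commutator G)) : Pr (commutator G) ⊤ := by
  obtain ⟨E, s, h1, h2, h3, h4, h5, e, he, h6⟩ := h
  exact ⟨E.subgroupOf _, ⟨s, h1⟩, trivial, fun a ha b hb => Subtype.ext (h2 a ha b hb),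
    fun a ha => Subtype.ext (h3 a ha), Subtype.ext h4, fun a ha => h5 a ha,
    ⟨⁅s, e⁆, Subgroup.commutator_mem_commutator trivial trivial⟩, comm_mem h5 he,
    fun h7 => h6 (key (congrArg Subtype.val h7) (h3 _ (comm_mem h5 he)) h4)⟩

theorem Pr.out [Finite G] {N : Subgroup G} (h : Pr G N) : ∃ (E : Subgroup G) (s : G), IsPGroup 3 E ∧
    (∀ a ∈ E, ∀ b ∈ E, a * b = b * a) ∧ 9 ∣ Nat.card E ∧ orderOf s = 13 ∧ ∀ e ∈ E, s * e * s⁻¹ ∈ E := by
  classical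
  obtain ⟨E, s, -, h2, h3, h4, h5, e, he, h6⟩ := h
  have := Fact.mk Nat.prime_three
  have : Fact (Nat.Prime 13) := ⟨by norm_num⟩
  have h7 : IsPGroup 3 E := fun x => ⟨1, Subtype.ext (h3 x x.2)⟩
  refine ⟨E, s, h7, h2, ?_, orderOf_eq_prime h4 fun h8 => h6 (by rw [h8, one_mul, mul_one]), h5⟩
  obtain ⟨k, hk⟩ := IsPGroup.iff_card.1 h7
  by_contra h8
  have h9 : Nat.card E ≤ 3 := by
    rw [hk] at h8 ⊢
    exact pow_le_pow_right₀ (by norm_num : 1 ≤ 3) (Nat.lt_succ_iff.1 (not_le.1 fun h9 : 2 ≤ k => h8 (pow_dvd_pow 3 h9)))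
  have h10 : e ≠ 1 := fun h10 => h6 (by rw [h10, one_mul, mul_one])
  have h11 : Subgroup.zpowers e = E := Subgroup.eq_of_le_of_card_ge (Subgroup.zpowers_le.2 he)
    (by rwa [Nat.card_zpowers, orderOf_eq_prime (h3 e he) h10])
  obtain ⟨j, hj⟩ := (mem_zpowers_iff_mem_range_orderOf.1 (h11 ▸ h5 e he : s * e * s⁻¹ ∈ Subgroup.zpowers e) :)
    |> Finset.mem_image.1
  rw [orderOf_eq_prime (h3 e he) h10, Finset.mem_range] at hj
  obtain ⟨h12, h13⟩ := hj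
  interval_cases j
  · exact h10 (by simpa using h13.symm)
  · exact h6 (by rw [← mul_inv_eq_iff_eq_mul, ← h13, pow_one])
  · have h14 : Commute (s * s) e := by
      have h15 : s * s * e * (s * s)⁻¹ = s * (s * e * s⁻¹) * s⁻¹ := by group
      rw [← h13, ← conj_pow, ← h13, ← pow_mul, show 2 * 2 = 3 + 1 from rfl, pow_succ, h3 e he, one_mul] at h15
      exact mul_inv_eq_iff_eq_mul.1 h15
    have h15 := (h14.pow_left 7).eq
    rw [← pow_two, ← pow_mul, show 2 * 7 = 13 + 1 from rfl, pow_succ, h4, one_mul] at h15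
    exact h6 h15

variable {F : Type} [Field F] [CharP F 3]

theorem of_mat (m : G →* Matrix (Fin 3 ⊕ Fin 3) (Fin 3 ⊕ Fin 3) F) (hm : Function.Injective m)
    (L : GL (Fin 3) F →* G) (hL : ∀ g, m (L g) = fromBlocks g.1 0 0 (g⁻¹).1ᵀ) {g : GL (Fin 3) F}
    (h1 : g ∈ commutator (GL (Fin 3) F)) (h2 : g ^ 13 = 1) {e : G} {S : Matrix (Fin 3) (Fin 3) F}
    (he : m e = fromBlocks 1 S 0 1) (h3 : g.1 * S ≠ S * (g⁻¹).1ᵀ) : Pr G (commutator G) := by
  have k1 : ∀ S T : Matrix (Fin 3) (Fin 3) F,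
      (fromBlocks 1 S 0 1 : Matrix (Fin 3 ⊕ Fin 3) (Fin 3 ⊕ Fin 3) F) *
        (fromBlocks 1 T 0 1 : Matrix (Fin 3 ⊕ Fin 3) (Fin 3 ⊕ Fin 3) F) = fromBlocks 1 (S + T) 0 1 := fun S T => by
    rw [fromBlocks_multiply]
    simp [add_comm]
  have k2 : ∀ a : G, (∃ S, m a = fromBlocks 1 S 0 1) → a ^ 3 = 1 := fun a ⟨S, hS⟩ => hm (by
    have h4 : S + S + S = 0 := by
      ext i j
      have h5 : ((3 : ℕ) : F) = 0 := CharP.cast_eq_zero F 3
      simp only [Matrix.add_apply, Matrix.zero_apply]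
      linear_combination (S i j) * h5
    rw [pow_three', map_mul, map_mul, hS, k1, k1, h4, fromBlocks_one, map_one])
  have k3 : ∀ a b : G, (∃ S, m a = fromBlocks 1 S 0 1) → (∃ S, m b = fromBlocks 1 S 0 1) →
      ∃ S, m (a * b) = fromBlocks 1 S 0 1 := fun a b ⟨S, hS⟩ ⟨T, hT⟩ => ⟨S + T, by rw [map_mul, hS, hT, k1]⟩
  refine ⟨⟨⟨⟨{a | ∃ S, m a = fromBlocks 1 S 0 1}, k3 _ _⟩, ⟨0, by rw [map_one, fromBlocks_one]⟩⟩, fun {a} ha => ?_⟩, L g,
    hom_mem_commutator L h1, fun a ⟨S, hS⟩ b ⟨T, hT⟩ => hm ?_, k2, by rw [← map_pow, h2, map_one],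
    fun a ⟨S, hS⟩ => ⟨g.1 * S * g.1ᵀ, ?_⟩, e, ⟨S, he⟩, fun h4 => h3 ?_⟩
  · rw [show a⁻¹ = a * a from inv_eq_of_mul_eq_one_left ((pow_three' a).symm.trans (k2 a ha))]
    exact k3 _ _ ha ha
  · rw [map_mul, map_mul, hS, hT, k1, k1, add_comm]
  · rw [← map_inv, map_mul, map_mul, hL, hL, hS, inv_inv, fromBlocks_multiply, fromBlocks_multiply]
    simp [← transpose_mul]
  · have h5 := congrArg m h4
    rw [map_mul, map_mul, hL, he, fromBlocks_multiply, fromBlocks_multiply] at h5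
    simpa using (fromBlocks_inj.1 h5).2.1

/-- an element of order 13 -/
def a0 : GL (Fin 3) (ZMod 3) := ⟨!![0, 0, 1; 1, 0, 1; 0, 1, 0], !![2, 1, 0; 0, 0, 1; 1, 0, 0], by decide, by decide⟩

/-- the Frobenius map -/
def r0 : GL (Fin 3) (ZMod 3) := ⟨!![0, 0, 1; 1, 1, 2; 0, 1, 2], !![0, 1, 2; 1, 0, 1; 1, 0, 0], by decide, by decide⟩

theorem a0_pow : a0 ^ 13 = 1 := by
  have h1 : a0.1 * a0.1 * a0.1 = !![1, 0, 1; 1, 1, 1; 0, 1, 1] := by decide
  have h2 : (!![1, 0, 1; 1, 1, 1; 0, 1, 1] * !![1, 0, 1; 1, 1, 1; 0, 1, 1] * !![1, 0, 1; 1, 1, 1; 0, 1, 1] :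
    Matrix (Fin 3) (Fin 3) (ZMod 3)) = !![2, 0, 1; 1, 2, 1; 0, 1, 2] := by decide
  refine Units.ext ?_
  rw [Units.val_pow_eq_pow_val, show 13 = 3 * 3 + 3 + 1 from rfl, pow_succ, pow_add, pow_mul, pow_three' a0.1, h1,
    pow_three', h2]
  decide

theorem a0_mem : a0 ∈ commutator (GL (Fin 3) (ZMod 3)) := by
  have h1 : ⁅r0, a0⁆ = a0 ^ 2 := Units.ext (by
    rw [commutatorElement_def, pow_two]
    show r0.1 * a0.1 * r0.2 * a0.2 = a0.1 * a0.1
    decide)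
  have h2 := Subgroup.pow_mem _ (h1 ▸ Subgroup.commutator_mem_commutator (Subgroup.mem_top r0) (Subgroup.mem_top a0)) 7
  rwa [← pow_mul, show 2 * 7 = 13 + 1 from rfl, pow_succ, a0_pow, one_mul] at h2

theorem of_mat' (m : G →* Matrix (Fin 3 ⊕ Fin 3) (Fin 3 ⊕ Fin 3) F) (hm : Function.Injective m)
    (L : GL (Fin 3) F →* G) (hL : ∀ g, m (L g) = fromBlocks g.1 0 0 (g⁻¹).1ᵀ) {e : G}
    {S : Matrix (Fin 3) (Fin 3) (ZMod 3)} (he : m e = fromBlocks 1 (S.map (ZMod.castHom dvd_rfl F)) 0 1)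
    (h3 : a0.1 * S ≠ S * a0.2ᵀ) : Pr G (commutator G) := by
  refine of_mat m hm L hL (g := GeneralLinearGroup.map (ZMod.castHom dvd_rfl F) a0) (hom_mem_commutator _ a0_mem)
    (by rw [← map_pow, a0_pow, map_one]) he fun h4 => h3 (Matrix.map_injective (ZMod.castHom dvd_rfl F).injective ?_)
  show Matrix.map _ _ = Matrix.map _ _
  rw [Matrix.map_mul, Matrix.map_mul, transpose_map]
  exact h4

theorem psp : Pr (PSp 3 F) ⊤ :=
  (of_mat' (symplecticGroup (Fin 3) F).subtype Subtype.val_injective (S0778.blkHom 3) (fun _ => rfl) (S := 1)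
    (e := ⟨_, LieClassical.SympCenter.upper_mem 3 (by rw [← transpose_map, transpose_one])⟩) rfl (by decide)).quot

/-- the Levi factor -/
def levHom : GL (Fin 3) F →* H6 F where
  toFun g := lev g.1 (g⁻¹).1 g.mul_inv g.inv_mul
  map_one' := H6.ext (by
    show fromBlocks _ _ _ _ = 1
    simp)
  map_mul' g h := by
    rw [lev_mul]
    exact H6.ext rfl

theorem oodd : Pr (POmega F (quadFormOdd 3 F)) ⊤ := by
  have h1 : Pr (H6 F) (commutator _) :=
    of_mat' ((Units.coeHom _).comp (H6 F).subtype) (Units.val_injective.comp Subtype.val_injective) levHom (fun _ => rfl)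
      (S := !![0, 1, 0; -1, 0, 0; 0, 0, 0]) (e := sie _ fun v => by
        simp [Matrix.mulVec, dotProduct, Fin.sum_univ_succ]
        ring) rfl (by decide)
  exact (h1.inj _ (extIso_injective (Equiv.sumComm _ _) (quadFormPlus 3 F) (quadFormOdd 3 F) (fun v => v () ^ 2)
    fun v => add_comm _ _) fun _ hx => hom_mem_commutator _ hx).sub.quot

end Cfsg.Agent.SM.Sp.Par

namespace Cfsg.Agent.SM.Sp

open Cfsg

/-- **an element of order 13 normalises an abelian 3-group of order at least 9** -/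
theorem par13 {S : Type} [Group S] [Finite S] (hs : IsSimpleGroup S) (hn : ¬ IsMulCommutative S)
    (h : Nat.card S = 4585351680) : ∃ (E : Subgroup S) (s : S), IsPGroup 3 E ∧ (∀ a ∈ E, ∀ b ∈ E, a * b = b * a) ∧
      9 ∣ Nat.card E ∧ orderOf s = 13 ∧ ∀ e ∈ E, s * e * s⁻¹ ∈ E := by
  obtain ⟨g, hg, hr⟩ := NoS.name hs hn h (l := [(2, 9), (3, 9), (5, 1), (7, 1), (13, 1)]) (by decide +kernel)
    (L := [.psp 3 3, .oodd 3 3]) (by decide +kernel)
  rcases List.mem_pair.1 hg with rfl | rfl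
  all_goals
    obtain ⟨F, _, _, hF, ⟨e⟩⟩ := hr
    have := Fact.mk Nat.prime_three
    have : CharP F 3 := charP_of_card_eq_prime_pow (p := 3) (f := 1) hF
  · exact (Par.psp.inj e.symm.toMonoidHom e.symm.injective (M := ⊤) fun _ _ => trivial).out
  · exact (Par.oodd.inj e.symm.toMonoidHom e.symm.injective (M := ⊤) fun _ _ => trivial).out

end Cfsg.Agent.SM.Sp
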