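import Cfsg.Agent.SM.Sp.NCo1
import Cfsg.Agent.SM.Sp.Par13

/-!
# SM (S3570), sporadic socles: the list for `Co₁` (helper26)
-/

set_option autoImplicit false

namespace Cfsg.Agent.SM.Sp

open Cfsg Cfsg.Agent.TH.Spor

variable {K : Type} [Group K] [Finite K]

/-- orders which are not orders of subgroups of `Co₁` -/
theorem noOrd_co1 (h : Spor.IsoCo1 K) (A : Subgroup K) {n : ℕ} (h1 : (n, [], []) ∈ NCo1.FL) : Nat.card A ≠ n := by
  obtain ⟨T, hm, hT, hu⟩ := in_co1 h
  obtain ⟨CL, h2, h3⟩ := NCo1.okC _ h1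
  exact fun h4 => dead_of hm hu hT (by decide +kernel) (zs_of (by decide +kernel)) (by decide +kernel) h2 _ h3 A h4
    nofun nofun

/-- no subgroup of `Co₁` has the order of `Suz` or `Fi₂₂` -/
theorem noSuz_co1 (h : Spor.IsoCo1 K) (A : Subgroup K) :
    Nat.card A ≠ 448345497600 ∧ Nat.card A ≠ 64561751654400 :=
  ⟨noOrd_co1 h A (by decide +kernel), noOrd_co1 h A (by decide +kernel)⟩

/-- **the list for `Co₁`** -/
theorem lst_co1 (h : Spor.IsoCo1 K) {X Y : Subgroup K} (f : Fa X Y) :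
    Nat.card X = 42305421312000 ∨ Nat.card X = 495766656000 ∨ (Nat.card X, Y.index) ∈
      [(251596800, 98280), (251596800, 8386560), (3113510400, 98280), (4585351680, 98280)] := by
  obtain ⟨h1, h2, h3⟩ := noS_co1 h X f.simple f.nab
  rcases NCo1.lst (in_co1 h) X Y f with h4 | h4
  · exact (List.mem_pair.1 h4).imp_right Or.inl
  · simp only [NCo1.L, List.mem_cons, Prod.mk.injEq, List.not_mem_nil, or_false] at h4 ⊢
    omega

end Cfsg.Agent.SM.Sp
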