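import Cfsg.Agent.SM.Sp.NCo1D

/-!
# SM (S3570), sporadic socles: Co1, enumeration (helper26; generated by notes/SM/sp26/gen3.py.txt)
-/

set_option autoImplicit false
set_option Elab.async false

namespace Cfsg.Agent.SM.Sp.NCo1

open Cfsg Cfsg.Agent.TAB.Eng Cfsg.Agent.H940.Eng Cfsg.Agent.TH.Spor

/-- pieces -/
def W1 : List (ℕ × ℕ) :=
  [(10200960, 35), (10200960, 11), (10200960, 55), (10200960, 77), (10200960, 385)]

theorem okD1 : okD E [(3, 9), (2, 21)] W1 = true := by decide +kernel

/-- pieces -/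
def W2 : List (ℕ × ℕ) :=
  [(10200960, 23), (10200960, 115), (10200960, 161), (10200960, 805), (10200960, 253)]

theorem okD2 : okD E [(3, 9), (2, 21)] W2 = true := by decide +kernel

end Cfsg.Agent.SM.Sp.NCo1
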