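import Cfsg.Agent.SM.Sp.NCo1D

/-!
# SM (S3570), sporadic socles: Co1, enumeration (helper26; generated by notes/SM/sp26/gen3.py.txt)
-/

set_option autoImplicit false
set_option Elab.async false

namespace Cfsg.Agent.SM.Sp.NCo1

open Cfsg Cfsg.Agent.TAB.Eng Cfsg.Agent.H940.Eng Cfsg.Agent.TH.Spor

/-- pieces -/
def W3 : List (ℕ × ℕ) :=
  [(10200960, 1265), (10200960, 1771), (10200960, 8855), (244823040, 1)]

theorem okD3 : okD E [(3, 9), (2, 21)] W3 = true := by decide +kernel

/-- pieces -/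
def W4 : List (ℕ × ℕ) :=
  [(244823040, 5), (244823040, 7)]

theorem okD4 : okD E [(3, 9), (2, 21)] W4 = true := by decide +kernel

end Cfsg.Agent.SM.Sp.NCo1
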