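import Cfsg.Agent.SM.Sp.NCo1D

/-!
# SM (S3570), sporadic socles: Co1, enumeration (helper26; generated by notes/SM/sp26/gen3.py.txt)
-/

set_option autoImplicit false
set_option Elab.async false

namespace Cfsg.Agent.SM.Sp.NCo1

open Cfsg Cfsg.Agent.TAB.Eng Cfsg.Agent.H940.Eng Cfsg.Agent.TH.Spor

/-- pieces -/
def W5 : List (ℕ × ℕ) :=
  [(244823040, 35), (244823040, 11)]

theorem okD5 : okD E [(3, 9), (2, 21)] W5 = true := by decide +kernel

/-- pieces -/
def W6 : List (ℕ × ℕ) :=
  [(244823040, 55), (244823040, 77)]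

theorem okD6 : okD E [(3, 9), (2, 21)] W6 = true := by decide +kernel

end Cfsg.Agent.SM.Sp.NCo1
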