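import Cfsg.Agent.SM.Sp.NCo1D

/-!
# SM (S3570), sporadic socles: Co1, certificates (helper26; generated by notes/SM/sp26/gen3.py.txt)
-/

set_option autoImplicit false
set_option Elab.async false

namespace Cfsg.Agent.SM.Sp.NCo1

open Cfsg Cfsg.Agent.TAB.Eng Cfsg.Agent.H940.Eng Cfsg.Agent.TH.Spor

/-- a certificate -/
noncomputable def c0 : Hd × Tr :=
  ((1015330111488000, [], []), (.far (.ofNat 1) [(.negSucc 0, 5), (.ofNat 1, 10), (.negSucc 0, 18), (.ofNat 1, 21),
  (.ofNat 1, 30), (.negSucc 0, 34), (.negSucc 0, 66), (.ofNat 1, 68), (.ofNat 1, 92), (.negSucc 0, 94), (.negSucc 0,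
  97)]))

/-- a certificate -/
noncomputable def c1 : Hd × Tr :=
  ((2347700060160000, [], []), (.far (.ofNat 243) [(.negSucc 121, 6), (.negSucc 120, 11), (.ofNat 122, 13), (.ofNat
  122, 26), (.ofNat 122, 29), (.negSucc 120, 33), (.negSucc 120, 35), (.negSucc 121, 36), (.ofNat 121, 45), (.ofNat
  122, 55), (.ofNat 121, 66), (.negSucc 121, 68), (.ofNat 122, 72), (.negSucc 120, 74), (.negSucc 121, 79), (.ofNat
  121, 80), (.ofNat 121, 94), (.negSucc 120, 96), (.negSucc 60, 97)]))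

/-- a certificate -/
noncomputable def c2 : Hd × Tr :=
  ((2054237552640000, [], []), (.far (.ofNat 243) [(.negSucc 121, 6), (.negSucc 120, 11), (.ofNat 122, 13), (.ofNat
  122, 26), (.ofNat 122, 29), (.negSucc 120, 33), (.negSucc 120, 35), (.negSucc 121, 36), (.ofNat 121, 45), (.ofNat
  122, 55), (.ofNat 121, 66), (.negSucc 121, 68), (.ofNat 122, 72), (.negSucc 120, 74), (.negSucc 121, 79), (.ofNat
  121, 80), (.ofNat 121, 94), (.negSucc 120, 96), (.negSucc 60, 97)]))

/-- a certificate -/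
noncomputable def c3 : Hd × Tr :=
  ((1173850030080000, [], []), (.far (.ofNat 243) [(.negSucc 121, 6), (.negSucc 120, 11), (.ofNat 122, 13), (.ofNat
  122, 26), (.ofNat 122, 29), (.negSucc 120, 33), (.negSucc 120, 35), (.negSucc 121, 36), (.ofNat 121, 45), (.ofNat
  122, 55), (.ofNat 121, 66), (.negSucc 121, 68), (.ofNat 122, 72), (.negSucc 120, 74), (.negSucc 121, 79), (.ofNat
  121, 80), (.ofNat 121, 94), (.negSucc 120, 96), (.negSucc 60, 97)]))

/-- a certificate -/
noncomputable def c4 : Hd × Tr :=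
  ((1027118776320000, [], []), (.far (.ofNat 243) [(.negSucc 121, 6), (.negSucc 120, 11), (.ofNat 122, 13), (.ofNat
  122, 26), (.ofNat 122, 29), (.negSucc 120, 33), (.negSucc 120, 35), (.negSucc 121, 36), (.ofNat 121, 45), (.ofNat
  122, 55), (.ofNat 121, 66), (.negSucc 121, 68), (.ofNat 122, 72), (.negSucc 120, 74), (.negSucc 121, 79), (.ofNat
  121, 80), (.ofNat 121, 94), (.negSucc 120, 96), (.negSucc 60, 97)]))

/-- a certificate -/
noncomputable def c5 : Hd × Tr :=
  ((782566686720000, [], []), (.far (.ofNat 243) [(.negSucc 121, 6), (.negSucc 120, 11), (.ofNat 122, 13), (.ofNat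
  122, 26), (.ofNat 122, 29), (.negSucc 120, 33), (.negSucc 120, 35), (.negSucc 121, 36), (.ofNat 121, 45), (.ofNat
  122, 55), (.ofNat 121, 66), (.negSucc 121, 68), (.ofNat 122, 72), (.negSucc 120, 74), (.negSucc 121, 79), (.ofNat
  121, 80), (.ofNat 121, 94), (.negSucc 120, 96), (.negSucc 60, 97)]))

/-- a certificate -/
noncomputable def c6 : Hd × Tr :=
  ((684745850880000, [], []), (.far (.ofNat 243) [(.negSucc 121, 6), (.negSucc 120, 11), (.ofNat 122, 13), (.ofNat
  122, 26), (.ofNat 122, 29), (.negSucc 120, 33), (.negSucc 120, 35), (.negSucc 121, 36), (.ofNat 121, 45), (.ofNat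
  122, 55), (.ofNat 121, 66), (.negSucc 121, 68), (.ofNat 122, 72), (.negSucc 120, 74), (.negSucc 121, 79), (.ofNat
  121, 80), (.ofNat 121, 94), (.negSucc 120, 96), (.negSucc 60, 97)]))

/-- a certificate -/
noncomputable def c7 : Hd × Tr :=
  ((586925015040000, [], []), (.far (.ofNat 28) [(.negSucc 42, 4), (.ofNat 8, 5), (.negSucc 37, 6), (.negSucc 24, 7),
  (.ofNat 21, 8), (.ofNat 16, 9), (.negSucc 20, 10), (.negSucc 41, 11), (.ofNat 28, 13), (.ofNat 56, 14), (.ofNat 1,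
  16), (.negSucc 16, 17), (.ofNat 20, 18), (.ofNat 17, 20), (.negSucc 19, 21), (.negSucc 20, 24), (.ofNat 1, 25),
  (.ofNat 32, 26), (.negSucc 34, 27), (.ofNat 29, 29), (.negSucc 18, 30), (.negSucc 8, 32), (.negSucc 25, 33),
  (.ofNat 9, 34), (.negSucc 80, 35), (.negSucc 25, 36), (.ofNat 5, 37), (.ofNat 26, 38), (.ofNat 10, 41), (.ofNat 37,
  44), (.negSucc 48, 46), (.ofNat 22, 55), (.ofNat 1, 56), (.ofNat 20, 57), (.ofNat 32, 61), (.ofNat 13, 62),
  (.negSucc 23, 64), (.ofNat 19, 65), (.ofNat 49, 66), (.negSucc 50, 68), (.negSucc 16, 69), (.negSucc 16, 70),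
  (.ofNat 33, 72), (.negSucc 29, 74), (.negSucc 32, 79), (.ofNat 22, 80), (.ofNat 1, 83), (.negSucc 15, 86), (.ofNat
  22, 88), (.ofNat 3, 91), (.negSucc 13, 92), (.ofNat 58, 94), (.negSucc 4, 95), (.negSucc 24, 96), (.ofNat 1, 97)]))

/-- a certificate -/
noncomputable def c8 : Hd × Tr :=
  ((513559388160000, [], []), (.far (.ofNat 243) [(.negSucc 121, 6), (.negSucc 120, 11), (.ofNat 122, 13), (.ofNat
  122, 26), (.ofNat 122, 29), (.negSucc 120, 33), (.negSucc 120, 35), (.negSucc 121, 36), (.ofNat 121, 45), (.ofNat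
  122, 55), (.ofNat 121, 66), (.negSucc 121, 68), (.ofNat 122, 72), (.negSucc 120, 74), (.negSucc 121, 79), (.ofNat
  121, 80), (.ofNat 121, 94), (.negSucc 120, 96), (.negSucc 60, 97)]))

/-- a certificate -/
noncomputable def c9 : Hd × Tr :=
  ((391283343360000, [], []), (.far (.ofNat 243) [(.negSucc 121, 6), (.negSucc 120, 11), (.ofNat 122, 13), (.ofNat
  122, 26), (.ofNat 122, 29), (.negSucc 120, 33), (.negSucc 120, 35), (.negSucc 121, 36), (.ofNat 121, 45), (.ofNat
  122, 55), (.ofNat 121, 66), (.negSucc 121, 68), (.ofNat 122, 72), (.negSucc 120, 74), (.negSucc 121, 79), (.ofNat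
  121, 80), (.ofNat 121, 94), (.negSucc 120, 96), (.negSucc 60, 97)]))

/-- a certificate -/
noncomputable def c10 : Hd × Tr :=
  ((342372925440000, [], []), (.far (.ofNat 243) [(.negSucc 121, 6), (.negSucc 120, 11), (.ofNat 122, 13), (.ofNat
  122, 26), (.ofNat 122, 29), (.negSucc 120, 33), (.negSucc 120, 35), (.negSucc 121, 36), (.ofNat 121, 45), (.ofNat
  122, 55), (.ofNat 121, 66), (.negSucc 121, 68), (.ofNat 122, 72), (.negSucc 120, 74), (.negSucc 121, 79), (.ofNat
  121, 80), (.ofNat 121, 94), (.negSucc 120, 96), (.negSucc 60, 97)]))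

/-- a certificate -/
noncomputable def c11 : Hd × Tr :=
  ((293462507520000, [], []), (.far (.ofNat 243) [(.negSucc 121, 6), (.negSucc 120, 11), (.ofNat 122, 13), (.ofNat
  122, 26), (.ofNat 122, 29), (.negSucc 120, 33), (.negSucc 120, 35), (.negSucc 121, 36), (.ofNat 121, 45), (.ofNat
  122, 55), (.ofNat 121, 66), (.negSucc 121, 68), (.ofNat 122, 72), (.negSucc 120, 74), (.negSucc 121, 79), (.ofNat
  121, 80), (.ofNat 121, 94), (.negSucc 120, 96), (.negSucc 60, 97)]))

/-- a certificate -/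
noncomputable def c12 : Hd × Tr :=
  ((260855562240000, [], []), (.far (.ofNat 243) [(.negSucc 121, 6), (.negSucc 120, 11), (.ofNat 122, 13), (.ofNat
  122, 26), (.ofNat 122, 29), (.negSucc 120, 33), (.negSucc 120, 35), (.negSucc 121, 36), (.ofNat 121, 45), (.ofNat
  122, 55), (.ofNat 121, 66), (.negSucc 121, 68), (.ofNat 122, 72), (.negSucc 120, 74), (.negSucc 121, 79), (.ofNat
  121, 80), (.ofNat 121, 94), (.negSucc 120, 96), (.negSucc 60, 97)]))

/-- a certificate -/
noncomputable def c13 : Hd × Tr :=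
  ((256779694080000, [], []), (.far (.ofNat 243) [(.negSucc 121, 6), (.negSucc 120, 11), (.ofNat 122, 13), (.ofNat
  122, 26), (.ofNat 122, 29), (.negSucc 120, 33), (.negSucc 120, 35), (.negSucc 121, 36), (.ofNat 121, 45), (.ofNat
  122, 55), (.ofNat 121, 66), (.negSucc 121, 68), (.ofNat 122, 72), (.negSucc 120, 74), (.negSucc 121, 79), (.ofNat
  121, 80), (.ofNat 121, 94), (.negSucc 120, 96), (.negSucc 60, 97)]))

/-- a certificate -/
noncomputable def c14 : Hd × Tr :=
  ((228248616960000, [], []), (.far (.ofNat 243) [(.negSucc 121, 6), (.negSucc 120, 11), (.ofNat 122, 13), (.ofNat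
  122, 26), (.ofNat 122, 29), (.negSucc 120, 33), (.negSucc 120, 35), (.negSucc 121, 36), (.ofNat 121, 45), (.ofNat
  122, 55), (.ofNat 121, 66), (.negSucc 121, 68), (.ofNat 122, 72), (.negSucc 120, 74), (.negSucc 121, 79), (.ofNat
  121, 80), (.ofNat 121, 94), (.negSucc 120, 96), (.negSucc 60, 97)]))

/-- certificates -/
noncomputable def CL0 : List (Hd × Tr) :=
  [c0, c1, c2, c3, c4, c5, c6, c7, c8, c9, c10, c11, c12, c13, c14]

theorem okC0 : okL TAB.Co1.D (TAB.Sm2.mkRows TAB.Co1.RA TAB.Co1.RB) P Z CL0 = true := by decide +kernel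

/-- a certificate -/
noncomputable def c15 : Hd × Tr :=
  ((195641671680000, [], []), (.far (.ofNat 243) [(.negSucc 121, 6), (.negSucc 120, 11), (.ofNat 122, 13), (.ofNat
  122, 26), (.ofNat 122, 29), (.negSucc 120, 33), (.negSucc 120, 35), (.negSucc 121, 36), (.ofNat 121, 45), (.ofNat
  122, 55), (.ofNat 121, 66), (.negSucc 121, 68), (.ofNat 122, 72), (.negSucc 120, 74), (.negSucc 121, 79), (.ofNat
  121, 80), (.ofNat 121, 94), (.negSucc 120, 96), (.negSucc 60, 97)]))

/-- a certificate -/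
noncomputable def c16 : Hd × Tr :=
  ((171186462720000, [], []), (.far (.ofNat 729) [(.negSucc 364, 6), (.negSucc 363, 11), (.ofNat 365, 13), (.ofNat
  365, 26), (.ofNat 365, 29), (.negSucc 363, 33), (.negSucc 363, 35), (.negSucc 364, 36), (.ofNat 364, 45), (.ofNat
  365, 55), (.ofNat 364, 66), (.negSucc 364, 68), (.ofNat 365, 72), (.negSucc 363, 74), (.negSucc 364, 79), (.ofNat
  364, 80), (.ofNat 364, 94), (.negSucc 363, 96), (.negSucc 181, 97)]))

/-- a certificate -/
noncomputable def c17 : Hd × Tr :=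
  ((146731253760000, [], []), (.far (.ofNat 1) [(.negSucc 0, 11), (.ofNat 1, 13), (.ofNat 1, 29), (.negSucc 0, 33),
  (.negSucc 0, 36), (.ofNat 1, 55), (.ofNat 1, 59), (.negSucc 0, 68), (.negSucc 0, 74), (.ofNat 1, 80)]))

/-- a certificate -/
noncomputable def c18 : Hd × Tr :=
  ((130427781120000, [], []), (.far (.ofNat 1) [(.negSucc 0, 11), (.ofNat 1, 13), (.ofNat 1, 29), (.negSucc 0, 33),
  (.negSucc 0, 36), (.ofNat 1, 55), (.ofNat 1, 59), (.negSucc 0, 68), (.negSucc 0, 74), (.ofNat 1, 80)]))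

/-- a certificate -/
noncomputable def c19 : Hd × Tr :=
  ((128389847040000, [], []), (.far (.ofNat 1) [(.negSucc 0, 11), (.ofNat 1, 13), (.ofNat 1, 29), (.negSucc 0, 33),
  (.negSucc 0, 36), (.ofNat 1, 55), (.ofNat 1, 59), (.negSucc 0, 68), (.negSucc 0, 74), (.ofNat 1, 80)]))

/-- a certificate -/
noncomputable def c20 : Hd × Tr :=
  ((114124308480000, [], []), (.far (.ofNat 1) [(.negSucc 0, 11), (.ofNat 1, 13), (.ofNat 1, 29), (.negSucc 0, 33),
  (.negSucc 0, 36), (.ofNat 1, 55), (.ofNat 1, 59), (.negSucc 0, 68), (.negSucc 0, 74), (.ofNat 1, 80)]))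

/-- a certificate -/
noncomputable def c21 : Hd × Tr :=
  ((97820835840000, [], []), (.far (.ofNat 1) [(.negSucc 0, 11), (.ofNat 1, 13), (.ofNat 1, 29), (.negSucc 0, 33),
  (.negSucc 0, 36), (.ofNat 1, 55), (.ofNat 1, 59), (.negSucc 0, 68), (.negSucc 0, 74), (.ofNat 1, 80)]))

/-- a certificate -/
noncomputable def c22 : Hd × Tr :=
  ((85593231360000, [], []), (.far (.ofNat 1) [(.negSucc 0, 11), (.ofNat 1, 13), (.ofNat 1, 29), (.negSucc 0, 33),
  (.negSucc 0, 36), (.ofNat 1, 55), (.ofNat 1, 59), (.negSucc 0, 68), (.negSucc 0, 74), (.ofNat 1, 80)]))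

/-- a certificate -/
noncomputable def c23 : Hd × Tr :=
  ((73365626880000, [], []), (.far (.ofNat 1) [(.negSucc 0, 11), (.ofNat 1, 13), (.ofNat 1, 29), (.negSucc 0, 33),
  (.negSucc 0, 36), (.ofNat 1, 55), (.ofNat 1, 59), (.negSucc 0, 68), (.negSucc 0, 74), (.ofNat 1, 80)]))

/-- a certificate -/
noncomputable def c24 : Hd × Tr :=
  ((65213890560000, [], []), (.far (.ofNat 1) [(.negSucc 0, 11), (.ofNat 1, 13), (.ofNat 1, 29), (.negSucc 0, 33),
  (.negSucc 0, 36), (.ofNat 1, 55), (.ofNat 1, 59), (.negSucc 0, 68), (.negSucc 0, 74), (.ofNat 1, 80)]))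

/-- a certificate -/
noncomputable def c25 : Hd × Tr :=
  ((48910417920000, [], []), (.far (.ofNat 1) [(.negSucc 0, 11), (.ofNat 1, 13), (.ofNat 1, 29), (.negSucc 0, 33),
  (.negSucc 0, 36), (.ofNat 1, 55), (.ofNat 1, 59), (.negSucc 0, 68), (.negSucc 0, 74), (.ofNat 1, 80)]))

/-- a certificate -/
noncomputable def c26 : Hd × Tr :=
  ((42796615680000, [], []), (.far (.ofNat 1) [(.negSucc 0, 11), (.ofNat 1, 13), (.ofNat 1, 29), (.negSucc 0, 33),
  (.negSucc 0, 36), (.ofNat 1, 55), (.ofNat 1, 59), (.negSucc 0, 68), (.negSucc 0, 74), (.ofNat 1, 80)]))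

/-- a certificate -/
noncomputable def c27 : Hd × Tr :=
  ((36682813440000, [], []), (.far (.ofNat 1) [(.negSucc 0, 11), (.ofNat 1, 13), (.ofNat 1, 29), (.negSucc 0, 33),
  (.negSucc 0, 36), (.ofNat 1, 55), (.ofNat 1, 59), (.negSucc 0, 68), (.negSucc 0, 74), (.ofNat 1, 80)]))

/-- a certificate -/
noncomputable def c28 : Hd × Tr :=
  ((24455208960000, [], []), (.far (.ofNat 1) [(.negSucc 0, 11), (.ofNat 1, 13), (.ofNat 1, 29), (.negSucc 0, 33),
  (.negSucc 0, 36), (.ofNat 1, 55), (.ofNat 1, 59), (.negSucc 0, 68), (.negSucc 0, 74), (.ofNat 1, 80)]))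

/-- a certificate -/
noncomputable def c29 : Hd × Tr :=
  ((12227604480000, [], []), (.far (.ofNat 923) [(.ofNat 523, 9), (.negSucc 989, 12), (.ofNat 1827, 13), (.ofNat 528,
  14), (.negSucc 1218, 15), (.negSucc 2684, 16), (.negSucc 3078, 17), (.negSucc 5, 18), (.ofNat 871, 19), (.ofNat
  675, 20), (.ofNat 1061, 21), (.negSucc 1977, 22), (.negSucc 495, 23), (.negSucc 678, 24), (.ofNat 56, 25), (.ofNat
  165, 26), (.ofNat 451, 27), (.ofNat 941, 28), (.ofNat 4647, 29), (.negSucc 1144, 30), (.ofNat 2290, 31), (.negSucc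
  793, 32), (.negSucc 4092, 33), (.ofNat 310, 34), (.negSucc 4268, 36), (.ofNat 1064, 37), (.ofNat 185, 38), (.ofNat
  1000, 39), (.negSucc 336, 40), (.negSucc 258, 41), (.negSucc 647, 42), (.negSucc 131, 43), (.negSucc 223, 44),
  (.ofNat 1048, 45), (.negSucc 474, 46), (.negSucc 217, 47), (.negSucc 2347, 48), (.ofNat 1797, 49), (.ofNat 322,
  50), (.negSucc 951, 51), (.negSucc 50, 52), (.negSucc 364, 53), (.negSucc 703, 54), (.ofNat 6561, 55), (.ofNat 741,
  56), (.negSucc 546, 57), (.negSucc 273, 58), (.ofNat 971, 59), (.ofNat 804, 60), (.ofNat 1231, 61), (.negSucc 593,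
  62), (.negSucc 687, 63), (.ofNat 1223, 64), (.ofNat 614, 65), (.ofNat 141, 66), (.negSucc 332, 67), (.negSucc 2996,
  68), (.negSucc 3099, 69), (.ofNat 119, 70), (.ofNat 1019, 71), (.ofNat 1949, 72), (.negSucc 467, 73), (.negSucc
  3128, 74), (.ofNat 337, 75), (.negSucc 579, 76), (.negSucc 456, 78), (.negSucc 745, 79), (.ofNat 4624, 80), (.ofNat
  1035, 81), (.ofNat 64, 82), (.negSucc 690, 83), (.negSucc 184, 84), (.ofNat 39, 85), (.negSucc 529, 86), (.ofNat
  819, 87), (.negSucc 913, 88), (.ofNat 31, 89), (.ofNat 2308, 91), (.negSucc 250, 93), (.ofNat 3420, 94), (.ofNat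
  99, 95)]))

/-- certificates -/
noncomputable def CL1 : List (Hd × Tr) :=
  [c15, c16, c17, c18, c19, c20, c21, c22, c23, c24, c25, c26, c27, c28, c29]

theorem okC1 : okL TAB.Co1.D (TAB.Sm2.mkRows TAB.Co1.RA TAB.Co1.RB) P Z CL1 = true := by decide +kernel

end Cfsg.Agent.SM.Sp.NCo1
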