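import Cfsg.Agent.SM.Sp.NCo1D

/-!
# SM (S3570), sporadic socles: Co1, certificates (helper26; generated by notes/SM/sp26/gen3.py.txt)
-/

set_option autoImplicit false
set_option Elab.async false

namespace Cfsg.Agent.SM.Sp.NCo1

open Cfsg Cfsg.Agent.TAB.Eng Cfsg.Agent.H940.Eng Cfsg.Agent.TH.Spor

/-- a certificate -/
noncomputable def c30 : Hd × Tr :=
  ((4075868160000, [], []), (.far (.negSucc 10048) [(.ofNat 4992, 8), (.ofNat 3783, 9), (.ofNat 2520, 13), (.ofNat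
  3137, 14), (.negSucc 14624, 18), (.ofNat 2815, 19), (.ofNat 4057, 20), (.negSucc 98, 21), (.ofNat 2943, 22),
  (.negSucc 12618, 24), (.ofNat 3315, 25), (.negSucc 348, 26), (.negSucc 466, 27), (.negSucc 13794, 28), (.ofNat
  18084, 29), (.ofNat 7312, 30), (.negSucc 12598, 31), (.negSucc 12218, 32), (.negSucc 10955, 33), (.ofNat 615, 34),
  (.ofNat 2931, 35), (.negSucc 101, 36), (.ofNat 3953, 37), (.ofNat 1821, 38), (.negSucc 4720, 39), (.negSucc 2641,
  40), (.ofNat 2173, 41), (.ofNat 400, 42), (.ofNat 2690, 43), (.ofNat 2862, 44), (.ofNat 3169, 45), (.negSucc 3583,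
  46), (.negSucc 1149, 47), (.negSucc 1244, 48), (.ofNat 3741, 49), (.ofNat 269, 50), (.negSucc 6453, 51), (.ofNat
  10230, 52), (.ofNat 2059, 53), (.negSucc 2814, 54), (.ofNat 8658, 55), (.ofNat 10694, 56), (.negSucc 7288, 57),
  (.ofNat 1459, 58), (.ofNat 9934, 59), (.ofNat 7466, 60), (.negSucc 7904, 61), (.negSucc 10674, 62), (.negSucc 2557,
  63), (.negSucc 5261, 64), (.ofNat 3092, 65), (.negSucc 2832, 66), (.ofNat 3174, 67), (.negSucc 19682, 68),
  (.negSucc 1308, 69), (.negSucc 5789, 70), (.ofNat 2, 71), (.ofNat 3699, 72), (.negSucc 2579, 73), (.negSucc 11832,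
  74), (.ofNat 3631, 75), (.ofNat 1404, 76), (.negSucc 2865, 77), (.ofNat 11997, 78), (.ofNat 2680, 79), (.ofNat
  13429, 80), (.negSucc 3670, 81), (.negSucc 750, 82), (.negSucc 3897, 83), (.ofNat 2475, 84), (.negSucc 11514, 85),
  (.negSucc 9985, 86), (.negSucc 2296, 88), (.ofNat 3087, 89), (.ofNat 4911, 91), (.ofNat 31, 92), (.negSucc 14009,
  93), (.ofNat 2775, 94), (.ofNat 1231, 95), (.ofNat 2520, 97), (.negSucc 9985, 98)]))

/-- a certificate -/
noncomputable def c31 : Hd × Tr :=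
  ((86951854080000, [], []), (.far (.ofNat 1) [(.negSucc 0, 11), (.ofNat 1, 13), (.ofNat 1, 29), (.negSucc 0, 33),
  (.negSucc 0, 36), (.ofNat 1, 55), (.ofNat 1, 59), (.negSucc 0, 68), (.negSucc 0, 74), (.ofNat 1, 80)]))

/-- a certificate -/
noncomputable def c32 : Hd × Tr :=
  ((76082872320000, [], []), (.far (.ofNat 1) [(.negSucc 0, 11), (.ofNat 1, 13), (.ofNat 1, 29), (.negSucc 0, 33),
  (.negSucc 0, 36), (.ofNat 1, 55), (.ofNat 1, 59), (.negSucc 0, 68), (.negSucc 0, 74), (.ofNat 1, 80)]))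

/-- a certificate -/
noncomputable def c33 : Hd × Tr :=
  ((64194923520000, [], []), (.far (.ofNat 1) [(.negSucc 0, 11), (.ofNat 1, 13), (.ofNat 1, 29), (.negSucc 0, 33),
  (.negSucc 0, 36), (.ofNat 1, 55), (.ofNat 1, 59), (.negSucc 0, 68), (.negSucc 0, 74), (.ofNat 1, 80)]))

/-- a certificate -/
noncomputable def c34 : Hd × Tr :=
  ((57062154240000, [], []), (.far (.ofNat 1) [(.negSucc 0, 11), (.ofNat 1, 13), (.ofNat 1, 29), (.negSucc 0, 33),
  (.negSucc 0, 36), (.ofNat 1, 55), (.ofNat 1, 59), (.negSucc 0, 68), (.negSucc 0, 74), (.ofNat 1, 80)]))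

/-- a certificate -/
noncomputable def c35 : Hd × Tr :=
  ((43475927040000, [], []), (.far (.ofNat 1) [(.negSucc 0, 11), (.ofNat 1, 13), (.ofNat 1, 29), (.negSucc 0, 33),
  (.negSucc 0, 36), (.ofNat 1, 55), (.ofNat 1, 59), (.negSucc 0, 68), (.negSucc 0, 74), (.ofNat 1, 80)]))

/-- a certificate -/
noncomputable def c36 : Hd × Tr :=
  ((38041436160000, [], []), (.far (.ofNat 1) [(.negSucc 0, 11), (.ofNat 1, 13), (.ofNat 1, 29), (.negSucc 0, 33),
  (.negSucc 0, 36), (.ofNat 1, 55), (.ofNat 1, 59), (.negSucc 0, 68), (.negSucc 0, 74), (.ofNat 1, 80)]))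

/-- a certificate -/
noncomputable def c37 : Hd × Tr :=
  ((32606945280000, [], []), (.far (.ofNat 1) [(.negSucc 0, 11), (.ofNat 1, 13), (.ofNat 1, 29), (.negSucc 0, 33),
  (.negSucc 0, 36), (.ofNat 1, 55), (.ofNat 1, 59), (.negSucc 0, 68), (.negSucc 0, 74), (.ofNat 1, 80)]))

/-- a certificate -/
noncomputable def c38 : Hd × Tr :=
  ((32097461760000, [], []), (.far (.ofNat 1) [(.negSucc 0, 11), (.ofNat 1, 13), (.ofNat 1, 29), (.negSucc 0, 33),
  (.negSucc 0, 36), (.ofNat 1, 55), (.ofNat 1, 59), (.negSucc 0, 68), (.negSucc 0, 74), (.ofNat 1, 80)]))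

/-- a certificate -/
noncomputable def c39 : Hd × Tr :=
  ((28531077120000, [], []), (.far (.ofNat 1) [(.negSucc 0, 11), (.ofNat 1, 13), (.ofNat 1, 29), (.negSucc 0, 33),
  (.negSucc 0, 36), (.ofNat 1, 55), (.ofNat 1, 59), (.negSucc 0, 68), (.negSucc 0, 74), (.ofNat 1, 80)]))

/-- a certificate -/
noncomputable def c40 : Hd × Tr :=
  ((21737963520000, [], []), (.far (.ofNat 1) [(.negSucc 0, 11), (.ofNat 1, 13), (.ofNat 1, 29), (.negSucc 0, 33),
  (.negSucc 0, 36), (.ofNat 1, 55), (.ofNat 1, 59), (.negSucc 0, 68), (.negSucc 0, 74), (.ofNat 1, 80)]))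

/-- a certificate -/
noncomputable def c41 : Hd × Tr :=
  ((21398307840000, [], []), (.far (.ofNat 1) [(.negSucc 0, 11), (.ofNat 1, 13), (.ofNat 1, 29), (.negSucc 0, 33),
  (.negSucc 0, 36), (.ofNat 1, 55), (.ofNat 1, 59), (.negSucc 0, 68), (.negSucc 0, 74), (.ofNat 1, 80)]))

/-- a certificate -/
noncomputable def c42 : Hd × Tr :=
  ((19020718080000, [], []), (.far (.ofNat 1) [(.negSucc 0, 11), (.ofNat 1, 13), (.ofNat 1, 29), (.negSucc 0, 33),
  (.negSucc 0, 36), (.ofNat 1, 55), (.ofNat 1, 59), (.negSucc 0, 68), (.negSucc 0, 74), (.ofNat 1, 80)]))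

/-- a certificate -/
noncomputable def c43 : Hd × Tr :=
  ((18341406720000, [], []), (.far (.ofNat 1) [(.negSucc 0, 11), (.ofNat 1, 13), (.ofNat 1, 29), (.negSucc 0, 33),
  (.negSucc 0, 36), (.ofNat 1, 55), (.ofNat 1, 59), (.negSucc 0, 68), (.negSucc 0, 74), (.ofNat 1, 80)]))

/-- a certificate -/
noncomputable def c44 : Hd × Tr :=
  ((16303472640000, [], []), (.far (.ofNat 1) [(.negSucc 0, 11), (.ofNat 1, 13), (.ofNat 1, 29), (.negSucc 0, 33),
  (.negSucc 0, 36), (.ofNat 1, 55), (.ofNat 1, 59), (.negSucc 0, 68), (.negSucc 0, 74), (.ofNat 1, 80)]))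

/-- a certificate -/
noncomputable def c45 : Hd × Tr :=
  ((14265538560000, [], []), (.far (.ofNat 1) [(.negSucc 0, 11), (.ofNat 1, 13), (.ofNat 1, 29), (.negSucc 0, 33),
  (.negSucc 0, 36), (.ofNat 1, 55), (.ofNat 1, 59), (.negSucc 0, 68), (.negSucc 0, 74), (.ofNat 1, 80)]))

/-- certificates -/
noncomputable def CL2 : List (Hd × Tr) :=
  [c30, c31, c32, c33, c34, c35, c36, c37, c38, c39, c40, c41, c42, c43, c44, c45]

theorem okC2 : okL TAB.Co1.D (TAB.Sm2.mkRows TAB.Co1.RA TAB.Co1.RB) P Z CL2 = true := by decide +kernel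

/-- a certificate -/
noncomputable def c46 : Hd × Tr :=
  ((10868981760000, [], []), (.far (.ofNat 277) [(.ofNat 493, 9), (.ofNat 1059, 13), (.ofNat 180, 14), (.negSucc 883,
  15), (.negSucc 1350, 16), (.negSucc 1940, 17), (.negSucc 480, 18), (.ofNat 602, 19), (.ofNat 99, 20), (.ofNat 330,
  21), (.negSucc 988, 22), (.negSucc 668, 23), (.negSucc 645, 24), (.ofNat 100, 25), (.ofNat 305, 26), (.ofNat 26,
  27), (.ofNat 405, 28), (.ofNat 2129, 29), (.negSucc 412, 30), (.ofNat 883, 31), (.negSucc 708, 32), (.negSucc 2004,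
  33), (.ofNat 34, 35), (.negSucc 1883, 36), (.ofNat 198, 37), (.ofNat 195, 38), (.ofNat 569, 39), (.ofNat 257, 40),
  (.negSucc 316, 42), (.ofNat 216, 43), (.ofNat 641, 45), (.ofNat 56, 46), (.negSucc 478, 47), (.negSucc 739, 48),
  (.ofNat 1000, 49), (.ofNat 429, 50), (.negSucc 169, 51), (.ofNat 200, 52), (.negSucc 213, 53), (.negSucc 426, 54),
  (.ofNat 2187, 55), (.ofNat 360, 56), (.negSucc 216, 57), (.ofNat 84, 58), (.ofNat 759, 59), (.ofNat 270, 61),
  (.negSucc 769, 62), (.ofNat 353, 63), (.ofNat 63, 64), (.ofNat 199, 67), (.negSucc 1544, 68), (.negSucc 1261, 69),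
  (.negSucc 270, 70), (.ofNat 731, 71), (.ofNat 1139, 72), (.negSucc 117, 73), (.negSucc 1781, 74), (.negSucc 445,
  76), (.ofNat 1907, 80), (.ofNat 3, 81), (.negSucc 579, 83), (.ofNat 56, 84), (.ofNat 37, 85), (.negSucc 665, 86),
  (.negSucc 647, 88), (.ofNat 66, 89), (.negSucc 137, 90), (.ofNat 343, 91), (.ofNat 53, 92), (.ofNat 1418, 94),
  (.negSucc 14, 97), (.negSucc 285, 98)]))

/-- a certificate -/
noncomputable def c47 : Hd × Tr :=
  ((10699153920000, [], []), (.far (.ofNat 222) [(.ofNat 497, 9), (.ofNat 957, 13), (.ofNat 154, 14), (.negSucc 843,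
  15), (.negSucc 1281, 16), (.negSucc 1861, 17), (.negSucc 500, 18), (.ofNat 547, 19), (.ofNat 133, 20), (.ofNat 264,
  21), (.negSucc 896, 22), (.negSucc 631, 23), (.negSucc 598, 24), (.ofNat 133, 25), (.ofNat 308, 26), (.ofNat 46,
  27), (.ofNat 334, 28), (.ofNat 2080, 29), (.negSucc 356, 30), (.ofNat 853, 31), (.negSucc 713, 32), (.negSucc 1888,
  33), (.ofNat 9, 35), (.negSucc 1772, 36), (.ofNat 224, 37), (.ofNat 236, 38), (.ofNat 621, 39), (.ofNat 231, 40),
  (.negSucc 45, 41), (.negSucc 339, 42), (.ofNat 147, 43), (.ofNat 22, 44), (.ofNat 678, 45), (.negSucc 443, 47),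
  (.negSucc 741, 48), (.ofNat 926, 49), (.ofNat 359, 50), (.negSucc 217, 51), (.ofNat 305, 52), (.negSucc 177, 53),
  (.negSucc 394, 54), (.ofNat 2187, 55), (.ofNat 395, 56), (.negSucc 231, 57), (.ofNat 90, 58), (.ofNat 648, 59),
  (.ofNat 345, 61), (.negSucc 715, 62), (.ofNat 309, 63), (.ofNat 106, 64), (.ofNat 134, 67), (.negSucc 1593, 68),
  (.negSucc 1220, 69), (.negSucc 263, 70), (.ofNat 675, 71), (.ofNat 1078, 72), (.negSucc 193, 73), (.negSucc 1763,
  74), (.negSucc 434, 76), (.ofNat 1740, 80), (.negSucc 538, 83), (.ofNat 9, 84), (.negSucc 685, 86), (.negSucc 595,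
  88), (.ofNat 131, 89), (.negSucc 133, 90), (.ofNat 318, 91), (.ofNat 1379, 94), (.negSucc 220, 98)]))

/-- a certificate -/
noncomputable def c48 : Hd × Tr :=
  ((9510359040000, [], []), (.far (.ofNat 302) [(.ofNat 500, 9), (.ofNat 1128, 13), (.ofNat 185, 14), (.negSucc 820,
  15), (.negSucc 1351, 16), (.negSucc 1925, 17), (.negSucc 456, 18), (.ofNat 606, 19), (.ofNat 70, 20), (.ofNat 327,
  21), (.negSucc 998, 22), (.negSucc 532, 23), (.negSucc 644, 24), (.ofNat 89, 25), (.ofNat 293, 26), (.ofNat 35,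
  27), (.ofNat 384, 28), (.ofNat 2101, 29), (.negSucc 403, 30), (.ofNat 918, 31), (.negSucc 704, 32), (.negSucc 2052,
  33), (.ofNat 20, 35), (.negSucc 1934, 36), (.ofNat 203, 37), (.ofNat 183, 38), (.ofNat 562, 39), (.ofNat 297, 40),
  (.negSucc 292, 42), (.ofNat 245, 43), (.negSucc 3, 44), (.ofNat 672, 45), (.ofNat 112, 46), (.negSucc 519, 47),
  (.negSucc 681, 48), (.ofNat 896, 49), (.ofNat 430, 50), (.negSucc 128, 51), (.ofNat 126, 52), (.negSucc 283, 53),
  (.negSucc 460, 54), (.ofNat 2187, 55), (.ofNat 339, 56), (.negSucc 259, 57), (.ofNat 20, 58), (.ofNat 749, 59),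
  (.ofNat 250, 61), (.negSucc 753, 62), (.ofNat 280, 63), (.ofNat 167, 67), (.negSucc 1530, 68), (.negSucc 1287, 69),
  (.negSucc 228, 70), (.ofNat 709, 71), (.ofNat 1138, 72), (.negSucc 143, 73), (.negSucc 1601, 74), (.negSucc 8, 75),
  (.negSucc 501, 76), (.negSucc 69, 78), (.negSucc 78, 79), (.ofNat 1984, 80), (.ofNat 32, 81), (.negSucc 21, 82),
  (.negSucc 559, 83), (.ofNat 58, 84), (.negSucc 645, 86), (.negSucc 706, 88), (.ofNat 105, 89), (.negSucc 232, 90),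
  (.ofNat 436, 91), (.ofNat 81, 92), (.ofNat 20, 93), (.ofNat 1408, 94), (.negSucc 74, 97), (.negSucc 355, 98)]))

/-- a certificate -/
noncomputable def c49 : Hd × Tr :=
  ((9170703360000, [], []), (.far (.ofNat 1334) [(.ofNat 725, 9), (.ofNat 42, 10), (.ofNat 2361, 13), (.ofNat 703,
  14), (.negSucc 3607, 15), (.negSucc 2681, 16), (.negSucc 4332, 17), (.negSucc 953, 18), (.ofNat 72, 19), (.negSucc
  1458, 20), (.ofNat 606, 21), (.negSucc 1266, 22), (.ofNat 220, 23), (.negSucc 876, 24), (.ofNat 1815, 25), (.ofNat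
  194, 26), (.ofNat 845, 27), (.ofNat 1656, 28), (.ofNat 6079, 29), (.negSucc 1604, 30), (.ofNat 2046, 31), (.negSucc
  1080, 32), (.negSucc 4921, 33), (.negSucc 1102, 34), (.ofNat 468, 35), (.negSucc 5018, 36), (.negSucc 406, 37),
  (.ofNat 701, 38), (.ofNat 715, 39), (.negSucc 7, 40), (.negSucc 154, 41), (.ofNat 395, 43), (.ofNat 415, 44),
  (.ofNat 1363, 45), (.negSucc 1458, 47), (.negSucc 1560, 48), (.ofNat 2758, 49), (.negSucc 174, 50), (.ofNat 336,
  51), (.ofNat 206, 52), (.ofNat 559, 53), (.negSucc 1522, 54), (.ofNat 6561, 55), (.ofNat 590, 56), (.negSucc 1529,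
  57), (.negSucc 59, 58), (.ofNat 1685, 59), (.ofNat 421, 61), (.negSucc 1595, 62), (.negSucc 88, 65), (.ofNat 883,
  66), (.ofNat 791, 67), (.negSucc 2850, 68), (.negSucc 2156, 69), (.negSucc 422, 70), (.ofNat 1433, 71), (.ofNat
  2008, 72), (.negSucc 959, 73), (.negSucc 3888, 74), (.ofNat 107, 75), (.negSucc 993, 76), (.negSucc 418, 77),
  (.negSucc 129, 78), (.ofNat 5837, 80), (.ofNat 422, 81), (.ofNat 292, 82), (.negSucc 883, 83), (.negSucc 370, 84),
  (.negSucc 438, 86), (.negSucc 2190, 88), (.ofNat 225, 90), (.ofNat 2549, 91), (.ofNat 1261, 92), (.negSucc 1097,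
  93), (.ofNat 4648, 94), (.ofNat 644, 95), (.negSucc 299, 96), (.negSucc 1758, 97), (.ofNat 573, 98)]))

/-- a certificate -/
noncomputable def c50 : Hd × Tr :=
  ((8151736320000, [], []), (.far (.ofNat 310) [(.ofNat 614, 9), (.ofNat 923, 13), (.ofNat 157, 14), (.negSucc 740,
  15), (.negSucc 1196, 16), (.negSucc 1690, 17), (.negSucc 437, 18), (.ofNat 622, 19), (.ofNat 25, 20), (.ofNat 248,
  21), (.negSucc 655, 22), (.negSucc 360, 23), (.negSucc 629, 24), (.ofNat 112, 25), (.ofNat 293, 26), (.ofNat 78,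
  27), (.ofNat 320, 28), (.ofNat 1877, 29), (.negSucc 375, 30), (.ofNat 844, 31), (.negSucc 616, 32), (.negSucc 1790,
  33), (.negSucc 108, 34), (.ofNat 50, 35), (.negSucc 1826, 36), (.ofNat 75, 37), (.ofNat 397, 38), (.ofNat 598, 39),
  (.ofNat 516, 40), (.negSucc 281, 42), (.ofNat 337, 43), (.negSucc 7, 44), (.ofNat 813, 45), (.ofNat 176, 46),
  (.negSucc 591, 47), (.negSucc 547, 48), (.ofNat 742, 49), (.ofNat 362, 50), (.negSucc 171, 51), (.ofNat 344, 52),
  (.negSucc 272, 53), (.negSucc 464, 54), (.ofNat 2187, 55), (.ofNat 352, 56), (.negSucc 338, 57), (.ofNat 22, 58),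
  (.ofNat 449, 59), (.negSucc 69, 60), (.ofNat 352, 61), (.negSucc 739, 62), (.ofNat 430, 63), (.ofNat 129, 64),
  (.ofNat 160, 67), (.negSucc 1688, 68), (.negSucc 1134, 69), (.negSucc 136, 70), (.ofNat 648, 71), (.ofNat 1044,
  72), (.negSucc 234, 73), (.negSucc 1454, 74), (.ofNat 15, 75), (.negSucc 626, 76), (.negSucc 259, 78), (.ofNat
  1608, 80), (.ofNat 42, 81), (.negSucc 46, 82), (.negSucc 389, 83), (.ofNat 120, 84), (.negSucc 706, 86), (.negSucc
  663, 88), (.ofNat 357, 89), (.negSucc 136, 90), (.ofNat 180, 91), (.ofNat 1468, 94), (.ofNat 78, 95), (.negSucc 73,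
  96), (.negSucc 38, 97), (.negSucc 81, 98)]))

/-- certificates -/
noncomputable def CL3 : List (Hd × Tr) :=
  [c46, c47, c48, c49, c50]

theorem okC3 : okL TAB.Co1.D (TAB.Sm2.mkRows TAB.Co1.RA TAB.Co1.RB) P Z CL3 = true := by decide +kernel

end Cfsg.Agent.SM.Sp.NCo1
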