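import Cfsg.Agent.SM.Sp.NCo1D

/-!
# SM (S3570), sporadic socles: Co1, certificates (helper26; generated by notes/SM/sp26/gen3.py.txt)
-/

set_option autoImplicit false
set_option Elab.async false

namespace Cfsg.Agent.SM.Sp.NCo1

open Cfsg Cfsg.Agent.TAB.Eng Cfsg.Agent.H940.Eng Cfsg.Agent.TH.Spor

/-- a certificate -/
noncomputable def c51 : Hd × Tr :=
  ((7132769280000, [], []), (.far (.ofNat 324) [(.ofNat 641, 9), (.ofNat 892, 13), (.ofNat 153, 14), (.negSucc 762,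
  15), (.negSucc 1179, 16), (.negSucc 1665, 17), (.negSucc 439, 18), (.ofNat 623, 19), (.negSucc 6, 20), (.ofNat 227,
  21), (.negSucc 614, 22), (.negSucc 306, 23), (.negSucc 636, 24), (.ofNat 124, 25), (.ofNat 317, 26), (.ofNat 98,
  27), (.ofNat 366, 28), (.ofNat 1839, 29), (.negSucc 388, 30), (.ofNat 857, 31), (.negSucc 579, 32), (.negSucc 1779,
  33), (.negSucc 74, 34), (.ofNat 56, 35), (.negSucc 1829, 36), (.ofNat 408, 38), (.ofNat 628, 39), (.ofNat 534, 40),
  (.negSucc 259, 42), (.ofNat 352, 43), (.ofNat 8, 44), (.ofNat 842, 45), (.ofNat 202, 46), (.negSucc 639, 47),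
  (.negSucc 528, 48), (.ofNat 754, 49), (.ofNat 342, 50), (.negSucc 173, 51), (.ofNat 320, 52), (.negSucc 242, 53),
  (.negSucc 486, 54), (.ofNat 2187, 55), (.ofNat 325, 56), (.negSucc 428, 57), (.ofNat 56, 58), (.ofNat 415, 59),
  (.negSucc 105, 60), (.ofNat 350, 61), (.negSucc 778, 62), (.ofNat 478, 63), (.ofNat 187, 64), (.ofNat 177, 67),
  (.negSucc 1727, 68), (.negSucc 1120, 69), (.negSucc 81, 70), (.ofNat 669, 71), (.ofNat 1051, 72), (.negSucc 212,
  73), (.negSucc 1450, 74), (.ofNat 56, 75), (.negSucc 637, 76), (.ofNat 23, 77), (.negSucc 271, 78), (.ofNat 1609,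
  80), (.ofNat 33, 81), (.negSucc 29, 82), (.negSucc 385, 83), (.ofNat 123, 84), (.ofNat 48, 85), (.negSucc 739, 86),
  (.negSucc 603, 88), (.ofNat 311, 89), (.negSucc 58, 90), (.ofNat 136, 91), (.negSucc 62, 93), (.ofNat 1525, 94),
  (.ofNat 85, 95), (.negSucc 252, 96), (.negSucc 33, 97)]))

/-- a certificate -/
noncomputable def c52 : Hd × Tr :=
  ((6113802240000, [], []), (.far (.ofNat 672) [(.ofNat 140, 9), (.ofNat 3689, 13), (.ofNat 655, 14), (.negSucc 4084,
  16), (.negSucc 4678, 17), (.negSucc 1859, 18), (.ofNat 1139, 19), (.ofNat 242, 20), (.ofNat 1112, 21), (.negSucc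
  2492, 22), (.negSucc 2202, 23), (.negSucc 2121, 24), (.negSucc 16, 25), (.ofNat 1576, 26), (.ofNat 78, 27), (.ofNat
  1399, 28), (.ofNat 6046, 29), (.negSucc 213, 30), (.ofNat 1471, 31), (.negSucc 2758, 32), (.negSucc 6168, 33),
  (.ofNat 211, 34), (.negSucc 149, 35), (.negSucc 5184, 36), (.ofNat 379, 37), (.ofNat 502, 38), (.ofNat 659, 39),
  (.ofNat 353, 40), (.negSucc 246, 41), (.ofNat 1149, 43), (.ofNat 161, 44), (.ofNat 2915, 45), (.ofNat 127, 46),
  (.negSucc 1086, 47), (.negSucc 2526, 48), (.ofNat 2375, 49), (.ofNat 1049, 50), (.negSucc 952, 51), (.negSucc 1039,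
  53), (.negSucc 1580, 54), (.ofNat 6561, 55), (.ofNat 1200, 56), (.negSucc 818, 57), (.negSucc 197, 58), (.ofNat
  1909, 59), (.ofNat 91, 60), (.ofNat 618, 61), (.negSucc 2305, 62), (.ofNat 297, 63), (.ofNat 311, 64), (.ofNat 142,
  65), (.negSucc 5182, 68), (.negSucc 3891, 69), (.ofNat 2319, 71), (.ofNat 3641, 72), (.negSucc 324, 73), (.negSucc
  3763, 74), (.negSucc 609, 75), (.negSucc 2315, 76), (.ofNat 91, 77), (.negSucc 339, 79), (.ofNat 5872, 80), (.ofNat
  1338, 81), (.negSucc 314, 82), (.negSucc 1922, 83), (.negSucc 227, 84), (.negSucc 278, 85), (.negSucc 2036, 86),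
  (.negSucc 1930, 88), (.ofNat 1174, 89), (.negSucc 1595, 90), (.ofNat 1340, 91), (.negSucc 283, 92), (.negSucc 464,
  93), (.ofNat 4079, 94), (.ofNat 289, 95), (.negSucc 1501, 98)]))

/-- a certificate -/
noncomputable def c53 : Hd × Tr :=
  ((5434490880000, [], []), (.far (.ofNat 221) [(.ofNat 76, 9), (.ofNat 1119, 13), (.ofNat 208, 14), (.negSucc 1301,
  16), (.negSucc 1475, 17), (.negSucc 605, 18), (.ofNat 336, 19), (.ofNat 75, 20), (.ofNat 369, 21), (.negSucc 707,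
  22), (.negSucc 694, 23), (.negSucc 663, 24), (.ofNat 518, 26), (.ofNat 111, 27), (.ofNat 574, 28), (.ofNat 1906,
  29), (.negSucc 42, 30), (.ofNat 463, 31), (.negSucc 852, 32), (.negSucc 1924, 33), (.ofNat 44, 34), (.negSucc 37,
  35), (.negSucc 1639, 36), (.ofNat 134, 37), (.ofNat 269, 38), (.ofNat 270, 39), (.ofNat 151, 40), (.negSucc 16,
  41), (.negSucc 21, 42), (.ofNat 393, 43), (.ofNat 83, 44), (.ofNat 893, 45), (.ofNat 32, 46), (.negSucc 336, 47),
  (.negSucc 904, 48), (.ofNat 825, 49), (.ofNat 309, 50), (.negSucc 328, 51), (.negSucc 4, 52), (.negSucc 225, 53),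
  (.negSucc 474, 54), (.ofNat 2187, 55), (.ofNat 416, 56), (.negSucc 308, 57), (.negSucc 40, 58), (.ofNat 589, 59),
  (.ofNat 86, 60), (.ofNat 205, 61), (.negSucc 785, 62), (.ofNat 221, 63), (.ofNat 270, 64), (.ofNat 163, 65),
  (.negSucc 1583, 68), (.negSucc 1179, 69), (.ofNat 120, 70), (.ofNat 819, 71), (.ofNat 1174, 72), (.negSucc 76, 73),
  (.negSucc 1371, 74), (.negSucc 77, 75), (.negSucc 615, 76), (.negSucc 126, 79), (.ofNat 1890, 80), (.ofNat 350,
  81), (.negSucc 98, 82), (.negSucc 567, 83), (.negSucc 619, 86), (.negSucc 522, 88), (.ofNat 257, 89), (.negSucc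
  299, 90), (.ofNat 407, 91), (.negSucc 83, 92), (.negSucc 169, 93), (.ofNat 1359, 94), (.ofNat 109, 95), (.negSucc
  368, 98)]))

/-- certificates -/
noncomputable def CL4 : List (Hd × Tr) :=
  [c51, c52, c53]

theorem okC4 : okL TAB.Co1.D (TAB.Sm2.mkRows TAB.Co1.RA TAB.Co1.RB) P Z CL4 = true := by decide +kernel

/-- a certificate -/
noncomputable def c54 : Hd × Tr :=
  ((4755179520000, [], []), (.bf 57 1 (.far (.ofNat 4770) [(.ofNat 3093, 3), (.ofNat 1763, 9), (.ofNat 2140, 10),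
  (.ofNat 1086, 12), (.ofNat 4531, 13), (.ofNat 1159, 14), (.ofNat 923, 18), (.ofNat 2345, 19), (.ofNat 2016, 20),
  (.ofNat 7599, 21), (.ofNat 5580, 22), (.ofNat 7434, 23), (.ofNat 6053, 24), (.ofNat 9050, 25), (.ofNat 13231, 26),
  (.ofNat 17378, 27), (.ofNat 16932, 28), (.ofNat 26940, 29), (.ofNat 29750, 30), (.ofNat 27447, 31), (.ofNat 33455,
  32), (.ofNat 39297, 33), (.ofNat 54898, 34), (.ofNat 63798, 35), (.ofNat 57837, 36), (.ofNat 60052, 37), (.ofNat
  64378, 38), (.ofNat 68554, 39), (.ofNat 70794, 40), (.ofNat 69815, 41), (.ofNat 77522, 42), (.ofNat 94794, 43),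
  (.ofNat 114501, 44), (.ofNat 124650, 45), (.ofNat 127201, 46), (.ofNat 132056, 47), (.ofNat 149479, 48), (.ofNat
  163321, 49), (.ofNat 165869, 50), (.ofNat 176274, 51), (.ofNat 188006, 52), (.ofNat 193771, 53), (.ofNat 222451,
  54), (.ofNat 247488, 55), (.ofNat 249374, 56), (.ofNat 262887, 57), (.ofNat 291536, 58), (.ofNat 310341, 59),
  (.ofNat 318383, 60), (.ofNat 432582, 61), (.ofNat 470865, 62), (.ofNat 535510, 63), (.ofNat 539589, 64), (.ofNat
  536854, 65), (.ofNat 554045, 66), (.ofNat 582897, 67), (.ofNat 591198, 68), (.ofNat 599050, 69), (.ofNat 610243,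
  70), (.ofNat 627297, 71), (.ofNat 639986, 72), (.ofNat 698158, 73), (.ofNat 711000, 74), (.ofNat 727506, 75),
  (.ofNat 745687, 76), (.ofNat 749565, 77), (.ofNat 772797, 78), (.ofNat 808540, 79), (.ofNat 856137, 80), (.ofNat
  867491, 81), (.ofNat 873984, 82), (.ofNat 895889, 83), (.ofNat 945672, 84), (.ofNat 1040797, 85), (.ofNat 1120660,
  86), (.ofNat 1166312, 87), (.ofNat 1341907, 88), (.ofNat 1360595, 89), (.ofNat 1359808, 90), (.ofNat 1399051, 91),
  (.ofNat 1455746, 92), (.ofNat 1453537, 93), (.ofNat 1463370, 94), (.ofNat 1511601, 95), (.ofNat 1594323, 96),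
  (.ofNat 9558, 98)]) (.far (.ofNat 1869) [(.ofNat 997, 9), (.ofNat 3669, 13), (.ofNat 2186, 14), (.ofNat 997, 15),
  (.ofNat 177, 16), (.ofNat 3987, 18), (.ofNat 5157, 19), (.ofNat 5098, 20), (.ofNat 5017, 21), (.ofNat 4967, 22),
  (.ofNat 6544, 23), (.ofNat 7250, 24), (.ofNat 8941, 25), (.ofNat 13112, 26), (.ofNat 15679, 27), (.ofNat 17557,
  28), (.ofNat 26666, 29), (.ofNat 25897, 30), (.ofNat 29542, 31), (.ofNat 35028, 32), (.ofNat 43163, 33), (.ofNat
  59192, 34), (.ofNat 60604, 35), (.ofNat 58329, 36), (.ofNat 62545, 37), (.ofNat 67358, 38), (.ofNat 70775, 39),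
  (.ofNat 71472, 40), (.ofNat 71885, 41), (.ofNat 75082, 42), (.ofNat 91655, 43), (.ofNat 115746, 44), (.ofNat
  119578, 45), (.ofNat 126455, 46), (.ofNat 134205, 47), (.ofNat 147952, 48), (.ofNat 161159, 49), (.ofNat 166502,
  50), (.ofNat 173720, 51), (.ofNat 188896, 52), (.ofNat 192703, 53), (.ofNat 224018, 54), (.ofNat 247895, 55),
  (.ofNat 247534, 56), (.ofNat 264036, 57), (.ofNat 290826, 58), (.ofNat 307554, 59), (.ofNat 318080, 60), (.ofNat
  437349, 61), (.ofNat 471872, 62), (.ofNat 532878, 63), (.ofNat 538225, 64), (.ofNat 538640, 65), (.ofNat 554255,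
  66), (.ofNat 582992, 67), (.ofNat 589451, 68), (.ofNat 598013, 69), (.ofNat 610070, 70), (.ofNat 624215, 71),
  (.ofNat 637770, 72), (.ofNat 699002, 73), (.ofNat 711739, 74), (.ofNat 728334, 75), (.ofNat 744775, 76), (.ofNat
  749125, 77), (.ofNat 772127, 78), (.ofNat 809776, 79), (.ofNat 851673, 80), (.ofNat 868429, 81), (.ofNat 873702,
  82), (.ofNat 894232, 83), (.ofNat 945353, 84), (.ofNat 1041771, 85), (.ofNat 1118964, 86), (.ofNat 1165243, 87),
  (.ofNat 1342063, 88), (.ofNat 1359591, 89), (.ofNat 1359196, 90), (.ofNat 1399551, 91), (.ofNat 1451653, 92),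
  (.ofNat 1455267, 93), (.ofNat 1464313, 94), (.ofNat 1510471, 95), (.ofNat 1594323, 96), (.ofNat 1694, 97), (.ofNat
  7669, 98)])))

/-- certificates -/
noncomputable def CL5 : List (Hd × Tr) :=
  [c54]

theorem okC5 : okL TAB.Co1.D (TAB.Sm2.mkRows TAB.Co1.RA TAB.Co1.RB) P Z CL5 = true := by decide +kernel

end Cfsg.Agent.SM.Sp.NCo1
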