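import Cfsg.Agent.SM.Sp.NCo1D

/-!
# SM (S3570), sporadic socles: Co1, certificates (helper26; generated by notes/SM/sp26/gen3.py.txt)
-/

set_option autoImplicit false
set_option Elab.async false

namespace Cfsg.Agent.SM.Sp.NCo1

open Cfsg Cfsg.Agent.TAB.Eng Cfsg.Agent.H940.Eng Cfsg.Agent.TH.Spor

/-- a certificate -/
noncomputable def c55 : Hd × Tr :=
  ((4585351680000, [], []), (.bf 57 2 (.bf 26 70 (.bf 26 49 (.far (.ofNat 79810) [(.ofNat 36029, 9), (.ofNat 93527,
  10), (.ofNat 36029, 12), (.ofNat 31972, 13), (.ofNat 52571, 14), (.ofNat 1690, 16), (.ofNat 53078, 18), (.ofNat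
  82225, 19), (.ofNat 54793, 20), (.ofNat 78023, 21), (.negSucc 20187, 22), (.ofNat 54068, 23), (.ofNat 65997, 24),
  (.negSucc 3042, 25), (.ofNat 169087, 26), (.ofNat 134989, 27), (.ofNat 169039, 28), (.ofNat 265221, 29), (.ofNat
  205961, 30), (.ofNat 287317, 31), (.ofNat 257615, 32), (.ofNat 353725, 33), (.ofNat 522450, 34), (.ofNat 450850,
  35), (.ofNat 461572, 36), (.ofNat 637565, 37), (.ofNat 572968, 38), (.ofNat 668620, 39), (.ofNat 637324, 40),
  (.ofNat 619816, 41), (.ofNat 669924, 42), (.ofNat 796558, 43), (.ofNat 1044900, 44), (.ofNat 1143280, 45), (.ofNat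
  1126038, 46), (.ofNat 1269431, 47), (.ofNat 1281022, 48), (.ofNat 1497391, 49), (.ofNat 1499372, 50), (.ofNat
  1613907, 51), (.ofNat 1738803, 52), (.ofNat 1760778, 53), (.ofNat 1996417, 54), (.ofNat 2306603, 55), (.ofNat
  2230149, 56), (.ofNat 2475762, 57), (.ofNat 2633596, 58), (.ofNat 2762476, 59), (.ofNat 2887951, 60), (.ofNat
  3949947, 61), (.ofNat 4312124, 62), (.ofNat 4806876, 63), (.ofNat 4940972, 64), (.ofNat 4861669, 65), (.ofNat
  5061255, 66), (.ofNat 5262749, 67), (.ofNat 5351059, 68), (.ofNat 5418143, 69), (.ofNat 5497736, 70), (.ofNat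
  5636275, 71), (.ofNat 5807294, 72), (.ofNat 6286301, 73), (.ofNat 6397987, 74), (.ofNat 6607716, 75), (.ofNat
  6746520, 76), (.ofNat 6825172, 77), (.ofNat 7054243, 78), (.ofNat 7266338, 79), (.ofNat 7753362, 80), (.ofNat
  7916605, 81), (.ofNat 7898276, 82), (.ofNat 8077240, 83), (.ofNat 8644147, 84), (.ofNat 9436937, 85), (.ofNat
  10209516, 86), (.ofNat 10583646, 87), (.ofNat 12111803, 88), (.ofNat 12304169, 89), (.ofNat 12322908, 90), (.ofNat
  12712566, 91), (.ofNat 13169670, 92), (.ofNat 13222748, 93), (.ofNat 13287055, 94), (.ofNat 13692120, 95), (.ofNat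
  14348907, 96), (.ofNat 130522, 98)]) (.bf 27 7 (.bf 27 0 (.far (.ofNat 3333) [(.ofNat 1090, 3), (.ofNat 248, 9),
  (.ofNat 1103, 10), (.ofNat 5486, 13), (.ofNat 227, 14), (.ofNat 2297, 18), (.ofNat 5176, 19), (.ofNat 3193, 20),
  (.ofNat 8282, 21), (.ofNat 4445, 22), (.ofNat 7778, 23), (.ofNat 9819, 24), (.ofNat 8740, 25), (.ofNat 13177, 26),
  (.ofNat 17844, 27), (.ofNat 18059, 28), (.ofNat 25722, 29), (.ofNat 29010, 30), (.ofNat 28097, 31), (.ofNat 33805,
  32), (.ofNat 42215, 33), (.ofNat 57478, 34), (.ofNat 60324, 35), (.ofNat 61266, 36), (.ofNat 62001, 37), (.ofNat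
  66565, 38), (.ofNat 70915, 39), (.ofNat 70494, 40), (.ofNat 70828, 41), (.ofNat 76310, 42), (.ofNat 91808, 43),
  (.ofNat 115229, 44), (.ofNat 121193, 45), (.ofNat 131090, 46), (.ofNat 133916, 47), (.ofNat 149843, 48), (.ofNat
  160286, 49), (.ofNat 166449, 50), (.ofNat 174921, 51), (.ofNat 189370, 52), (.ofNat 191270, 53), (.ofNat 224133,
  54), (.ofNat 245798, 55), (.ofNat 247442, 56), (.ofNat 264267, 57), (.ofNat 290339, 58), (.ofNat 305123, 59),
  (.ofNat 318217, 60), (.ofNat 437427, 61), (.ofNat 470217, 62), (.ofNat 534556, 63), (.ofNat 541119, 64), (.ofNat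
  536311, 65), (.ofNat 556142, 66), (.ofNat 584008, 67), (.ofNat 592405, 68), (.ofNat 603120, 69), (.ofNat 611571,
  70), (.ofNat 625174, 71), (.ofNat 638350, 72), (.ofNat 699426, 73), (.ofNat 713822, 74), (.ofNat 728225, 75),
  (.ofNat 745681, 76), (.ofNat 749461, 77), (.ofNat 772452, 78), (.ofNat 809434, 79), (.ofNat 851021, 80), (.ofNat
  869535, 81), (.ofNat 873388, 82), (.ofNat 897111, 83), (.ofNat 947315, 84), (.ofNat 1043658, 85), (.ofNat 1124301,
  86), (.ofNat 1166834, 87), (.ofNat 1342717, 88), (.ofNat 1361569, 89), (.ofNat 1361032, 90), (.ofNat 1399571, 91),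
  (.ofNat 1455058, 92), (.ofNat 1456991, 93), (.ofNat 1465860, 94), (.ofNat 1512090, 95), (.ofNat 1594323, 96),
  (.ofNat 363, 97), (.ofNat 7191, 98)]) (.bf 14 557 (.bf 15 27 (.bf 16 7 (.bf 16 2 (.far (.ofNat 220) [(.ofNat 561,
  9), (.ofNat 341, 10), (.ofNat 396, 13), (.ofNat 1198, 14), (.ofNat 220, 18), (.ofNat 100, 19), (.ofNat 434, 20),
  (.negSucc 157, 21), (.ofNat 768, 22), (.ofNat 1284, 23), (.negSucc 277, 24), (.ofNat 1133, 25), (.ofNat 1638, 26),
  (.ofNat 1182, 27), (.ofNat 2934, 28), (.ofNat 2317, 29), (.ofNat 2696, 30), (.ofNat 3206, 31), (.ofNat 4381, 32),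
  (.ofNat 4254, 33), (.ofNat 7322, 34), (.ofNat 6721, 35), (.ofNat 5915, 36), (.ofNat 6304, 37), (.ofNat 7898, 38),
  (.ofNat 7983, 39), (.ofNat 8413, 40), (.ofNat 8421, 41), (.ofNat 8744, 42), (.ofNat 10837, 43), (.ofNat 13911, 44),
  (.ofNat 12851, 45), (.ofNat 13568, 46), (.ofNat 14708, 47), (.ofNat 16070, 48), (.ofNat 18301, 49), (.ofNat 19096,
  50), (.ofNat 19675, 51), (.ofNat 20745, 52), (.ofNat 21999, 53), (.ofNat 24806, 54), (.ofNat 28915, 55), (.ofNat
  28036, 56), (.ofNat 29125, 57), (.ofNat 32566, 58), (.ofNat 35206, 59), (.ofNat 36066, 60), (.ofNat 48487, 61),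
  (.ofNat 53559, 62), (.ofNat 60108, 63), (.ofNat 60101, 64), (.ofNat 60542, 65), (.ofNat 60943, 66), (.ofNat 65388,
  67), (.ofNat 65733, 68), (.ofNat 66225, 69), (.ofNat 69422, 70), (.ofNat 70422, 71), (.ofNat 72639, 72), (.ofNat
  78796, 73), (.ofNat 79524, 74), (.ofNat 82316, 75), (.ofNat 83705, 76), (.ofNat 84148, 77), (.ofNat 86828, 78),
  (.ofNat 90789, 79), (.ofNat 97157, 80), (.ofNat 97509, 81), (.ofNat 98213, 82), (.ofNat 101140, 83), (.ofNat
  106191, 84), (.ofNat 118301, 85), (.ofNat 125009, 86), (.ofNat 130828, 87), (.ofNat 151762, 88), (.ofNat 152003,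
  89), (.ofNat 153238, 90), (.ofNat 156987, 91), (.ofNat 162989, 92), (.ofNat 162477, 93), (.ofNat 165010, 94),
  (.ofNat 169578, 95), (.ofNat 177147, 96), (.ofNat 1761, 98)]) (.bf 4 22154 (.bf 4 20372 (.far (.ofNat 736324)
  [(.ofNat 83548, 3), (.ofNat 632207, 10), (.ofNat 190647, 12), (.ofNat 368624, 13), (.ofNat 732575, 14), (.ofNat
  185100, 16), (.ofNat 1125531, 18), (.ofNat 908107, 19), (.ofNat 1406862, 20), (.ofNat 322540, 21), (.negSucc
  802333, 22), (.negSucc 842676, 23), (.ofNat 611758, 24), (.ofNat 588203, 25), (.ofNat 2402734, 26), (.negSucc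
  880727, 27), (.negSucc 728384, 28), (.ofNat 4598554, 29), (.ofNat 2451949, 30), (.ofNat 3387253, 31), (.ofNat
  1496528, 32), (.negSucc 2760814, 33), (.negSucc 2452268, 34), (.ofNat 4850881, 35), (.ofNat 2785258, 36), (.negSucc
  616569, 37), (.negSucc 2566730, 38), (.ofNat 940134, 39), (.negSucc 2105967, 40), (.negSucc 326773, 41), (.negSucc
  683290, 42), (.ofNat 3069543, 43), (.ofNat 4780889, 44), (.negSucc 1568535, 45), (.ofNat 4420770, 46), (.ofNat
  2510779, 47), (.negSucc 2836194, 48), (.negSucc 2379443, 49), (.ofNat 4512805, 50), (.ofNat 4386521, 51), (.negSucc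
  7654227, 52), (.negSucc 6993779, 53), (.negSucc 6157699, 54), (.negSucc 6767275, 55), (.negSucc 159696, 56),
  (.negSucc 5234023, 57), (.ofNat 4507294, 58), (.negSucc 3274598, 59), (.ofNat 2037774, 60), (.negSucc 1025550, 61),
  (.ofNat 2105353, 62), (.negSucc 12831593, 63), (.negSucc 12464231, 64), (.negSucc 19294681, 65), (.negSucc 2962710,
  66), (.negSucc 19392824, 67), (.negSucc 21035229, 68), (.negSucc 15106847, 69), (.negSucc 8431533, 70), (.negSucc
  12208997, 71), (.negSucc 9635802, 72), (.negSucc 19181773, 73), (.negSucc 20711912, 74), (.negSucc 9270675, 75),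
  (.negSucc 20251779, 76), (.negSucc 24711286, 77), (.negSucc 21924963, 78), (.negSucc 16021853, 79), (.negSucc
  27495692, 80), (.negSucc 6541487, 81), (.negSucc 14965714, 82), (.negSucc 21345480, 83), (.negSucc 15208493, 84),
  (.negSucc 30821847, 85), (.negSucc 35582566, 86), (.negSucc 28947670, 87), (.negSucc 38800289, 88), (.negSucc
  42839633, 89), (.negSucc 33142820, 90), (.negSucc 30994182, 91), (.negSucc 27396486, 92), (.negSucc 39468920, 93),
  (.negSucc 40000200, 94), (.negSucc 43046720, 95), (.negSucc 38339838, 96), (.negSucc 334656, 98)]) (.bf 6 131 (.bf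
  7 38 (.bf 1 2048 (.far (.ofNat 10215) [(.ofNat 852, 3), (.ofNat 12600, 10), (.ofNat 12601, 12), (.ofNat 13573, 13),
  (.ofNat 20413, 14), (.ofNat 9738, 16), (.ofNat 18056, 18), (.ofNat 9594, 19), (.ofNat 20024, 20), (.ofNat 2312,
  21), (.negSucc 1663, 22), (.negSucc 16556, 23), (.negSucc 179, 24), (.ofNat 11931, 25), (.ofNat 38867, 26),
  (.negSucc 9471, 27), (.negSucc 4267, 28), (.ofNat 59049, 29), (.ofNat 19854, 30), (.ofNat 28919, 31), (.ofNat 1648,
  32), (.negSucc 3320, 33), (.ofNat 5709, 34), (.ofNat 43682, 35), (.ofNat 3903, 36), (.ofNat 12406, 37), (.ofNat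
  5713, 38), (.negSucc 5155, 39), (.ofNat 6788, 40), (.negSucc 3629, 41), (.ofNat 6699, 42), (.ofNat 12385, 43),
  (.ofNat 30886, 44), (.ofNat 12388, 45), (.ofNat 21168, 46), (.ofNat 18732, 47), (.negSucc 14336, 48), (.negSucc
  2129, 49), (.ofNat 36933, 50), (.ofNat 15079, 51), (.ofNat 34096, 52), (.ofNat 18071, 53), (.ofNat 8483, 54),
  (.ofNat 44369, 55), (.ofNat 24823, 56), (.ofNat 10827, 57), (.ofNat 1794, 58), (.negSucc 7513, 59), (.ofNat 5347,
  60), (.negSucc 4284, 61), (.ofNat 16226, 62), (.ofNat 1020, 63), (.negSucc 17109, 64), (.ofNat 25032, 65), (.ofNat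
  24545, 67), (.ofNat 9317, 68), (.negSucc 22042, 69), (.negSucc 40042, 70), (.ofNat 1260, 71), (.negSucc 39385, 72),
  (.ofNat 13235, 73), (.negSucc 19927, 74), (.negSucc 19105, 75), (.ofNat 11300, 76), (.ofNat 25939, 77), (.ofNat
  10018, 78), (.negSucc 24375, 79), (.ofNat 34066, 80), (.negSucc 19807, 81), (.negSucc 20690, 82), (.negSucc 43086,
  83), (.negSucc 23864, 84), (.negSucc 14645, 85), (.ofNat 25807, 86), (.negSucc 13666, 88), (.ofNat 41192, 89),
  (.negSucc 14104, 90), (.negSucc 26993, 91), (.negSucc 28699, 92), (.ofNat 20417, 93), (.ofNat 6825, 94), (.ofNat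
  8069, 95), (.negSucc 2113, 96), (.negSucc 4051, 98)]) (.far (.ofNat 4766) [(.ofNat 1628, 10), (.ofNat 3495, 12),
  (.ofNat 5322, 13), (.ofNat 6712, 14), (.ofNat 794, 16), (.ofNat 11479, 18), (.ofNat 6951, 19), (.ofNat 18986, 20),
  (.ofNat 3575, 21), (.ofNat 3813, 22), (.ofNat 9374, 23), (.ofNat 7507, 24), (.ofNat 23474, 25), (.ofNat 29392, 26),
  (.ofNat 14219, 27), (.ofNat 54732, 28), (.ofNat 77888, 29), (.ofNat 88970, 30), (.ofNat 81940, 31), (.ofNat 88771,
  32), (.ofNat 76181, 33), (.ofNat 137188, 34), (.ofNat 173054, 35), (.ofNat 190412, 36), (.ofNat 197005, 37),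
  (.ofNat 210430, 38), (.ofNat 192954, 39), (.ofNat 167176, 40), (.ofNat 165587, 41), (.ofNat 238551, 42), (.ofNat
  278349, 43), (.ofNat 329586, 44), (.ofNat 350716, 45), (.ofNat 400405, 46), (.ofNat 377884, 47), (.ofNat 386225,
  48), (.ofNat 372641, 49), (.ofNat 476386, 50), (.ofNat 528299, 51), (.ofNat 558803, 52), (.ofNat 484132, 53),
  (.ofNat 716526, 54), (.ofNat 625292, 55), (.ofNat 665050, 56), (.ofNat 698017, 57), (.ofNat 831512, 58), (.ofNat
  944074, 59), (.ofNat 883345, 60), (.ofNat 1290779, 61), (.ofNat 1431066, 62), (.ofNat 1509073, 63), (.ofNat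
  1527225, 64), (.ofNat 1528059, 65), (.ofNat 1636173, 66), (.ofNat 1597209, 67), (.ofNat 1735510, 68), (.ofNat
  1723872, 69), (.ofNat 1761963, 70), (.ofNat 1731419, 71), (.ofNat 1971797, 72), (.ofNat 1930847, 73), (.ofNat
  2199305, 74), (.ofNat 2195810, 75), (.ofNat 2041106, 76), (.ofNat 2175593, 77), (.ofNat 2376888, 78), (.ofNat
  2370533, 79), (.ofNat 2596016, 80), (.ofNat 2603483, 81), (.ofNat 2573218, 82), (.ofNat 2678552, 83), (.ofNat
  2810338, 84), (.ofNat 3160221, 85), (.ofNat 3294232, 86), (.ofNat 3335102, 87), (.ofNat 3951021, 88), (.ofNat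
  4100959, 89), (.ofNat 3937556, 90), (.ofNat 4146953, 91), (.ofNat 4257053, 92), (.ofNat 4323741, 93), (.ofNat
  4307059, 94), (.ofNat 4449451, 95), (.ofNat 4782969, 96), (.ofNat 22560, 98)])) (.far (.negSucc 797) [(.ofNat
  26607, 12), (.ofNat 6844, 13), (.ofNat 22566, 14), (.ofNat 5786, 16), (.ofNat 27678, 18), (.ofNat 12755, 19),
  (.ofNat 35764, 20), (.ofNat 61327, 21), (.ofNat 16455, 22), (.ofNat 5831, 23), (.ofNat 66315, 24), (.ofNat 66508,
  25), (.ofNat 148250, 26), (.ofNat 135495, 27), (.ofNat 100034, 28), (.ofNat 225934, 29), (.ofNat 217462, 30),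
  (.ofNat 230132, 31), (.ofNat 296741, 32), (.ofNat 425599, 33), (.ofNat 507196, 34), (.ofNat 542498, 35), (.ofNat
  534060, 36), (.ofNat 514545, 37), (.ofNat 557557, 38), (.ofNat 616072, 39), (.ofNat 598618, 40), (.ofNat 672223,
  41), (.ofNat 699863, 42), (.ofNat 782630, 43), (.ofNat 1034350, 44), (.ofNat 1027558, 45), (.ofNat 1131475, 46),
  (.ofNat 1208641, 47), (.ofNat 1316174, 48), (.ofNat 1464208, 49), (.ofNat 1498947, 50), (.ofNat 1610380, 51),
  (.ofNat 1717590, 52), (.ofNat 1729213, 53), (.ofNat 2016202, 54), (.ofNat 2172594, 55), (.ofNat 2238161, 56),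
  (.ofNat 2412253, 57), (.ofNat 2663789, 58), (.ofNat 2658119, 59), (.ofNat 2800783, 60), (.ofNat 3854243, 61),
  (.ofNat 4246542, 62), (.ofNat 4783323, 63), (.ofNat 4712997, 64), (.ofNat 4812070, 65), (.ofNat 4874956, 66),
  (.ofNat 5201038, 67), (.ofNat 5232336, 68), (.ofNat 5441637, 69), (.ofNat 5430021, 70), (.ofNat 5551620, 71),
  (.ofNat 5697680, 72), (.ofNat 6263166, 73), (.ofNat 6401948, 74), (.ofNat 6487184, 75), (.ofNat 6700503, 76),
  (.ofNat 6704885, 77), (.ofNat 6829715, 78), (.ofNat 7199717, 79), (.ofNat 7560531, 80), (.ofNat 7861144, 81),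
  (.ofNat 7873865, 82), (.ofNat 7950392, 83), (.ofNat 8465650, 84), (.ofNat 9295985, 85), (.ofNat 10030911, 86),
  (.ofNat 10451065, 87), (.ofNat 12020692, 88), (.ofNat 12284617, 89), (.ofNat 12144379, 90), (.ofNat 12559420, 91),
  (.ofNat 13008289, 92), (.ofNat 13061136, 93), (.ofNat 13055094, 94), (.ofNat 13535443, 95), (.ofNat 14348907, 96),
  (.ofNat 28788, 97), (.ofNat 40531, 98)])) (.far (.ofNat 37351) [(.ofNat 3017, 3), (.ofNat 46593, 10), (.ofNat
  42533, 13), (.ofNat 46310, 14), (.ofNat 28444, 16), (.ofNat 89675, 18), (.ofNat 86089, 19), (.ofNat 160946, 20),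
  (.ofNat 220561, 21), (.ofNat 185878, 22), (.ofNat 194502, 23), (.ofNat 245798, 24), (.ofNat 216968, 25), (.ofNat
  332931, 26), (.ofNat 375054, 27), (.ofNat 438960, 28), (.ofNat 690857, 29), (.ofNat 686066, 30), (.ofNat 844711,
  31), (.ofNat 948139, 32), (.ofNat 1226667, 33), (.ofNat 1447341, 34), (.ofNat 1627502, 35), (.ofNat 1655872, 36),
  (.ofNat 1748757, 37), (.ofNat 1705199, 38), (.ofNat 1931819, 39), (.ofNat 1827781, 40), (.ofNat 1785472, 41),
  (.ofNat 1906930, 42), (.ofNat 2401095, 43), (.ofNat 3036676, 44), (.ofNat 2983790, 45), (.ofNat 3432101, 46),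
  (.ofNat 3759690, 47), (.ofNat 3744133, 48), (.ofNat 4528396, 49), (.ofNat 4484307, 50), (.ofNat 4616122, 51),
  (.ofNat 5197552, 52), (.ofNat 5310021, 53), (.ofNat 6145691, 54), (.ofNat 6618605, 55), (.ofNat 6747883, 56),
  (.ofNat 7151751, 57), (.ofNat 7936400, 58), (.ofNat 8283204, 59), (.ofNat 8446420, 60), (.ofNat 12016126, 61),
  (.ofNat 12746182, 62), (.ofNat 14417025, 63), (.ofNat 14571023, 64), (.ofNat 14086077, 65), (.ofNat 14960400, 66),
  (.ofNat 15555447, 67), (.ofNat 16002779, 68), (.ofNat 16134565, 69), (.ofNat 16500390, 70), (.ofNat 16884988, 71),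
  (.ofNat 17218061, 72), (.ofNat 18876009, 73), (.ofNat 19209328, 74), (.ofNat 19640759, 75), (.ofNat 20256925, 76),
  (.ofNat 20608611, 77), (.ofNat 20832381, 78), (.ofNat 21988488, 79), (.ofNat 22898400, 80), (.ofNat 23406754, 81),
  (.ofNat 23491989, 82), (.ofNat 24184331, 83), (.ofNat 25494506, 84), (.ofNat 27842182, 85), (.ofNat 30224612, 86),
  (.ofNat 31260515, 87), (.ofNat 36600302, 88), (.ofNat 36654735, 89), (.ofNat 36444944, 90), (.ofNat 37707069, 91),
  (.ofNat 39051065, 92), (.ofNat 39296606, 93), (.ofNat 39611539, 94), (.ofNat 40652386, 95), (.ofNat 43046721, 96),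
  (.ofNat 190259, 98)]))) (.far (.negSucc 1510960) [(.ofNat 332393, 3), (.ofNat 1491009, 13), (.ofNat 118645, 16),
  (.negSucc 2224703, 18), (.negSucc 219912, 19), (.negSucc 1288263, 20), (.ofNat 742747, 21), (.ofNat 2559725, 22),
  (.ofNat 930118, 23), (.ofNat 15218, 24), (.ofNat 1761882, 25), (.negSucc 1481800, 26), (.ofNat 3217019, 27),
  (.ofNat 3295865, 28), (.negSucc 241425, 29), (.negSucc 927750, 30), (.ofNat 790403, 31), (.ofNat 2947291, 32),
  (.ofNat 13059715, 33), (.ofNat 15554303, 34), (.ofNat 5425127, 35), (.ofNat 4965401, 36), (.ofNat 17213460, 37),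
  (.ofNat 17723782, 38), (.ofNat 12564741, 39), (.ofNat 18036483, 40), (.ofNat 14409292, 41), (.ofNat 15799657, 42),
  (.ofNat 14079682, 43), (.ofNat 16508847, 44), (.ofNat 27839561, 45), (.ofNat 17624308, 46), (.ofNat 24078351, 47),
  (.ofNat 33297048, 48), (.ofNat 35946283, 49), (.ofNat 27328407, 50), (.ofNat 28324260, 51), (.ofNat 52639562, 52),
  (.ofNat 51112577, 53), (.ofNat 55134645, 54), (.ofNat 65468022, 55), (.ofNat 53158702, 56), (.ofNat 65058891, 57),
  (.ofNat 52128694, 58), (.ofNat 71104348, 59), (.ofNat 62738043, 60), (.ofNat 87706634, 61), (.ofNat 94374425, 62),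
  (.ofNat 126164049, 63), (.ofNat 125919866, 64), (.ofNat 138224998, 65), (.ofNat 114387579, 66), (.ofNat 147132502,
  67), (.ofNat 151018834, 68), (.ofNat 143133326, 69), (.ofNat 133899983, 70), (.ofNat 143700668, 71), (.ofNat
  144083942, 72), (.ofNat 171615250, 73), (.ofNat 174883983, 74), (.ofNat 159564369, 75), (.ofNat 182023961, 76),
  (.ofNat 189919900, 77), (.ofNat 190973528, 78), (.ofNat 188647946, 79), (.ofNat 213605690, 80), (.ofNat 185916718,
  81), (.ofNat 200674063, 82), (.ofNat 211004839, 83), (.ofNat 214903943, 84), (.ofNat 256987977, 85), (.ofNat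
  282020196, 86), (.ofNat 280986078, 87), (.ofNat 330098079, 88), (.ofNat 342678687, 89), (.ofNat 323819883, 90),
  (.ofNat 331970151, 91), (.ofNat 336676177, 92), (.ofNat 357137820, 93), (.ofNat 357766682, 94), (.ofNat 373324107,
  95), (.ofNat 387420489, 96), (.ofNat 275165, 97), (.ofNat 932798, 98)]))) (.far (.negSucc 481) [(.ofNat 1968, 3),
  (.ofNat 1190, 10), (.ofNat 1247, 12), (.ofNat 4529, 13), (.ofNat 442, 14), (.ofNat 403, 16), (.negSucc 2550, 18),
  (.ofNat 56, 19), (.negSucc 1563, 20), (.ofNat 816, 21), (.ofNat 1947, 22), (.negSucc 3684, 23), (.ofNat 2566, 24),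
  (.ofNat 1714, 25), (.ofNat 296, 26), (.negSucc 2308, 27), (.negSucc 2445, 28), (.ofNat 6677, 29), (.ofNat 2389,
  30), (.ofNat 568, 31), (.negSucc 1053, 32), (.ofNat 3185, 33), (.ofNat 4556, 34), (.ofNat 8444, 35), (.ofNat 3967,
  36), (.ofNat 11687, 37), (.ofNat 6227, 38), (.ofNat 4732, 39), (.ofNat 8456, 40), (.ofNat 6710, 41), (.ofNat 7861,
  42), (.ofNat 10515, 43), (.ofNat 12264, 44), (.ofNat 17609, 45), (.ofNat 13504, 46), (.ofNat 14386, 47), (.ofNat
  16366, 48), (.ofNat 16675, 49), (.ofNat 16729, 50), (.ofNat 18026, 51), (.ofNat 24645, 52), (.ofNat 20071, 53),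
  (.ofNat 23591, 54), (.ofNat 29443, 55), (.ofNat 30329, 56), (.ofNat 33724, 57), (.ofNat 30488, 58), (.ofNat 36949,
  59), (.ofNat 34396, 60), (.ofNat 42662, 61), (.ofNat 50066, 62), (.ofNat 54252, 63), (.ofNat 51629, 64), (.ofNat
  52688, 65), (.ofNat 57252, 66), (.ofNat 60108, 67), (.ofNat 59039, 68), (.ofNat 63274, 69), (.ofNat 57208, 70),
  (.ofNat 62790, 71), (.ofNat 64772, 72), (.ofNat 74567, 73), (.ofNat 71703, 74), (.ofNat 70888, 75), (.ofNat 77147,
  76), (.ofNat 77261, 77), (.ofNat 80763, 78), (.ofNat 84652, 79), (.ofNat 84432, 80), (.ofNat 89933, 81), (.ofNat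
  90907, 82), (.ofNat 87371, 83), (.ofNat 98821, 84), (.ofNat 104011, 85), (.ofNat 118115, 86), (.ofNat 120548, 87),
  (.ofNat 134179, 88), (.ofNat 144049, 89), (.ofNat 134469, 90), (.ofNat 143815, 91), (.ofNat 150534, 92), (.ofNat
  153240, 93), (.ofNat 148769, 94), (.ofNat 158242, 95), (.ofNat 177147, 96), (.negSucc 1660, 98)])) (.far (.ofNat
  27864) [(.ofNat 10890, 3), (.ofNat 3377, 9), (.ofNat 15786, 12), (.ofNat 32670, 13), (.ofNat 10838, 14), (.ofNat
  43091, 18), (.ofNat 7766, 19), (.ofNat 31789, 20), (.ofNat 33284, 21), (.ofNat 47459, 22), (.ofNat 66998, 23),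
  (.ofNat 82927, 24), (.ofNat 58041, 25), (.ofNat 61626, 26), (.ofNat 122687, 27), (.ofNat 147735, 28), (.ofNat
  272767, 29), (.ofNat 284735, 30), (.ofNat 236644, 31), (.ofNat 338013, 32), (.ofNat 336266, 33), (.ofNat 485173,
  34), (.ofNat 563394, 35), (.ofNat 531164, 36), (.ofNat 550105, 37), (.ofNat 598347, 38), (.ofNat 623190, 39),
  (.ofNat 634379, 40), (.ofNat 652883, 41), (.ofNat 678576, 42), (.ofNat 801372, 43), (.ofNat 1052691, 44), (.ofNat
  1058376, 45), (.ofNat 1172143, 46), (.ofNat 1170823, 47), (.ofNat 1337536, 48), (.ofNat 1463593, 49), (.ofNat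
  1477486, 50), (.ofNat 1556650, 51), (.ofNat 1677214, 52), (.ofNat 1697008, 53), (.ofNat 2015228, 54), (.ofNat
  2201277, 55), (.ofNat 2198891, 56), (.ofNat 2379851, 57), (.ofNat 2621215, 58), (.ofNat 2768600, 59), (.ofNat
  2848709, 60), (.ofNat 3975787, 61), (.ofNat 4218134, 62), (.ofNat 4791365, 63), (.ofNat 4868841, 64), (.ofNat
  4823154, 65), (.ofNat 5012383, 66), (.ofNat 5235395, 67), (.ofNat 5307064, 68), (.ofNat 5410838, 69), (.ofNat
  5487983, 70), (.ofNat 5620655, 71), (.ofNat 5686443, 72), (.ofNat 6308285, 73), (.ofNat 6390936, 74), (.ofNat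
  6526872, 75), (.ofNat 6722434, 76), (.ofNat 6735635, 77), (.ofNat 6949369, 78), (.ofNat 7289758, 79), (.ofNat
  7686127, 80), (.ofNat 7797006, 81), (.ofNat 7860773, 82), (.ofNat 8049031, 83), (.ofNat 8518453, 84), (.ofNat
  9360537, 85), (.ofNat 10096901, 86), (.ofNat 10479006, 87), (.ofNat 12048109, 88), (.ofNat 12236357, 89), (.ofNat
  12223618, 90), (.ofNat 12572906, 91), (.ofNat 13042081, 92), (.ofNat 13074522, 93), (.ofNat 13084705, 94), (.ofNat
  13587055, 95), (.ofNat 14348907, 96), (.ofNat 16369, 97), (.ofNat 77045, 98)])) (.far (.ofNat 12593651) [(.ofNat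
  1732397, 3), (.ofNat 4240726, 9), (.ofNat 26243491, 13), (.ofNat 7818662, 14), (.ofNat 17007336, 18), (.ofNat
  21882051, 19), (.ofNat 18544139, 20), (.ofNat 40531793, 21), (.ofNat 36355161, 22), (.ofNat 52526747, 23), (.ofNat
  56590237, 24), (.ofNat 67084020, 25), (.ofNat 65802918, 26), (.ofNat 111505391, 27), (.ofNat 115252233, 28),
  (.ofNat 172558635, 29), (.ofNat 171559291, 30), (.ofNat 186644610, 31), (.ofNat 233140242, 32), (.ofNat 279220777,
  33), (.ofNat 376572562, 34), (.ofNat 399429159, 35), (.ofNat 383237569, 36), (.ofNat 402133873, 37), (.ofNat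
  444401211, 38), (.ofNat 453793857, 39), (.ofNat 467736241, 40), (.ofNat 463449954, 41), (.ofNat 495357219, 42),
  (.ofNat 607710500, 43), (.ofNat 767587559, 44), (.ofNat 782054276, 45), (.ofNat 834881203, 46), (.ofNat 877767643,
  47), (.ofNat 976388164, 48), (.ofNat 1054494191, 49), (.ofNat 1086665762, 50), (.ofNat 1140596732, 51), (.ofNat
  1239166316, 52), (.ofNat 1266388018, 53), (.ofNat 1472306558, 54), (.ofNat 1626940221, 55), (.ofNat 1624634444,
  56), (.ofNat 1726825086, 57), (.ofNat 1900361867, 58), (.ofNat 2024206338, 59), (.ofNat 2089165353, 60), (.ofNat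
  2870975698, 61), (.ofNat 3096296519, 62), (.ofNat 3500383375, 63), (.ofNat 3528820777, 64), (.ofNat 3526825947,
  65), (.ofNat 3628518879, 66), (.ofNat 3823976878, 67), (.ofNat 3871174129, 68), (.ofNat 3930954650, 69), (.ofNat
  4003750862, 70), (.ofNat 4098466580, 71), (.ofNat 4170378963, 72), (.ofNat 4580164077, 73), (.ofNat 4666789821,
  74), (.ofNat 4777033434, 75), (.ofNat 4881804364, 76), (.ofNat 4913704331, 77), (.ofNat 5053975234, 78), (.ofNat
  5321163083, 79), (.ofNat 5597087408, 80), (.ofNat 5699080051, 81), (.ofNat 5730448211, 82), (.ofNat 5862839279,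
  83), (.ofNat 6195483725, 84), (.ofNat 6823820213, 85), (.ofNat 7351348712, 86), (.ofNat 7638278496, 87), (.ofNat
  8788772543, 88), (.ofNat 8926148707, 89), (.ofNat 8917455193, 90), (.ofNat 9174610579, 91), (.ofNat 9530114770,
  92), (.ofNat 9546012057, 93), (.ofNat 9588408327, 94), (.ofNat 9905368532, 95), (.ofNat 10460353203, 96), (.ofNat
  1773316, 97), (.ofNat 50243895, 98)]))) (.far (.negSucc 3503) [(.ofNat 669, 9), (.ofNat 5481, 12), (.ofNat 7102,
  14), (.negSucc 2162, 18), (.negSucc 5090, 19), (.negSucc 7128, 20), (.negSucc 17410, 21), (.negSucc 2848, 22),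
  (.negSucc 5400, 23), (.negSucc 20914, 24), (.negSucc 11491, 25), (.negSucc 6842, 26), (.negSucc 18672, 27),
  (.negSucc 14775, 28), (.negSucc 21480, 29), (.negSucc 33607, 30), (.negSucc 26881, 31), (.negSucc 41606, 32),
  (.negSucc 52074, 33), (.negSucc 54702, 34), (.negSucc 61348, 35), (.negSucc 71896, 36), (.negSucc 64653, 37),
  (.negSucc 66722, 38), (.negSucc 69657, 39), (.negSucc 72268, 40), (.negSucc 67940, 41), (.negSucc 74517, 42),
  (.negSucc 85854, 43), (.negSucc 114589, 44), (.negSucc 111998, 45), (.negSucc 138605, 46), (.negSucc 135076, 47),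
  (.negSucc 150459, 48), (.negSucc 156026, 49), (.negSucc 165363, 50), (.negSucc 176380, 51), (.negSucc 189541, 52),
  (.negSucc 186292, 53), (.negSucc 229223, 54), (.negSucc 228582, 55), (.negSucc 240757, 56), (.negSucc 265949, 57),
  (.negSucc 290769, 58), (.negSucc 296736, 59), (.negSucc 311947, 60), (.negSucc 444472, 61), (.negSucc 466743, 62),
  (.negSucc 529027, 63), (.negSucc 545572, 64), (.negSucc 532969, 65), (.negSucc 556471, 66), (.negSucc 583578, 67),
  (.negSucc 601927, 68), (.negSucc 611343, 69), (.negSucc 611864, 70), (.negSucc 620735, 71), (.negSucc 626792, 72),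
  (.negSucc 698920, 73), (.negSucc 719676, 74), (.negSucc 723032, 75), (.negSucc 743651, 76), (.negSucc 743986, 77),
  (.negSucc 767043, 78), (.negSucc 811805, 79), (.negSucc 836322, 80), (.negSucc 864777, 81), (.negSucc 871637, 82),
  (.negSucc 896574, 83), (.negSucc 941309, 84), (.negSucc 1045010, 85), (.negSucc 1127589, 86), (.negSucc 1163887,
  87), (.negSucc 1341868, 88), (.negSucc 1357961, 89), (.negSucc 1358738, 90), (.negSucc 1394808, 91), (.negSucc
  1453936, 92), (.negSucc 1455137, 93), (.negSucc 1453867, 94), (.negSucc 1507677, 95), (.negSucc 1594322, 96),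
  (.negSucc 4093, 98)]))) (.far (.ofNat 359787) [(.ofNat 858522, 13), (.ofNat 219585, 14), (.ofNat 687683, 18),
  (.ofNat 966834, 19), (.ofNat 985170, 20), (.ofNat 1618071, 21), (.ofNat 1212955, 22), (.ofNat 2080247, 23), (.ofNat
  1977858, 24), (.ofNat 2686611, 25), (.ofNat 2535362, 26), (.ofNat 4442378, 27), (.ofNat 4151383, 28), (.ofNat
  7008035, 29), (.ofNat 6310102, 30), (.ofNat 7287300, 31), (.ofNat 8652188, 32), (.ofNat 10051244, 33), (.ofNat
  13797169, 34), (.ofNat 15152491, 35), (.ofNat 13950810, 36), (.ofNat 15307043, 37), (.ofNat 16421709, 38), (.ofNat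
  17056204, 39), (.ofNat 17136157, 40), (.ofNat 17018847, 41), (.ofNat 18189663, 42), (.ofNat 22330795, 43), (.ofNat
  28332248, 44), (.ofNat 28715041, 45), (.ofNat 31207693, 46), (.ofNat 32385000, 47), (.ofNat 35874782, 48), (.ofNat
  39083704, 49), (.ofNat 40313401, 50), (.ofNat 42068485, 51), (.ofNat 45766348, 52), (.ofNat 46910399, 53), (.ofNat
  54418536, 54), (.ofNat 60982619, 55), (.ofNat 60175234, 56), (.ofNat 63904076, 57), (.ofNat 70502554, 58), (.ofNat
  75324536, 59), (.ofNat 77576419, 60), (.ofNat 106011513, 61), (.ofNat 114442407, 62), (.ofNat 129071562, 63),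
  (.ofNat 130975959, 64), (.ofNat 130692025, 65), (.ofNat 133868032, 66), (.ofNat 141367286, 67), (.ofNat 143052554,
  68), (.ofNat 145490651, 69), (.ofNat 148408122, 70), (.ofNat 151645290, 71), (.ofNat 154634172, 72), (.ofNat
  169437809, 73), (.ofNat 172559376, 74), (.ofNat 176604041, 75), (.ofNat 180815673, 76), (.ofNat 181781824, 77),
  (.ofNat 187358913, 78), (.ofNat 196874635, 79), (.ofNat 207332247, 80), (.ofNat 210822484, 81), (.ofNat 212323360,
  82), (.ofNat 216997623, 83), (.ofNat 229424551, 84), (.ofNat 252601796, 85), (.ofNat 272181859, 86), (.ofNat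
  282940375, 87), (.ofNat 325622058, 88), (.ofNat 330317050, 89), (.ofNat 330189946, 90), (.ofNat 340284128, 91),
  (.ofNat 352922896, 92), (.ofNat 353183368, 93), (.ofNat 355195621, 94), (.ofNat 366875415, 95), (.ofNat 387420489,
  96), (.ofNat 106717, 97), (.ofNat 1607479, 98)])) (.far (.ofNat 1870) [(.ofNat 167, 9), (.ofNat 5172, 13), (.ofNat
  2641, 14), (.ofNat 167, 15), (.ofNat 3564, 18), (.ofNat 5305, 19), (.ofNat 4368, 20), (.ofNat 4682, 21), (.ofNat
  5976, 22), (.ofNat 7198, 23), (.ofNat 6856, 24), (.ofNat 9544, 25), (.ofNat 13302, 26), (.ofNat 15881, 27), (.ofNat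
  17837, 28), (.ofNat 26995, 29), (.ofNat 26691, 30), (.ofNat 29022, 31), (.ofNat 34450, 32), (.ofNat 42191, 33),
  (.ofNat 59319, 34), (.ofNat 60584, 35), (.ofNat 58715, 36), (.ofNat 61388, 37), (.ofNat 67764, 38), (.ofNat 70609,
  39), (.ofNat 71413, 40), (.ofNat 72450, 41), (.ofNat 75400, 42), (.ofNat 92618, 43), (.ofNat 115517, 44), (.ofNat
  120150, 45), (.ofNat 126297, 46), (.ofNat 134067, 47), (.ofNat 149448, 48), (.ofNat 160600, 49), (.ofNat 166804,
  50), (.ofNat 173322, 51), (.ofNat 188737, 52), (.ofNat 192515, 53), (.ofNat 224082, 54), (.ofNat 248841, 55),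
  (.ofNat 248156, 56), (.ofNat 263276, 57), (.ofNat 290200, 58), (.ofNat 307413, 59), (.ofNat 318612, 60), (.ofNat
  437417, 61), (.ofNat 471244, 62), (.ofNat 534097, 63), (.ofNat 537390, 64), (.ofNat 538417, 65), (.ofNat 554046,
  66), (.ofNat 583872, 67), (.ofNat 588240, 68), (.ofNat 598778, 69), (.ofNat 610106, 70), (.ofNat 624588, 71),
  (.ofNat 638452, 72), (.ofNat 699170, 73), (.ofNat 711554, 74), (.ofNat 728506, 75), (.ofNat 744525, 76), (.ofNat
  749183, 77), (.ofNat 771929, 78), (.ofNat 810138, 79), (.ofNat 852377, 80), (.ofNat 869076, 81), (.ofNat 873225,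
  82), (.ofNat 895420, 83), (.ofNat 945618, 84), (.ofNat 1041932, 85), (.ofNat 1119050, 86), (.ofNat 1164999, 87),
  (.ofNat 1341847, 88), (.ofNat 1360473, 89), (.ofNat 1359289, 90), (.ofNat 1398601, 91), (.ofNat 1452273, 92),
  (.ofNat 1454980, 93), (.ofNat 1465518, 94), (.ofNat 1510735, 95), (.ofNat 1594323, 96), (.ofNat 1087, 97), (.ofNat
  7555, 98)])))

/-- certificates -/
noncomputable def CL6 : List (Hd × Tr) :=
  [c55]

theorem okC6 : okL TAB.Co1.D (TAB.Sm2.mkRows TAB.Co1.RA TAB.Co1.RB) P Z CL6 = true := by decide +kernel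

/-- a certificate -/
noncomputable def c56 : Hd × Tr :=
  ((3566384640000, [], []), (.far (.negSucc 9746) [(.ofNat 4077, 8), (.ofNat 4162, 13), (.ofNat 4054, 14), (.negSucc
  15217, 18), (.ofNat 3518, 19), (.ofNat 4968, 20), (.negSucc 1524, 21), (.ofNat 525, 22), (.negSucc 5511, 23),
  (.negSucc 12436, 24), (.ofNat 4717, 25), (.negSucc 397, 26), (.negSucc 5299, 27), (.negSucc 18758, 28), (.ofNat
  19683, 29), (.ofNat 7480, 30), (.negSucc 14522, 31), (.negSucc 15713, 32), (.negSucc 2608, 33), (.negSucc 2470,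
  34), (.ofNat 1718, 35), (.ofNat 769, 36), (.ofNat 3302, 37), (.negSucc 693, 38), (.negSucc 9004, 39), (.negSucc
  1852, 40), (.ofNat 490, 41), (.ofNat 1234, 42), (.ofNat 3751, 44), (.ofNat 6344, 45), (.negSucc 7106, 46), (.ofNat
  591, 47), (.ofNat 1839, 48), (.ofNat 5214, 49), (.ofNat 2425, 50), (.negSucc 4596, 51), (.ofNat 17300, 52),
  (.negSucc 5434, 53), (.negSucc 2517, 54), (.ofNat 8294, 55), (.ofNat 11508, 56), (.ofNat 350, 57), (.ofNat 2194,
  58), (.ofNat 13835, 59), (.ofNat 9210, 60), (.negSucc 6567, 61), (.negSucc 7946, 62), (.negSucc 6587, 63),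
  (.negSucc 6190, 64), (.negSucc 1087, 65), (.negSucc 223, 66), (.ofNat 9452, 67), (.negSucc 18188, 68), (.negSucc
  2888, 69), (.negSucc 11696, 70), (.ofNat 17, 71), (.negSucc 1839, 73), (.negSucc 7613, 74), (.negSucc 4096, 75),
  (.ofNat 1851, 76), (.negSucc 4062, 77), (.ofNat 19661, 78), (.ofNat 7392, 79), (.ofNat 468, 80), (.ofNat 1408, 81),
  (.negSucc 1340, 82), (.negSucc 2603, 83), (.negSucc 840, 84), (.negSucc 18013, 85), (.negSucc 10618, 86), (.ofNat
  6288, 87), (.negSucc 5768, 88), (.ofNat 13675, 89), (.negSucc 10733, 90), (.ofNat 6118, 91), (.ofNat 1318, 92),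
  (.negSucc 4577, 93), (.ofNat 575, 94), (.ofNat 7306, 95), (.ofNat 6443, 96), (.ofNat 4229, 97), (.negSucc 12734,
  98)]))

/-- certificates -/
noncomputable def CL7 : List (Hd × Tr) :=
  [c56]

theorem okC7 : okL TAB.Co1.D (TAB.Sm2.mkRows TAB.Co1.RA TAB.Co1.RB) P Z CL7 = true := by decide +kernel

end Cfsg.Agent.SM.Sp.NCo1
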