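import Cfsg.Agent.SM.Sp.NCo1D

/-!
# SM (S3570), sporadic socles: Co1, certificates (helper26; generated by notes/SM/sp26/gen3.py.txt)
-/

set_option autoImplicit false
set_option Elab.async false

namespace Cfsg.Agent.SM.Sp.NCo1

open Cfsg Cfsg.Agent.TAB.Eng Cfsg.Agent.H940.Eng Cfsg.Agent.TH.Spor

/-- a certificate -/
noncomputable def c57 : Hd × Tr :=
  ((3056901120000, [], []), (.bf 57 3 (.bf 26 119 (.bf 26 49 (.far (.ofNat 8719) [(.ofNat 6802, 7), (.ofNat 10200,
  8), (.ofNat 3759, 9), (.ofNat 4658, 10), (.ofNat 12286, 12), (.ofNat 6802, 13), (.ofNat 19627, 14), (.ofNat 3831,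
  18), (.ofNat 898, 19), (.negSucc 1920, 20), (.negSucc 7708, 21), (.ofNat 3074, 22), (.negSucc 9670, 23), (.negSucc
  20649, 24), (.negSucc 9834, 25), (.ofNat 1226, 26), (.negSucc 18461, 27), (.negSucc 4760, 28), (.ofNat 6027, 29),
  (.negSucc 5915, 30), (.negSucc 10445, 31), (.negSucc 19960, 32), (.negSucc 22578, 33), (.negSucc 12949, 34),
  (.negSucc 38529, 35), (.negSucc 34823, 36), (.negSucc 23577, 37), (.negSucc 15801, 38), (.negSucc 27897, 39),
  (.negSucc 25951, 40), (.negSucc 15419, 41), (.negSucc 28357, 42), (.negSucc 26103, 43), (.negSucc 32349, 44),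
  (.negSucc 30347, 45), (.negSucc 71804, 46), (.negSucc 35707, 47), (.negSucc 50080, 48), (.negSucc 45676, 49),
  (.negSucc 58311, 50), (.negSucc 58926, 51), (.negSucc 59973, 52), (.negSucc 56505, 53), (.negSucc 79244, 54),
  (.negSucc 66696, 55), (.negSucc 80772, 56), (.negSucc 88236, 57), (.negSucc 93100, 58), (.negSucc 96499, 59),
  (.negSucc 101792, 60), (.negSucc 139612, 61), (.negSucc 160108, 62), (.negSucc 169105, 63), (.negSucc 184998, 64),
  (.negSucc 171026, 65), (.negSucc 169961, 66), (.negSucc 188154, 67), (.negSucc 213834, 68), (.negSucc 209945, 69),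
  (.negSucc 207379, 70), (.negSucc 208817, 71), (.negSucc 206046, 72), (.negSucc 228053, 73), (.negSucc 246888, 74),
  (.negSucc 225048, 75), (.negSucc 244522, 76), (.negSucc 236205, 77), (.negSucc 244646, 78), (.negSucc 274325, 79),
  (.negSucc 260781, 80), (.negSucc 277719, 81), (.negSucc 289214, 82), (.negSucc 296534, 83), (.negSucc 306127, 84),
  (.negSucc 342611, 85), (.negSucc 385090, 86), (.negSucc 383584, 87), (.negSucc 446138, 88), (.negSucc 447907, 89),
  (.negSucc 451422, 90), (.negSucc 461388, 91), (.negSucc 477675, 92), (.negSucc 480295, 93), (.negSucc 476487, 94),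
  (.negSucc 497076, 95), (.negSucc 531440, 96), (.ofNat 4163, 98)]) (.bf 27 7 (.bf 14 948 (.bf 15 38 (.bf 16 8 (.bf 4
  36630 (.bf 5 324 (.bf 6 207 (.bf 7 75 (.bf 1 3840 (.bf 2 1908 (.bm 1 0 (.bm 2 0 (.far (.negSucc 396) [(.negSucc
  1979, 1), (.negSucc 2186, 2), (.ofNat 292, 8), (.ofNat 160, 10), (.ofNat 979, 13), (.ofNat 170, 14), (.negSucc 465,
  18), (.ofNat 770, 19), (.negSucc 255, 20), (.ofNat 297, 21), (.ofNat 563, 22), (.negSucc 829, 23), (.negSucc 116,
  24), (.ofNat 1170, 25), (.ofNat 154, 26), (.negSucc 1338, 27), (.ofNat 22, 28), (.ofNat 943, 29), (.ofNat 642, 30),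
  (.negSucc 975, 31), (.ofNat 383, 32), (.negSucc 658, 33), (.ofNat 648, 34), (.negSucc 536, 35), (.negSucc 928, 36),
  (.ofNat 650, 37), (.ofNat 223, 38), (.negSucc 499, 39), (.ofNat 306, 40), (.negSucc 71, 41), (.ofNat 501, 42),
  (.negSucc 154, 43), (.ofNat 353, 44), (.negSucc 118, 45), (.negSucc 303, 46), (.ofNat 523, 47), (.negSucc 573, 48),
  (.negSucc 480, 49), (.ofNat 94, 50), (.negSucc 22, 51), (.ofNat 316, 52), (.ofNat 55, 53), (.ofNat 298, 54),
  (.ofNat 1392, 55), (.negSucc 150, 56), (.ofNat 617, 57), (.ofNat 336, 58), (.ofNat 920, 59), (.ofNat 617, 60),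
  (.ofNat 194, 61), (.negSucc 406, 62), (.negSucc 432, 63), (.negSucc 107, 64), (.negSucc 108, 65), (.ofNat 74, 66),
  (.ofNat 788, 67), (.negSucc 1442, 68), (.ofNat 324, 69), (.negSucc 326, 70), (.negSucc 550, 71), (.ofNat 258, 72),
  (.ofNat 463, 73), (.negSucc 1130, 74), (.ofNat 185, 76), (.negSucc 332, 77), (.ofNat 1359, 78), (.negSucc 286, 79),
  (.ofNat 752, 80), (.ofNat 366, 81), (.ofNat 38, 82), (.ofNat 315, 83), (.ofNat 336, 84), (.negSucc 21, 85), (.ofNat
  312, 86), (.negSucc 135, 87), (.ofNat 484, 88), (.negSucc 282, 90), (.negSucc 307, 91), (.ofNat 560, 92), (.negSucc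
  738, 93), (.ofNat 365, 94), (.ofNat 265, 95), (.negSucc 252, 96), (.ofNat 601, 98)]) (.far (.negSucc 281)
  [(.negSucc 25, 1), (.ofNat 47, 10), (.ofNat 288, 13), (.negSucc 211, 18), (.negSucc 119, 19), (.negSucc 82, 20),
  (.negSucc 134, 21), (.negSucc 34, 22), (.negSucc 291, 23), (.negSucc 204, 24), (.negSucc 141, 25), (.negSucc 348,
  26), (.negSucc 322, 27), (.negSucc 587, 28), (.ofNat 67, 29), (.negSucc 360, 30), (.negSucc 571, 31), (.negSucc
  860, 32), (.negSucc 811, 33), (.negSucc 981, 34), (.negSucc 574, 35), (.negSucc 862, 36), (.negSucc 449, 37),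
  (.negSucc 864, 38), (.negSucc 1016, 39), (.negSucc 945, 40), (.negSucc 846, 41), (.negSucc 1037, 42), (.negSucc
  1177, 43), (.negSucc 1459, 44), (.negSucc 1276, 45), (.negSucc 1524, 46), (.negSucc 1808, 47), (.negSucc 1869, 48),
  (.negSucc 1991, 49), (.negSucc 2208, 50), (.negSucc 2342, 51), (.negSucc 2102, 52), (.negSucc 2568, 53), (.negSucc
  2918, 54), (.negSucc 3060, 55), (.negSucc 2825, 56), (.negSucc 2980, 57), (.negSucc 3810, 58), (.negSucc 3634, 59),
  (.negSucc 4036, 60), (.negSucc 5791, 61), (.negSucc 6203, 62), (.negSucc 6988, 63), (.negSucc 7400, 64), (.negSucc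
  7005, 65), (.negSucc 7217, 66), (.negSucc 7622, 67), (.negSucc 7860, 68), (.negSucc 7850, 69), (.negSucc 8371, 70),
  (.negSucc 8179, 71), (.negSucc 8546, 72), (.negSucc 9043, 73), (.negSucc 9453, 74), (.negSucc 9999, 75), (.negSucc
  9740, 76), (.negSucc 9789, 77), (.negSucc 9942, 78), (.negSucc 10314, 79), (.negSucc 11329, 80), (.negSucc 11281,
  81), (.negSucc 11412, 82), (.negSucc 12035, 83), (.negSucc 12092, 84), (.negSucc 14166, 85), (.negSucc 14539, 86),
  (.negSucc 15150, 87), (.negSucc 17823, 88), (.negSucc 17375, 89), (.negSucc 18189, 90), (.negSucc 18233, 91),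
  (.negSucc 19002, 92), (.negSucc 18714, 93), (.negSucc 19421, 94), (.negSucc 19517, 95), (.negSucc 19682, 96),
  (.ofNat 119, 97), (.negSucc 470, 98), (.ofNat 265, 2)])) (.far (.ofNat 28) [(.ofNat 85, 3), (.ofNat 186, 9),
  (.ofNat 103, 13), (.ofNat 168, 14), (.negSucc 24, 18), (.negSucc 33, 19), (.ofNat 11, 20), (.ofNat 70, 21), (.ofNat
  66, 22), (.ofNat 125, 23), (.negSucc 6, 24), (.ofNat 100, 25), (.ofNat 147, 26), (.ofNat 88, 27), (.ofNat 238, 28),
  (.ofNat 297, 29), (.ofNat 375, 30), (.ofNat 318, 31), (.ofNat 419, 32), (.ofNat 511, 33), (.ofNat 720, 34), (.ofNat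
  736, 35), (.ofNat 728, 36), (.ofNat 813, 37), (.ofNat 828, 38), (.ofNat 865, 39), (.ofNat 884, 40), (.ofNat 879,
  41), (.ofNat 971, 42), (.ofNat 1170, 43), (.ofNat 1481, 44), (.ofNat 1550, 45), (.ofNat 1485, 46), (.ofNat 1639,
  47), (.ofNat 1811, 48), (.ofNat 2017, 49), (.ofNat 2170, 50), (.ofNat 2176, 51), (.ofNat 2406, 52), (.ofNat 2383,
  53), (.ofNat 2766, 54), (.ofNat 3072, 55), (.ofNat 3150, 56), (.ofNat 3490, 57), (.ofNat 3611, 58), (.ofNat 3812,
  59), (.ofNat 3974, 60), (.ofNat 5372, 61), (.ofNat 5959, 62), (.ofNat 6656, 63), (.ofNat 6631, 64), (.ofNat 6685,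
  65), (.ofNat 6922, 66), (.ofNat 7229, 67), (.ofNat 7361, 68), (.ofNat 7444, 69), (.ofNat 7570, 70), (.ofNat 7736,
  71), (.ofNat 7992, 72), (.ofNat 8687, 73), (.ofNat 8817, 74), (.ofNat 8963, 75), (.ofNat 9284, 76), (.ofNat 9315,
  77), (.ofNat 9617, 78), (.ofNat 10024, 79), (.ofNat 10622, 80), (.ofNat 10812, 81), (.ofNat 10851, 82), (.ofNat
  11176, 83), (.ofNat 11774, 84), (.ofNat 13026, 85), (.ofNat 13938, 86), (.ofNat 14470, 87), (.ofNat 16692, 88),
  (.ofNat 16900, 89), (.ofNat 16867, 90), (.ofNat 17445, 91), (.ofNat 18079, 92), (.ofNat 18095, 93), (.ofNat 18242,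
  94), (.ofNat 18840, 95), (.ofNat 19683, 96), (.ofNat 246, 98), (.ofNat 225, 1)])) (.far (.ofNat 21854) [(.ofNat
  45024, 8), (.ofNat 51417, 12), (.ofNat 249162, 13), (.ofNat 244431, 14), (.ofNat 302798, 16), (.ofNat 211907, 18),
  (.ofNat 202624, 19), (.ofNat 349397, 20), (.ofNat 370807, 21), (.ofNat 216725, 22), (.ofNat 703292, 23), (.ofNat
  745860, 24), (.ofNat 594960, 25), (.ofNat 954842, 26), (.ofNat 993845, 27), (.ofNat 1440969, 28), (.ofNat 1734778,
  29), (.ofNat 2479742, 30), (.ofNat 2132337, 31), (.ofNat 2446909, 32), (.ofNat 3693968, 33), (.ofNat 4832445, 34),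
  (.ofNat 5252046, 35), (.ofNat 4162827, 36), (.ofNat 5380801, 37), (.ofNat 4847022, 38), (.ofNat 4658517, 39),
  (.ofNat 5927785, 40), (.ofNat 5596149, 41), (.ofNat 5408076, 42), (.ofNat 6767452, 43), (.ofNat 8873628, 44),
  (.ofNat 7991217, 45), (.ofNat 10425147, 46), (.ofNat 11858915, 47), (.ofNat 11900563, 48), (.ofNat 13541487, 49),
  (.ofNat 13454234, 50), (.ofNat 14526776, 51), (.ofNat 15623398, 52), (.ofNat 14685893, 53), (.ofNat 18105959, 54),
  (.ofNat 19498648, 55), (.ofNat 18450376, 56), (.ofNat 20545323, 57), (.ofNat 22155661, 58), (.ofNat 22752641, 59),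
  (.ofNat 26993438, 60), (.ofNat 34050195, 61), (.ofNat 38070265, 62), (.ofNat 41899626, 63), (.ofNat 41177167, 64),
  (.ofNat 42249024, 65), (.ofNat 44755691, 66), (.ofNat 47370476, 67), (.ofNat 48272959, 68), (.ofNat 46557967, 69),
  (.ofNat 48764189, 70), (.ofNat 49876102, 71), (.ofNat 50777286, 72), (.ofNat 54965276, 73), (.ofNat 55863580, 74),
  (.ofNat 59348601, 75), (.ofNat 61550340, 76), (.ofNat 58243138, 77), (.ofNat 60449365, 78), (.ofNat 64804332, 79),
  (.ofNat 69108867, 80), (.ofNat 68253296, 81), (.ofNat 69434630, 82), (.ofNat 73416110, 83), (.ofNat 76118977, 84),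
  (.ofNat 83199463, 85), (.ofNat 90319071, 86), (.ofNat 94649444, 87), (.ofNat 106623049, 88), (.ofNat 107977360,
  89), (.ofNat 106942535, 90), (.ofNat 112363427, 91), (.ofNat 116304076, 92), (.ofNat 115781291, 93), (.ofNat
  117328545, 94), (.ofNat 120345258, 95), (.ofNat 129140163, 96), (.ofNat 108362, 97), (.ofNat 825943, 98)])) (.far
  (.ofNat 1019) [(.ofNat 5845, 12), (.ofNat 2436, 13), (.ofNat 12941, 14), (.ofNat 10386, 18), (.negSucc 1137, 19),
  (.ofNat 18372, 20), (.negSucc 11200, 21), (.negSucc 3385, 22), (.ofNat 4728, 23), (.negSucc 10182, 24), (.ofNat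
  20920, 25), (.ofNat 23192, 26), (.negSucc 14866, 27), (.ofNat 64219, 28), (.ofNat 75824, 29), (.ofNat 96132, 30),
  (.ofNat 78116, 31), (.ofNat 76957, 32), (.ofNat 28549, 33), (.ofNat 113261, 34), (.ofNat 170906, 35), (.ofNat
  195014, 36), (.ofNat 199750, 37), (.ofNat 215646, 38), (.ofNat 178586, 39), (.ofNat 130656, 40), (.ofNat 128375,
  41), (.ofNat 253747, 42), (.ofNat 285919, 43), (.ofNat 319018, 44), (.ofNat 344402, 45), (.ofNat 414035, 46),
  (.ofNat 356194, 47), (.ofNat 336949, 48), (.ofNat 292449, 49), (.ofNat 460544, 50), (.ofNat 536356, 51), (.ofNat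
  548687, 52), (.ofNat 415350, 53), (.ofNat 749817, 54), (.ofNat 547061, 55), (.ofNat 609670, 56), (.ofNat 620548,
  57), (.ofNat 805498, 58), (.ofNat 973528, 59), (.ofNat 830905, 60), (.ofNat 1268999, 61), (.ofNat 1447958, 62),
  (.ofNat 1444936, 63), (.ofNat 1465521, 64), (.ofNat 1466470, 65), (.ofNat 1613401, 66), (.ofNat 1481977, 67),
  (.ofNat 1707416, 68), (.ofNat 1665271, 69), (.ofNat 1720137, 70), (.ofNat 1632969, 71), (.ofNat 2028968, 72),
  (.ofNat 1808100, 73), (.ofNat 2246236, 74), (.ofNat 2215251, 75), (.ofNat 1901092, 76), (.ofNat 2126784, 77),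
  (.ofNat 2434306, 78), (.ofNat 2327559, 79), (.ofNat 2650901, 80), (.ofNat 2607237, 81), (.ofNat 2544764, 82),
  (.ofNat 2684705, 83), (.ofNat 2799472, 84), (.ofNat 3201532, 85), (.ofNat 3248007, 86), (.ofNat 3224405, 87),
  (.ofNat 3912926, 88), (.ofNat 4121414, 89), (.ofNat 3844451, 90), (.ofNat 4119639, 91), (.ofNat 4192223, 92),
  (.ofNat 4294345, 93), (.ofNat 4257328, 94), (.ofNat 4397220, 95), (.ofNat 4782969, 96), (.ofNat 30446, 98)])) (.far
  (.ofNat 3406) [(.ofNat 18, 9), (.ofNat 16786, 12), (.ofNat 13304, 14), (.ofNat 30404, 18), (.ofNat 13712, 19),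
  (.ofNat 40916, 20), (.ofNat 67938, 21), (.ofNat 12238, 22), (.ofNat 14404, 23), (.ofNat 71344, 24), (.ofNat 56745,
  25), (.ofNat 136669, 26), (.ofNat 140474, 27), (.ofNat 115248, 28), (.ofNat 227583, 29), (.ofNat 223906, 30),
  (.ofNat 239163, 31), (.ofNat 310585, 32), (.ofNat 419303, 33), (.ofNat 513173, 34), (.ofNat 543835, 35), (.ofNat
  533696, 36), (.ofNat 517225, 37), (.ofNat 559928, 38), (.ofNat 623920, 39), (.ofNat 597556, 40), (.ofNat 668758,
  41), (.ofNat 695607, 42), (.ofNat 779888, 43), (.ofNat 1040937, 44), (.ofNat 1019362, 45), (.ofNat 1141966, 46),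
  (.ofNat 1210475, 47), (.ofNat 1306054, 48), (.ofNat 1473810, 49), (.ofNat 1497723, 50), (.ofNat 1613505, 51),
  (.ofNat 1706064, 52), (.ofNat 1729250, 53), (.ofNat 2017458, 54), (.ofNat 2178533, 55), (.ofNat 2224839, 56),
  (.ofNat 2394215, 57), (.ofNat 2677570, 58), (.ofNat 2671805, 59), (.ofNat 2808126, 60), (.ofNat 3873942, 61),
  (.ofNat 4245232, 62), (.ofNat 4785804, 63), (.ofNat 4759424, 64), (.ofNat 4826720, 65), (.ofNat 4893304, 66),
  (.ofNat 5211007, 67), (.ofNat 5256061, 68), (.ofNat 5443320, 69), (.ofNat 5463769, 70), (.ofNat 5568227, 71),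
  (.ofNat 5705551, 72), (.ofNat 6278000, 73), (.ofNat 6414035, 74), (.ofNat 6519992, 75), (.ofNat 6718145, 76),
  (.ofNat 6724860, 77), (.ofNat 6859722, 78), (.ofNat 7211417, 79), (.ofNat 7598412, 80), (.ofNat 7867619, 81),
  (.ofNat 7890041, 82), (.ofNat 7981686, 83), (.ofNat 8487105, 84), (.ofNat 9337687, 85), (.ofNat 10056172, 86),
  (.ofNat 10479601, 87), (.ofNat 12062927, 88), (.ofNat 12286131, 89), (.ofNat 12186857, 90), (.ofNat 12592810, 91),
  (.ofNat 13035856, 92), (.ofNat 13080852, 93), (.ofNat 13082289, 94), (.ofNat 13563620, 95), (.ofNat 14348907, 96),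
  (.ofNat 34172, 97), (.ofNat 50627, 98)])) (.far (.negSucc 73804) [(.ofNat 20321, 8), (.ofNat 49586, 13), (.ofNat
  124827, 14), (.ofNat 4018, 18), (.ofNat 69890, 19), (.ofNat 119460, 20), (.ofNat 249304, 21), (.ofNat 293345, 22),
  (.ofNat 203403, 23), (.ofNat 158351, 24), (.ofNat 249681, 25), (.ofNat 345461, 26), (.ofNat 228725, 27), (.ofNat
  437930, 28), (.ofNat 767128, 29), (.ofNat 717245, 30), (.ofNat 920945, 31), (.ofNat 864164, 32), (.ofNat 1209859,
  33), (.ofNat 1294704, 34), (.ofNat 1666218, 35), (.ofNat 1642273, 36), (.ofNat 1782236, 37), (.ofNat 1566767, 38),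
  (.ofNat 1939709, 39), (.ofNat 1673227, 40), (.ofNat 1604452, 41), (.ofNat 1811273, 42), (.ofNat 2354946, 43),
  (.ofNat 2915380, 44), (.ofNat 2687451, 45), (.ofNat 3374948, 46), (.ofNat 3923482, 47), (.ofNat 3354542, 48),
  (.ofNat 4833934, 49), (.ofNat 4463976, 50), (.ofNat 4500993, 51), (.ofNat 5292201, 52), (.ofNat 5487259, 53),
  (.ofNat 6263832, 54), (.ofNat 6676837, 55), (.ofNat 6927169, 56), (.ofNat 7132453, 57), (.ofNat 8059798, 58),
  (.ofNat 8398216, 59), (.ofNat 8271838, 60), (.ofNat 12214975, 61), (.ofNat 12714738, 62), (.ofNat 14498519, 63),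
  (.ofNat 14583479, 64), (.ofNat 13518731, 65), (.ofNat 14902425, 66), (.ofNat 15320230, 67), (.ofNat 15961887, 68),
  (.ofNat 16021798, 69), (.ofNat 16546143, 70), (.ofNat 17038981, 71), (.ofNat 17303354, 72), (.ofNat 18861311, 73),
  (.ofNat 19051615, 74), (.ofNat 19627608, 75), (.ofNat 20462682, 76), (.ofNat 21163186, 77), (.ofNat 20924436, 78),
  (.ofNat 22184062, 79), (.ofNat 22992487, 80), (.ofNat 23422717, 81), (.ofNat 23335925, 82), (.ofNat 24254971, 83),
  (.ofNat 25512681, 84), (.ofNat 27420491, 85), (.ofNat 30127062, 86), (.ofNat 31043852, 87), (.ofNat 37166166, 88),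
  (.ofNat 36592288, 89), (.ofNat 36084506, 90), (.ofNat 37584217, 91), (.ofNat 38886733, 92), (.ofNat 39167659, 93),
  (.ofNat 39853616, 94), (.ofNat 40511050, 95), (.ofNat 43046721, 96), (.ofNat 220772, 98)])) (.far (.ofNat 210741)
  [(.ofNat 53122, 12), (.ofNat 16834, 13), (.ofNat 260767, 14), (.ofNat 36765, 18), (.negSucc 417908, 19), (.negSucc
  274503, 20), (.negSucc 1196793, 21), (.ofNat 322941, 22), (.ofNat 741326, 23), (.negSucc 986052, 24), (.negSucc
  250760, 25), (.ofNat 1065617, 26), (.negSucc 132447, 27), (.ofNat 1817504, 28), (.ofNat 1823539, 29), (.ofNat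
  2508806, 30), (.ofNat 2548032, 31), (.ofNat 3043758, 32), (.ofNat 862499, 33), (.ofNat 2952045, 34), (.ofNat
  4965760, 35), (.ofNat 4426599, 36), (.ofNat 4235788, 37), (.ofNat 5796655, 38), (.ofNat 4602322, 39), (.ofNat
  5940617, 40), (.ofNat 4850066, 41), (.ofNat 4730403, 42), (.ofNat 8307922, 43), (.ofNat 11010873, 44), (.ofNat
  10160444, 45), (.ofNat 9315732, 46), (.ofNat 11503582, 47), (.ofNat 9408081, 48), (.ofNat 10551515, 49), (.ofNat
  14752047, 50), (.ofNat 14549008, 51), (.ofNat 12415789, 52), (.ofNat 13386834, 53), (.ofNat 15576908, 54), (.ofNat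
  19782442, 55), (.ofNat 21605346, 56), (.ofNat 19585835, 57), (.ofNat 23074103, 58), (.ofNat 25490243, 59), (.ofNat
  25119103, 60), (.ofNat 34864259, 61), (.ofNat 38380239, 62), (.ofNat 45619845, 63), (.ofNat 44497929, 64), (.ofNat
  44984683, 65), (.ofNat 45024703, 66), (.ofNat 48786284, 67), (.ofNat 48166924, 68), (.ofNat 48733718, 69), (.ofNat
  52221509, 70), (.ofNat 49538409, 71), (.ofNat 50621654, 72), (.ofNat 57581357, 73), (.ofNat 56803424, 74), (.ofNat
  61514532, 75), (.ofNat 61520964, 76), (.ofNat 60510374, 77), (.ofNat 63447809, 78), (.ofNat 67228764, 79), (.ofNat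
  69177605, 80), (.ofNat 71200213, 81), (.ofNat 71995376, 82), (.ofNat 72070493, 83), (.ofNat 76650106, 84), (.ofNat
  86150296, 85), (.ofNat 93529337, 86), (.ofNat 96832353, 87), (.ofNat 113013057, 88), (.ofNat 110929466, 89),
  (.ofNat 112143730, 90), (.ofNat 114940538, 91), (.ofNat 120844628, 92), (.ofNat 118681870, 93), (.ofNat 123173501,
  94), (.ofNat 121597151, 95), (.ofNat 129140163, 96), (.ofNat 64795, 97), (.ofNat 1159792, 98)])) (.far (.negSucc
  2014058) [(.ofNat 1068526, 8), (.ofNat 1601729, 9), (.ofNat 8997063, 13), (.negSucc 5027503, 18), (.ofNat 518780,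
  19), (.ofNat 886168, 20), (.ofNat 11020482, 21), (.ofNat 14552801, 22), (.ofNat 13586656, 23), (.ofNat 13935940,
  24), (.ofNat 10291970, 25), (.ofNat 2449655, 26), (.ofNat 29498161, 27), (.ofNat 34811753, 28), (.ofNat 20807968,
  29), (.ofNat 30485242, 30), (.ofNat 26007291, 31), (.ofNat 52156559, 32), (.ofNat 107439482, 33), (.ofNat
  134666404, 34), (.ofNat 80717530, 35), (.ofNat 88556992, 36), (.ofNat 139758043, 37), (.ofNat 155181811, 38),
  (.ofNat 130212643, 39), (.ofNat 161288186, 40), (.ofNat 145100073, 41), (.ofNat 152277292, 42), (.ofNat 153426179,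
  43), (.ofNat 196385600, 44), (.ofNat 251823455, 45), (.ofNat 215713401, 46), (.ofNat 245458968, 47), (.ofNat
  311177050, 48), (.ofNat 340931243, 49), (.ofNat 294740510, 50), (.ofNat 311651401, 51), (.ofNat 443052453, 52),
  (.ofNat 436339379, 53), (.ofNat 498216948, 54), (.ofNat 553555001, 55), (.ofNat 495681334, 56), (.ofNat 577932590,
  57), (.ofNat 543963259, 58), (.ofNat 644485109, 59), (.ofNat 615799100, 60), (.ofNat 878718496, 61), (.ofNat
  922467896, 62), (.ofNat 1156718470, 63), (.ofNat 1169616209, 64), (.ofNat 1221609975, 65), (.ofNat 1124543909, 66),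
  (.ofNat 1310757765, 67), (.ofNat 1343974467, 68), (.ofNat 1309374252, 69), (.ofNat 1274695316, 70), (.ofNat
  1334582312, 71), (.ofNat 1339967315, 72), (.ofNat 1551095200, 73), (.ofNat 1576753972, 74), (.ofNat 1516331206,
  75), (.ofNat 1645404284, 76), (.ofNat 1687977525, 77), (.ofNat 1713227337, 78), (.ofNat 1736334393, 79), (.ofNat
  1911009529, 80), (.ofNat 1778706292, 81), (.ofNat 1856803317, 82), (.ofNat 1941949590, 83), (.ofNat 2001300747,
  84), (.ofNat 2320796359, 85), (.ofNat 2517354491, 86), (.ofNat 2548924928, 87), (.ofNat 2978303361, 88), (.ofNat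
  3047524530, 89), (.ofNat 2961176282, 90), (.ofNat 3035388425, 91), (.ofNat 3106684627, 92), (.ofNat 3216692132,
  93), (.ofNat 3224128774, 94), (.ofNat 3354511652, 95), (.ofNat 3486784401, 96), (.ofNat 5868306, 97), (.ofNat
  19128990, 98)])) (.far (.negSucc 5970) [(.ofNat 2134, 8), (.ofNat 1723, 12), (.ofNat 6227, 13), (.negSucc 8959,
  18), (.negSucc 2813, 19), (.negSucc 1568, 20), (.negSucc 2952, 21), (.negSucc 1147, 22), (.negSucc 5747, 23),
  (.negSucc 6906, 24), (.negSucc 1138, 25), (.negSucc 3962, 26), (.negSucc 7425, 27), (.negSucc 16542, 28), (.ofNat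
  3244, 29), (.negSucc 9334, 30), (.negSucc 18065, 31), (.negSucc 24094, 32), (.negSucc 19178, 33), (.negSucc 25188,
  34), (.negSucc 18266, 35), (.negSucc 24598, 36), (.negSucc 12470, 37), (.negSucc 23333, 38), (.negSucc 26108, 39),
  (.negSucc 24065, 40), (.negSucc 25644, 41), (.negSucc 27047, 42), (.negSucc 32438, 43), (.negSucc 39081, 44),
  (.negSucc 32456, 45), (.negSucc 46459, 46), (.negSucc 47618, 47), (.negSucc 51469, 48), (.negSucc 55227, 49),
  (.negSucc 58923, 50), (.negSucc 59481, 51), (.negSucc 56836, 52), (.negSucc 70752, 53), (.negSucc 78052, 54),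
  (.negSucc 80760, 55), (.negSucc 78443, 56), (.negSucc 79208, 57), (.negSucc 101851, 58), (.negSucc 100445, 59),
  (.negSucc 108617, 60), (.negSucc 152849, 61), (.negSucc 164123, 62), (.negSucc 188071, 63), (.negSucc 196773, 64),
  (.negSucc 189640, 65), (.negSucc 189457, 66), (.negSucc 204590, 67), (.negSucc 209442, 68), (.negSucc 209245, 69),
  (.negSucc 224131, 70), (.negSucc 217168, 71), (.negSucc 226453, 72), (.negSucc 239367, 73), (.negSucc 252277, 74),
  (.negSucc 265856, 75), (.negSucc 260991, 76), (.negSucc 262045, 77), (.negSucc 269358, 78), (.negSucc 280676, 79),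
  (.negSucc 304075, 80), (.negSucc 302482, 81), (.negSucc 304842, 82), (.negSucc 324890, 83), (.negSucc 325694, 84),
  (.negSucc 372638, 85), (.negSucc 389999, 86), (.negSucc 407581, 87), (.negSucc 478580, 88), (.negSucc 466223, 89),
  (.negSucc 488482, 90), (.negSucc 490650, 91), (.negSucc 511340, 92), (.negSucc 503923, 93), (.negSucc 515188, 94),
  (.negSucc 525233, 95), (.negSucc 531440, 96), (.ofNat 416, 97), (.negSucc 12769, 98)])) (.far (.ofNat 4003)
  [(.ofNat 25801, 12), (.ofNat 45432, 13), (.ofNat 2167, 14), (.ofNat 34886, 18), (.negSucc 10509, 19), (.ofNat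
  36037, 20), (.negSucc 12676, 21), (.ofNat 33085, 22), (.ofNat 76246, 23), (.ofNat 37753, 24), (.ofNat 21524, 25),
  (.ofNat 3729, 26), (.ofNat 85367, 27), (.ofNat 121670, 28), (.ofNat 353806, 29), (.ofNat 357752, 30), (.ofNat
  192630, 31), (.ofNat 334269, 32), (.ofNat 233028, 33), (.ofNat 448373, 34), (.ofNat 578357, 35), (.ofNat 537098,
  36), (.ofNat 525194, 37), (.ofNat 601356, 38), (.ofNat 646703, 39), (.ofNat 652928, 40), (.ofNat 700527, 41),
  (.ofNat 671482, 42), (.ofNat 759101, 43), (.ofNat 1043580, 44), (.ofNat 1040636, 45), (.ofNat 1229100, 46), (.ofNat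
  1110753, 47), (.ofNat 1348664, 48), (.ofNat 1478733, 49), (.ofNat 1471975, 50), (.ofNat 1519525, 51), (.ofNat
  1671074, 52), (.ofNat 1649960, 53), (.ofNat 2011550, 54), (.ofNat 2205098, 55), (.ofNat 2210282, 56), (.ofNat
  2350762, 57), (.ofNat 2621502, 58), (.ofNat 2735578, 59), (.ofNat 2865292, 60), (.ofNat 4043228, 61), (.ofNat
  4177152, 62), (.ofNat 4783719, 63), (.ofNat 4907064, 64), (.ofNat 4819756, 65), (.ofNat 5044638, 66), (.ofNat
  5235738, 67), (.ofNat 5269189, 68), (.ofNat 5432258, 69), (.ofNat 5511757, 70), (.ofNat 5619760, 71), (.ofNat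
  5661936, 72), (.ofNat 6366779, 73), (.ofNat 6371240, 74), (.ofNat 6524598, 75), (.ofNat 6773020, 76), (.ofNat
  6741005, 77), (.ofNat 7002279, 78), (.ofNat 7303500, 79), (.ofNat 7763544, 80), (.ofNat 7784163, 81), (.ofNat
  7871772, 82), (.ofNat 8058887, 83), (.ofNat 8594733, 84), (.ofNat 9356419, 85), (.ofNat 10104460, 86), (.ofNat
  10486007, 87), (.ofNat 12040780, 88), (.ofNat 12267522, 89), (.ofNat 12252762, 90), (.ofNat 12590865, 91), (.ofNat
  13008339, 92), (.ofNat 13049406, 93), (.ofNat 13042190, 94), (.ofNat 13603546, 95), (.ofNat 14348907, 96), (.ofNat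
  16543, 97), (.ofNat 51545, 98)])) (.far (.negSucc 51889) [(.ofNat 125727, 9), (.ofNat 248962, 13), (.negSucc
  148760, 18), (.ofNat 48529, 19), (.negSucc 81027, 20), (.ofNat 122081, 21), (.ofNat 222745, 22), (.ofNat 238743,
  23), (.ofNat 273037, 24), (.ofNat 239303, 25), (.ofNat 106187, 26), (.ofNat 339021, 27), (.ofNat 396887, 28),
  (.ofNat 691703, 29), (.ofNat 729157, 30), (.ofNat 630940, 31), (.ofNat 808892, 32), (.ofNat 1026629, 33), (.ofNat
  1654909, 34), (.ofNat 1666529, 35), (.ofNat 1510009, 36), (.ofNat 1651421, 37), (.ofNat 1812342, 38), (.ofNat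
  1798255, 39), (.ofNat 1887401, 40), (.ofNat 1933271, 41), (.ofNat 2102297, 42), (.ofNat 2534721, 43), (.ofNat
  3219723, 44), (.ofNat 3348887, 45), (.ofNat 3514284, 46), (.ofNat 3544570, 47), (.ofNat 3981969, 48), (.ofNat
  4356427, 49), (.ofNat 4425556, 50), (.ofNat 4692873, 51), (.ofNat 5236037, 52), (.ofNat 5163983, 53), (.ofNat
  6082725, 54), (.ofNat 6839254, 55), (.ofNat 6852545, 56), (.ofNat 6952179, 57), (.ofNat 7862022, 58), (.ofNat
  8484011, 59), (.ofNat 8615062, 60), (.ofNat 11756000, 61), (.ofNat 12754508, 62), (.ofNat 14416518, 63), (.ofNat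
  14488787, 64), (.ofNat 14459115, 65), (.ofNat 14902041, 66), (.ofNat 15651617, 67), (.ofNat 15876867, 68), (.ofNat
  16140208, 69), (.ofNat 16497406, 70), (.ofNat 16893695, 71), (.ofNat 17116776, 72), (.ofNat 18955137, 73), (.ofNat
  19093088, 74), (.ofNat 19829413, 75), (.ofNat 20204619, 76), (.ofNat 20266651, 77), (.ofNat 20875527, 78), (.ofNat
  21849376, 79), (.ofNat 23297514, 80), (.ofNat 23423506, 81), (.ofNat 23641886, 82), (.ofNat 23997718, 83), (.ofNat
  25597282, 84), (.ofNat 28065197, 85), (.ofNat 30261289, 86), (.ofNat 31520486, 87), (.ofNat 36195972, 88), (.ofNat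
  36714940, 89), (.ofNat 36761780, 90), (.ofNat 37758485, 91), (.ofNat 39212079, 92), (.ofNat 39300409, 93), (.ofNat
  39342012, 94), (.ofNat 40704815, 95), (.ofNat 43046721, 96), (.ofNat 154740, 98)])) (.far (.negSucc 3222) [(.ofNat
  734, 12), (.negSucc 3436, 18), (.negSucc 212, 19), (.negSucc 1128, 20), (.negSucc 2331, 21), (.negSucc 229, 22),
  (.ofNat 1987, 23), (.negSucc 5554, 24), (.negSucc 225, 25), (.negSucc 2889, 26), (.ofNat 602, 27), (.negSucc 4200,
  28), (.ofNat 3349, 29), (.negSucc 5042, 30), (.negSucc 2381, 31), (.negSucc 7343, 32), (.negSucc 11025, 33),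
  (.negSucc 6013, 34), (.negSucc 3297, 35), (.negSucc 12930, 36), (.negSucc 4122, 37), (.negSucc 8434, 38), (.negSucc
  6305, 39), (.negSucc 10337, 40), (.negSucc 8898, 41), (.negSucc 8593, 42), (.negSucc 9017, 43), (.negSucc 13008,
  44), (.negSucc 12454, 45), (.negSucc 12795, 46), (.negSucc 16626, 47), (.negSucc 19946, 48), (.negSucc 16628, 49),
  (.negSucc 17676, 50), (.negSucc 22070, 51), (.negSucc 19609, 52), (.negSucc 19790, 53), (.negSucc 26603, 54),
  (.negSucc 14212, 55), (.negSucc 22772, 56), (.negSucc 34037, 57), (.negSucc 30478, 58), (.negSucc 25830, 59),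
  (.negSucc 30900, 60), (.negSucc 54922, 61), (.negSucc 53200, 62), (.negSucc 62491, 63), (.negSucc 59247, 64),
  (.negSucc 58911, 65), (.negSucc 67377, 66), (.negSucc 67754, 67), (.negSucc 71617, 68), (.negSucc 70551, 69),
  (.negSucc 66383, 70), (.negSucc 68743, 71), (.negSucc 68193, 72), (.negSucc 78515, 73), (.negSucc 84268, 74),
  (.negSucc 79266, 75), (.negSucc 80617, 76), (.negSucc 83394, 77), (.negSucc 81636, 78), (.negSucc 92235, 79),
  (.negSucc 85917, 80), (.negSucc 98010, 81), (.negSucc 94444, 82), (.negSucc 102959, 83), (.negSucc 102867, 84),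
  (.negSucc 119168, 85), (.negSucc 126100, 86), (.negSucc 128386, 87), (.negSucc 148906, 88), (.negSucc 152042, 89),
  (.negSucc 149449, 90), (.negSucc 148981, 91), (.negSucc 161592, 92), (.negSucc 164826, 93), (.negSucc 161361, 94),
  (.negSucc 167404, 95), (.negSucc 177146, 96), (.negSucc 3620, 98)]))) (.far (.negSucc 28469) [(.ofNat 28132, 9),
  (.ofNat 91558, 13), (.negSucc 32815, 18), (.ofNat 16504, 19), (.negSucc 51565, 20), (.ofNat 37336, 21), (.ofNat
  33115, 22), (.ofNat 3662, 23), (.ofNat 74986, 24), (.ofNat 42962, 25), (.negSucc 34810, 26), (.negSucc 38930, 27),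
  (.ofNat 46814, 28), (.ofNat 120424, 29), (.ofNat 82363, 30), (.ofNat 89186, 31), (.ofNat 96926, 32), (.ofNat 54338,
  33), (.ofNat 170403, 34), (.ofNat 268185, 35), (.ofNat 139345, 36), (.ofNat 182610, 37), (.ofNat 193812, 38),
  (.ofNat 141364, 39), (.ofNat 215380, 40), (.ofNat 204112, 41), (.ofNat 246856, 42), (.ofNat 298484, 43), (.ofNat
  342547, 44), (.ofNat 357049, 45), (.ofNat 450979, 46), (.ofNat 352517, 47), (.ofNat 443898, 48), (.ofNat 504786,
  49), (.ofNat 479044, 50), (.ofNat 517188, 51), (.ofNat 557477, 52), (.ofNat 529310, 53), (.ofNat 669174, 54),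
  (.ofNat 822252, 55), (.ofNat 755693, 56), (.ofNat 802594, 57), (.ofNat 864920, 58), (.ofNat 1042964, 59), (.ofNat
  943416, 60), (.ofNat 1264434, 61), (.ofNat 1403651, 62), (.ofNat 1566521, 63), (.ofNat 1618424, 64), (.ofNat
  1544216, 65), (.ofNat 1558978, 66), (.ofNat 1696458, 67), (.ofNat 1706739, 68), (.ofNat 1801033, 69), (.ofNat
  1795998, 70), (.ofNat 1853663, 71), (.ofNat 1868244, 72), (.ofNat 2131256, 73), (.ofNat 2035177, 74), (.ofNat
  2138431, 75), (.ofNat 2203464, 76), (.ofNat 2210128, 77), (.ofNat 2273021, 78), (.ofNat 2424176, 79), (.ofNat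
  2605983, 80), (.ofNat 2563881, 81), (.ofNat 2598880, 82), (.ofNat 2644040, 83), (.ofNat 2837975, 84), (.ofNat
  3117911, 85), (.ofNat 3370582, 86), (.ofNat 3492371, 87), (.ofNat 3991959, 88), (.ofNat 4017820, 89), (.ofNat
  4028785, 90), (.ofNat 4131581, 91), (.ofNat 4306049, 92), (.ofNat 4308681, 93), (.ofNat 4286503, 94), (.ofNat
  4456771, 95), (.ofNat 4782969, 96), (.ofNat 32075, 98)])) (.far (.negSucc 1163) [(.ofNat 1437, 8), (.ofNat 851, 9),
  (.ofNat 1385, 13), (.ofNat 1584, 14), (.negSucc 2623, 18), (.ofNat 2306, 19), (.ofNat 2050, 20), (.ofNat 1363, 21),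
  (.ofNat 3105, 22), (.ofNat 2638, 23), (.negSucc 1887, 24), (.ofNat 4367, 25), (.ofNat 4815, 26), (.ofNat 5560, 27),
  (.ofNat 2354, 28), (.ofNat 13393, 29), (.ofNat 12152, 30), (.ofNat 5976, 31), (.ofNat 7847, 32), (.ofNat 10767,
  33), (.ofNat 21121, 34), (.ofNat 20631, 35), (.ofNat 19451, 36), (.ofNat 21291, 37), (.ofNat 23022, 38), (.ofNat
  21840, 39), (.ofNat 22818, 40), (.ofNat 25025, 41), (.ofNat 25694, 42), (.ofNat 32864, 43), (.ofNat 39005, 44),
  (.ofNat 42041, 45), (.ofNat 42050, 46), (.ofNat 44219, 47), (.ofNat 50125, 48), (.ofNat 55221, 49), (.ofNat 55868,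
  50), (.ofNat 57147, 51), (.ofNat 65599, 52), (.ofNat 64940, 53), (.ofNat 74097, 54), (.ofNat 85439, 55), (.ofNat
  86667, 56), (.ofNat 83251, 57), (.ofNat 98495, 58), (.ofNat 105281, 59), (.ofNat 108136, 60), (.ofNat 143096, 61),
  (.ofNat 153175, 62), (.ofNat 178616, 63), (.ofNat 179320, 64), (.ofNat 180701, 65), (.ofNat 185137, 66), (.ofNat
  196517, 67), (.ofNat 191132, 68), (.ofNat 200611, 69), (.ofNat 205102, 70), (.ofNat 210499, 71), (.ofNat 215610,
  72), (.ofNat 233889, 73), (.ofNat 235942, 74), (.ofNat 246480, 75), (.ofNat 249907, 76), (.ofNat 250150, 77),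
  (.ofNat 262554, 78), (.ofNat 269749, 79), (.ofNat 290888, 80), (.ofNat 289177, 81), (.ofNat 291544, 82), (.ofNat
  299836, 83), (.ofNat 317800, 84), (.ofNat 346660, 85), (.ofNat 372127, 86), (.ofNat 390258, 87), (.ofNat 450213,
  88), (.ofNat 454927, 89), (.ofNat 455621, 90), (.ofNat 469999, 91), (.ofNat 486750, 92), (.ofNat 481550, 93),
  (.ofNat 492254, 94), (.ofNat 505530, 95), (.ofNat 531441, 96), (.ofNat 1581, 97), (.ofNat 197, 98)])))

/-- certificates -/
noncomputable def CL8 : List (Hd × Tr) :=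
  [c57]

theorem okC8 : okL TAB.Co1.D (TAB.Sm2.mkRows TAB.Co1.RA TAB.Co1.RB) P Z CL8 = true := by decide +kernel

/-- a certificate -/
noncomputable def c58 : Hd × Tr :=
  ((2717245440000, [], []), (.bf 57 5 (.bf 26 70 (.far (.negSucc 55987) [(.ofNat 165298, 8), (.ofNat 84426, 9),
  (.ofNat 49767, 12), (.ofNat 30216, 13), (.ofNat 268387, 14), (.ofNat 1777, 18), (.ofNat 23106, 19), (.ofNat 19551,
  20), (.negSucc 122639, 21), (.ofNat 6221, 22), (.negSucc 214175, 23), (.negSucc 343925, 24), (.negSucc 134192, 25),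
  (.negSucc 63097, 26), (.negSucc 311043, 27), (.negSucc 211509, 28), (.negSucc 58653, 29), (.negSucc 206177, 30),
  (.negSucc 303045, 31), (.negSucc 428351, 32), (.negSucc 451457, 33), (.negSucc 454123, 34), (.negSucc 738506, 35),
  (.negSucc 657635, 36), (.negSucc 528774, 37), (.negSucc 487894, 38), (.negSucc 709179, 39), (.negSucc 678075, 40),
  (.negSucc 518110, 41), (.negSucc 694072, 42), (.negSucc 792717, 43), (.negSucc 958903, 44), (.negSucc 1001561, 45),
  (.negSucc 1550776, 46), (.negSucc 1134865, 47), (.negSucc 1360595, 48), (.negSucc 1383701, 49), (.negSucc 1524115,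
  50), (.negSucc 1623649, 51), (.negSucc 1640534, 52), (.negSucc 1691190, 53), (.negSucc 2068886, 54), (.negSucc
  2135539, 55), (.negSucc 2196859, 56), (.negSucc 2259068, 57), (.negSucc 2606548, 58), (.negSucc 2736298, 59),
  (.negSucc 2830500, 60), (.negSucc 3905824, 61), (.negSucc 4298628, 62), (.negSucc 4767860, 63), (.negSucc 5071795,
  64), (.negSucc 4748309, 65), (.negSucc 4892278, 66), (.negSucc 5213098, 67), (.negSucc 5572131, 68), (.negSucc
  5600570, 69), (.negSucc 5755203, 70), (.negSucc 5715211, 71), (.negSucc 5778309, 72), (.negSucc 6345298, 73),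
  (.negSucc 6585246, 74), (.negSucc 6555919, 75), (.negSucc 6768318, 76), (.negSucc 6702554, 77), (.negSucc 6842968,
  78), (.negSucc 7369077, 79), (.negSucc 7628577, 80), (.negSucc 7776101, 81), (.negSucc 7968948, 82), (.negSucc
  8157352, 83), (.negSucc 8497723, 84), (.negSucc 9620148, 85), (.negSucc 10365765, 86), (.negSucc 10575497, 87),
  (.negSucc 12220476, 88), (.negSucc 12267577, 89), (.negSucc 12458647, 90), (.negSucc 12690597, 91), (.negSucc
  13151831, 92), (.negSucc 13200709, 93), (.negSucc 13237146, 94), (.negSucc 13656611, 95), (.negSucc 14348906, 96),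
  (.ofNat 23995, 97), (.negSucc 13329, 98)]) (.bf 27 7 (.bf 14 1184 (.bf 15 44 (.bf 16 9 (.bf 4 42273 (.bf 5 297 (.bf
  6 162 (.bf 6 81 (.far (.ofNat 4836) [(.ofNat 2226, 8), (.ofNat 490, 10), (.ofNat 7930, 13), (.ofNat 3071, 14),
  (.ofNat 4333, 18), (.ofNat 5262, 19), (.ofNat 4785, 20), (.negSucc 1015, 21), (.negSucc 9371, 22), (.negSucc 4596,
  23), (.negSucc 1538, 24), (.negSucc 283, 25), (.ofNat 3781, 26), (.ofNat 7335, 27), (.ofNat 6477, 28), (.ofNat
  7306, 29), (.ofNat 3361, 30), (.negSucc 5220, 31), (.ofNat 3867, 32), (.negSucc 1247, 33), (.ofNat 20665, 34),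
  (.ofNat 4719, 35), (.negSucc 4120, 36), (.ofNat 6040, 37), (.ofNat 20795, 38), (.ofNat 7353, 39), (.ofNat 16108,
  40), (.ofNat 25806, 41), (.ofNat 21133, 42), (.ofNat 11730, 43), (.ofNat 23508, 44), (.ofNat 37535, 45), (.ofNat
  12272, 46), (.negSucc 1776, 47), (.ofNat 40463, 48), (.negSucc 4427, 49), (.ofNat 19244, 50), (.ofNat 29922, 51),
  (.ofNat 9600, 52), (.ofNat 5476, 53), (.ofNat 17354, 54), (.ofNat 35480, 55), (.ofNat 18171, 56), (.ofNat 28767,
  57), (.ofNat 25213, 58), (.ofNat 36752, 59), (.ofNat 46868, 60), (.ofNat 25790, 61), (.ofNat 51878, 62), (.ofNat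
  51216, 63), (.ofNat 58551, 64), (.ofNat 105859, 65), (.ofNat 63325, 66), (.ofNat 79304, 67), (.ofNat 60738, 68),
  (.ofNat 64590, 69), (.ofNat 60900, 70), (.ofNat 62535, 71), (.ofNat 64417, 72), (.ofNat 78038, 73), (.ofNat 80610,
  74), (.ofNat 81274, 75), (.ofNat 65559, 76), (.ofNat 34862, 77), (.ofNat 85271, 78), (.ofNat 66831, 79), (.ofNat
  97802, 80), (.ofNat 96132, 81), (.ofNat 105530, 82), (.ofNat 90391, 83), (.ofNat 103282, 84), (.ofNat 146660, 85),
  (.ofNat 123633, 86), (.ofNat 153550, 87), (.ofNat 104148, 88), (.ofNat 149954, 89), (.ofNat 177050, 90), (.ofNat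
  160501, 91), (.ofNat 176950, 92), (.ofNat 160815, 93), (.ofNat 141683, 94), (.ofNat 177147, 95), (.ofNat 173777,
  96), (.ofNat 9528, 97), (.ofNat 1417, 98)]) (.bf 7 84 (.bf 7 54 (.far (.ofNat 10920) [(.ofNat 72694, 8), (.ofNat
  62282, 13), (.ofNat 103106, 14), (.ofNat 27589, 19), (.ofNat 34260, 20), (.negSucc 79878, 21), (.ofNat 41905, 22),
  (.negSucc 65976, 23), (.negSucc 153917, 24), (.ofNat 32024, 25), (.negSucc 122843, 26), (.negSucc 229345, 27),
  (.negSucc 83710, 28), (.negSucc 122112, 29), (.negSucc 179943, 30), (.negSucc 250372, 31), (.negSucc 343036, 32),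
  (.negSucc 495866, 33), (.negSucc 442211, 34), (.negSucc 586048, 35), (.negSucc 624613, 36), (.negSucc 425508, 37),
  (.negSucc 504620, 38), (.negSucc 669723, 39), (.negSucc 561162, 40), (.negSucc 653688, 41), (.negSucc 670205, 42),
  (.negSucc 769788, 43), (.negSucc 1050324, 44), (.negSucc 949710, 45), (.negSucc 1249489, 46), (.negSucc 1201889,
  47), (.negSucc 1308141, 48), (.negSucc 1516755, 49), (.negSucc 1492693, 50), (.negSucc 1705856, 51), (.negSucc
  1656679, 52), (.negSucc 1731310, 53), (.negSucc 1965323, 54), (.negSucc 2076214, 55), (.negSucc 2176902, 56),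
  (.negSucc 2357013, 57), (.negSucc 2736841, 58), (.negSucc 2530963, 59), (.negSucc 2779126, 60), (.negSucc 3838929,
  61), (.negSucc 4283180, 62), (.negSucc 4777132, 63), (.negSucc 4742885, 64), (.negSucc 4844250, 65), (.negSucc
  4775895, 66), (.negSucc 5187366, 67), (.negSucc 5337577, 68), (.negSucc 5562534, 69), (.negSucc 5521448, 70),
  (.negSucc 5512610, 71), (.negSucc 5684626, 72), (.negSucc 6266617, 73), (.negSucc 6487988, 74), (.negSucc 6522174,
  75), (.negSucc 6732700, 76), (.negSucc 6805246, 77), (.negSucc 6692079, 78), (.negSucc 7187449, 79), (.negSucc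
  7537398, 80), (.negSucc 7927274, 81), (.negSucc 7957695, 82), (.negSucc 7994458, 83), (.negSucc 8482066, 84),
  (.negSucc 9408007, 85), (.negSucc 10119480, 86), (.negSucc 10478558, 87), (.negSucc 12065349, 88), (.negSucc
  12365968, 89), (.negSucc 12214370, 90), (.negSucc 12640238, 91), (.negSucc 13017373, 92), (.negSucc 13150874, 93),
  (.negSucc 13027805, 94), (.negSucc 13593086, 95), (.negSucc 14348906, 96), (.negSucc 3632, 98)]) (.bf 1 4064 (.bf 2
  1978 (.bf 3 1100 (.bm 1 0 (.bm 2 0 (.far (.negSucc 277) [(.negSucc 728, 1), (.negSucc 608, 2), (.ofNat 307, 8),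
  (.ofNat 323, 13), (.ofNat 232, 14), (.ofNat 188, 19), (.ofNat 1, 20), (.ofNat 29, 21), (.ofNat 257, 22), (.negSucc
  467, 23), (.negSucc 280, 24), (.ofNat 326, 25), (.negSucc 65, 26), (.negSucc 481, 27), (.negSucc 1, 28), (.ofNat
  481, 29), (.ofNat 239, 30), (.negSucc 309, 31), (.ofNat 153, 32), (.negSucc 167, 33), (.ofNat 367, 34), (.negSucc
  215, 35), (.negSucc 449, 36), (.ofNat 95, 37), (.ofNat 297, 38), (.negSucc 201, 39), (.ofNat 2, 40), (.ofNat 158,
  41), (.ofNat 189, 42), (.ofNat 3, 43), (.ofNat 196, 44), (.negSucc 138, 45), (.negSucc 418, 46), (.ofNat 87, 47),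
  (.negSucc 198, 48), (.negSucc 79, 49), (.ofNat 32, 50), (.negSucc 104, 51), (.ofNat 88, 52), (.negSucc 3, 53),
  (.ofNat 94, 54), (.ofNat 418, 55), (.negSucc 0, 56), (.negSucc 2, 57), (.ofNat 216, 58), (.ofNat 307, 59), (.ofNat
  180, 60), (.ofNat 185, 61), (.negSucc 253, 62), (.negSucc 78, 63), (.negSucc 196, 64), (.ofNat 146, 65), (.ofNat
  32, 66), (.ofNat 301, 67), (.negSucc 679, 68), (.negSucc 101, 69), (.negSucc 97, 70), (.negSucc 202, 71), (.ofNat
  31, 72), (.ofNat 223, 73), (.negSucc 453, 74), (.ofNat 121, 75), (.ofNat 17, 76), (.ofNat 417, 78), (.negSucc 93,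
  79), (.ofNat 324, 80), (.ofNat 97, 81), (.ofNat 36, 82), (.ofNat 56, 83), (.negSucc 51, 84), (.negSucc 29, 85),
  (.negSucc 297, 86), (.negSucc 102, 87), (.ofNat 214, 88), (.negSucc 19, 89), (.negSucc 254, 90), (.negSucc 144,
  91), (.ofNat 176, 92), (.negSucc 347, 93), (.ofNat 61, 94), (.ofNat 23, 95), (.ofNat 56, 97), (.ofNat 105, 98)])
  (.far (.negSucc 181) [(.negSucc 135, 1), (.ofNat 147, 8), (.ofNat 109, 10), (.ofNat 169, 13), (.ofNat 163, 14),
  (.ofNat 66, 18), (.ofNat 129, 20), (.ofNat 39, 21), (.ofNat 203, 22), (.negSucc 121, 23), (.negSucc 288, 24),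
  (.ofNat 235, 25), (.ofNat 83, 26), (.ofNat 49, 27), (.negSucc 104, 28), (.ofNat 318, 29), (.ofNat 153, 30), (.ofNat
  27, 31), (.negSucc 100, 32), (.negSucc 47, 33), (.ofNat 105, 34), (.ofNat 123, 35), (.ofNat 155, 36), (.ofNat 288,
  37), (.ofNat 261, 38), (.ofNat 217, 39), (.ofNat 199, 40), (.ofNat 306, 41), (.ofNat 223, 42), (.ofNat 331, 43),
  (.ofNat 371, 44), (.ofNat 456, 45), (.ofNat 502, 46), (.ofNat 651, 47), (.ofNat 480, 48), (.ofNat 706, 49), (.ofNat
  691, 50), (.ofNat 525, 51), (.ofNat 998, 52), (.ofNat 893, 53), (.ofNat 960, 54), (.ofNat 1006, 55), (.ofNat 1258,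
  56), (.ofNat 1181, 57), (.ofNat 1095, 58), (.ofNat 1298, 59), (.ofNat 1209, 60), (.ofNat 1613, 61), (.ofNat 1559,
  62), (.ofNat 2164, 63), (.ofNat 1753, 64), (.ofNat 1807, 65), (.ofNat 2294, 66), (.ofNat 2128, 67), (.ofNat 2098,
  68), (.ofNat 2041, 69), (.ofNat 2170, 70), (.ofNat 2469, 71), (.ofNat 2451, 72), (.ofNat 2676, 73), (.ofNat 2634,
  74), (.ofNat 2418, 75), (.ofNat 2943, 76), (.ofNat 2882, 77), (.ofNat 3111, 78), (.ofNat 3235, 79), (.ofNat 3119,
  80), (.ofNat 3427, 81), (.ofNat 3239, 82), (.ofNat 3266, 83), (.ofNat 3699, 84), (.ofNat 3379, 85), (.ofNat 4120,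
  86), (.ofNat 4336, 87), (.ofNat 5348, 88), (.ofNat 5374, 89), (.ofNat 4832, 90), (.ofNat 5261, 91), (.ofNat 5482,
  92), (.ofNat 5690, 93), (.ofNat 5580, 94), (.ofNat 5729, 95), (.ofNat 6561, 96), (.ofNat 53, 97), (.negSucc 235,
  98), (.ofNat 220, 2)])) (.far (.ofNat 123) [(.ofNat 307, 8), (.ofNat 254, 9), (.ofNat 249, 12), (.ofNat 170, 13),
  (.ofNat 827, 14), (.ofNat 116, 18), (.ofNat 314, 20), (.ofNat 17, 21), (.ofNat 46, 22), (.negSucc 262, 23),
  (.negSucc 398, 24), (.ofNat 348, 25), (.ofNat 269, 26), (.negSucc 589, 27), (.ofNat 25, 28), (.ofNat 255, 29),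
  (.ofNat 122, 30), (.negSucc 178, 31), (.negSucc 203, 32), (.negSucc 418, 33), (.ofNat 110, 34), (.negSucc 479, 35),
  (.negSucc 691, 36), (.negSucc 229, 37), (.negSucc 153, 38), (.negSucc 600, 39), (.negSucc 239, 40), (.negSucc 130,
  41), (.ofNat 58, 42), (.negSucc 495, 43), (.negSucc 429, 44), (.negSucc 407, 45), (.negSucc 1148, 46), (.negSucc
  604, 47), (.negSucc 721, 48), (.negSucc 708, 49), (.negSucc 664, 50), (.negSucc 1036, 51), (.negSucc 571, 52),
  (.negSucc 856, 53), (.negSucc 598, 54), (.negSucc 798, 55), (.negSucc 824, 56), (.negSucc 790, 57), (.negSucc 1352,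
  58), (.negSucc 1094, 59), (.negSucc 1414, 60), (.negSucc 1770, 61), (.negSucc 1846, 62), (.negSucc 1910, 63),
  (.negSucc 2355, 64), (.negSucc 2227, 65), (.negSucc 2178, 66), (.negSucc 2315, 67), (.negSucc 2913, 68), (.negSucc
  2585, 69), (.negSucc 2755, 70), (.negSucc 2237, 71), (.negSucc 2373, 72), (.negSucc 2781, 73), (.negSucc 3125, 74),
  (.negSucc 2853, 75), (.negSucc 2969, 76), (.negSucc 3456, 77), (.negSucc 2719, 78), (.negSucc 3265, 79), (.negSucc
  3099, 80), (.negSucc 3405, 81), (.negSucc 3590, 82), (.negSucc 3759, 83), (.negSucc 3728, 84), (.negSucc 4596, 85),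
  (.negSucc 4793, 86), (.negSucc 4603, 87), (.negSucc 5259, 88), (.negSucc 5501, 89), (.negSucc 5378, 90), (.negSucc
  5627, 91), (.negSucc 5653, 92), (.negSucc 6187, 93), (.negSucc 5666, 94), (.negSucc 6193, 95), (.negSucc 6560, 96),
  (.ofNat 38, 97), (.ofNat 371, 98), (.ofNat 233, 1)])) (.far (.negSucc 8217) [(.ofNat 3106, 8), (.ofNat 3928, 10),
  (.ofNat 2019, 12), (.ofNat 3106, 13), (.ofNat 5136, 14), (.ofNat 19318, 18), (.ofNat 26328, 19), (.ofNat 7655, 20),
  (.ofNat 21106, 21), (.ofNat 19295, 22), (.ofNat 10266, 23), (.ofNat 5855, 24), (.ofNat 32700, 25), (.ofNat 35455,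
  26), (.ofNat 27530, 27), (.ofNat 37106, 28), (.ofNat 56883, 29), (.ofNat 83183, 30), (.ofNat 64043, 31), (.ofNat
  65803, 32), (.ofNat 122853, 33), (.ofNat 205501, 34), (.ofNat 206916, 35), (.ofNat 190899, 36), (.ofNat 151430,
  37), (.ofNat 198807, 38), (.ofNat 185384, 39), (.ofNat 162236, 40), (.ofNat 156485, 41), (.ofNat 209970, 42),
  (.ofNat 247461, 43), (.ofNat 378400, 44), (.ofNat 344906, 45), (.ofNat 364206, 46), (.ofNat 412164, 47), (.ofNat
  498619, 48), (.ofNat 479986, 49), (.ofNat 479296, 50), (.ofNat 460461, 51), (.ofNat 558700, 52), (.ofNat 546784,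
  53), (.ofNat 626603, 54), (.ofNat 709250, 55), (.ofNat 693320, 56), (.ofNat 806655, 57), (.ofNat 907396, 58),
  (.ofNat 878917, 59), (.ofNat 914826, 60), (.ofNat 1287113, 61), (.ofNat 1456498, 62), (.ofNat 1516688, 63), (.ofNat
  1560528, 64), (.ofNat 1524343, 65), (.ofNat 1633572, 66), (.ofNat 1784801, 67), (.ofNat 1783604, 68), (.ofNat
  1711958, 69), (.ofNat 1917661, 70), (.ofNat 1844738, 71), (.ofNat 1878094, 72), (.ofNat 2051786, 73), (.ofNat
  2032261, 74), (.ofNat 2118665, 75), (.ofNat 2169377, 76), (.ofNat 2242553, 77), (.ofNat 2296774, 78), (.ofNat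
  2339044, 79), (.ofNat 2475107, 80), (.ofNat 2538788, 81), (.ofNat 2512247, 82), (.ofNat 2621568, 83), (.ofNat
  2804376, 84), (.ofNat 3075336, 85), (.ofNat 3289527, 86), (.ofNat 3389652, 87), (.ofNat 3971764, 88), (.ofNat
  4054079, 89), (.ofNat 4159478, 90), (.ofNat 4127565, 91), (.ofNat 4309378, 92), (.ofNat 4296093, 93), (.ofNat
  4315118, 94), (.ofNat 4482277, 95), (.ofNat 4782969, 96), (.ofNat 12802, 97), (.ofNat 24390, 98)])) (.far (.negSucc
  221435) [(.ofNat 588748, 8), (.ofNat 551615, 13), (.ofNat 1303268, 14), (.ofNat 293337, 19), (.ofNat 855312, 20),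
  (.ofNat 516915, 21), (.ofNat 219252, 22), (.negSucc 23658, 23), (.negSucc 154561, 24), (.ofNat 1258573, 25),
  (.ofNat 1108247, 26), (.ofNat 3618, 27), (.ofNat 1771048, 28), (.ofNat 2830166, 29), (.ofNat 2995509, 30), (.ofNat
  1880847, 31), (.ofNat 2147446, 32), (.ofNat 3095528, 33), (.ofNat 5498482, 34), (.ofNat 5229752, 35), (.ofNat
  2758301, 36), (.ofNat 5784796, 37), (.ofNat 4833707, 38), (.ofNat 3763782, 39), (.ofNat 6062688, 40), (.ofNat
  5647169, 41), (.ofNat 5401247, 42), (.ofNat 6242376, 43), (.ofNat 8921053, 44), (.ofNat 7026976, 45), (.ofNat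
  9397522, 46), (.ofNat 12407801, 47), (.ofNat 11136266, 48), (.ofNat 13931194, 49), (.ofNat 13393362, 50), (.ofNat
  14405910, 51), (.ofNat 15902057, 52), (.ofNat 14228130, 53), (.ofNat 18408620, 54), (.ofNat 20329926, 55), (.ofNat
  17722385, 56), (.ofNat 20291644, 57), (.ofNat 21700178, 58), (.ofNat 22547831, 59), (.ofNat 27680164, 60), (.ofNat
  33217808, 61), (.ofNat 37537907, 62), (.ofNat 41216441, 63), (.ofNat 40015475, 64), (.ofNat 41572112, 65), (.ofNat
  44284930, 66), (.ofNat 47475649, 67), (.ofNat 47156692, 68), (.ofNat 44855917, 69), (.ofNat 48111686, 70), (.ofNat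
  49859884, 71), (.ofNat 50319968, 72), (.ofNat 54442851, 73), (.ofNat 54184490, 74), (.ofNat 59649642, 75), (.ofNat
  62069367, 76), (.ofNat 56501038, 77), (.ofNat 60573432, 78), (.ofNat 64287272, 79), (.ofNat 69947476, 80), (.ofNat
  67470281, 81), (.ofNat 68639078, 82), (.ofNat 73148465, 83), (.ofNat 76100008, 84), (.ofNat 82031579, 85), (.ofNat
  89338808, 86), (.ofNat 94803453, 87), (.ofNat 105826099, 88), (.ofNat 106620427, 89), (.ofNat 105062812, 90),
  (.ofNat 111868673, 91), (.ofNat 115691319, 92), (.ofNat 113989453, 93), (.ofNat 116703784, 94), (.ofNat 119113890,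
  95), (.ofNat 129140163, 96), (.ofNat 534917, 97), (.ofNat 1383270, 98)])) (.far (.negSucc 31280) [(.ofNat 51586,
  8), (.ofNat 94667, 12), (.ofNat 51586, 13), (.ofNat 316928, 14), (.ofNat 285646, 18), (.ofNat 703277, 20),
  (.negSucc 218418, 21), (.negSucc 76281, 22), (.ofNat 114698, 23), (.negSucc 301286, 24), (.ofNat 527938, 25),
  (.ofNat 714802, 26), (.negSucc 128142, 27), (.ofNat 1601102, 28), (.ofNat 2043703, 29), (.ofNat 2455297, 30),
  (.ofNat 2106814, 31), (.ofNat 2158400, 32), (.ofNat 1149720, 33), (.ofNat 3238698, 34), (.ofNat 4564306, 35),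
  (.ofNat 5213527, 36), (.ofNat 5509052, 37), (.ofNat 5804028, 38), (.ofNat 4922667, 39), (.ofNat 3750996, 40),
  (.ofNat 3800661, 41), (.ofNat 6700205, 42), (.ofNat 7596383, 43), (.ofNat 8775738, 44), (.ofNat 9316298, 45),
  (.ofNat 10976670, 46), (.ofNat 9806370, 47), (.ofNat 9330841, 48), (.ofNat 8496403, 49), (.ofNat 12596430, 50),
  (.ofNat 14377536, 51), (.ofNat 14930170, 52), (.ofNat 11723576, 53), (.ofNat 19992779, 54), (.ofNat 15219109, 55),
  (.ofNat 16847376, 56), (.ofNat 17427998, 57), (.ofNat 21958553, 58), (.ofNat 26043763, 59), (.ofNat 22808632, 60),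
  (.ofNat 34398028, 61), (.ofNat 38959590, 62), (.ofNat 39408777, 63), (.ofNat 39830798, 64), (.ofNat 40112054, 65),
  (.ofNat 43740120, 66), (.ofNat 40791733, 67), (.ofNat 46289535, 68), (.ofNat 45191676, 69), (.ofNat 46605365, 70),
  (.ofNat 44682122, 71), (.ofNat 54285165, 72), (.ofNat 49586679, 73), (.ofNat 60323527, 74), (.ofNat 59471526, 75),
  (.ofNat 52245029, 76), (.ofNat 57667920, 77), (.ofNat 65300250, 78), (.ofNat 63069683, 79), (.ofNat 70918237, 80),
  (.ofNat 70269564, 81), (.ofNat 68819929, 82), (.ofNat 72314913, 83), (.ofNat 75581051, 84), (.ofNat 85835784, 85),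
  (.ofNat 87876194, 86), (.ofNat 87727197, 87), (.ofNat 105819782, 88), (.ofNat 111030016, 89), (.ofNat 104255175,
  90), (.ofNat 111345572, 91), (.ofNat 113444154, 92), (.ofNat 116073418, 93), (.ofNat 115110287, 94), (.ofNat
  119026469, 95), (.ofNat 129140163, 96), (.ofNat 98920, 97), (.ofNat 677073, 98)]))) (.far (.ofNat 4182) [(.ofNat
  1040, 8), (.ofNat 567, 9), (.ofNat 18408, 12), (.ofNat 1040, 13), (.ofNat 15854, 14), (.ofNat 32443, 18), (.ofNat
  12974, 19), (.ofNat 41267, 20), (.ofNat 68195, 21), (.ofNat 12198, 22), (.ofNat 13259, 23), (.ofNat 71337, 24),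
  (.ofNat 57968, 25), (.ofNat 138860, 26), (.ofNat 139438, 27), (.ofNat 116389, 28), (.ofNat 227391, 29), (.ofNat
  223787, 30), (.ofNat 239610, 31), (.ofNat 310846, 32), (.ofNat 418806, 33), (.ofNat 513778, 34), (.ofNat 542712,
  35), (.ofNat 532065, 36), (.ofNat 514858, 37), (.ofNat 559373, 38), (.ofNat 623148, 39), (.ofNat 597285, 40),
  (.ofNat 669748, 41), (.ofNat 697445, 42), (.ofNat 778739, 43), (.ofNat 1040599, 44), (.ofNat 1018969, 45), (.ofNat
  1140806, 46), (.ofNat 1210071, 47), (.ofNat 1305941, 48), (.ofNat 1473286, 49), (.ofNat 1497431, 50), (.ofNat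
  1613147, 51), (.ofNat 1705683, 52), (.ofNat 1728837, 53), (.ofNat 2018713, 54), (.ofNat 2178172, 55), (.ofNat
  2224449, 56), (.ofNat 2395505, 57), (.ofNat 2676875, 58), (.ofNat 2670028, 59), (.ofNat 2806385, 60), (.ofNat
  3873514, 61), (.ofNat 4245886, 62), (.ofNat 4787246, 63), (.ofNat 4757588, 64), (.ofNat 4825936, 65), (.ofNat
  4893003, 66), (.ofNat 5210117, 67), (.ofNat 5254758, 68), (.ofNat 5443424, 69), (.ofNat 5462915, 70), (.ofNat
  5568915, 71), (.ofNat 5706033, 72), (.ofNat 6278163, 73), (.ofNat 6413915, 74), (.ofNat 6519279, 75), (.ofNat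
  6718743, 76), (.ofNat 6722987, 77), (.ofNat 6858052, 78), (.ofNat 7210599, 79), (.ofNat 7597904, 80), (.ofNat
  7869705, 81), (.ofNat 7890869, 82), (.ofNat 7980203, 83), (.ofNat 8486822, 84), (.ofNat 9336325, 85), (.ofNat
  10055590, 86), (.ofNat 10479887, 87), (.ofNat 12063721, 88), (.ofNat 12287392, 89), (.ofNat 12187135, 90), (.ofNat
  12592398, 91), (.ofNat 13036148, 92), (.ofNat 13081634, 93), (.ofNat 13082169, 94), (.ofNat 13562969, 95), (.ofNat
  14348907, 96), (.ofNat 33918, 97), (.ofNat 51985, 98)]))) (.far (.negSucc 18821) [(.ofNat 30520, 8), (.ofNat 15533,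
  13), (.ofNat 60007, 14), (.ofNat 6336, 18), (.ofNat 10112, 19), (.ofNat 61038, 20), (.ofNat 66379, 21), (.ofNat
  110056, 22), (.ofNat 61320, 23), (.ofNat 17037, 24), (.ofNat 99315, 25), (.ofNat 108460, 26), (.ofNat 72567, 27),
  (.ofNat 149939, 28), (.ofNat 235995, 29), (.ofNat 250208, 30), (.ofNat 281781, 31), (.ofNat 309201, 32), (.ofNat
  399361, 33), (.ofNat 476932, 34), (.ofNat 528594, 35), (.ofNat 559260, 36), (.ofNat 585812, 37), (.ofNat 551291,
  38), (.ofNat 622807, 39), (.ofNat 580357, 40), (.ofNat 578180, 41), (.ofNat 618696, 42), (.ofNat 806635, 43),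
  (.ofNat 1015722, 44), (.ofNat 920460, 45), (.ofNat 1094513, 46), (.ofNat 1305394, 47), (.ofNat 1164632, 48),
  (.ofNat 1573682, 49), (.ofNat 1511277, 50), (.ofNat 1500811, 51), (.ofNat 1774314, 52), (.ofNat 1824657, 53),
  (.ofNat 2076129, 54), (.ofNat 2213637, 55), (.ofNat 2293577, 56), (.ofNat 2402215, 57), (.ofNat 2679722, 58),
  (.ofNat 2784693, 59), (.ofNat 2796996, 60), (.ofNat 4056442, 61), (.ofNat 4233863, 62), (.ofNat 4844001, 63),
  (.ofNat 4824743, 64), (.ofNat 4584610, 65), (.ofNat 4984668, 66), (.ofNat 5160349, 67), (.ofNat 5297369, 68),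
  (.ofNat 5348902, 69), (.ofNat 5515804, 70), (.ofNat 5655892, 71), (.ofNat 5774147, 72), (.ofNat 6299119, 73),
  (.ofNat 6380439, 74), (.ofNat 6544935, 75), (.ofNat 6810263, 76), (.ofNat 6986863, 77), (.ofNat 6997489, 78),
  (.ofNat 7381319, 79), (.ofNat 7656851, 80), (.ofNat 7814401, 81), (.ofNat 7797520, 82), (.ofNat 8098787, 83),
  (.ofNat 8513349, 84), (.ofNat 9194184, 85), (.ofNat 10041663, 86), (.ofNat 10362378, 87), (.ofNat 12365153, 88),
  (.ofNat 12218992, 89), (.ofNat 12063180, 90), (.ofNat 12552510, 91), (.ofNat 12987811, 92), (.ofNat 13066731, 93),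
  (.ofNat 13277846, 94), (.ofNat 13537327, 95), (.ofNat 14348907, 96), (.ofNat 84842, 98)])) (.far (.ofNat 5250)
  [(.ofNat 10512, 8), (.ofNat 40484, 13), (.ofNat 93507, 14), (.ofNat 40343, 16), (.ofNat 26735, 18), (.ofNat 54979,
  20), (.negSucc 217564, 21), (.ofNat 113012, 22), (.ofNat 108350, 23), (.negSucc 182484, 24), (.ofNat 35255, 25),
  (.ofNat 308569, 26), (.ofNat 56813, 27), (.ofNat 381835, 28), (.ofNat 700141, 29), (.ofNat 746349, 30), (.ofNat
  768006, 31), (.ofNat 936703, 32), (.ofNat 673389, 33), (.ofNat 1091223, 34), (.ofNat 1625899, 35), (.ofNat 1538937,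
  36), (.ofNat 1683419, 37), (.ofNat 1899691, 38), (.ofNat 1635477, 39), (.ofNat 1951408, 40), (.ofNat 1725299, 41),
  (.ofNat 1662402, 42), (.ofNat 2599391, 43), (.ofNat 3437560, 44), (.ofNat 3332850, 45), (.ofNat 3107833, 46),
  (.ofNat 3788570, 47), (.ofNat 3429603, 48), (.ofNat 3718222, 49), (.ofNat 4776838, 50), (.ofNat 4741063, 51),
  (.ofNat 4568831, 52), (.ofNat 4672750, 53), (.ofNat 5481361, 54), (.ofNat 6519760, 55), (.ofNat 7056228, 56),
  (.ofNat 6963835, 57), (.ofNat 7672762, 58), (.ofNat 8364518, 59), (.ofNat 8387887, 60), (.ofNat 11631284, 61),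
  (.ofNat 12741783, 62), (.ofNat 14755811, 63), (.ofNat 14441710, 64), (.ofNat 14725964, 65), (.ofNat 14923650, 66),
  (.ofNat 15965024, 67), (.ofNat 15890980, 68), (.ofNat 16102712, 69), (.ofNat 16695941, 70), (.ofNat 16368794, 71),
  (.ofNat 16723917, 72), (.ofNat 18909947, 73), (.ofNat 18901334, 74), (.ofNat 19846731, 75), (.ofNat 20174633, 76),
  (.ofNat 19998150, 77), (.ofNat 20888635, 78), (.ofNat 22100359, 79), (.ofNat 22575994, 80), (.ofNat 23436675, 81),
  (.ofNat 23628630, 82), (.ofNat 23755905, 83), (.ofNat 25324045, 84), (.ofNat 28046859, 85), (.ofNat 30605491, 86),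
  (.ofNat 31703809, 87), (.ofNat 36701793, 88), (.ofNat 36710989, 89), (.ofNat 36667409, 90), (.ofNat 37788717, 91),
  (.ofNat 39561243, 92), (.ofNat 39239874, 93), (.ofNat 40075128, 94), (.ofNat 40304363, 95), (.ofNat 43046721, 96),
  (.ofNat 63855, 97), (.ofNat 213819, 98)])) (.far (.negSucc 34557) [(.ofNat 114442, 5), (.ofNat 380496, 8), (.ofNat
  375439, 9), (.ofNat 752166, 13), (.ofNat 400248, 14), (.ofNat 333998, 19), (.ofNat 483115, 20), (.ofNat 1216127,
  21), (.ofNat 1555479, 22), (.ofNat 1777287, 23), (.ofNat 1067751, 24), (.ofNat 1540793, 25), (.ofNat 788010, 26),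
  (.ofNat 3227611, 27), (.ofNat 4287063, 28), (.ofNat 3016791, 29), (.ofNat 4136685, 30), (.ofNat 4092911, 31),
  (.ofNat 7085322, 32), (.ofNat 11719359, 33), (.ofNat 15182865, 34), (.ofNat 10216188, 35), (.ofNat 10900154, 36),
  (.ofNat 15364576, 37), (.ofNat 17069080, 38), (.ofNat 15414480, 39), (.ofNat 17656415, 40), (.ofNat 16381224, 41),
  (.ofNat 17291224, 42), (.ofNat 18437038, 43), (.ofNat 23556931, 44), (.ofNat 27771705, 45), (.ofNat 25387311, 46),
  (.ofNat 28791481, 47), (.ofNat 35158975, 48), (.ofNat 38009385, 49), (.ofNat 35073303, 50), (.ofNat 36745131, 51),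
  (.ofNat 48163557, 52), (.ofNat 48341364, 53), (.ofNat 55136249, 54), (.ofNat 60771155, 55), (.ofNat 56224447, 56),
  (.ofNat 64329326, 57), (.ofNat 63313805, 58), (.ofNat 72320426, 59), (.ofNat 70684067, 60), (.ofNat 100026182, 61),
  (.ofNat 106012417, 62), (.ofNat 128885409, 63), (.ofNat 130113838, 64), (.ofNat 134687503, 65), (.ofNat 127634688,
  66), (.ofNat 144987828, 67), (.ofNat 148090616, 68), (.ofNat 145478414, 69), (.ofNat 143485531, 70), (.ofNat
  149247738, 71), (.ofNat 150747334, 72), (.ofNat 172176105, 73), (.ofNat 175372420, 74), (.ofNat 170913440, 75),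
  (.ofNat 182802050, 76), (.ofNat 186653847, 77), (.ofNat 189949345, 78), (.ofNat 194351321, 79), (.ofNat 211500875,
  80), (.ofNat 201075008, 81), (.ofNat 208431909, 82), (.ofNat 216659373, 83), (.ofNat 224489023, 84), (.ofNat
  257573178, 85), (.ofNat 277863567, 86), (.ofNat 283900456, 87), (.ofNat 330639183, 88), (.ofNat 336920067, 89),
  (.ofNat 330139378, 90), (.ofNat 338265470, 91), (.ofNat 347954322, 92), (.ofNat 356662475, 93), (.ofNat 358247689,
  94), (.ofNat 371794341, 95), (.ofNat 387420489, 96), (.ofNat 539558, 97), (.ofNat 2142759, 98)])) (.far (.negSucc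
  6962) [(.ofNat 1724, 8), (.ofNat 21703, 13), (.ofNat 8569, 14), (.ofNat 2497, 15), (.ofNat 3637, 16), (.ofNat
  16395, 19), (.ofNat 16874, 20), (.ofNat 10137, 21), (.ofNat 15355, 22), (.ofNat 12835, 23), (.ofNat 7067, 24),
  (.ofNat 36814, 25), (.ofNat 43309, 26), (.ofNat 45355, 27), (.ofNat 25444, 28), (.ofNat 100671, 29), (.ofNat 69985,
  30), (.ofNat 67643, 31), (.ofNat 82210, 32), (.ofNat 130440, 33), (.ofNat 161933, 34), (.ofNat 184034, 35), (.ofNat
  175028, 36), (.ofNat 205610, 37), (.ofNat 199957, 38), (.ofNat 209221, 39), (.ofNat 214925, 40), (.ofNat 207437,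
  41), (.ofNat 217751, 42), (.ofNat 269649, 43), (.ofNat 336161, 44), (.ofNat 375651, 45), (.ofNat 358645, 46),
  (.ofNat 397721, 47), (.ofNat 446746, 48), (.ofNat 471398, 49), (.ofNat 495824, 50), (.ofNat 521606, 51), (.ofNat
  583948, 52), (.ofNat 559750, 53), (.ofNat 664094, 54), (.ofNat 733842, 55), (.ofNat 746922, 56), (.ofNat 831677,
  57), (.ofNat 853559, 58), (.ofNat 910920, 59), (.ofNat 944893, 60), (.ofNat 1296925, 61), (.ofNat 1403469, 62),
  (.ofNat 1572343, 63), (.ofNat 1563973, 64), (.ofNat 1588483, 65), (.ofNat 1656072, 66), (.ofNat 1723114, 67),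
  (.ofNat 1737963, 68), (.ofNat 1769583, 69), (.ofNat 1764557, 70), (.ofNat 1842147, 71), (.ofNat 1873998, 72),
  (.ofNat 2076903, 73), (.ofNat 2103849, 74), (.ofNat 2115853, 75), (.ofNat 2196548, 76), (.ofNat 2212597, 77),
  (.ofNat 2278257, 78), (.ofNat 2401698, 79), (.ofNat 2481082, 80), (.ofNat 2567887, 81), (.ofNat 2578792, 82),
  (.ofNat 2611174, 83), (.ofNat 2803284, 84), (.ofNat 3052288, 85), (.ofNat 3307121, 86), (.ofNat 3438554, 87),
  (.ofNat 3932992, 88), (.ofNat 4046905, 89), (.ofNat 3977155, 90), (.ofNat 4127932, 91), (.ofNat 4275030, 92),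
  (.ofNat 4324274, 93), (.ofNat 4320211, 94), (.ofNat 4461469, 95), (.ofNat 4782969, 96), (.ofNat 7560, 97),
  (.negSucc 430, 98)])) (.far (.negSucc 4028) [(.ofNat 336, 12), (.ofNat 547, 13), (.ofNat 1237, 14), (.ofNat 6999,
  20), (.negSucc 3671, 21), (.ofNat 1550, 22), (.ofNat 14402, 23), (.negSucc 9552, 24), (.ofNat 3034, 25), (.ofNat
  2050, 26), (.ofNat 15436, 27), (.ofNat 8946, 28), (.ofNat 45321, 29), (.ofNat 45282, 30), (.ofNat 15155, 31),
  (.ofNat 36306, 32), (.ofNat 20381, 33), (.ofNat 47857, 34), (.ofNat 64258, 35), (.ofNat 62369, 36), (.ofNat 53704,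
  37), (.ofNat 68435, 38), (.ofNat 75556, 39), (.ofNat 72141, 40), (.ofNat 77705, 41), (.ofNat 74782, 42), (.ofNat
  83254, 43), (.ofNat 114757, 44), (.ofNat 114013, 45), (.ofNat 134855, 46), (.ofNat 118883, 47), (.ofNat 149297,
  48), (.ofNat 166634, 49), (.ofNat 165871, 50), (.ofNat 170246, 51), (.ofNat 184968, 52), (.ofNat 179837, 53),
  (.ofNat 222144, 54), (.ofNat 242572, 55), (.ofNat 246059, 56), (.ofNat 258490, 57), (.ofNat 291823, 58), (.ofNat
  299271, 59), (.ofNat 320659, 60), (.ofNat 450002, 61), (.ofNat 459821, 62), (.ofNat 532663, 63), (.ofNat 550126,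
  64), (.ofNat 539389, 65), (.ofNat 564015, 66), (.ofNat 583145, 67), (.ofNat 583288, 68), (.ofNat 603157, 69),
  (.ofNat 613930, 70), (.ofNat 629506, 71), (.ofNat 630831, 72), (.ofNat 709632, 73), (.ofNat 708289, 74), (.ofNat
  725631, 75), (.ofNat 755654, 76), (.ofNat 750273, 77), (.ofNat 784789, 78), (.ofNat 812353, 79), (.ofNat 870848,
  80), (.ofNat 863582, 81), (.ofNat 874786, 82), (.ofNat 897066, 83), (.ofNat 962659, 84), (.ofNat 1036025, 85),
  (.ofNat 1119113, 86), (.ofNat 1166716, 87), (.ofNat 1338351, 88), (.ofNat 1367444, 89), (.ofNat 1365017, 90),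
  (.ofNat 1403661, 91), (.ofNat 1444061, 92), (.ofNat 1446574, 93), (.ofNat 1452364, 94), (.ofNat 1510824, 95),
  (.ofNat 1594323, 96), (.ofNat 2804, 97), (.ofNat 1242, 98)])) (.far (.ofNat 48151) [(.ofNat 119957, 9), (.ofNat
  456068, 13), (.ofNat 27761, 15), (.ofNat 313369, 19), (.ofNat 178321, 20), (.ofNat 458595, 21), (.ofNat 496358,
  22), (.ofNat 585711, 23), (.ofNat 721251, 24), (.ofNat 777264, 25), (.ofNat 728340, 26), (.ofNat 1305418, 27),
  (.ofNat 1276991, 28), (.ofNat 2078014, 29), (.ofNat 2158383, 30), (.ofNat 2199269, 31), (.ofNat 2703103, 32),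
  (.ofNat 3421932, 33), (.ofNat 4771395, 34), (.ofNat 4907882, 35), (.ofNat 4751847, 36), (.ofNat 5048475, 37),
  (.ofNat 5465517, 38), (.ofNat 5633801, 39), (.ofNat 5755162, 40), (.ofNat 5787871, 41), (.ofNat 6125702, 42),
  (.ofNat 7451230, 43), (.ofNat 9466668, 44), (.ofNat 9776247, 45), (.ofNat 10434922, 46), (.ofNat 10805848, 47),
  (.ofNat 12035530, 48), (.ofNat 12935593, 49), (.ofNat 13431951, 50), (.ofNat 14006397, 51), (.ofNat 15501121, 52),
  (.ofNat 15533970, 53), (.ofNat 18204504, 54), (.ofNat 20109462, 55), (.ofNat 20175617, 56), (.ofNat 21239928, 57),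
  (.ofNat 23466818, 58), (.ofNat 24938624, 59), (.ofNat 25824158, 60), (.ofNat 35425242, 61), (.ofNat 38173268, 62),
  (.ofNat 43145410, 63), (.ofNat 43458042, 64), (.ofNat 43458183, 65), (.ofNat 44773743, 66), (.ofNat 47122380, 67),
  (.ofNat 47763332, 68), (.ofNat 48506518, 69), (.ofNat 49375556, 70), (.ofNat 50490054, 71), (.ofNat 51373026, 72),
  (.ofNat 56622319, 73), (.ofNat 57576219, 74), (.ofNat 59014474, 75), (.ofNat 60341967, 76), (.ofNat 60616871, 77),
  (.ofNat 62438196, 78), (.ofNat 65597051, 79), (.ofNat 69024072, 80), (.ofNat 70271898, 81), (.ofNat 70743548, 82),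
  (.ofNat 72169625, 83), (.ofNat 76536122, 84), (.ofNat 84128120, 85), (.ofNat 90689534, 86), (.ofNat 94239811, 87),
  (.ofNat 108419159, 88), (.ofNat 110121159, 89), (.ofNat 109992428, 90), (.ofNat 113190204, 91), (.ofNat 117490756,
  92), (.ofNat 117848977, 93), (.ofNat 118193581, 94), (.ofNat 122131981, 95), (.ofNat 129140163, 96), (.ofNat
  428553, 98)])) (.far (.negSucc 5494) [(.ofNat 149, 9), (.ofNat 547, 13), (.ofNat 6190, 19), (.ofNat 9510, 20),
  (.ofNat 2175, 21), (.ofNat 2617, 22), (.ofNat 11539, 23), (.negSucc 3318, 24), (.ofNat 7628, 25), (.ofNat 9507,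
  26), (.ofNat 22960, 27), (.ofNat 11564, 28), (.ofNat 41612, 29), (.ofNat 16231, 30), (.ofNat 34398, 31), (.ofNat
  28704, 32), (.ofNat 30759, 33), (.ofNat 61352, 34), (.ofNat 68435, 35), (.ofNat 41165, 36), (.ofNat 74683, 37),
  (.ofNat 64000, 38), (.ofNat 75541, 39), (.ofNat 63380, 40), (.ofNat 69782, 41), (.ofNat 72948, 42), (.ofNat 89597,
  43), (.ofNat 114765, 44), (.ofNat 119568, 45), (.ofNat 129072, 46), (.ofNat 131199, 47), (.ofNat 134397, 48),
  (.ofNat 166117, 49), (.ofNat 168381, 50), (.ofNat 168266, 51), (.ofNat 192289, 52), (.ofNat 196527, 53), (.ofNat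
  221094, 54), (.ofNat 278411, 55), (.ofNat 257617, 56), (.ofNat 253994, 57), (.ofNat 298367, 58), (.ofNat 328465,
  59), (.ofNat 326866, 60), (.ofNat 423029, 61), (.ofNat 471521, 62), (.ofNat 520741, 63), (.ofNat 542407, 64),
  (.ofNat 543127, 65), (.ofNat 542050, 66), (.ofNat 572647, 67), (.ofNat 577674, 68), (.ofNat 584171, 69), (.ofNat
  613667, 70), (.ofNat 623679, 71), (.ofNat 642394, 72), (.ofNat 695614, 73), (.ofNat 700243, 74), (.ofNat 731788,
  75), (.ofNat 750173, 76), (.ofNat 749122, 77), (.ofNat 783722, 78), (.ofNat 801321, 79), (.ofNat 869410, 80),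
  (.ofNat 862824, 81), (.ofNat 880322, 82), (.ofNat 883011, 83), (.ofNat 949792, 84), (.ofNat 1031575, 85), (.ofNat
  1114854, 86), (.ofNat 1170651, 87), (.ofNat 1344210, 88), (.ofNat 1353857, 89), (.ofNat 1362878, 90), (.ofNat
  1417539, 91), (.ofNat 1448879, 92), (.ofNat 1449009, 93), (.ofNat 1464325, 94), (.ofNat 1510361, 95), (.ofNat
  1594323, 96), (.ofNat 7097, 97), (.ofNat 754, 98)]))) (.far (.negSucc 338) [(.ofNat 1516, 8), (.ofNat 918, 9),
  (.ofNat 2503, 13), (.ofNat 2340, 14), (.ofNat 983, 15), (.ofNat 5131, 19), (.ofNat 7467, 20), (.ofNat 4007, 21),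
  (.ofNat 4607, 22), (.ofNat 4366, 23), (.ofNat 4406, 24), (.ofNat 9550, 25), (.ofNat 13235, 26), (.ofNat 13871, 27),
  (.ofNat 12750, 28), (.ofNat 32129, 29), (.ofNat 29121, 30), (.ofNat 25388, 31), (.ofNat 31036, 32), (.ofNat 41986,
  33), (.ofNat 61289, 34), (.ofNat 61356, 35), (.ofNat 58456, 36), (.ofNat 61720, 37), (.ofNat 65161, 38), (.ofNat
  67059, 39), (.ofNat 70779, 40), (.ofNat 71484, 41), (.ofNat 76972, 42), (.ofNat 91256, 43), (.ofNat 117342, 44),
  (.ofNat 121886, 45), (.ofNat 124977, 46), (.ofNat 134885, 47), (.ofNat 148023, 48), (.ofNat 165265, 49), (.ofNat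
  166754, 50), (.ofNat 173957, 51), (.ofNat 194886, 52), (.ofNat 191482, 53), (.ofNat 222907, 54), (.ofNat 250482,
  55), (.ofNat 250931, 56), (.ofNat 259991, 57), (.ofNat 294703, 58), (.ofNat 314373, 59), (.ofNat 320794, 60),
  (.ofNat 435424, 61), (.ofNat 469629, 62), (.ofNat 531768, 63), (.ofNat 541941, 64), (.ofNat 539235, 65), (.ofNat
  556576, 66), (.ofNat 588922, 67), (.ofNat 584545, 68), (.ofNat 598205, 69), (.ofNat 612469, 70), (.ofNat 628221,
  71), (.ofNat 641430, 72), (.ofNat 700258, 73), (.ofNat 711991, 74), (.ofNat 733426, 75), (.ofNat 749450, 76),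
  (.ofNat 750176, 77), (.ofNat 783956, 78), (.ofNat 813340, 79), (.ofNat 858194, 80), (.ofNat 870669, 81), (.ofNat
  877256, 82), (.ofNat 898685, 83), (.ofNat 947233, 84), (.ofNat 1044147, 85), (.ofNat 1118393, 86), (.ofNat 1174203,
  87), (.ofNat 1349076, 88), (.ofNat 1366052, 89), (.ofNat 1362606, 90), (.ofNat 1406281, 91), (.ofNat 1456927, 92),
  (.ofNat 1456044, 93), (.ofNat 1470227, 94), (.ofNat 1516416, 95), (.ofNat 1594323, 96), (.ofNat 4435, 97), (.ofNat
  4810, 98)])))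

/-- certificates -/
noncomputable def CL9 : List (Hd × Tr) :=
  [c58]

theorem okC9 : okL TAB.Co1.D (TAB.Sm2.mkRows TAB.Co1.RA TAB.Co1.RB) P Z CL9 = true := by decide +kernel

end Cfsg.Agent.SM.Sp.NCo1
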