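import Cfsg.Agent.SM.Sp.NCo1D

/-!
# SM (S3570), sporadic socles: Co1, certificates (helper26; generated by notes/SM/sp26/gen3.py.txt)
-/

set_option autoImplicit false
set_option Elab.async false

namespace Cfsg.Agent.SM.Sp.NCo1

open Cfsg Cfsg.Agent.TAB.Eng Cfsg.Agent.H940.Eng Cfsg.Agent.TH.Spor

/-- a certificate -/
noncomputable def c59 : Hd × Tr :=
  ((2037934080000, [], []), (.bf 57 11 (.bf 26 231 (.bf 26 161 (.far (.negSucc 487697) [(.ofNat 807814, 8), (.ofNat
  258472, 13), (.ofNat 1226228, 14), (.ofNat 515963, 19), (.ofNat 920181, 20), (.ofNat 72846, 22), (.negSucc 1558351,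
  23), (.negSucc 1507786, 24), (.negSucc 187264, 25), (.ofNat 182586, 26), (.negSucc 934523, 27), (.negSucc 469027,
  28), (.ofNat 1648386, 29), (.ofNat 245026, 30), (.negSucc 55501, 31), (.negSucc 531970, 32), (.ofNat 226739, 33),
  (.ofNat 712860, 34), (.negSucc 334263, 35), (.negSucc 353486, 36), (.ofNat 1771493, 37), (.ofNat 1089370, 38),
  (.ofNat 136350, 39), (.ofNat 254845, 40), (.ofNat 1136575, 41), (.ofNat 389853, 42), (.ofNat 543309, 43), (.ofNat
  1253826, 44), (.ofNat 1226213, 45), (.negSucc 1140761, 46), (.ofNat 1676220, 47), (.ofNat 738707, 48), (.ofNat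
  1657934, 49), (.ofNat 1421598, 50), (.ofNat 1117602, 51), (.ofNat 2294439, 52), (.ofNat 1770351, 53), (.ofNat
  1977315, 54), (.ofNat 2771835, 55), (.ofNat 2450616, 56), (.ofNat 3484515, 57), (.ofNat 2888534, 58), (.ofNat
  3112389, 59), (.ofNat 2868614, 60), (.ofNat 3644369, 61), (.ofNat 3690463, 62), (.ofNat 4013134, 63), (.ofNat
  3352137, 64), (.ofNat 4803435, 65), (.ofNat 4873154, 66), (.ofNat 4959555, 67), (.ofNat 3377203, 68), (.ofNat
  3855673, 69), (.ofNat 3087269, 70), (.ofNat 4398907, 71), (.ofNat 4451946, 72), (.ofNat 5470226, 73), (.ofNat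
  4906641, 74), (.ofNat 5483453, 75), (.ofNat 5844548, 76), (.ofNat 6172655, 77), (.ofNat 7648425, 78), (.ofNat
  6185102, 79), (.ofNat 6548432, 80), (.ofNat 7216160, 81), (.ofNat 6502529, 82), (.ofNat 6226043, 83), (.ofNat
  7913396, 84), (.ofNat 6570166, 85), (.ofNat 7889252, 86), (.ofNat 9335478, 87), (.ofNat 9923460, 88), (.ofNat
  11161032, 89), (.ofNat 9328021, 90), (.ofNat 11157782, 91), (.ofNat 11613271, 92), (.ofNat 11360817, 93), (.ofNat
  11152245, 94), (.ofNat 12235611, 95), (.ofNat 14348907, 96), (.ofNat 784247, 97), (.ofNat 63291, 98)]) (.bf 27 7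
  (.bf 16 7 (.far (.negSucc 1622) [(.ofNat 269, 2), (.ofNat 1363, 8), (.ofNat 117, 9), (.ofNat 1325, 13), (.ofNat
  1273, 14), (.ofNat 976, 20), (.negSucc 577, 22), (.negSucc 604, 23), (.negSucc 2186, 24), (.ofNat 191, 25),
  (.negSucc 1160, 26), (.negSucc 901, 27), (.negSucc 133, 28), (.negSucc 764, 30), (.negSucc 166, 31), (.ofNat 924,
  32), (.negSucc 497, 33), (.ofNat 235, 34), (.negSucc 1147, 36), (.ofNat 505, 37), (.ofNat 462, 38), (.negSucc 392,
  39), (.ofNat 493, 40), (.ofNat 789, 41), (.negSucc 130, 42), (.ofNat 1204, 44), (.negSucc 1210, 45), (.negSucc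
  1742, 46), (.negSucc 1166, 48), (.ofNat 287, 49), (.ofNat 834, 50), (.ofNat 362, 51), (.ofNat 393, 52), (.ofNat
  161, 53), (.negSucc 84, 54), (.ofNat 831, 55), (.ofNat 519, 56), (.ofNat 1691, 57), (.ofNat 247, 58), (.ofNat 1079,
  59), (.ofNat 348, 60), (.ofNat 418, 61), (.ofNat 1338, 62), (.negSucc 436, 63), (.negSucc 781, 64), (.ofNat 505,
  65), (.negSucc 747, 66), (.negSucc 164, 67), (.negSucc 662, 68), (.negSucc 1563, 69), (.negSucc 202, 70), (.negSucc
  1238, 71), (.ofNat 608, 73), (.negSucc 586, 74), (.negSucc 620, 75), (.negSucc 122, 76), (.ofNat 45, 77), (.ofNat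
  222, 78), (.ofNat 125, 79), (.ofNat 676, 80), (.negSucc 455, 81), (.ofNat 180, 82), (.ofNat 490, 83), (.ofNat 680,
  84), (.ofNat 247, 85), (.negSucc 707, 86), (.ofNat 896, 88), (.negSucc 55, 89), (.ofNat 504, 90), (.ofNat 29, 91),
  (.negSucc 635, 92), (.negSucc 507, 93), (.negSucc 269, 94), (.ofNat 333, 95), (.negSucc 85, 96), (.ofNat 536, 97),
  (.ofNat 173, 98)]) (.far (.negSucc 7882) [(.ofNat 1607, 8), (.ofNat 18260, 13), (.ofNat 8047, 14), (.ofNat 5642,
  15), (.ofNat 5551, 16), (.ofNat 17054, 19), (.ofNat 19694, 20), (.ofNat 11339, 21), (.ofNat 15377, 22), (.ofNat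
  12802, 23), (.ofNat 6834, 24), (.ofNat 33266, 25), (.ofNat 44017, 26), (.ofNat 48598, 27), (.ofNat 25347, 28),
  (.ofNat 94856, 29), (.ofNat 71897, 30), (.ofNat 67008, 31), (.ofNat 84339, 32), (.ofNat 134018, 33), (.ofNat
  161278, 34), (.ofNat 182345, 35), (.ofNat 180005, 36), (.ofNat 205845, 37), (.ofNat 200499, 38), (.ofNat 209566,
  39), (.ofNat 212796, 40), (.ofNat 209899, 41), (.ofNat 218011, 42), (.ofNat 270123, 43), (.ofNat 337754, 44),
  (.ofNat 372545, 45), (.ofNat 362302, 46), (.ofNat 398973, 47), (.ofNat 446247, 48), (.ofNat 472433, 49), (.ofNat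
  498168, 50), (.ofNat 520620, 51), (.ofNat 582417, 52), (.ofNat 563854, 53), (.ofNat 664898, 54), (.ofNat 727039,
  55), (.ofNat 747722, 56), (.ofNat 826497, 57), (.ofNat 856924, 58), (.ofNat 909971, 59), (.ofNat 944455, 60),
  (.ofNat 1295993, 61), (.ofNat 1403063, 62), (.ofNat 1575159, 63), (.ofNat 1566303, 64), (.ofNat 1594004, 65),
  (.ofNat 1659179, 66), (.ofNat 1725914, 67), (.ofNat 1744051, 68), (.ofNat 1772147, 69), (.ofNat 1769962, 70),
  (.ofNat 1843244, 71), (.ofNat 1877570, 72), (.ofNat 2074331, 73), (.ofNat 2110263, 74), (.ofNat 2121060, 75),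
  (.ofNat 2201069, 76), (.ofNat 2215596, 77), (.ofNat 2283660, 78), (.ofNat 2403758, 79), (.ofNat 2484362, 80),
  (.ofNat 2568418, 81), (.ofNat 2582272, 82), (.ofNat 2620824, 83), (.ofNat 2804858, 84), (.ofNat 3051350, 85),
  (.ofNat 3310284, 86), (.ofNat 3444701, 87), (.ofNat 3942911, 88), (.ofNat 4050671, 89), (.ofNat 3988616, 90),
  (.ofNat 4136685, 91), (.ofNat 4285051, 92), (.ofNat 4328019, 93), (.ofNat 4324814, 94), (.ofNat 4471128, 95),
  (.ofNat 4782969, 96), (.ofNat 9021, 97), (.negSucc 2279, 98)])) (.far (.negSucc 6996) [(.ofNat 347, 13), (.ofNat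
  7344, 19), (.ofNat 10546, 20), (.ofNat 1945, 21), (.ofNat 2045, 22), (.ofNat 9079, 23), (.negSucc 5051, 24),
  (.ofNat 6123, 25), (.ofNat 9637, 26), (.ofNat 22358, 27), (.ofNat 11785, 28), (.ofNat 39911, 29), (.ofNat 14615,
  30), (.ofNat 34344, 31), (.ofNat 29783, 32), (.ofNat 31334, 33), (.ofNat 61343, 34), (.ofNat 69863, 35), (.ofNat
  40580, 36), (.ofNat 73886, 37), (.ofNat 64102, 38), (.ofNat 74009, 39), (.ofNat 64850, 40), (.ofNat 70464, 41),
  (.ofNat 73037, 42), (.ofNat 90555, 43), (.ofNat 114252, 44), (.ofNat 117872, 45), (.ofNat 128993, 46), (.ofNat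
  130841, 47), (.ofNat 134093, 48), (.ofNat 167662, 49), (.ofNat 169753, 50), (.ofNat 169038, 51), (.ofNat 191500,
  52), (.ofNat 196080, 53), (.ofNat 220936, 54), (.ofNat 275763, 55), (.ofNat 256025, 56), (.ofNat 255128, 57),
  (.ofNat 298741, 58), (.ofNat 330797, 59), (.ofNat 325632, 60), (.ofNat 421693, 61), (.ofNat 471609, 62), (.ofNat
  522095, 63), (.ofNat 541479, 64), (.ofNat 542795, 65), (.ofNat 539565, 66), (.ofNat 573124, 67), (.ofNat 577279,
  68), (.ofNat 582666, 69), (.ofNat 612399, 70), (.ofNat 624014, 71), (.ofNat 640840, 72), (.ofNat 694944, 73),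
  (.ofNat 699631, 74), (.ofNat 730505, 75), (.ofNat 747883, 76), (.ofNat 748340, 77), (.ofNat 782812, 78), (.ofNat
  802917, 79), (.ofNat 868294, 80), (.ofNat 861414, 81), (.ofNat 878706, 82), (.ofNat 884379, 83), (.ofNat 949925,
  84), (.ofNat 1029395, 85), (.ofNat 1113996, 86), (.ofNat 1169699, 87), (.ofNat 1343475, 88), (.ofNat 1352689, 89),
  (.ofNat 1361902, 90), (.ofNat 1414351, 91), (.ofNat 1446851, 92), (.ofNat 1448748, 93), (.ofNat 1461347, 94),
  (.ofNat 1508153, 95), (.ofNat 1594323, 96), (.ofNat 9512, 97), (.ofNat 966, 98)]))) (.far (.negSucc 4573) [(.ofNat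
  4947, 9), (.ofNat 44491, 13), (.ofNat 9087, 15), (.ofNat 56072, 19), (.ofNat 31843, 20), (.ofNat 58657, 21),
  (.ofNat 46644, 22), (.ofNat 73958, 23), (.ofNat 52023, 24), (.ofNat 96328, 25), (.ofNat 102523, 26), (.ofNat
  162588, 27), (.ofNat 140329, 28), (.ofNat 249953, 29), (.ofNat 243844, 30), (.ofNat 257170, 31), (.ofNat 310043,
  32), (.ofNat 363504, 33), (.ofNat 526470, 34), (.ofNat 576082, 35), (.ofNat 529386, 36), (.ofNat 555942, 37),
  (.ofNat 606330, 38), (.ofNat 626661, 39), (.ofNat 641374, 40), (.ofNat 638589, 41), (.ofNat 680484, 42), (.ofNat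
  843132, 43), (.ofNat 1037565, 44), (.ofNat 1066020, 45), (.ofNat 1187445, 46), (.ofNat 1190369, 47), (.ofNat
  1345784, 48), (.ofNat 1450193, 49), (.ofNat 1512795, 50), (.ofNat 1551905, 51), (.ofNat 1697914, 52), (.ofNat
  1726683, 53), (.ofNat 2010704, 54), (.ofNat 2239304, 55), (.ofNat 2233714, 56), (.ofNat 2351330, 57), (.ofNat
  2609135, 58), (.ofNat 2795096, 59), (.ofNat 2879733, 60), (.ofNat 3911626, 61), (.ofNat 4223065, 62), (.ofNat
  4791249, 63), (.ofNat 4842479, 64), (.ofNat 4838149, 65), (.ofNat 4945676, 66), (.ofNat 5249953, 67), (.ofNat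
  5291659, 68), (.ofNat 5398421, 69), (.ofNat 5504051, 70), (.ofNat 5625775, 71), (.ofNat 5738336, 72), (.ofNat
  6297145, 73), (.ofNat 6401129, 74), (.ofNat 6546016, 75), (.ofNat 6696507, 76), (.ofNat 6735830, 77), (.ofNat
  6943485, 78), (.ofNat 7314867, 79), (.ofNat 7695307, 80), (.ofNat 7805052, 81), (.ofNat 7866379, 82), (.ofNat
  8054540, 83), (.ofNat 8519974, 84), (.ofNat 9357605, 85), (.ofNat 10084791, 86), (.ofNat 10483734, 87), (.ofNat
  12077802, 88), (.ofNat 12241253, 89), (.ofNat 12247040, 90), (.ofNat 12606505, 91), (.ofNat 13075223, 92), (.ofNat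
  13079871, 93), (.ofNat 13174420, 94), (.ofNat 13589412, 95), (.ofNat 14348907, 96), (.ofNat 5751, 97), (.ofNat
  31998, 98)])) (.far (.negSucc 465) [(.ofNat 888, 8), (.ofNat 352, 9), (.ofNat 2053, 13), (.ofNat 486, 14), (.ofNat
  943, 19), (.ofNat 3468, 20), (.ofNat 1606, 21), (.negSucc 259, 22), (.ofNat 2210, 23), (.ofNat 2305, 24), (.ofNat
  2295, 25), (.ofNat 3673, 26), (.ofNat 4256, 27), (.ofNat 4478, 28), (.ofNat 11726, 29), (.ofNat 8187, 30), (.ofNat
  9421, 31), (.ofNat 10307, 32), (.ofNat 15197, 33), (.ofNat 19369, 34), (.ofNat 21026, 35), (.ofNat 19341, 36),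
  (.ofNat 17808, 37), (.ofNat 19780, 38), (.ofNat 21736, 39), (.ofNat 22567, 40), (.ofNat 22910, 41), (.ofNat 26480,
  42), (.ofNat 28317, 43), (.ofNat 40707, 44), (.ofNat 39545, 45), (.ofNat 41129, 46), (.ofNat 45188, 47), (.ofNat
  49189, 48), (.ofNat 56477, 49), (.ofNat 55610, 50), (.ofNat 57488, 51), (.ofNat 66914, 52), (.ofNat 60987, 53),
  (.ofNat 73288, 54), (.ofNat 86127, 55), (.ofNat 82714, 56), (.ofNat 86992, 57), (.ofNat 98783, 58), (.ofNat 108906,
  59), (.ofNat 108977, 60), (.ofNat 146105, 61), (.ofNat 159515, 62), (.ofNat 175046, 63), (.ofNat 184040, 64),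
  (.ofNat 179276, 65), (.ofNat 185650, 66), (.ofNat 198716, 67), (.ofNat 195834, 68), (.ofNat 197847, 69), (.ofNat
  204300, 70), (.ofNat 209956, 71), (.ofNat 213965, 72), (.ofNat 233248, 73), (.ofNat 238618, 74), (.ofNat 244839,
  75), (.ofNat 252197, 76), (.ofNat 250855, 77), (.ofNat 265297, 78), (.ofNat 274976, 79), (.ofNat 285252, 80),
  (.ofNat 293018, 81), (.ofNat 295858, 82), (.ofNat 302079, 83), (.ofNat 315044, 84), (.ofNat 349257, 85), (.ofNat
  372959, 86), (.ofNat 397791, 87), (.ofNat 452270, 88), (.ofNat 460669, 89), (.ofNat 455366, 90), (.ofNat 471973,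
  91), (.ofNat 487304, 92), (.ofNat 490390, 93), (.ofNat 491815, 94), (.ofNat 509759, 95), (.ofNat 531441, 96),
  (.ofNat 1341, 97), (.ofNat 609, 98)])))

/-- certificates -/
noncomputable def CL10 : List (Hd × Tr) :=
  [c59]

theorem okC10 : okL TAB.Co1.D (TAB.Sm2.mkRows TAB.Co1.RA TAB.Co1.RB) P Z CL10 = true := by decide +kernel

/-- a certificate -/
noncomputable def c60 : Hd × Tr :=
  ((1528450560000, [], []), (.bf 57 6 (.bf 26 70 (.far (.negSucc 9700) [(.ofNat 56064, 8), (.ofNat 40431, 9), (.ofNat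
  20252, 10), (.ofNat 51523, 13), (.ofNat 97630, 14), (.ofNat 33586, 18), (.ofNat 19963, 19), (.ofNat 40968, 20),
  (.negSucc 86017, 24), (.negSucc 30328, 25), (.ofNat 40147, 26), (.negSucc 31805, 27), (.ofNat 13995, 28), (.ofNat
  90314, 29), (.ofNat 8641, 30), (.ofNat 38791, 31), (.ofNat 27492, 32), (.negSucc 12089, 33), (.ofNat 70175, 34),
  (.negSucc 18241, 35), (.negSucc 11703, 36), (.ofNat 47246, 37), (.ofNat 97802, 38), (.ofNat 76526, 39), (.ofNat
  64680, 40), (.ofNat 122990, 41), (.ofNat 46978, 42), (.ofNat 85168, 43), (.ofNat 160782, 44), (.ofNat 129217, 45),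
  (.ofNat 22192, 46), (.ofNat 167524, 47), (.ofNat 106406, 48), (.ofNat 200722, 49), (.ofNat 141982, 50), (.ofNat
  159616, 51), (.ofNat 193241, 52), (.ofNat 246978, 53), (.ofNat 204002, 54), (.ofNat 310896, 55), (.ofNat 244075,
  56), (.ofNat 287374, 57), (.ofNat 314672, 58), (.ofNat 333456, 59), (.ofNat 329781, 60), (.ofNat 458598, 61),
  (.ofNat 479367, 62), (.ofNat 543613, 63), (.ofNat 524631, 64), (.ofNat 596989, 65), (.ofNat 613577, 66), (.ofNat
  578651, 67), (.ofNat 543113, 68), (.ofNat 495694, 69), (.ofNat 571635, 70), (.ofNat 609185, 71), (.ofNat 657909,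
  72), (.ofNat 692731, 73), (.ofNat 674842, 74), (.ofNat 774932, 75), (.ofNat 757637, 76), (.ofNat 780908, 77),
  (.ofNat 811957, 78), (.ofNat 780197, 79), (.ofNat 929004, 80), (.ofNat 903452, 81), (.ofNat 887972, 82), (.ofNat
  881682, 83), (.ofNat 971294, 84), (.ofNat 1030262, 85), (.ofNat 1055878, 86), (.ofNat 1190043, 87), (.ofNat
  1379783, 88), (.ofNat 1360559, 89), (.ofNat 1376802, 90), (.ofNat 1438017, 91), (.ofNat 1464748, 92), (.ofNat
  1490146, 93), (.ofNat 1483238, 94), (.ofNat 1526735, 95), (.ofNat 1594323, 96), (.ofNat 20408, 97), (.ofNat 30901,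
  98)]) (.bf 27 7 (.bf 14 1931 (.bf 15 56 (.bf 16 16 (.bf 4 77088 (.bf 5 867 (.bf 6 294 (.bf 7 150 (.bf 1 9216 (.bf 2
  3056 (.bm 2 0 (.bm 3 0 (.far (.negSucc 866) [(.negSucc 53, 2), (.ofNat 903, 8), (.ofNat 182, 13), (.ofNat 1313,
  14), (.ofNat 77, 16), (.ofNat 1987, 20), (.negSucc 1527, 24), (.ofNat 990, 25), (.ofNat 650, 26), (.negSucc 735,
  27), (.ofNat 26, 28), (.ofNat 1304, 29), (.negSucc 256, 30), (.negSucc 182, 31), (.negSucc 673, 32), (.negSucc 673,
  33), (.ofNat 680, 34), (.negSucc 1557, 35), (.negSucc 1050, 36), (.ofNat 253, 37), (.ofNat 770, 38), (.negSucc 813,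
  39), (.negSucc 336, 40), (.ofNat 528, 41), (.negSucc 532, 42), (.negSucc 713, 43), (.ofNat 235, 44), (.negSucc
  1057, 45), (.negSucc 2495, 46), (.negSucc 291, 47), (.negSucc 924, 48), (.negSucc 708, 49), (.negSucc 545, 50),
  (.negSucc 1530, 51), (.negSucc 312, 52), (.negSucc 970, 53), (.negSucc 45, 54), (.ofNat 527, 55), (.negSucc 800,
  56), (.negSucc 912, 57), (.negSucc 1365, 58), (.negSucc 1099, 59), (.negSucc 1121, 60), (.negSucc 228, 61),
  (.negSucc 1828, 62), (.negSucc 2301, 63), (.negSucc 2903, 64), (.negSucc 1068, 65), (.negSucc 2135, 66), (.negSucc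
  1979, 67), (.negSucc 4343, 68), (.negSucc 2936, 69), (.negSucc 2580, 70), (.negSucc 2088, 71), (.negSucc 2343, 72),
  (.negSucc 2621, 73), (.negSucc 3566, 74), (.negSucc 2383, 75), (.negSucc 3199, 76), (.negSucc 3674, 77), (.negSucc
  2137, 78), (.negSucc 3126, 79), (.negSucc 2255, 80), (.negSucc 3121, 81), (.negSucc 3725, 82), (.negSucc 4313, 83),
  (.negSucc 3339, 84), (.negSucc 4597, 85), (.negSucc 5602, 86), (.negSucc 4437, 87), (.negSucc 4552, 88), (.negSucc
  5207, 89), (.negSucc 5438, 90), (.negSucc 4810, 91), (.negSucc 5682, 92), (.negSucc 6558, 93), (.negSucc 4760, 94),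
  (.negSucc 5936, 95), (.negSucc 6560, 96), (.negSucc 1764, 3)]) (.bm 4 0 (.far (.negSucc 705) [(.negSucc 996, 2),
  (.ofNat 508, 3), (.negSucc 2186, 4), (.ofNat 443, 9), (.ofNat 1094, 13), (.ofNat 1367, 14), (.ofNat 29, 20),
  (.negSucc 441, 25), (.ofNat 531, 26), (.negSucc 595, 27), (.ofNat 257, 28), (.ofNat 1234, 29), (.negSucc 509, 30),
  (.negSucc 174, 31), (.negSucc 742, 32), (.negSucc 1771, 33), (.ofNat 55, 34), (.negSucc 1152, 35), (.negSucc 1033,
  36), (.ofNat 170, 37), (.ofNat 618, 38), (.ofNat 17, 39), (.ofNat 963, 40), (.negSucc 46, 41), (.ofNat 591, 42),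
  (.negSucc 14, 43), (.ofNat 232, 44), (.ofNat 181, 45), (.negSucc 270, 46), (.negSucc 176, 47), (.ofNat 154, 48),
  (.negSucc 45, 49), (.ofNat 59, 50), (.ofNat 31, 51), (.ofNat 359, 52), (.ofNat 605, 53), (.negSucc 551, 54),
  (.ofNat 1111, 55), (.ofNat 660, 56), (.ofNat 828, 57), (.negSucc 57, 58), (.ofNat 427, 59), (.ofNat 60, 60),
  (.negSucc 268, 61), (.ofNat 384, 62), (.ofNat 210, 63), (.negSucc 59, 64), (.ofNat 96, 65), (.ofNat 1306, 66),
  (.ofNat 81, 67), (.negSucc 889, 68), (.negSucc 620, 69), (.ofNat 104, 70), (.ofNat 162, 71), (.ofNat 1379, 72),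
  (.negSucc 370, 73), (.negSucc 1216, 74), (.negSucc 7, 75), (.ofNat 77, 76), (.ofNat 206, 77), (.ofNat 504, 78),
  (.negSucc 607, 79), (.ofNat 1432, 80), (.ofNat 118, 81), (.negSucc 4, 82), (.ofNat 309, 84), (.ofNat 575, 85),
  (.ofNat 68, 86), (.negSucc 256, 89), (.negSucc 48, 90), (.negSucc 106, 91), (.negSucc 85, 92), (.ofNat 1575, 94),
  (.negSucc 1351, 96), (.ofNat 249, 98)]) (.far (.ofNat 36) [(.negSucc 5005, 2), (.ofNat 2685, 3), (.ofNat 75, 8),
  (.ofNat 2446, 9), (.ofNat 2477, 13), (.ofNat 209, 14), (.ofNat 181, 16), (.ofNat 3408, 19), (.ofNat 1965, 21),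
  (.ofNat 2658, 22), (.ofNat 4815, 24), (.ofNat 3949, 25), (.ofNat 5335, 26), (.ofNat 1416, 27), (.ofNat 5023, 28),
  (.ofNat 10409, 29), (.ofNat 9617, 30), (.ofNat 7931, 31), (.ofNat 12324, 32), (.ofNat 14571, 33), (.ofNat 19478,
  34), (.ofNat 20027, 35), (.ofNat 17285, 36), (.ofNat 21963, 37), (.ofNat 21170, 38), (.ofNat 23372, 39), (.ofNat
  24540, 40), (.ofNat 22412, 41), (.ofNat 24972, 42), (.ofNat 29219, 43), (.ofNat 38568, 44), (.ofNat 41103, 45),
  (.ofNat 41995, 46), (.ofNat 45916, 47), (.ofNat 47265, 48), (.ofNat 52835, 49), (.ofNat 55222, 50), (.ofNat 59042,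
  51), (.ofNat 61837, 52), (.ofNat 64467, 53), (.ofNat 75764, 54), (.ofNat 85249, 55), (.ofNat 81537, 56), (.ofNat
  89332, 57), (.ofNat 98110, 58), (.ofNat 103852, 59), (.ofNat 105714, 60), (.ofNat 145339, 61), (.ofNat 158712, 62),
  (.ofNat 176280, 63), (.ofNat 181475, 64), (.ofNat 176146, 65), (.ofNat 186441, 66), (.ofNat 193748, 67), (.ofNat
  197025, 68), (.ofNat 201071, 69), (.ofNat 201023, 70), (.ofNat 206618, 71), (.ofNat 212435, 72), (.ofNat 235247,
  73), (.ofNat 236546, 74), (.ofNat 242957, 75), (.ofNat 249417, 76), (.ofNat 249668, 77), (.ofNat 257603, 78),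
  (.ofNat 268020, 79), (.ofNat 284557, 80), (.ofNat 290686, 81), (.ofNat 292204, 82), (.ofNat 298668, 83), (.ofNat
  314246, 84), (.ofNat 349012, 85), (.ofNat 375434, 86), (.ofNat 389160, 87), (.ofNat 446681, 88), (.ofNat 453052,
  89), (.ofNat 454079, 90), (.ofNat 465009, 91), (.ofNat 485027, 92), (.ofNat 484069, 93), (.ofNat 487784, 94),
  (.ofNat 505352, 95), (.ofNat 531441, 96), (.ofNat 4447, 98), (.ofNat 2798, 4)]))) (.far (.negSucc 1750) [(.ofNat
  44, 8), (.ofNat 756, 9), (.ofNat 1052, 13), (.ofNat 397, 14), (.ofNat 401, 17), (.ofNat 159, 20), (.negSucc 820,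
  24), (.negSucc 9, 25), (.negSucc 1892, 26), (.negSucc 1460, 27), (.negSucc 411, 28), (.negSucc 528, 29), (.negSucc
  1347, 30), (.negSucc 695, 31), (.negSucc 1475, 32), (.negSucc 2526, 33), (.negSucc 2485, 34), (.negSucc 679, 35),
  (.negSucc 2605, 36), (.negSucc 2076, 37), (.negSucc 2388, 38), (.negSucc 2781, 39), (.negSucc 2377, 40), (.negSucc
  2752, 41), (.negSucc 2653, 42), (.negSucc 4128, 43), (.negSucc 4461, 44), (.negSucc 6685, 45), (.negSucc 5799, 46),
  (.negSucc 5463, 47), (.negSucc 5777, 48), (.negSucc 6362, 49), (.negSucc 6266, 50), (.negSucc 6198, 51), (.negSucc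
  7094, 52), (.negSucc 7464, 53), (.negSucc 8415, 54), (.negSucc 8841, 55), (.negSucc 9388, 56), (.negSucc 9039, 57),
  (.negSucc 11667, 58), (.negSucc 9909, 59), (.negSucc 11279, 60), (.negSucc 17500, 61), (.negSucc 17582, 62),
  (.negSucc 20195, 63), (.negSucc 21211, 64), (.negSucc 20302, 65), (.negSucc 22827, 66), (.negSucc 22185, 67),
  (.negSucc 23105, 68), (.negSucc 23288, 69), (.negSucc 23580, 70), (.negSucc 23583, 71), (.negSucc 25435, 72),
  (.negSucc 26623, 73), (.negSucc 28490, 74), (.negSucc 27188, 75), (.negSucc 27782, 76), (.negSucc 28562, 77),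
  (.negSucc 28831, 78), (.negSucc 29500, 79), (.negSucc 30799, 80), (.negSucc 32588, 81), (.negSucc 33724, 82),
  (.negSucc 33586, 83), (.negSucc 34940, 84), (.negSucc 40346, 85), (.negSucc 43167, 86), (.negSucc 43489, 87),
  (.negSucc 51200, 88), (.negSucc 51519, 89), (.negSucc 51658, 90), (.negSucc 53088, 91), (.negSucc 54982, 92),
  (.negSucc 55780, 93), (.negSucc 56259, 94), (.negSucc 57382, 95), (.negSucc 59048, 96), (.ofNat 649, 97), (.ofNat
  1958, 2)])) (.far (.negSucc 110888) [(.ofNat 79739, 8), (.ofNat 181122, 13), (.ofNat 156220, 14), (.ofNat 79398,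
  16), (.ofNat 90474, 20), (.ofNat 71509, 21), (.ofNat 43998, 22), (.ofNat 162438, 23), (.ofNat 232971, 24), (.ofNat
  223167, 25), (.ofNat 248058, 26), (.ofNat 147166, 27), (.ofNat 564534, 28), (.ofNat 658420, 29), (.ofNat 958082,
  30), (.ofNat 639736, 31), (.ofNat 687951, 32), (.ofNat 1228431, 33), (.ofNat 1648688, 34), (.ofNat 1875321, 35),
  (.ofNat 1060764, 36), (.ofNat 1909851, 37), (.ofNat 1477511, 38), (.ofNat 1231737, 39), (.ofNat 2002131, 40),
  (.ofNat 1834039, 41), (.ofNat 1618255, 42), (.ofNat 2117247, 43), (.ofNat 2819702, 44), (.ofNat 2206405, 45),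
  (.ofNat 3452802, 46), (.ofNat 4223961, 47), (.ofNat 3912049, 48), (.ofNat 4677427, 49), (.ofNat 4508536, 50),
  (.ofNat 4916508, 51), (.ofNat 5277044, 52), (.ofNat 4658568, 53), (.ofNat 6028445, 54), (.ofNat 6481266, 55),
  (.ofNat 5712289, 56), (.ofNat 6560355, 57), (.ofNat 7007816, 58), (.ofNat 7011308, 59), (.ofNat 9385857, 60),
  (.ofNat 10976551, 61), (.ofNat 12622231, 62), (.ofNat 13605700, 63), (.ofNat 13032624, 64), (.ofNat 13696175, 65),
  (.ofNat 14855682, 66), (.ofNat 15858730, 67), (.ofNat 16073221, 68), (.ofNat 14942475, 69), (.ofNat 16081917, 70),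
  (.ofNat 16443251, 71), (.ofNat 16729681, 72), (.ofNat 17891153, 73), (.ofNat 18026588, 74), (.ofNat 19912800, 75),
  (.ofNat 20850073, 76), (.ofNat 18708972, 77), (.ofNat 19612195, 78), (.ofNat 21380116, 79), (.ofNat 23193543, 80),
  (.ofNat 22166652, 81), (.ofNat 22766202, 82), (.ofNat 24713609, 83), (.ofNat 25184450, 84), (.ofNat 27384768, 85),
  (.ofNat 29926594, 86), (.ofNat 31617117, 87), (.ofNat 34945803, 88), (.ofNat 35385754, 89), (.ofNat 34720383, 90),
  (.ofNat 37175921, 91), (.ofNat 38417034, 92), (.ofNat 37938298, 93), (.ofNat 38824934, 94), (.ofNat 39588049, 95),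
  (.ofNat 43046721, 96), (.ofNat 45712, 97), (.ofNat 359936, 98)])) (.far (.ofNat 2609) [(.ofNat 1669, 8), (.ofNat
  126, 9), (.ofNat 52, 10), (.ofNat 2625, 12), (.ofNat 4006, 13), (.ofNat 5120, 14), (.ofNat 12796, 18), (.ofNat
  22235, 20), (.ofNat 7549, 23), (.negSucc 1733, 24), (.ofNat 21272, 25), (.ofNat 29037, 26), (.ofNat 2843, 27),
  (.ofNat 60831, 28), (.ofNat 73647, 29), (.ofNat 95385, 30), (.ofNat 82108, 31), (.ofNat 82897, 32), (.ofNat 49470,
  33), (.ofNat 123869, 34), (.ofNat 167345, 35), (.ofNat 196721, 36), (.ofNat 194789, 37), (.ofNat 213101, 38),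
  (.ofNat 183676, 39), (.ofNat 145033, 40), (.ofNat 145911, 41), (.ofNat 245634, 42), (.ofNat 282339, 43), (.ofNat
  324763, 44), (.ofNat 347036, 45), (.ofNat 412542, 46), (.ofNat 367042, 47), (.ofNat 360417, 48), (.ofNat 329072,
  49), (.ofNat 466571, 50), (.ofNat 531968, 51), (.ofNat 551887, 52), (.ofNat 446164, 53), (.ofNat 737106, 54),
  (.ofNat 574659, 55), (.ofNat 629586, 56), (.ofNat 650676, 57), (.ofNat 819147, 58), (.ofNat 954913, 59), (.ofNat
  853909, 60), (.ofNat 1281672, 61), (.ofNat 1436806, 62), (.ofNat 1474749, 63), (.ofNat 1500585, 64), (.ofNat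
  1496984, 65), (.ofNat 1630711, 66), (.ofNat 1535706, 67), (.ofNat 1724535, 68), (.ofNat 1695123, 69), (.ofNat
  1745001, 70), (.ofNat 1679988, 71), (.ofNat 2002834, 72), (.ofNat 1862910, 73), (.ofNat 2230649, 74), (.ofNat
  2210384, 75), (.ofNat 1966413, 76), (.ofNat 2148822, 77), (.ofNat 2411022, 78), (.ofNat 2346667, 79), (.ofNat
  2627484, 80), (.ofNat 2607487, 81), (.ofNat 2559720, 82), (.ofNat 2684356, 83), (.ofNat 2805921, 84), (.ofNat
  3186409, 85), (.ofNat 3272180, 86), (.ofNat 3276406, 87), (.ofNat 3937702, 88), (.ofNat 4113568, 89), (.ofNat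
  3890142, 90), (.ofNat 4136888, 91), (.ofNat 4225039, 92), (.ofNat 4310158, 93), (.ofNat 4282735, 94), (.ofNat
  4424510, 95), (.ofNat 4782969, 96), (.ofNat 26109, 98)])) (.far (.negSucc 64007) [(.ofNat 78469, 12), (.ofNat
  54218, 14), (.ofNat 81498, 20), (.ofNat 184455, 21), (.ofNat 35824, 23), (.ofNat 125343, 24), (.ofNat 166340, 25),
  (.ofNat 478285, 26), (.ofNat 457172, 27), (.ofNat 250485, 28), (.ofNat 734999, 29), (.ofNat 692668, 30), (.ofNat
  613508, 31), (.ofNat 839857, 32), (.ofNat 1194080, 33), (.ofNat 1528146, 34), (.ofNat 1662773, 35), (.ofNat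
  1602926, 36), (.ofNat 1424033, 37), (.ofNat 1632032, 38), (.ofNat 1846475, 39), (.ofNat 1777947, 40), (.ofNat
  2056927, 41), (.ofNat 2137589, 42), (.ofNat 2354687, 43), (.ofNat 3133725, 44), (.ofNat 3064509, 45), (.ofNat
  3453554, 46), (.ofNat 3589108, 47), (.ofNat 3917960, 48), (.ofNat 4491675, 49), (.ofNat 4494213, 50), (.ofNat
  4890656, 51), (.ofNat 5148772, 52), (.ofNat 5223292, 53), (.ofNat 6008700, 54), (.ofNat 6527914, 55), (.ofNat
  6782957, 56), (.ofNat 7100181, 57), (.ofNat 8087784, 58), (.ofNat 7917677, 59), (.ofNat 8407506, 60), (.ofNat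
  11470151, 61), (.ofNat 12691032, 62), (.ofNat 14405539, 63), (.ofNat 14134012, 64), (.ofNat 14487037, 65), (.ofNat
  14537107, 66), (.ofNat 15628971, 67), (.ofNat 15605212, 68), (.ofNat 16400032, 69), (.ofNat 16407241, 70), (.ofNat
  16700894, 71), (.ofNat 17199441, 72), (.ofNat 18831038, 73), (.ofNat 19224214, 74), (.ofNat 19564761, 75), (.ofNat
  20181692, 76), (.ofNat 20172243, 77), (.ofNat 20499681, 78), (.ofNat 21571455, 79), (.ofNat 22864894, 80), (.ofNat
  23675432, 81), (.ofNat 23718488, 82), (.ofNat 23899327, 83), (.ofNat 25498940, 84), (.ofNat 27942311, 85), (.ofNat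
  30118496, 86), (.ofNat 31441585, 87), (.ofNat 36204144, 88), (.ofNat 36989211, 89), (.ofNat 36564300, 90), (.ofNat
  37832820, 91), (.ofNat 39102999, 92), (.ofNat 39182644, 93), (.ofNat 39266205, 94), (.ofNat 40708578, 95), (.ofNat
  43046721, 96), (.ofNat 106321, 97), (.ofNat 69921, 98)])) (.far (.negSucc 57217) [(.ofNat 2546, 5), (.ofNat 10315,
  8), (.ofNat 14388, 13), (.ofNat 32312, 14), (.ofNat 477, 16), (.ofNat 57797, 20), (.ofNat 87479, 21), (.ofNat
  130806, 22), (.ofNat 69647, 23), (.ofNat 64477, 24), (.ofNat 81517, 25), (.ofNat 111754, 26), (.ofNat 55175, 27),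
  (.ofNat 157265, 28), (.ofNat 260459, 29), (.ofNat 213972, 30), (.ofNat 315718, 31), (.ofNat 284713, 32), (.ofNat
  390542, 33), (.ofNat 412614, 34), (.ofNat 576673, 35), (.ofNat 574349, 36), (.ofNat 606663, 37), (.ofNat 482191,
  38), (.ofNat 645310, 39), (.ofNat 537556, 40), (.ofNat 501537, 41), (.ofNat 580182, 42), (.ofNat 771803, 43),
  (.ofNat 935237, 44), (.ofNat 831829, 45), (.ofNat 1104599, 46), (.ofNat 1338281, 47), (.ofNat 1060129, 48), (.ofNat
  1650954, 49), (.ofNat 1497735, 50), (.ofNat 1469444, 51), (.ofNat 1792677, 52), (.ofNat 1870858, 53), (.ofNat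
  2103946, 54), (.ofNat 2226102, 55), (.ofNat 2319552, 56), (.ofNat 2398830, 57), (.ofNat 2706237, 58), (.ofNat
  2801247, 59), (.ofNat 2728108, 60), (.ofNat 4131544, 61), (.ofNat 4240413, 62), (.ofNat 4859489, 63), (.ofNat
  4853941, 64), (.ofNat 4390068, 65), (.ofNat 4984539, 66), (.ofNat 5068511, 67), (.ofNat 5295111, 68), (.ofNat
  5332774, 69), (.ofNat 5528028, 70), (.ofNat 5692017, 71), (.ofNat 5783997, 72), (.ofNat 6290396, 73), (.ofNat
  6341902, 74), (.ofNat 6553294, 75), (.ofNat 6866972, 76), (.ofNat 7168428, 77), (.ofNat 6980909, 78), (.ofNat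
  7442117, 79), (.ofNat 7664958, 80), (.ofNat 7803214, 81), (.ofNat 7753058, 82), (.ofNat 8099900, 83), (.ofNat
  8494511, 84), (.ofNat 9054641, 85), (.ofNat 10030676, 86), (.ofNat 10288207, 87), (.ofNat 12498565, 88), (.ofNat
  12194677, 89), (.ofNat 11961509, 90), (.ofNat 12523975, 91), (.ofNat 12911503, 92), (.ofNat 13065022, 93), (.ofNat
  13351561, 94), (.ofNat 13477636, 95), (.ofNat 14348907, 96), (.ofNat 89764, 98)])) (.far (.ofNat 1545254) [(.ofNat
  184552, 13), (.ofNat 2445518, 18), (.ofNat 1084817, 19), (.ofNat 2003407, 20), (.ofNat 1182172, 22), (.ofNat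
  2727426, 23), (.ofNat 1545254, 24), (.ofNat 894348, 25), (.ofNat 8818749, 26), (.ofNat 3992638, 27), (.ofNat
  9813222, 28), (.ofNat 19025265, 29), (.ofNat 21771223, 30), (.ofNat 21568139, 31), (.ofNat 25890180, 32), (.ofNat
  21289909, 33), (.ofNat 30427876, 34), (.ofNat 42850525, 35), (.ofNat 42281490, 36), (.ofNat 45080655, 37), (.ofNat
  49903041, 38), (.ofNat 45766653, 39), (.ofNat 51719997, 40), (.ofNat 46182470, 41), (.ofNat 45592871, 42), (.ofNat
  67537876, 43), (.ofNat 89739796, 44), (.ofNat 90296845, 45), (.ofNat 87386979, 46), (.ofNat 102230538, 47), (.ofNat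
  95178413, 48), (.ofNat 102569197, 49), (.ofNat 126287640, 50), (.ofNat 128682462, 51), (.ofNat 125337031, 52),
  (.ofNat 126984262, 53), (.ofNat 151215512, 54), (.ofNat 175081329, 55), (.ofNat 186897215, 56), (.ofNat 188169419,
  57), (.ofNat 208859769, 58), (.ofNat 223632592, 59), (.ofNat 224846829, 60), (.ofNat 318999455, 61), (.ofNat
  342695143, 62), (.ofNat 395541708, 63), (.ofNat 393428216, 64), (.ofNat 395881836, 65), (.ofNat 409296301, 66),
  (.ofNat 429172660, 67), (.ofNat 431831449, 68), (.ofNat 438311199, 69), (.ofNat 450134853, 70), (.ofNat 442131124,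
  71), (.ofNat 451880103, 72), (.ofNat 510771445, 73), (.ofNat 512796619, 74), (.ofNat 535948656, 75), (.ofNat
  545366652, 76), (.ofNat 541398894, 77), (.ofNat 562150000, 78), (.ofNat 593917915, 79), (.ofNat 609793462, 80),
  (.ofNat 631606843, 81), (.ofNat 638743169, 82), (.ofNat 642444975, 83), (.ofNat 683672159, 84), (.ofNat 759719101,
  85), (.ofNat 827081515, 86), (.ofNat 856293754, 87), (.ofNat 989066223, 88), (.ofNat 991037818, 89), (.ofNat
  991322601, 90), (.ofNat 1021156801, 91), (.ofNat 1067459342, 92), (.ofNat 1061982445, 93), (.ofNat 1079363068, 94),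
  (.ofNat 1089964803, 95), (.ofNat 1162261467, 96), (.ofNat 1267290, 97), (.ofNat 5035390, 98)])) (.far (.negSucc
  98623) [(.ofNat 112584, 5), (.ofNat 181900, 8), (.ofNat 529478, 13), (.ofNat 601273, 19), (.ofNat 499263, 20),
  (.ofNat 1504045, 21), (.ofNat 1366100, 22), (.ofNat 1765735, 23), (.ofNat 1066516, 24), (.ofNat 1430549, 25),
  (.ofNat 740067, 26), (.ofNat 3506118, 27), (.ofNat 4389077, 28), (.ofNat 2970949, 29), (.ofNat 3930733, 30),
  (.ofNat 4288664, 31), (.ofNat 7089719, 32), (.ofNat 11555808, 33), (.ofNat 15271147, 34), (.ofNat 10230616, 35),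
  (.ofNat 10701118, 36), (.ofNat 15552117, 37), (.ofNat 16840428, 38), (.ofNat 15533082, 39), (.ofNat 17558241, 40),
  (.ofNat 15923229, 41), (.ofNat 17179992, 42), (.ofNat 18122686, 43), (.ofNat 23033603, 44), (.ofNat 27505802, 45),
  (.ofNat 25633618, 46), (.ofNat 28769149, 47), (.ofNat 35357797, 48), (.ofNat 37939182, 49), (.ofNat 34865715, 50),
  (.ofNat 36497809, 51), (.ofNat 47914600, 52), (.ofNat 48497436, 53), (.ofNat 55099715, 54), (.ofNat 60587861, 55),
  (.ofNat 55745227, 56), (.ofNat 64049027, 57), (.ofNat 63238040, 58), (.ofNat 72461944, 59), (.ofNat 70404135, 60),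
  (.ofNat 99561720, 61), (.ofNat 105456609, 62), (.ofNat 128677367, 63), (.ofNat 130107544, 64), (.ofNat 134644481,
  65), (.ofNat 127116043, 66), (.ofNat 145246727, 67), (.ofNat 148209745, 68), (.ofNat 145358095, 69), (.ofNat
  143162851, 70), (.ofNat 149261372, 71), (.ofNat 150325708, 72), (.ofNat 172274155, 73), (.ofNat 175660522, 74),
  (.ofNat 170706602, 75), (.ofNat 182775374, 76), (.ofNat 186999981, 77), (.ofNat 190125577, 78), (.ofNat 194649457,
  79), (.ofNat 211814729, 80), (.ofNat 200688554, 81), (.ofNat 208392677, 82), (.ofNat 216302102, 83), (.ofNat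
  224517584, 84), (.ofNat 257342626, 85), (.ofNat 278217752, 86), (.ofNat 284130381, 87), (.ofNat 330557505, 88),
  (.ofNat 337073972, 89), (.ofNat 330162833, 90), (.ofNat 338197181, 91), (.ofNat 348059347, 92), (.ofNat 356668376,
  93), (.ofNat 358111827, 94), (.ofNat 371858065, 95), (.ofNat 387420489, 96), (.ofNat 660918, 97), (.ofNat 1809422,
  98)])) (.far (.negSucc 9252) [(.ofNat 3736, 2), (.ofNat 2306, 8), (.ofNat 4847, 9), (.ofNat 31093, 13), (.ofNat
  8350, 14), (.ofNat 4516, 16), (.ofNat 10894, 19), (.ofNat 17027, 20), (.ofNat 8196, 21), (.ofNat 16020, 22),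
  (.ofNat 7879, 23), (.ofNat 12566, 24), (.ofNat 32269, 25), (.ofNat 39046, 26), (.ofNat 37714, 27), (.ofNat 21078,
  28), (.ofNat 103682, 29), (.ofNat 66866, 30), (.ofNat 67941, 31), (.ofNat 75932, 32), (.ofNat 122458, 33), (.ofNat
  161797, 34), (.ofNat 187989, 35), (.ofNat 171097, 36), (.ofNat 210369, 37), (.ofNat 197655, 38), (.ofNat 201827,
  39), (.ofNat 214776, 40), (.ofNat 211039, 41), (.ofNat 216119, 42), (.ofNat 271611, 43), (.ofNat 339929, 44),
  (.ofNat 381044, 45), (.ofNat 360989, 46), (.ofNat 393419, 47), (.ofNat 447190, 48), (.ofNat 474127, 49), (.ofNat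
  489920, 50), (.ofNat 515460, 51), (.ofNat 587412, 52), (.ofNat 556327, 53), (.ofNat 662703, 54), (.ofNat 734822,
  55), (.ofNat 750320, 56), (.ofNat 833927, 57), (.ofNat 851119, 58), (.ofNat 917490, 59), (.ofNat 942678, 60),
  (.ofNat 1293401, 61), (.ofNat 1401589, 62), (.ofNat 1566088, 63), (.ofNat 1554277, 64), (.ofNat 1583115, 65),
  (.ofNat 1648480, 66), (.ofNat 1717198, 67), (.ofNat 1726771, 68), (.ofNat 1764646, 69), (.ofNat 1752629, 70),
  (.ofNat 1833884, 71), (.ofNat 1862643, 72), (.ofNat 2072480, 73), (.ofNat 2092740, 74), (.ofNat 2105054, 75),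
  (.ofNat 2189392, 76), (.ofNat 2205120, 77), (.ofNat 2271489, 78), (.ofNat 2398315, 79), (.ofNat 2472517, 80),
  (.ofNat 2558691, 81), (.ofNat 2571215, 82), (.ofNat 2597619, 83), (.ofNat 2797484, 84), (.ofNat 3035714, 85),
  (.ofNat 3299970, 86), (.ofNat 3427448, 87), (.ofNat 3919361, 88), (.ofNat 4035076, 89), (.ofNat 3957749, 90),
  (.ofNat 4115692, 91), (.ofNat 4257921, 92), (.ofNat 4312433, 93), (.ofNat 4299298, 94), (.ofNat 4451914, 95),
  (.ofNat 4782969, 96), (.ofNat 10462, 97)])) (.far (.negSucc 3940) [(.ofNat 3526, 13), (.ofNat 2935, 18), (.ofNat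
  268, 19), (.ofNat 9679, 20), (.ofNat 9474, 23), (.negSucc 5861, 24), (.ofNat 1578, 25), (.ofNat 179, 26), (.ofNat
  11893, 27), (.ofNat 12194, 28), (.ofNat 43814, 29), (.ofNat 41432, 30), (.ofNat 19815, 31), (.ofNat 38115, 32),
  (.ofNat 20551, 33), (.ofNat 47063, 34), (.ofNat 63248, 35), (.ofNat 60004, 36), (.ofNat 55138, 37), (.ofNat 67558,
  38), (.ofNat 75895, 39), (.ofNat 73633, 40), (.ofNat 77784, 41), (.ofNat 73033, 42), (.ofNat 79960, 43), (.ofNat
  115025, 44), (.ofNat 110378, 45), (.ofNat 133859, 46), (.ofNat 120978, 47), (.ofNat 146594, 48), (.ofNat 165037,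
  49), (.ofNat 165892, 50), (.ofNat 169549, 51), (.ofNat 182897, 52), (.ofNat 183277, 53), (.ofNat 223829, 54),
  (.ofNat 243642, 55), (.ofNat 244376, 56), (.ofNat 262186, 57), (.ofNat 292771, 58), (.ofNat 299893, 59), (.ofNat
  319527, 60), (.ofNat 450108, 61), (.ofNat 463432, 62), (.ofNat 529715, 63), (.ofNat 552058, 64), (.ofNat 537999,
  65), (.ofNat 562538, 66), (.ofNat 580988, 67), (.ofNat 584429, 68), (.ofNat 600261, 69), (.ofNat 610681, 70),
  (.ofNat 623937, 71), (.ofNat 626572, 72), (.ofNat 707227, 73), (.ofNat 707459, 74), (.ofNat 723119, 75), (.ofNat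
  754554, 76), (.ofNat 748698, 77), (.ofNat 784015, 78), (.ofNat 810806, 79), (.ofNat 867065, 80), (.ofNat 863518,
  81), (.ofNat 873880, 82), (.ofNat 895109, 83), (.ofNat 959134, 84), (.ofNat 1033627, 85), (.ofNat 1118344, 86),
  (.ofNat 1165949, 87), (.ofNat 1336485, 88), (.ofNat 1363891, 89), (.ofNat 1362487, 90), (.ofNat 1401462, 91),
  (.ofNat 1443149, 92), (.ofNat 1445849, 93), (.ofNat 1447507, 94), (.ofNat 1510918, 95), (.ofNat 1594323, 96),
  (.ofNat 4745, 97), (.ofNat 4492, 98)])) (.far (.negSucc 24253) [(.ofNat 22346, 9), (.ofNat 498071, 13), (.ofNat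
  263550, 19), (.ofNat 545927, 21), (.ofNat 506889, 22), (.ofNat 447365, 23), (.ofNat 802794, 24), (.ofNat 774521,
  25), (.ofNat 443636, 26), (.ofNat 1181725, 27), (.ofNat 1361747, 28), (.ofNat 2018793, 29), (.ofNat 2029314, 30),
  (.ofNat 2160255, 31), (.ofNat 2882376, 32), (.ofNat 3355613, 33), (.ofNat 4693323, 34), (.ofNat 5120571, 35),
  (.ofNat 4621120, 36), (.ofNat 4916182, 37), (.ofNat 5420382, 38), (.ofNat 5320221, 39), (.ofNat 5793035, 40),
  (.ofNat 5696168, 41), (.ofNat 6216211, 42), (.ofNat 7579145, 43), (.ofNat 9437256, 44), (.ofNat 9605726, 45),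
  (.ofNat 10442958, 46), (.ofNat 10756728, 47), (.ofNat 12000175, 48), (.ofNat 13092755, 49), (.ofNat 13433257, 50),
  (.ofNat 14191687, 51), (.ofNat 15315557, 52), (.ofNat 15542964, 53), (.ofNat 18259717, 54), (.ofNat 20121036, 55),
  (.ofNat 20087605, 56), (.ofNat 21317871, 57), (.ofNat 23483748, 58), (.ofNat 25436175, 59), (.ofNat 25660960, 60),
  (.ofNat 35323264, 61), (.ofNat 38259183, 62), (.ofNat 43163844, 63), (.ofNat 43543074, 64), (.ofNat 43353996, 65),
  (.ofNat 44554485, 66), (.ofNat 47045347, 67), (.ofNat 47735995, 68), (.ofNat 48459256, 69), (.ofNat 49373356, 70),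
  (.ofNat 50592842, 71), (.ofNat 51133624, 72), (.ofNat 56587499, 73), (.ofNat 57350414, 74), (.ofNat 58937680, 75),
  (.ofNat 60220546, 76), (.ofNat 60641602, 77), (.ofNat 62309241, 78), (.ofNat 65748303, 79), (.ofNat 69366389, 80),
  (.ofNat 70240376, 81), (.ofNat 70681561, 82), (.ofNat 72259952, 83), (.ofNat 76481844, 84), (.ofNat 84115236, 85),
  (.ofNat 90810324, 86), (.ofNat 94329390, 87), (.ofNat 108361802, 88), (.ofNat 110034715, 89), (.ofNat 110014958,
  90), (.ofNat 112960083, 91), (.ofNat 117535185, 92), (.ofNat 117807878, 93), (.ofNat 117805640, 94), (.ofNat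
  121913864, 95), (.ofNat 129140163, 96), (.ofNat 163830, 97), (.ofNat 572399, 98)])) (.far (.negSucc 32054) [(.ofNat
  10858, 13), (.ofNat 1581, 17), (.ofNat 7782, 19), (.ofNat 237, 21), (.negSucc 37134, 24), (.ofNat 7249, 25),
  (.negSucc 36075, 26), (.negSucc 3350, 27), (.ofNat 1545, 28), (.ofNat 57024, 29), (.negSucc 44467, 30), (.ofNat
  54866, 31), (.negSucc 6690, 32), (.negSucc 56246, 33), (.ofNat 6160, 34), (.ofNat 33847, 35), (.negSucc 86109, 36),
  (.ofNat 40411, 37), (.negSucc 7785, 38), (.ofNat 17209, 39), (.negSucc 26548, 40), (.negSucc 15104, 41), (.negSucc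
  6436, 42), (.negSucc 497, 43), (.negSucc 136, 44), (.negSucc 7635, 45), (.ofNat 15601, 46), (.ofNat 6042, 47),
  (.negSucc 42187, 48), (.ofNat 23137, 49), (.ofNat 25015, 50), (.negSucc 14599, 51), (.ofNat 12986, 52), (.ofNat
  31248, 53), (.ofNat 14428, 54), (.ofNat 177147, 55), (.ofNat 39871, 56), (.ofNat 15406, 57), (.ofNat 54880, 58),
  (.ofNat 125647, 59), (.ofNat 66505, 60), (.negSucc 29913, 61), (.ofNat 52326, 62), (.negSucc 10328, 63), (.ofNat
  68924, 64), (.ofNat 37025, 65), (.negSucc 29828, 66), (.negSucc 6151, 67), (.negSucc 1581, 68), (.negSucc 16834,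
  69), (.ofNat 33522, 70), (.ofNat 29448, 71), (.ofNat 42119, 72), (.ofNat 49550, 73), (.negSucc 8304, 74), (.ofNat
  46018, 75), (.ofNat 75641, 76), (.ofNat 41643, 77), (.ofNat 101310, 78), (.ofNat 23896, 79), (.ofNat 130640, 80),
  (.ofNat 58991, 81), (.ofNat 92846, 82), (.ofNat 11258, 83), (.ofNat 89145, 84), (.ofNat 44223, 85), (.ofNat 75346,
  86), (.ofNat 103824, 87), (.ofNat 97559, 88), (.ofNat 73470, 89), (.ofNat 96389, 90), (.ofNat 161353, 91), (.ofNat
  96250, 92), (.ofNat 95817, 93), (.ofNat 78930, 94), (.ofNat 101513, 95), (.ofNat 137038, 96), (.ofNat 7526, 97)])))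
  (.far (.negSucc 6198) [(.ofNat 4451, 8), (.ofNat 5515, 9), (.ofNat 7981, 13), (.ofNat 5767, 19), (.ofNat 14907,
  20), (.ofNat 8655, 21), (.ofNat 344, 22), (.ofNat 6193, 23), (.ofNat 5486, 24), (.ofNat 3776, 25), (.ofNat 7476,
  26), (.ofNat 14387, 27), (.ofNat 12791, 28), (.ofNat 37543, 29), (.ofNat 18096, 30), (.ofNat 30695, 31), (.ofNat
  32640, 32), (.ofNat 38151, 33), (.ofNat 58629, 34), (.ofNat 67491, 35), (.ofNat 52904, 36), (.ofNat 60371, 37),
  (.ofNat 60946, 38), (.ofNat 67618, 39), (.ofNat 66837, 40), (.ofNat 70161, 41), (.ofNat 76752, 42), (.ofNat 83352,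
  43), (.ofNat 119728, 44), (.ofNat 111752, 45), (.ofNat 122253, 46), (.ofNat 133063, 47), (.ofNat 141068, 48),
  (.ofNat 166758, 49), (.ofNat 169163, 50), (.ofNat 171417, 51), (.ofNat 194789, 52), (.ofNat 185940, 53), (.ofNat
  219845, 54), (.ofNat 262809, 55), (.ofNat 244712, 56), (.ofNat 264924, 57), (.ofNat 296432, 58), (.ofNat 329666,
  59), (.ofNat 324520, 60), (.ofNat 436139, 61), (.ofNat 477901, 62), (.ofNat 522524, 63), (.ofNat 549976, 64),
  (.ofNat 539300, 65), (.ofNat 551831, 66), (.ofNat 585878, 67), (.ofNat 584160, 68), (.ofNat 589148, 69), (.ofNat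
  608427, 70), (.ofNat 623801, 71), (.ofNat 633994, 72), (.ofNat 697574, 73), (.ofNat 708969, 74), (.ofNat 731430,
  75), (.ofNat 751445, 76), (.ofNat 751196, 77), (.ofNat 786750, 78), (.ofNat 818302, 79), (.ofNat 859487, 80),
  (.ofNat 872649, 81), (.ofNat 883505, 82), (.ofNat 898868, 83), (.ofNat 943959, 84), (.ofNat 1038851, 85), (.ofNat
  1115653, 86), (.ofNat 1183550, 87), (.ofNat 1349704, 88), (.ofNat 1369158, 89), (.ofNat 1364259, 90), (.ofNat
  1413046, 91), (.ofNat 1452758, 92), (.ofNat 1462702, 93), (.ofNat 1465395, 94), (.ofNat 1519120, 95), (.ofNat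
  1594323, 96), (.ofNat 7570, 97), (.ofNat 2120, 98)])))

/-- certificates -/
noncomputable def CL11 : List (Hd × Tr) :=
  [c60]

theorem okC11 : okL TAB.Co1.D (TAB.Sm2.mkRows TAB.Co1.RA TAB.Co1.RB) P Z CL11 = true := by decide +kernel

end Cfsg.Agent.SM.Sp.NCo1
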