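import Cfsg.Agent.SM.Sp.NCo1D

/-!
# SM (S3570), sporadic socles: Co1, certificates (helper26; generated by notes/SM/sp26/gen3.py.txt)
-/

set_option autoImplicit false
set_option Elab.async false

namespace Cfsg.Agent.SM.Sp.NCo1

open Cfsg Cfsg.Agent.TAB.Eng Cfsg.Agent.H940.Eng Cfsg.Agent.TH.Spor

/-- a certificate -/
noncomputable def c61 : Hd × Tr :=
  ((1018967040000, [], []), (.bf 57 9 (.bf 27 14 (.bf 14 2754 (.bf 15 94 (.bf 16 19 (.bf 4 104313 (.bf 5 1335 (.bf 6
  324 (.bf 7 168 (.bf 1 14336 (.bf 2 3656 (.bf 3 1408 (.bm 1 0 (.far (.negSucc 1068) [(.ofNat 623, 8), (.ofNat 198,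
  9), (.ofNat 278, 13), (.ofNat 113, 18), (.ofNat 40, 19), (.ofNat 533, 20), (.ofNat 568, 22), (.negSucc 340, 26),
  (.negSucc 596, 27), (.negSucc 103, 28), (.negSucc 73, 29), (.negSucc 402, 30), (.negSucc 122, 31), (.negSucc 432,
  32), (.negSucc 614, 33), (.negSucc 479, 34), (.negSucc 160, 35), (.negSucc 95, 36), (.negSucc 281, 37), (.negSucc
  280, 38), (.negSucc 261, 39), (.negSucc 160, 40), (.negSucc 287, 41), (.negSucc 378, 42), (.negSucc 664, 43),
  (.negSucc 257, 44), (.negSucc 1513, 45), (.negSucc 1089, 46), (.negSucc 609, 47), (.negSucc 925, 48), (.negSucc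
  659, 49), (.negSucc 313, 50), (.negSucc 628, 51), (.negSucc 553, 52), (.negSucc 279, 53), (.negSucc 819, 54),
  (.negSucc 676, 55), (.negSucc 1067, 56), (.negSucc 889, 57), (.negSucc 1215, 58), (.negSucc 914, 59), (.negSucc
  1315, 60), (.negSucc 1246, 61), (.negSucc 2200, 62), (.negSucc 1966, 63), (.negSucc 2759, 64), (.negSucc 2637, 65),
  (.negSucc 1913, 66), (.negSucc 2548, 67), (.negSucc 2760, 68), (.negSucc 3041, 69), (.negSucc 2427, 70), (.negSucc
  2567, 71), (.negSucc 2696, 72), (.negSucc 2652, 73), (.negSucc 2903, 74), (.negSucc 3001, 75), (.negSucc 2623, 76),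
  (.negSucc 2284, 77), (.negSucc 3189, 78), (.negSucc 2862, 79), (.negSucc 3158, 80), (.negSucc 3157, 81), (.negSucc
  3295, 82), (.negSucc 3506, 83), (.negSucc 4035, 84), (.negSucc 4480, 85), (.negSucc 5123, 86), (.negSucc 4969, 87),
  (.negSucc 4419, 88), (.negSucc 5621, 89), (.negSucc 5517, 90), (.negSucc 5823, 91), (.negSucc 6560, 92), (.negSucc
  6038, 93), (.negSucc 5543, 94), (.negSucc 6403, 95), (.negSucc 6045, 96), (.ofNat 128, 97), (.negSucc 918, 1)])
  (.bm 2 0 (.bm 3 0 (.far (.negSucc 1085) [(.ofNat 2040, 1), (.negSucc 3989, 2), (.ofNat 1477, 8), (.ofNat 2997, 9),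
  (.ofNat 3278, 13), (.ofNat 5443, 14), (.ofNat 529, 16), (.ofNat 2903, 20), (.ofNat 491, 22), (.ofNat 983, 25),
  (.ofNat 4248, 26), (.negSucc 2500, 27), (.ofNat 552, 28), (.ofNat 1791, 29), (.negSucc 146, 30), (.negSucc 1675,
  31), (.ofNat 359, 32), (.ofNat 427, 33), (.ofNat 1213, 34), (.negSucc 1638, 35), (.negSucc 1126, 36), (.ofNat 978,
  37), (.ofNat 1603, 38), (.ofNat 208, 39), (.ofNat 1615, 40), (.ofNat 2211, 41), (.ofNat 1679, 42), (.ofNat 61, 43),
  (.ofNat 2301, 44), (.ofNat 2040, 45), (.negSucc 3138, 46), (.ofNat 479, 47), (.ofNat 246, 48), (.ofNat 1053, 49),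
  (.ofNat 3082, 50), (.ofNat 904, 51), (.ofNat 677, 52), (.ofNat 530, 53), (.ofNat 5039, 54), (.ofNat 3682, 55),
  (.ofNat 1719, 56), (.ofNat 5633, 57), (.ofNat 2317, 58), (.ofNat 2844, 59), (.ofNat 1697, 60), (.ofNat 7650, 61),
  (.ofNat 7701, 62), (.ofNat 6583, 63), (.ofNat 4228, 64), (.ofNat 7107, 65), (.ofNat 9689, 66), (.ofNat 5186, 67),
  (.ofNat 6125, 68), (.ofNat 4830, 69), (.ofNat 4617, 70), (.ofNat 7463, 71), (.ofNat 8936, 72), (.ofNat 8706, 73),
  (.ofNat 6403, 74), (.ofNat 8023, 75), (.ofNat 9077, 76), (.ofNat 6880, 77), (.ofNat 7598, 78), (.ofNat 8239, 79),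
  (.ofNat 10678, 80), (.ofNat 10784, 81), (.ofNat 10186, 82), (.ofNat 10125, 83), (.ofNat 9419, 84), (.ofNat 9586,
  85), (.ofNat 11509, 86), (.ofNat 12785, 87), (.ofNat 17058, 88), (.ofNat 15286, 89), (.ofNat 17217, 90), (.ofNat
  18036, 91), (.ofNat 17281, 92), (.ofNat 18659, 93), (.ofNat 19098, 94), (.ofNat 19683, 95), (.ofNat 15455, 96),
  (.ofNat 3213, 98), (.negSucc 353, 3)]) (.bm 4 0 (.far (.negSucc 218) [(.ofNat 218, 1), (.negSucc 131, 2), (.negSucc
  242, 4), (.ofNat 78, 9), (.ofNat 20, 13), (.ofNat 166, 14), (.ofNat 3, 20), (.negSucc 12, 26), (.negSucc 90, 27),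
  (.negSucc 1, 28), (.ofNat 26, 29), (.negSucc 15, 30), (.negSucc 19, 31), (.negSucc 0, 32), (.negSucc 40, 33),
  (.negSucc 55, 35), (.negSucc 14, 36), (.ofNat 58, 37), (.ofNat 16, 38), (.negSucc 59, 39), (.ofNat 19, 40), (.ofNat
  54, 41), (.ofNat 3, 42), (.ofNat 33, 43), (.negSucc 27, 44), (.negSucc 15, 45), (.negSucc 84, 46), (.negSucc 15,
  47), (.ofNat 31, 48), (.ofNat 50, 49), (.ofNat 61, 50), (.ofNat 68, 51), (.ofNat 9, 52), (.negSucc 56, 53),
  (.negSucc 27, 54), (.ofNat 19, 55), (.ofNat 22, 56), (.ofNat 19, 57), (.negSucc 11, 58), (.ofNat 17, 59), (.negSucc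
  46, 60), (.ofNat 26, 61), (.ofNat 54, 62), (.ofNat 36, 63), (.negSucc 29, 64), (.ofNat 2, 65), (.ofNat 62, 66),
  (.ofNat 5, 67), (.negSucc 28, 68), (.negSucc 55, 69), (.negSucc 78, 70), (.ofNat 18, 71), (.ofNat 43, 72), (.ofNat
  90, 73), (.negSucc 70, 74), (.negSucc 65, 75), (.negSucc 13, 76), (.negSucc 12, 77), (.negSucc 46, 78), (.negSucc
  15, 79), (.ofNat 36, 80), (.ofNat 49, 81), (.negSucc 17, 82), (.negSucc 82, 84), (.ofNat 51, 85), (.negSucc 76,
  86), (.negSucc 50, 87), (.ofNat 7, 88), (.ofNat 7, 89), (.negSucc 1, 90), (.negSucc 18, 92), (.ofNat 72, 93),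
  (.ofNat 43, 94), (.ofNat 8, 95), (.ofNat 81, 98)]) (.far (.negSucc 807) [(.ofNat 1530, 1), (.negSucc 1553, 2),
  (.ofNat 814, 3), (.ofNat 134, 8), (.ofNat 1695, 9), (.ofNat 997, 13), (.ofNat 1633, 14), (.ofNat 126, 16), (.ofNat
  17, 22), (.ofNat 377, 25), (.ofNat 708, 26), (.negSucc 1898, 27), (.negSucc 758, 28), (.negSucc 470, 29), (.negSucc
  1112, 30), (.negSucc 1467, 31), (.negSucc 1061, 32), (.negSucc 1771, 33), (.negSucc 1654, 34), (.negSucc 2091, 35),
  (.negSucc 2963, 36), (.negSucc 2260, 37), (.negSucc 2859, 38), (.negSucc 2686, 39), (.negSucc 2607, 40), (.negSucc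
  2578, 41), (.negSucc 2490, 42), (.negSucc 3799, 43), (.negSucc 4312, 44), (.negSucc 3794, 45), (.negSucc 5978, 46),
  (.negSucc 5542, 47), (.negSucc 6491, 48), (.negSucc 6200, 49), (.negSucc 5820, 50), (.negSucc 7035, 51), (.negSucc
  7436, 52), (.negSucc 7764, 53), (.negSucc 7480, 54), (.negSucc 8457, 55), (.negSucc 9464, 56), (.negSucc 8363, 57),
  (.negSucc 11330, 58), (.negSucc 11218, 59), (.negSucc 11940, 60), (.negSucc 16042, 61), (.negSucc 16096, 62),
  (.negSucc 19456, 63), (.negSucc 19628, 64), (.negSucc 20246, 65), (.negSucc 19837, 66), (.negSucc 21950, 67),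
  (.negSucc 21986, 68), (.negSucc 22072, 69), (.negSucc 24289, 70), (.negSucc 23124, 71), (.negSucc 23118, 72),
  (.negSucc 25678, 73), (.negSucc 26619, 74), (.negSucc 26804, 75), (.negSucc 27077, 76), (.negSucc 28199, 77),
  (.negSucc 28475, 78), (.negSucc 29839, 79), (.negSucc 30853, 80), (.negSucc 31607, 81), (.negSucc 31898, 82),
  (.negSucc 32773, 83), (.negSucc 34940, 84), (.negSucc 40012, 85), (.negSucc 40954, 86), (.negSucc 42952, 87),
  (.negSucc 49401, 88), (.negSucc 50004, 89), (.negSucc 48716, 90), (.negSucc 50630, 91), (.negSucc 52854, 92),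
  (.negSucc 53044, 93), (.negSucc 53197, 94), (.negSucc 54699, 95), (.negSucc 59048, 96), (.ofNat 1496, 98), (.ofNat
  808, 4)]))) (.far (.negSucc 1342) [(.ofNat 469, 1), (.ofNat 656, 9), (.ofNat 1591, 13), (.ofNat 708, 14), (.ofNat
  859, 20), (.ofNat 128, 21), (.negSucc 1018, 26), (.negSucc 1033, 27), (.negSucc 173, 28), (.ofNat 1341, 29),
  (.negSucc 490, 30), (.ofNat 455, 31), (.ofNat 18, 32), (.ofNat 89, 33), (.ofNat 300, 34), (.ofNat 2023, 35),
  (.ofNat 479, 36), (.ofNat 509, 37), (.ofNat 313, 38), (.ofNat 536, 39), (.ofNat 879, 40), (.ofNat 592, 41), (.ofNat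
  1413, 42), (.negSucc 83, 43), (.ofNat 1582, 44), (.ofNat 203, 45), (.negSucc 91, 46), (.ofNat 1271, 47), (.ofNat
  1525, 48), (.ofNat 1979, 49), (.ofNat 2265, 50), (.ofNat 2239, 51), (.ofNat 3366, 52), (.ofNat 1170, 53), (.ofNat
  2387, 54), (.ofNat 4183, 55), (.ofNat 3351, 56), (.ofNat 4994, 57), (.ofNat 3285, 58), (.ofNat 6145, 59), (.ofNat
  3955, 60), (.ofNat 5029, 61), (.ofNat 6876, 62), (.ofNat 5550, 63), (.ofNat 6376, 64), (.ofNat 6324, 65), (.ofNat
  5820, 66), (.ofNat 7273, 67), (.ofNat 6006, 68), (.ofNat 6104, 69), (.ofNat 6083, 70), (.ofNat 7363, 71), (.ofNat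
  6532, 72), (.ofNat 7950, 73), (.ofNat 7413, 74), (.ofNat 7922, 75), (.ofNat 9067, 76), (.ofNat 9099, 77), (.ofNat
  10539, 78), (.ofNat 11581, 79), (.ofNat 10355, 80), (.ofNat 11145, 81), (.ofNat 10800, 82), (.ofNat 10832, 83),
  (.ofNat 11109, 84), (.ofNat 11818, 85), (.ofNat 12019, 86), (.ofNat 15899, 87), (.ofNat 15695, 88), (.ofNat 17595,
  89), (.ofNat 15615, 90), (.ofNat 16672, 91), (.ofNat 17184, 92), (.ofNat 17750, 93), (.ofNat 17003, 94), (.ofNat
  18755, 95), (.ofNat 19683, 96), (.ofNat 780, 97), (.ofNat 165, 98), (.ofNat 1562, 2)]))) (.far (.negSucc 11417)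
  [(.ofNat 1009, 8), (.ofNat 4026, 9), (.ofNat 353, 12), (.ofNat 4816, 13), (.ofNat 3177, 19), (.ofNat 3750, 20),
  (.ofNat 1634, 21), (.ofNat 2323, 22), (.negSucc 304, 26), (.negSucc 11908, 27), (.negSucc 1639, 28), (.ofNat 336,
  29), (.ofNat 181, 30), (.negSucc 3249, 31), (.negSucc 8897, 32), (.negSucc 1618, 33), (.ofNat 15588, 34), (.ofNat
  17192, 35), (.ofNat 10143, 36), (.negSucc 6927, 37), (.ofNat 6404, 38), (.negSucc 3483, 39), (.negSucc 7424, 40),
  (.negSucc 9416, 41), (.ofNat 6550, 42), (.negSucc 3436, 43), (.ofNat 27511, 44), (.ofNat 5779, 45), (.ofNat 3851,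
  46), (.ofNat 15622, 47), (.ofNat 30727, 48), (.ofNat 18454, 49), (.ofNat 11550, 50), (.negSucc 770, 51), (.ofNat
  20635, 52), (.ofNat 10040, 53), (.ofNat 8641, 54), (.ofNat 24274, 55), (.ofNat 8713, 56), (.ofNat 39302, 57),
  (.ofNat 43681, 58), (.ofNat 28748, 59), (.ofNat 26104, 60), (.ofNat 44003, 61), (.ofNat 70298, 62), (.ofNat 36828,
  63), (.ofNat 46556, 64), (.ofNat 32586, 65), (.ofNat 53901, 66), (.ofNat 79155, 67), (.ofNat 65322, 68), (.ofNat
  39628, 69), (.ofNat 88454, 70), (.ofNat 62734, 71), (.ofNat 61747, 72), (.ofNat 66067, 73), (.ofNat 47719, 74),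
  (.ofNat 65606, 75), (.ofNat 64025, 76), (.ofNat 82631, 77), (.ofNat 84092, 78), (.ofNat 68500, 79), (.ofNat 74743,
  80), (.ofNat 82494, 81), (.ofNat 67152, 82), (.ofNat 83794, 83), (.ofNat 92595, 84), (.ofNat 102673, 85), (.ofNat
  102419, 86), (.ofNat 106587, 87), (.ofNat 135330, 88), (.ofNat 149569, 89), (.ofNat 176188, 90), (.ofNat 137673,
  91), (.ofNat 148239, 92), (.ofNat 143938, 93), (.ofNat 145227, 94), (.ofNat 159257, 95), (.ofNat 177147, 96),
  (.ofNat 2597, 97), (.ofNat 4106, 98)])) (.far (.negSucc 1049229) [(.ofNat 943594, 8), (.ofNat 102732, 9), (.ofNat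
  833475, 13), (.ofNat 1653159, 14), (.ofNat 105191, 16), (.ofNat 640600, 20), (.ofNat 189339, 21), (.ofNat 94568,
  22), (.ofNat 1308151, 25), (.ofNat 513787, 26), (.negSucc 1011867, 27), (.ofNat 1706753, 28), (.ofNat 2403436, 29),
  (.ofNat 3595991, 30), (.ofNat 1680376, 31), (.ofNat 1597222, 32), (.ofNat 3605296, 33), (.ofNat 5796699, 34),
  (.ofNat 6045574, 35), (.ofNat 1490360, 36), (.ofNat 6312171, 37), (.ofNat 3946609, 38), (.ofNat 2054614, 39),
  (.ofNat 6172344, 40), (.ofNat 5737817, 41), (.ofNat 4196644, 42), (.ofNat 5461267, 43), (.ofNat 8152153, 44),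
  (.ofNat 4203739, 45), (.ofNat 9279173, 46), (.ofNat 13789812, 47), (.ofNat 10851408, 48), (.ofNat 14747049, 49),
  (.ofNat 13516164, 50), (.ofNat 14831122, 51), (.ofNat 16334942, 52), (.ofNat 12702155, 53), (.ofNat 18290254, 54),
  (.ofNat 19463474, 55), (.ofNat 15247285, 56), (.ofNat 18901316, 57), (.ofNat 19192215, 58), (.ofNat 18919377, 59),
  (.ofNat 29897455, 60), (.ofNat 31204633, 61), (.ofNat 37574390, 62), (.ofNat 39219129, 63), (.ofNat 35930653, 64),
  (.ofNat 39337020, 65), (.ofNat 43721787, 66), (.ofNat 47940195, 67), (.ofNat 47529643, 68), (.ofNat 41911388, 69),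
  (.ofNat 46423131, 70), (.ofNat 48456120, 71), (.ofNat 48924505, 72), (.ofNat 51583391, 73), (.ofNat 51255856, 74),
  (.ofNat 60287323, 75), (.ofNat 63849019, 76), (.ofNat 52563278, 77), (.ofNat 57174199, 78), (.ofNat 63304922, 79),
  (.ofNat 70198190, 80), (.ofNat 63999437, 81), (.ofNat 66360500, 82), (.ofNat 74941889, 83), (.ofNat 74951648, 84),
  (.ofNat 79636859, 85), (.ofNat 88467812, 86), (.ofNat 94920074, 87), (.ofNat 102263278, 88), (.ofNat 103179851,
  89), (.ofNat 100220464, 90), (.ofNat 110038721, 91), (.ofNat 113722469, 92), (.ofNat 110170807, 93), (.ofNat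
  114780432, 94), (.ofNat 116077922, 95), (.ofNat 129140163, 96), (.ofNat 600966, 97), (.ofNat 1989968, 98)])) (.far
  (.negSucc 39324) [(.ofNat 31951, 9), (.ofNat 8284, 14), (.ofNat 2807, 18), (.ofNat 68682, 20), (.ofNat 3893, 23),
  (.ofNat 7392, 26), (.negSucc 72139, 27), (.ofNat 69119, 28), (.ofNat 87167, 29), (.ofNat 79644, 30), (.ofNat 92516,
  31), (.ofNat 65186, 32), (.negSucc 24505, 33), (.ofNat 87336, 34), (.ofNat 178164, 35), (.ofNat 203696, 36),
  (.ofNat 220944, 37), (.ofNat 219722, 38), (.ofNat 164641, 39), (.ofNat 86221, 40), (.ofNat 82212, 41), (.ofNat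
  257789, 42), (.ofNat 247198, 43), (.ofNat 313845, 44), (.ofNat 299005, 45), (.ofNat 387170, 46), (.ofNat 341383,
  47), (.ofNat 259317, 48), (.ofNat 243058, 49), (.ofNat 451108, 50), (.ofNat 532028, 51), (.ofNat 544233, 52),
  (.ofNat 374364, 53), (.ofNat 776927, 54), (.ofNat 485106, 55), (.ofNat 545579, 56), (.ofNat 594717, 57), (.ofNat
  800130, 58), (.ofNat 992826, 59), (.ofNat 774929, 60), (.ofNat 1279917, 61), (.ofNat 1475987, 62), (.ofNat 1411364,
  63), (.ofNat 1423122, 64), (.ofNat 1389476, 65), (.ofNat 1606563, 66), (.ofNat 1372652, 67), (.ofNat 1682799, 68),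
  (.ofNat 1600471, 69), (.ofNat 1645382, 70), (.ofNat 1542652, 71), (.ofNat 2066466, 72), (.ofNat 1716130, 73),
  (.ofNat 2280910, 74), (.ofNat 2232548, 75), (.ofNat 1781501, 76), (.ofNat 2107228, 77), (.ofNat 2473923, 78),
  (.ofNat 2289221, 79), (.ofNat 2683105, 80), (.ofNat 2613664, 81), (.ofNat 2501250, 82), (.ofNat 2683033, 83),
  (.ofNat 2773737, 84), (.ofNat 3188066, 85), (.ofNat 3195831, 86), (.ofNat 3122417, 87), (.ofNat 3896080, 88),
  (.ofNat 4120648, 89), (.ofNat 3747794, 90), (.ofNat 4092766, 91), (.ofNat 4110434, 92), (.ofNat 4257962, 93),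
  (.ofNat 4222725, 94), (.ofNat 4341035, 95), (.ofNat 4782969, 96), (.ofNat 2079, 97), (.ofNat 54814, 98)])) (.far
  (.negSucc 62404) [(.ofNat 5819, 5), (.ofNat 74514, 9), (.ofNat 35834, 14), (.ofNat 55436, 20), (.ofNat 37528, 21),
  (.ofNat 8907, 24), (.ofNat 8046, 25), (.ofNat 74431, 26), (.negSucc 11047, 27), (.ofNat 22682, 28), (.ofNat 76619,
  29), (.ofNat 57221, 30), (.ofNat 78531, 31), (.ofNat 110810, 32), (.ofNat 113696, 33), (.ofNat 179904, 34), (.ofNat
  176769, 35), (.ofNat 172672, 36), (.ofNat 110347, 37), (.ofNat 182681, 38), (.ofNat 184442, 39), (.ofNat 161998,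
  40), (.ofNat 245401, 41), (.ofNat 265726, 42), (.ofNat 204135, 43), (.ofNat 372272, 44), (.ofNat 285649, 45),
  (.ofNat 325435, 46), (.ofNat 391936, 47), (.ofNat 399132, 48), (.ofNat 522613, 49), (.ofNat 505519, 50), (.ofNat
  562832, 51), (.ofNat 556803, 52), (.ofNat 593112, 53), (.ofNat 665306, 54), (.ofNat 719757, 55), (.ofNat 724890,
  56), (.ofNat 846653, 57), (.ofNat 947710, 58), (.ofNat 824278, 59), (.ofNat 908166, 60), (.ofNat 1250310, 61),
  (.ofNat 1446873, 62), (.ofNat 1659096, 63), (.ofNat 1530750, 64), (.ofNat 1625123, 65), (.ofNat 1582827, 66),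
  (.ofNat 1726650, 67), (.ofNat 1700557, 68), (.ofNat 1832711, 69), (.ofNat 1760424, 70), (.ofNat 1843003, 71),
  (.ofNat 1936250, 72), (.ofNat 2113168, 73), (.ofNat 2148521, 74), (.ofNat 2189567, 75), (.ofNat 2246304, 76),
  (.ofNat 2224780, 77), (.ofNat 2244711, 78), (.ofNat 2350825, 79), (.ofNat 2556052, 80), (.ofNat 2708076, 81),
  (.ofNat 2652794, 82), (.ofNat 2654922, 83), (.ofNat 2831728, 84), (.ofNat 3084748, 85), (.ofNat 3328566, 86),
  (.ofNat 3533138, 87), (.ofNat 4067538, 88), (.ofNat 4156280, 89), (.ofNat 4099887, 90), (.ofNat 4235960, 91),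
  (.ofNat 4356971, 92), (.ofNat 4359774, 93), (.ofNat 4373887, 94), (.ofNat 4541589, 95), (.ofNat 4782969, 96),
  (.ofNat 9958, 97), (.ofNat 55890, 98)])) (.far (.negSucc 32738) [(.ofNat 7898, 8), (.ofNat 789, 14), (.ofNat 425,
  16), (.ofNat 16936, 20), (.ofNat 19933, 21), (.ofNat 31356, 22), (.ofNat 6282, 23), (.ofNat 12195, 25), (.ofNat
  198, 26), (.negSucc 10179, 27), (.ofNat 6331, 28), (.ofNat 29355, 29), (.ofNat 12677, 30), (.ofNat 52404, 31),
  (.ofNat 34127, 32), (.ofNat 39736, 33), (.ofNat 32137, 34), (.ofNat 74049, 35), (.ofNat 68911, 36), (.ofNat 73154,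
  37), (.ofNat 37485, 38), (.ofNat 64839, 39), (.ofNat 42892, 40), (.ofNat 37363, 41), (.ofNat 46473, 42), (.ofNat
  75402, 43), (.ofNat 86787, 44), (.ofNat 45610, 45), (.ofNat 111166, 46), (.ofNat 167883, 47), (.ofNat 73997, 48),
  (.ofNat 214875, 49), (.ofNat 171429, 50), (.ofNat 145463, 51), (.ofNat 213144, 52), (.ofNat 224607, 53), (.ofNat
  244127, 54), (.ofNat 250422, 55), (.ofNat 262755, 56), (.ofNat 277534, 57), (.ofNat 313375, 58), (.ofNat 325164,
  59), (.ofNat 291763, 60), (.ofNat 485311, 61), (.ofNat 470694, 62), (.ofNat 551858, 63), (.ofNat 538532, 64),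
  (.ofNat 421510, 65), (.ofNat 542464, 66), (.ofNat 539005, 67), (.ofNat 580598, 68), (.ofNat 580970, 69), (.ofNat
  603762, 70), (.ofNat 633941, 71), (.ofNat 639983, 72), (.ofNat 700546, 73), (.ofNat 695315, 74), (.ofNat 726303,
  75), (.ofNat 777209, 76), (.ofNat 851278, 77), (.ofNat 778139, 78), (.ofNat 851952, 79), (.ofNat 850882, 80),
  (.ofNat 866309, 81), (.ofNat 840910, 82), (.ofNat 911143, 83), (.ofNat 943573, 84), (.ofNat 947444, 85), (.ofNat
  1107889, 86), (.ofNat 1107400, 87), (.ofNat 1444829, 88), (.ofNat 1344699, 89), (.ofNat 1294718, 90), (.ofNat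
  1377996, 91), (.ofNat 1402745, 92), (.ofNat 1441113, 93), (.ofNat 1497864, 94), (.ofNat 1472199, 95), (.ofNat
  1594323, 96), (.ofNat 12383, 98)])) (.far (.negSucc 2115193) [(.ofNat 3494254, 13), (.ofNat 1557700, 18), (.ofNat
  3223382, 19), (.ofNat 893587, 20), (.ofNat 781714, 22), (.ofNat 2037040, 23), (.ofNat 114860, 26), (.negSucc
  1787392, 27), (.ofNat 11330519, 28), (.ofNat 30306394, 29), (.ofNat 15136170, 30), (.ofNat 29028319, 31), (.ofNat
  24968562, 32), (.ofNat 11382776, 33), (.ofNat 26036017, 34), (.ofNat 48891699, 35), (.ofNat 30840074, 36), (.ofNat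
  53217907, 37), (.ofNat 49298989, 38), (.ofNat 46849872, 39), (.ofNat 46814016, 40), (.ofNat 40892449, 41), (.ofNat
  41941077, 42), (.ofNat 62344320, 43), (.ofNat 89715546, 44), (.ofNat 85018073, 45), (.ofNat 85136864, 46), (.ofNat
  101828068, 47), (.ofNat 81961142, 48), (.ofNat 98791231, 49), (.ofNat 126588161, 50), (.ofNat 126921010, 51),
  (.ofNat 120081766, 52), (.ofNat 124080042, 53), (.ofNat 147619719, 54), (.ofNat 194373915, 55), (.ofNat 189697408,
  56), (.ofNat 188669746, 57), (.ofNat 211164540, 58), (.ofNat 236915524, 59), (.ofNat 226417374, 60), (.ofNat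
  309464106, 61), (.ofNat 344833818, 62), (.ofNat 386765342, 63), (.ofNat 398848995, 64), (.ofNat 394467253, 65),
  (.ofNat 395450882, 66), (.ofNat 419465392, 67), (.ofNat 425236395, 68), (.ofNat 427812832, 69), (.ofNat 446515318,
  70), (.ofNat 434570930, 71), (.ofNat 443561838, 72), (.ofNat 508494952, 73), (.ofNat 498020435, 74), (.ofNat
  534848455, 75), (.ofNat 546264492, 76), (.ofNat 538570209, 77), (.ofNat 566147611, 78), (.ofNat 588806100, 79),
  (.ofNat 613688285, 80), (.ofNat 629323217, 81), (.ofNat 639669943, 82), (.ofNat 627580663, 83), (.ofNat 682066903,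
  84), (.ofNat 751307115, 85), (.ofNat 824988332, 86), (.ofNat 860113997, 87), (.ofNat 985404785, 88), (.ofNat
  982300160, 89), (.ofNat 986339022, 90), (.ofNat 1023719538, 91), (.ofNat 1065586117, 92), (.ofNat 1056675974, 93),
  (.ofNat 1071391561, 94), (.ofNat 1080975153, 95), (.ofNat 1162261467, 96), (.ofNat 3759524, 97), (.ofNat 6993045,
  98)])) (.far (.negSucc 2520174) [(.ofNat 691286, 5), (.ofNat 520453, 13), (.ofNat 1515942, 21), (.ofNat 4850286,
  22), (.ofNat 4903655, 23), (.ofNat 94829, 24), (.ofNat 3632328, 25), (.negSucc 1983882, 26), (.ofNat 8871350, 27),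
  (.ofNat 13194700, 28), (.ofNat 4931078, 29), (.ofNat 10151675, 30), (.ofNat 8030964, 31), (.ofNat 18829657, 32),
  (.ofNat 35762526, 33), (.ofNat 44142664, 34), (.ofNat 26240611, 35), (.ofNat 28932356, 36), (.ofNat 44980334, 37),
  (.ofNat 52103920, 38), (.ofNat 43779208, 39), (.ofNat 53388153, 40), (.ofNat 47959167, 41), (.ofNat 50516437, 42),
  (.ofNat 48634831, 43), (.ofNat 63195763, 44), (.ofNat 80127038, 45), (.ofNat 69883451, 46), (.ofNat 80058974, 47),
  (.ofNat 103807843, 48), (.ofNat 112597743, 49), (.ofNat 98825417, 50), (.ofNat 101020073, 51), (.ofNat 146492175,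
  52), (.ofNat 145703343, 53), (.ofNat 166088011, 54), (.ofNat 185345484, 55), (.ofNat 162641258, 56), (.ofNat
  192629952, 57), (.ofNat 179933849, 58), (.ofNat 213591216, 59), (.ofNat 204467638, 60), (.ofNat 291009858, 61),
  (.ofNat 305373377, 62), (.ofNat 384368180, 63), (.ofNat 390192504, 64), (.ofNat 407795454, 65), (.ofNat 370432695,
  66), (.ofNat 438588429, 67), (.ofNat 448612959, 68), (.ofNat 434694410, 69), (.ofNat 425503589, 70), (.ofNat
  443865267, 71), (.ofNat 444007299, 72), (.ofNat 516789737, 73), (.ofNat 526288820, 74), (.ofNat 502450711, 75),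
  (.ofNat 549616328, 76), (.ofNat 564702492, 77), (.ofNat 573768296, 78), (.ofNat 577862060, 79), (.ofNat 639756531,
  80), (.ofNat 589005294, 81), (.ofNat 618076774, 82), (.ofNat 647804263, 83), (.ofNat 666043867, 84), (.ofNat
  774276445, 85), (.ofNat 839207042, 86), (.ofNat 849758575, 87), (.ofNat 993637424, 88), (.ofNat 1017639086, 89),
  (.ofNat 990206081, 90), (.ofNat 1010089582, 91), (.ofNat 1032120109, 92), (.ofNat 1069758334, 93), (.ofNat
  1073060260, 94), (.ofNat 1117801477, 95), (.ofNat 1162261467, 96), (.ofNat 1831747, 97), (.ofNat 6822144, 98)]))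
  (.far (.negSucc 45200) [(.ofNat 52070, 13), (.ofNat 1765, 14), (.ofNat 4409, 16), (.ofNat 27502, 20), (.ofNat
  13968, 24), (.ofNat 31555, 25), (.ofNat 59222, 26), (.ofNat 6296, 27), (.negSucc 15020, 28), (.ofNat 108036, 29),
  (.ofNat 70168, 30), (.ofNat 51808, 31), (.ofNat 24993, 32), (.ofNat 136397, 33), (.ofNat 148561, 34), (.ofNat
  167475, 35), (.ofNat 153103, 36), (.ofNat 232748, 37), (.ofNat 185942, 38), (.ofNat 172803, 39), (.ofNat 219371,
  40), (.ofNat 191023, 41), (.ofNat 215913, 42), (.ofNat 272327, 43), (.ofNat 318460, 44), (.ofNat 436931, 45),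
  (.ofNat 342621, 46), (.ofNat 375322, 47), (.ofNat 450784, 48), (.ofNat 471805, 49), (.ofNat 511676, 50), (.ofNat
  513083, 51), (.ofNat 599113, 52), (.ofNat 530512, 53), (.ofNat 670397, 54), (.ofNat 723770, 55), (.ofNat 764246,
  56), (.ofNat 869031, 57), (.ofNat 859782, 58), (.ofNat 893248, 59), (.ofNat 928195, 60), (.ofNat 1289278, 61),
  (.ofNat 1373444, 62), (.ofNat 1541706, 63), (.ofNat 1485740, 64), (.ofNat 1552693, 65), (.ofNat 1698272, 66),
  (.ofNat 1688977, 67), (.ofNat 1678059, 68), (.ofNat 1747049, 69), (.ofNat 1667364, 70), (.ofNat 1785241, 71),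
  (.ofNat 1846143, 72), (.ofNat 2036556, 73), (.ofNat 2063283, 74), (.ofNat 2016031, 75), (.ofNat 2152595, 76),
  (.ofNat 2180235, 77), (.ofNat 2231002, 78), (.ofNat 2329541, 79), (.ofNat 2391309, 80), (.ofNat 2504931, 81),
  (.ofNat 2542512, 82), (.ofNat 2511238, 83), (.ofNat 2721925, 84), (.ofNat 2962761, 85), (.ofNat 3237626, 86),
  (.ofNat 3385422, 87), (.ofNat 3822090, 88), (.ofNat 3975489, 89), (.ofNat 3864114, 90), (.ofNat 4037001, 91),
  (.ofNat 4135046, 92), (.ofNat 4246618, 93), (.ofNat 4238552, 94), (.ofNat 4368780, 95), (.ofNat 4782969, 96),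
  (.ofNat 2374, 97)])) (.far (.negSucc 6774) [(.ofNat 6242, 13), (.ofNat 2542, 14), (.ofNat 766, 18), (.ofNat 1346,
  19), (.ofNat 11412, 20), (.ofNat 4864, 23), (.negSucc 2343, 26), (.ofNat 8530, 27), (.ofNat 7614, 28), (.ofNat
  47703, 29), (.ofNat 30766, 30), (.ofNat 23813, 31), (.ofNat 34079, 32), (.ofNat 25067, 33), (.ofNat 45495, 34),
  (.ofNat 66859, 35), (.ofNat 50588, 36), (.ofNat 73256, 37), (.ofNat 66155, 38), (.ofNat 72121, 39), (.ofNat 66287,
  40), (.ofNat 75018, 41), (.ofNat 70614, 42), (.ofNat 77792, 43), (.ofNat 117631, 44), (.ofNat 112589, 45), (.ofNat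
  129960, 46), (.ofNat 124013, 47), (.ofNat 136606, 48), (.ofNat 166810, 49), (.ofNat 162326, 50), (.ofNat 163545,
  51), (.ofNat 188093, 52), (.ofNat 183227, 53), (.ofNat 222172, 54), (.ofNat 252974, 55), (.ofNat 247063, 56),
  (.ofNat 270528, 57), (.ofNat 292878, 58), (.ofNat 311775, 59), (.ofNat 317212, 60), (.ofNat 441820, 61), (.ofNat
  464412, 62), (.ofNat 519480, 63), (.ofNat 533962, 64), (.ofNat 530796, 65), (.ofNat 548167, 66), (.ofNat 568954,
  67), (.ofNat 577523, 68), (.ofNat 586819, 69), (.ofNat 591597, 70), (.ofNat 611795, 71), (.ofNat 617183, 72),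
  (.ofNat 695842, 73), (.ofNat 695357, 74), (.ofNat 707045, 75), (.ofNat 742662, 76), (.ofNat 740608, 77), (.ofNat
  774005, 78), (.ofNat 801464, 79), (.ofNat 845278, 80), (.ofNat 853205, 81), (.ofNat 863889, 82), (.ofNat 874629,
  83), (.ofNat 945208, 84), (.ofNat 1005888, 85), (.ofNat 1108508, 86), (.ofNat 1152561, 87), (.ofNat 1317693, 88),
  (.ofNat 1348065, 89), (.ofNat 1336366, 90), (.ofNat 1388276, 91), (.ofNat 1424921, 92), (.ofNat 1436734, 93),
  (.ofNat 1424040, 94), (.ofNat 1495838, 95), (.ofNat 1594323, 96), (.ofNat 6898, 97), (.ofNat 1049, 98)])) (.far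
  (.negSucc 775381) [(.ofNat 1428069, 13), (.ofNat 508236, 19), (.ofNat 736762, 21), (.ofNat 712838, 22), (.ofNat
  135362, 23), (.ofNat 1336219, 24), (.ofNat 1590526, 25), (.ofNat 46100, 26), (.ofNat 569405, 27), (.ofNat 4279184,
  28), (.ofNat 5868994, 29), (.ofNat 6193472, 30), (.ofNat 6110174, 31), (.ofNat 7204655, 32), (.ofNat 6326321, 33),
  (.ofNat 12270197, 34), (.ofNat 15172530, 35), (.ofNat 14313883, 36), (.ofNat 15401405, 37), (.ofNat 16369396, 38),
  (.ofNat 14300767, 39), (.ofNat 14124957, 40), (.ofNat 13948831, 41), (.ofNat 19506728, 42), (.ofNat 22825250, 43),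
  (.ofNat 26840359, 44), (.ofNat 27686282, 45), (.ofNat 33441260, 46), (.ofNat 30779563, 47), (.ofNat 31612129, 48),
  (.ofNat 31963332, 49), (.ofNat 39267012, 50), (.ofNat 42893722, 51), (.ofNat 45471702, 52), (.ofNat 40250981, 53),
  (.ofNat 58172364, 54), (.ofNat 53361800, 55), (.ofNat 54892999, 56), (.ofNat 57521593, 57), (.ofNat 68039231, 58),
  (.ofNat 79030486, 59), (.ofNat 72806061, 60), (.ofNat 104102461, 61), (.ofNat 116016918, 62), (.ofNat 123407089,
  63), (.ofNat 125141323, 64), (.ofNat 124551968, 65), (.ofNat 130902924, 66), (.ofNat 130551239, 67), (.ofNat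
  141018601, 68), (.ofNat 140354979, 69), (.ofNat 143877185, 70), (.ofNat 142286092, 71), (.ofNat 157004743, 72),
  (.ofNat 159746065, 73), (.ofNat 176421038, 74), (.ofNat 178369736, 75), (.ofNat 168059122, 76), (.ofNat 177255381,
  77), (.ofNat 191339705, 78), (.ofNat 193727808, 79), (.ofNat 210954084, 80), (.ofNat 210351762, 81), (.ofNat
  208669107, 82), (.ofNat 216475171, 83), (.ofNat 228729358, 84), (.ofNat 254996472, 85), (.ofNat 268120258, 86),
  (.ofNat 272643804, 87), (.ofNat 320569300, 88), (.ofNat 331846081, 89), (.ofNat 321250872, 90), (.ofNat 335532863,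
  91), (.ofNat 345888004, 92), (.ofNat 350501687, 93), (.ofNat 347369762, 94), (.ofNat 359714382, 95), (.ofNat
  387420489, 96), (.ofNat 389040, 97), (.ofNat 2091437, 98)])) (.far (.negSucc 9701) [(.ofNat 7009, 13), (.ofNat
  5221, 20), (.ofNat 242, 21), (.ofNat 322, 25), (.negSucc 5623, 26), (.negSucc 2070, 27), (.ofNat 4326, 28), (.ofNat
  26484, 29), (.negSucc 5839, 30), (.ofNat 22794, 31), (.ofNat 4470, 32), (.negSucc 1338, 33), (.ofNat 20265, 34),
  (.ofNat 27725, 35), (.negSucc 6295, 36), (.ofNat 39108, 37), (.ofNat 21067, 38), (.ofNat 21679, 39), (.ofNat 12884,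
  40), (.ofNat 19734, 41), (.ofNat 22452, 42), (.ofNat 22236, 43), (.ofNat 41417, 44), (.ofNat 42454, 45), (.ofNat
  41551, 46), (.ofNat 40245, 47), (.ofNat 30348, 48), (.ofNat 59821, 49), (.ofNat 51709, 50), (.ofNat 48223, 51),
  (.ofNat 65205, 52), (.ofNat 62831, 53), (.ofNat 71584, 54), (.ofNat 120167, 55), (.ofNat 88093, 56), (.ofNat 92373,
  57), (.ofNat 104543, 58), (.ofNat 126457, 59), (.ofNat 112531, 60), (.ofNat 130104, 61), (.ofNat 159214, 62),
  (.ofNat 160706, 63), (.ofNat 174685, 64), (.ofNat 173668, 65), (.ofNat 164692, 66), (.ofNat 173506, 67), (.ofNat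
  180384, 68), (.ofNat 174594, 69), (.ofNat 186307, 70), (.ofNat 195080, 71), (.ofNat 206416, 72), (.ofNat 229370,
  73), (.ofNat 213679, 74), (.ofNat 228534, 75), (.ofNat 242773, 76), (.ofNat 238395, 77), (.ofNat 259216, 78),
  (.ofNat 249063, 79), (.ofNat 282185, 80), (.ofNat 278426, 81), (.ofNat 287351, 82), (.ofNat 266094, 83), (.ofNat
  310750, 84), (.ofNat 322216, 85), (.ofNat 362157, 86), (.ofNat 383591, 87), (.ofNat 429702, 88), (.ofNat 432724,
  89), (.ofNat 428397, 90), (.ofNat 465106, 91), (.ofNat 462479, 92), (.ofNat 471533, 93), (.ofNat 461636, 94),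
  (.ofNat 488479, 95), (.ofNat 531441, 96), (.ofNat 2549, 97), (.ofNat 1650, 98)])) (.far (.negSucc 28652) [(.ofNat
  4164, 8), (.ofNat 19989, 9), (.ofNat 9557, 13), (.ofNat 9714, 19), (.ofNat 13762, 20), (.ofNat 6752, 22), (.ofNat
  1786, 23), (.ofNat 1704, 25), (.negSucc 4270, 26), (.negSucc 10948, 27), (.ofNat 3676, 28), (.ofNat 8619, 29),
  (.negSucc 2000, 30), (.ofNat 7610, 31), (.ofNat 7367, 32), (.ofNat 7962, 33), (.ofNat 19319, 34), (.ofNat 33914,
  35), (.ofNat 23118, 36), (.ofNat 20431, 37), (.ofNat 23186, 38), (.ofNat 18981, 39), (.ofNat 25126, 40), (.ofNat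
  22590, 41), (.ofNat 28126, 42), (.ofNat 15978, 43), (.ofNat 42214, 44), (.ofNat 28554, 45), (.ofNat 21984, 46),
  (.ofNat 40111, 47), (.ofNat 45517, 48), (.ofNat 47078, 49), (.ofNat 61969, 50), (.ofNat 54781, 51), (.ofNat 56134,
  52), (.ofNat 67106, 53), (.ofNat 69357, 54), (.ofNat 73327, 55), (.ofNat 68779, 56), (.ofNat 110477, 57), (.ofNat
  97086, 58), (.ofNat 116901, 59), (.ofNat 105537, 60), (.ofNat 139030, 61), (.ofNat 159188, 62), (.ofNat 179482,
  63), (.ofNat 163618, 64), (.ofNat 173685, 65), (.ofNat 173762, 66), (.ofNat 189423, 67), (.ofNat 180738, 68),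
  (.ofNat 184049, 69), (.ofNat 176545, 70), (.ofNat 193149, 71), (.ofNat 194631, 72), (.ofNat 224757, 73), (.ofNat
  219498, 74), (.ofNat 230533, 75), (.ofNat 238169, 76), (.ofNat 237592, 77), (.ofNat 248463, 78), (.ofNat 258844,
  79), (.ofNat 273610, 80), (.ofNat 280044, 81), (.ofNat 268878, 82), (.ofNat 287565, 83), (.ofNat 301025, 84),
  (.ofNat 314928, 85), (.ofNat 352064, 86), (.ofNat 370101, 87), (.ofNat 428654, 88), (.ofNat 439821, 89), (.ofNat
  437541, 90), (.ofNat 447460, 91), (.ofNat 459638, 92), (.ofNat 464662, 93), (.ofNat 458518, 94), (.ofNat 487017,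
  95), (.ofNat 531441, 96), (.ofNat 6213, 97)])))

/-- certificates -/
noncomputable def CL12 : List (Hd × Tr) :=
  [c61]

theorem okC12 : okL TAB.Co1.D (TAB.Sm2.mkRows TAB.Co1.RA TAB.Co1.RB) P Z CL12 = true := by decide +kernel

/-- a certificate -/
noncomputable def c62 : Hd × Tr :=
  ((679311360000, [], []), (.bf 26 497 (.bf 27 21 (.bf 14 3986 (.bf 15 141 (.bf 16 31 (.bf 4 157410 (.bf 5 1836 (.bf
  6 432 (.bf 7 222 (.bf 1 23168 (.bf 2 4882 (.bf 3 2288 (.bm 1 1 (.bm 3 1 (.bm 4 1 (.bm 5 0 (.bm 6 1 (.bm 6 0 (.far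
  (.ofNat 168) [(.negSucc 15, 4), (.negSucc 49, 5), (.ofNat 13, 8), (.ofNat 6, 13), (.ofNat 125, 20), (.ofNat 51,
  21), (.ofNat 314, 26), (.ofNat 7, 28), (.ofNat 82, 29), (.negSucc 22, 30), (.ofNat 24, 31), (.negSucc 22, 32),
  (.ofNat 47, 33), (.ofNat 98, 34), (.negSucc 190, 35), (.ofNat 22, 36), (.ofNat 112, 37), (.ofNat 54, 38), (.ofNat
  77, 39), (.ofNat 120, 40), (.ofNat 89, 41), (.ofNat 108, 42), (.ofNat 36, 43), (.ofNat 151, 44), (.ofNat 380, 45),
  (.ofNat 77, 46), (.ofNat 107, 47), (.ofNat 68, 48), (.ofNat 228, 49), (.ofNat 272, 50), (.ofNat 264, 51), (.ofNat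
  198, 52), (.ofNat 206, 53), (.ofNat 291, 54), (.ofNat 376, 55), (.ofNat 249, 56), (.ofNat 410, 57), (.ofNat 438,
  58), (.ofNat 140, 59), (.ofNat 402, 60), (.ofNat 615, 61), (.ofNat 568, 62), (.ofNat 640, 63), (.ofNat 728, 64),
  (.ofNat 695, 65), (.ofNat 977, 66), (.ofNat 632, 67), (.ofNat 787, 68), (.ofNat 622, 69), (.ofNat 760, 70), (.ofNat
  819, 71), (.ofNat 1050, 72), (.ofNat 940, 73), (.ofNat 818, 74), (.ofNat 926, 75), (.ofNat 919, 76), (.ofNat 925,
  77), (.ofNat 979, 78), (.ofNat 723, 79), (.ofNat 1104, 80), (.ofNat 1121, 81), (.ofNat 1080, 82), (.ofNat 1041,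
  83), (.ofNat 1140, 84), (.ofNat 1331, 85), (.ofNat 1365, 86), (.ofNat 1430, 87), (.ofNat 1663, 88), (.ofNat 1653,
  89), (.ofNat 1668, 90), (.ofNat 1886, 91), (.ofNat 1793, 92), (.ofNat 1902, 93), (.ofNat 2187, 94), (.ofNat 1915,
  95), (.ofNat 1705, 96), (.ofNat 47, 98), (.negSucc 293, 6)]) (.bm 7 1 (.bm 8 0 (.bm 9 0 (.bm 10 1 (.bm 11 1 (.bm 11
  0 (.far (.ofNat 1) [(.ofNat 1, 13), (.ofNat 1, 29), (.negSucc 0, 33), (.negSucc 0, 36), (.ofNat 1, 55), (.ofNat 1,
  59), (.negSucc 0, 68), (.negSucc 0, 74), (.ofNat 1, 80), (.negSucc 0, 11)]) (.bm 12 1 (.bf 57 7 (.bf 26 84 (.far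
  (.negSucc 71021) [(.negSucc 86, 3), (.negSucc 111342, 5), (.ofNat 9533, 6), (.ofNat 37280, 8), (.ofNat 17127, 9),
  (.ofNat 29895, 11), (.ofNat 13241, 14), (.ofNat 47416, 20), (.ofNat 11501, 21), (.ofNat 41357, 22), (.ofNat 19464,
  23), (.ofNat 22070, 25), (.ofNat 23763, 29), (.negSucc 29101, 30), (.negSucc 3791, 31), (.negSucc 30163, 32),
  (.negSucc 62667, 33), (.negSucc 2369, 34), (.negSucc 46784, 35), (.negSucc 26072, 36), (.negSucc 42521, 37),
  (.negSucc 5282, 38), (.negSucc 28807, 39), (.negSucc 19614, 40), (.negSucc 27597, 41), (.negSucc 37080, 42),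
  (.negSucc 69410, 43), (.negSucc 15746, 44), (.negSucc 88250, 45), (.negSucc 131513, 46), (.negSucc 24784, 47),
  (.negSucc 71771, 48), (.negSucc 76743, 49), (.negSucc 58180, 50), (.negSucc 52077, 51), (.negSucc 56096, 52),
  (.negSucc 41741, 53), (.negSucc 90720, 54), (.negSucc 55255, 55), (.negSucc 116083, 56), (.negSucc 30120, 57),
  (.negSucc 85291, 58), (.negSucc 91672, 59), (.negSucc 125575, 60), (.negSucc 127860, 61), (.negSucc 168875, 62),
  (.negSucc 175123, 63), (.negSucc 183608, 64), (.negSucc 147825, 65), (.negSucc 124416, 66), (.negSucc 199373, 67),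
  (.negSucc 221809, 68), (.negSucc 259620, 69), (.negSucc 219209, 70), (.negSucc 209563, 71), (.negSucc 226053, 72),
  (.negSucc 218113, 73), (.negSucc 250586, 74), (.negSucc 220477, 75), (.negSucc 244413, 76), (.negSucc 244896, 77),
  (.negSucc 262694, 78), (.negSucc 280830, 79), (.negSucc 259020, 80), (.negSucc 253891, 81), (.negSucc 291285, 82),
  (.negSucc 341379, 83), (.negSucc 323930, 84), (.negSucc 318096, 85), (.negSucc 425141, 86), (.negSucc 388060, 87),
  (.negSucc 439425, 88), (.negSucc 465131, 89), (.negSucc 482042, 90), (.negSucc 449629, 91), (.negSucc 518063, 92),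
  (.negSucc 482051, 93), (.negSucc 504625, 94), (.negSucc 531440, 95), (.negSucc 521382, 96), (.ofNat 14123, 97),
  (.ofNat 13261, 98)]) (.bf 14 1876 (.bf 14 691 (.far (.negSucc 180147) [(.negSucc 708172, 5), (.negSucc 343036, 6),
  (.ofNat 236877, 8), (.negSucc 173078, 9), (.ofNat 340638, 11), (.ofNat 100374, 12), (.ofNat 114671, 14), (.ofNat
  478075, 20), (.ofNat 116959, 21), (.ofNat 178934, 22), (.ofNat 30365, 23), (.ofNat 180348, 25), (.ofNat 618512,
  26), (.ofNat 195716, 29), (.negSucc 200420, 30), (.negSucc 98927, 31), (.negSucc 449808, 32), (.negSucc 717528,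
  33), (.negSucc 570854, 34), (.negSucc 744504, 35), (.negSucc 401959, 36), (.negSucc 388416, 37), (.negSucc 492804,
  38), (.negSucc 583728, 39), (.negSucc 766132, 40), (.negSucc 715778, 41), (.negSucc 724655, 42), (.negSucc 1094927,
  43), (.negSucc 877846, 44), (.negSucc 1076304, 45), (.negSucc 1613951, 46), (.negSucc 1249602, 47), (.negSucc
  1486986, 48), (.negSucc 1547374, 49), (.negSucc 1501614, 50), (.negSucc 1488410, 51), (.negSucc 1834268, 52),
  (.negSucc 1773947, 53), (.negSucc 2167807, 54), (.negSucc 1862470, 55), (.negSucc 2581052, 56), (.negSucc 1855403,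
  57), (.negSucc 2422138, 58), (.negSucc 2984035, 59), (.negSucc 2899497, 60), (.negSucc 3870011, 61), (.negSucc
  4467172, 62), (.negSucc 4891560, 63), (.negSucc 4660587, 64), (.negSucc 4667766, 65), (.negSucc 4456773, 66),
  (.negSucc 5198925, 67), (.negSucc 5477890, 68), (.negSucc 5471302, 69), (.negSucc 5444091, 70), (.negSucc 5464163,
  71), (.negSucc 5174494, 72), (.negSucc 6052264, 73), (.negSucc 6329344, 74), (.negSucc 6492090, 75), (.negSucc
  6624314, 76), (.negSucc 6696017, 77), (.negSucc 6789339, 78), (.negSucc 7745880, 79), (.negSucc 7689795, 80),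
  (.negSucc 7625797, 81), (.negSucc 7826759, 82), (.negSucc 8050140, 83), (.negSucc 8459832, 84), (.negSucc 8894562,
  85), (.negSucc 10192706, 86), (.negSucc 10253185, 87), (.negSucc 11705456, 88), (.negSucc 12293392, 89), (.negSucc
  12417782, 90), (.negSucc 12217182, 91), (.negSucc 13051645, 92), (.negSucc 13210746, 93), (.negSucc 12492516, 94),
  (.negSucc 13428244, 95), (.negSucc 14348906, 96)]) (.bf 15 71 (.bf 5 1530 (.bf 6 378 (.bm 1 0 (.far (.negSucc 1724)
  [(.negSucc 685, 3), (.negSucc 506, 4), (.negSucc 1632, 5), (.ofNat 299, 6), (.ofNat 1140, 8), (.ofNat 454, 9),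
  (.ofNat 413, 11), (.ofNat 1408, 20), (.ofNat 480, 22), (.ofNat 537, 23), (.ofNat 117, 25), (.negSucc 431, 29),
  (.negSucc 705, 30), (.negSucc 529, 31), (.negSucc 1315, 32), (.negSucc 1295, 33), (.negSucc 451, 34), (.negSucc
  1547, 35), (.negSucc 422, 36), (.negSucc 984, 37), (.negSucc 281, 38), (.negSucc 1067, 39), (.negSucc 497, 40),
  (.negSucc 402, 41), (.negSucc 727, 42), (.negSucc 1773, 43), (.negSucc 682, 44), (.negSucc 2869, 45), (.negSucc
  2582, 46), (.negSucc 1726, 47), (.negSucc 2037, 48), (.negSucc 2728, 49), (.negSucc 1489, 50), (.negSucc 2043, 51),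
  (.negSucc 2454, 52), (.negSucc 2059, 53), (.negSucc 3039, 54), (.negSucc 2952, 55), (.negSucc 3749, 56), (.negSucc
  2219, 57), (.negSucc 3554, 58), (.negSucc 3777, 59), (.negSucc 4194, 60), (.negSucc 4574, 61), (.negSucc 6621, 62),
  (.negSucc 6447, 63), (.negSucc 7790, 64), (.negSucc 5753, 65), (.negSucc 5553, 66), (.negSucc 7205, 67), (.negSucc
  7821, 68), (.negSucc 8584, 69), (.negSucc 7672, 70), (.negSucc 7765, 71), (.negSucc 8113, 72), (.negSucc 9196, 73),
  (.negSucc 8786, 74), (.negSucc 9286, 75), (.negSucc 9277, 76), (.negSucc 9023, 77), (.negSucc 9958, 78), (.negSucc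
  10102, 79), (.negSucc 10442, 80), (.negSucc 9987, 81), (.negSucc 10720, 82), (.negSucc 11520, 83), (.negSucc 12599,
  84), (.negSucc 12568, 85), (.negSucc 15051, 86), (.negSucc 14370, 87), (.negSucc 15955, 88), (.negSucc 17315, 89),
  (.negSucc 16803, 90), (.negSucc 17386, 91), (.negSucc 19161, 92), (.negSucc 18306, 93), (.negSucc 18152, 94),
  (.negSucc 19393, 95), (.negSucc 19682, 96), (.ofNat 168, 97), (.negSucc 1323, 1)]) (.bm 2 0 (.bm 3 0 (.far
  (.negSucc 2186) [(.ofNat 702, 1), (.negSucc 831, 2), (.negSucc 1286, 3), (.negSucc 257, 4), (.negSucc 537, 5),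
  (.ofNat 599, 6), (.negSucc 539, 7), (.ofNat 658, 8), (.ofNat 454, 11), (.ofNat 684, 14), (.ofNat 953, 20), (.ofNat
  542, 23), (.ofNat 6, 29), (.ofNat 65, 30), (.negSucc 139, 31), (.negSucc 455, 32), (.negSucc 254, 33), (.ofNat 162,
  34), (.negSucc 736, 35), (.ofNat 14, 36), (.ofNat 2, 37), (.ofNat 224, 38), (.ofNat 57, 39), (.ofNat 111, 40),
  (.ofNat 574, 41), (.negSucc 160, 42), (.negSucc 355, 43), (.ofNat 265, 44), (.negSucc 499, 45), (.negSucc 718, 46),
  (.ofNat 603, 47), (.negSucc 26, 48), (.negSucc 61, 49), (.ofNat 19, 50), (.negSucc 40, 51), (.negSucc 46, 52),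
  (.ofNat 250, 53), (.ofNat 114, 54), (.ofNat 277, 55), (.ofNat 324, 56), (.negSucc 230, 57), (.ofNat 31, 58),
  (.negSucc 515, 60), (.ofNat 1277, 61), (.ofNat 228, 62), (.negSucc 804, 64), (.ofNat 813, 65), (.ofNat 862, 66),
  (.ofNat 36, 67), (.negSucc 13, 68), (.negSucc 314, 69), (.negSucc 99, 71), (.ofNat 17, 72), (.negSucc 33, 73),
  (.negSucc 44, 74), (.negSucc 339, 75), (.negSucc 81, 76), (.negSucc 232, 77), (.negSucc 312, 78), (.negSucc 16,
  79), (.negSucc 11, 80), (.ofNat 329, 81), (.negSucc 125, 82), (.negSucc 10, 83), (.negSucc 357, 84), (.ofNat 654,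
  85), (.negSucc 501, 86), (.ofNat 168, 87), (.ofNat 804, 88), (.ofNat 103, 89), (.ofNat 29, 90), (.negSucc 34, 91),
  (.ofNat 46, 94), (.ofNat 428, 95)]) (.far (.negSucc 4185) [(.ofNat 25364, 1), (.negSucc 17817, 2), (.negSucc 30372,
  5), (.negSucc 709, 6), (.negSucc 9075, 8), (.negSucc 18420, 9), (.ofNat 49, 11), (.ofNat 4601, 14), (.ofNat 2688,
  24), (.ofNat 5211, 25), (.ofNat 4304, 28), (.ofNat 24109, 29), (.negSucc 20198, 30), (.ofNat 27444, 31), (.negSucc
  2265, 32), (.negSucc 19441, 33), (.ofNat 2478, 34), (.ofNat 5103, 35), (.negSucc 46192, 36), (.ofNat 18951, 37),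
  (.negSucc 11172, 38), (.ofNat 1572, 39), (.negSucc 8332, 40), (.negSucc 11324, 41), (.negSucc 3821, 42), (.negSucc
  11956, 43), (.negSucc 11754, 44), (.negSucc 2863, 45), (.negSucc 3220, 46), (.negSucc 144, 47), (.negSucc 30654,
  48), (.ofNat 563, 49), (.ofNat 3807, 50), (.negSucc 23092, 51), (.negSucc 4538, 52), (.ofNat 7961, 53), (.ofNat
  1373, 54), (.ofNat 59049, 55), (.ofNat 9245, 56), (.negSucc 1097, 57), (.ofNat 5998, 58), (.ofNat 33361, 59),
  (.ofNat 535, 60), (.negSucc 35177, 61), (.ofNat 9514, 62), (.negSucc 31275, 63), (.ofNat 2408, 64), (.negSucc 9832,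
  65), (.negSucc 36295, 66), (.negSucc 27591, 67), (.negSucc 27074, 68), (.negSucc 35097, 69), (.negSucc 15416, 70),
  (.negSucc 19178, 71), (.ofNat 1184, 72), (.negSucc 25537, 73), (.negSucc 38772, 74), (.negSucc 16391, 75),
  (.negSucc 6461, 76), (.negSucc 20664, 77), (.ofNat 2124, 78), (.negSucc 32149, 79), (.ofNat 6857, 80), (.negSucc
  19013, 81), (.negSucc 4584, 82), (.negSucc 41705, 83), (.negSucc 15850, 84), (.negSucc 37626, 85), (.negSucc 15033,
  86), (.negSucc 14333, 87), (.negSucc 32935, 88), (.negSucc 37099, 89), (.negSucc 26242, 90), (.ofNat 104, 91),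
  (.negSucc 22311, 92), (.negSucc 30008, 93), (.negSucc 37545, 94), (.negSucc 30866, 95), (.negSucc 30252, 96),
  (.ofNat 7401, 98), (.ofNat 8444, 3)])) (.far (.negSucc 3309) [(.ofNat 142, 1), (.negSucc 1451, 5), (.negSucc 2544,
  6), (.negSucc 798, 7), (.negSucc 89, 8), (.negSucc 1544, 9), (.ofNat 2339, 11), (.ofNat 2137, 13), (.ofNat 320,
  19), (.ofNat 888, 20), (.ofNat 712, 21), (.ofNat 1173, 22), (.ofNat 218, 25), (.negSucc 2199, 29), (.negSucc 1859,
  30), (.negSucc 144, 31), (.negSucc 1705, 32), (.negSucc 1924, 33), (.negSucc 3922, 34), (.negSucc 2349, 35),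
  (.negSucc 1389, 37), (.negSucc 1632, 38), (.negSucc 1921, 39), (.negSucc 3402, 40), (.negSucc 2781, 41), (.negSucc
  2429, 42), (.negSucc 4492, 43), (.negSucc 4402, 44), (.negSucc 5039, 45), (.negSucc 6842, 46), (.negSucc 5663, 47),
  (.negSucc 5245, 48), (.negSucc 7356, 49), (.negSucc 6113, 50), (.negSucc 5651, 51), (.negSucc 6897, 52), (.negSucc
  7948, 53), (.negSucc 8018, 54), (.negSucc 7832, 55), (.negSucc 8803, 56), (.negSucc 8374, 57), (.negSucc 10718,
  58), (.negSucc 12894, 59), (.negSucc 11060, 60), (.negSucc 16164, 61), (.negSucc 16762, 62), (.negSucc 18752, 63),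
  (.negSucc 20574, 64), (.negSucc 19212, 65), (.negSucc 20070, 66), (.negSucc 21500, 67), (.negSucc 20979, 68),
  (.negSucc 22070, 69), (.negSucc 22729, 70), (.negSucc 22490, 71), (.negSucc 22431, 72), (.negSucc 24745, 73),
  (.negSucc 25249, 74), (.negSucc 25189, 75), (.negSucc 27392, 76), (.negSucc 26220, 77), (.negSucc 27529, 78),
  (.negSucc 30515, 79), (.negSucc 30969, 80), (.negSucc 30332, 81), (.negSucc 32478, 82), (.negSucc 31942, 83),
  (.negSucc 33050, 84), (.negSucc 38534, 85), (.negSucc 41386, 86), (.negSucc 40966, 87), (.negSucc 49310, 88),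
  (.negSucc 48954, 89), (.negSucc 48605, 90), (.negSucc 51312, 91), (.negSucc 52587, 92), (.negSucc 54068, 93),
  (.negSucc 51225, 94), (.negSucc 53800, 95), (.negSucc 59048, 96), (.ofNat 3103, 2)]))) (.far (.ofNat 75042)
  [(.negSucc 1007, 5), (.ofNat 473, 6), (.ofNat 855, 8), (.negSucc 2183, 9), (.negSucc 77342, 11), (.ofNat 77387,
  13), (.ofNat 322, 14), (.ofNat 706, 20), (.ofNat 2073, 21), (.ofNat 2622, 22), (.ofNat 2176, 25), (.ofNat 992, 28),
  (.ofNat 80773, 29), (.ofNat 3033, 30), (.ofNat 5189, 31), (.ofNat 3794, 32), (.negSucc 72287, 33), (.ofNat 3670,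
  34), (.ofNat 7352, 35), (.negSucc 69907, 36), (.ofNat 7751, 37), (.ofNat 4931, 38), (.ofNat 6996, 39), (.ofNat
  5864, 40), (.ofNat 4598, 41), (.ofNat 5623, 42), (.ofNat 9213, 43), (.ofNat 10286, 44), (.ofNat 6439, 45), (.ofNat
  13410, 46), (.ofNat 18749, 47), (.ofNat 10188, 48), (.ofNat 22843, 49), (.ofNat 18301, 50), (.ofNat 16699, 51),
  (.ofNat 23826, 52), (.ofNat 24569, 53), (.ofNat 27285, 54), (.ofNat 104660, 55), (.ofNat 29716, 56), (.ofNat 29371,
  57), (.ofNat 34319, 58), (.ofNat 113067, 59), (.ofNat 32736, 60), (.ofNat 52961, 61), (.ofNat 51154, 62), (.ofNat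
  60401, 63), (.ofNat 59816, 64), (.ofNat 48818, 65), (.ofNat 59665, 66), (.ofNat 61243, 67), (.negSucc 12848, 68),
  (.ofNat 65318, 69), (.ofNat 68557, 70), (.ofNat 70324, 71), (.ofNat 70765, 72), (.ofNat 77725, 73), (.ofNat 80816,
  75), (.ofNat 85940, 76), (.ofNat 92394, 77), (.ofNat 87027, 78), (.ofNat 94347, 79), (.ofNat 171547, 80), (.ofNat
  96117, 81), (.ofNat 93834, 82), (.ofNat 100548, 83), (.ofNat 105296, 84), (.ofNat 107659, 85), (.ofNat 123526, 86),
  (.ofNat 123873, 87), (.ofNat 158554, 88), (.ofNat 149669, 89), (.ofNat 144229, 90), (.ofNat 153176, 91), (.ofNat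
  157337, 92), (.ofNat 159883, 93), (.ofNat 164727, 94), (.ofNat 164099, 95), (.ofNat 177147, 96), (.ofNat 744,
  98)])) (.far (.ofNat 1960922) [(.negSucc 5428, 4), (.negSucc 32422, 5), (.ofNat 80292, 6), (.negSucc 2618, 7),
  (.ofNat 5532, 8), (.ofNat 616, 9), (.negSucc 2040739, 11), (.ofNat 2047820, 13), (.ofNat 1790, 23), (.ofNat 30589,
  28), (.ofNat 2105567, 29), (.ofNat 79585, 30), (.ofNat 101371, 31), (.ofNat 75790, 32), (.negSucc 2012893, 33),
  (.ofNat 87450, 34), (.ofNat 234641, 35), (.negSucc 1889817, 36), (.ofNat 154680, 37), (.ofNat 209981, 38), (.ofNat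
  140537, 39), (.ofNat 224577, 40), (.ofNat 151289, 41), (.ofNat 149042, 42), (.ofNat 303789, 43), (.ofNat 390999,
  44), (.ofNat 332388, 45), (.ofNat 318157, 46), (.ofNat 450036, 47), (.ofNat 332287, 48), (.ofNat 339907, 49),
  (.ofNat 534938, 50), (.ofNat 529959, 51), (.ofNat 459243, 52), (.ofNat 487296, 53), (.ofNat 545378, 54), (.ofNat
  2746391, 55), (.ofNat 818533, 56), (.ofNat 726339, 57), (.ofNat 821315, 58), (.ofNat 3044647, 59), (.ofNat 870617,
  60), (.ofNat 1259421, 61), (.ofNat 1384395, 62), (.ofNat 1659533, 63), (.ofNat 1573639, 64), (.ofNat 1631673, 65),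
  (.ofNat 1614334, 66), (.ofNat 1768933, 67), (.negSucc 300454, 68), (.ofNat 1764619, 69), (.ofNat 1856556, 70),
  (.ofNat 1736157, 71), (.ofNat 1739088, 72), (.ofNat 2059069, 73), (.ofNat 2212056, 75), (.ofNat 2202234, 76),
  (.ofNat 2164014, 77), (.ofNat 2250876, 78), (.ofNat 2500490, 79), (.ofNat 4471141, 80), (.ofNat 2560399, 81),
  (.ofNat 2596147, 82), (.ofNat 2553039, 83), (.ofNat 2721615, 84), (.ofNat 3087171, 85), (.ofNat 3389582, 86),
  (.ofNat 3502004, 87), (.ofNat 4081196, 88), (.ofNat 4012703, 89), (.ofNat 4018915, 90), (.ofNat 4149761, 91),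
  (.ofNat 4386323, 92), (.ofNat 4314663, 93), (.ofNat 4411225, 94), (.ofNat 4360280, 95), (.ofNat 4782969, 96),
  (.ofNat 36747, 97), (.ofNat 11676, 98)])) (.far (.ofNat 635892) [(.negSucc 1832, 4), (.negSucc 138821, 5),
  (.negSucc 47486, 6), (.negSucc 17282, 7), (.negSucc 5077, 8), (.negSucc 36590, 9), (.negSucc 648858, 11), (.ofNat
  682103, 13), (.ofNat 26005, 20), (.ofNat 20952, 23), (.ofNat 46083, 26), (.ofNat 33019, 28), (.ofNat 747000, 29),
  (.ofNat 53229, 30), (.negSucc 28, 31), (.ofNat 27572, 32), (.negSucc 770836, 33), (.ofNat 23283, 34), (.ofNat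
  18936, 35), (.negSucc 630921, 36), (.negSucc 40557, 37), (.ofNat 79715, 38), (.ofNat 78789, 39), (.ofNat 122461,
  40), (.ofNat 100984, 41), (.ofNat 78689, 42), (.ofNat 33905, 43), (.ofNat 104165, 44), (.ofNat 115950, 45), (.ofNat
  136498, 46), (.ofNat 84235, 47), (.ofNat 141834, 48), (.ofNat 156032, 49), (.ofNat 177646, 50), (.ofNat 163850,
  51), (.ofNat 149687, 52), (.ofNat 216486, 53), (.ofNat 200837, 54), (.ofNat 947481, 55), (.ofNat 259016, 56),
  (.ofNat 302461, 57), (.ofNat 288580, 58), (.ofNat 940512, 59), (.ofNat 275456, 60), (.ofNat 473906, 61), (.ofNat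
  450015, 62), (.ofNat 547227, 63), (.ofNat 544971, 64), (.ofNat 536637, 65), (.ofNat 686816, 66), (.ofNat 565957,
  67), (.negSucc 119580, 68), (.ofNat 536964, 69), (.ofNat 601394, 70), (.ofNat 604476, 71), (.ofNat 694864, 72),
  (.ofNat 726517, 73), (.ofNat 683875, 75), (.ofNat 752759, 76), (.ofNat 736417, 77), (.ofNat 750821, 78), (.ofNat
  745789, 79), (.ofNat 1594323, 80), (.ofNat 854601, 81), (.ofNat 849060, 82), (.ofNat 891392, 83), (.ofNat 945188,
  84), (.ofNat 1049497, 85), (.ofNat 1080106, 86), (.ofNat 1166098, 87), (.ofNat 1317726, 88), (.ofNat 1357563, 89),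
  (.ofNat 1335343, 90), (.ofNat 1365943, 91), (.ofNat 1397675, 92), (.ofNat 1424796, 93), (.ofNat 1446486, 94),
  (.ofNat 1460315, 95), (.ofNat 1526180, 96), (.ofNat 282, 98)]))) (.far (.ofNat 1867437) [(.negSucc 12962, 5),
  (.negSucc 93274, 6), (.negSucc 13462, 8), (.ofNat 9800, 9), (.negSucc 2046422, 11), (.ofNat 1997320, 13), (.ofNat
  185748, 25), (.ofNat 152908, 28), (.ofNat 1675365, 29), (.negSucc 249908, 30), (.negSucc 134371, 31), (.negSucc
  34492, 32), (.negSucc 1917731, 33), (.ofNat 555696, 34), (.negSucc 320467, 35), (.negSucc 2160264, 36), (.ofNat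
  112227, 37), (.ofNat 119196, 38), (.negSucc 30763, 39), (.ofNat 309037, 40), (.ofNat 125949, 41), (.ofNat 630123,
  42), (.ofNat 62495, 43), (.ofNat 224384, 44), (.ofNat 520106, 45), (.ofNat 451483, 46), (.ofNat 492406, 47),
  (.ofNat 261929, 48), (.ofNat 221154, 49), (.ofNat 635883, 50), (.ofNat 364645, 51), (.ofNat 969621, 52), (.ofNat
  588550, 53), (.ofNat 1049386, 54), (.ofNat 2740549, 55), (.ofNat 1025959, 56), (.ofNat 833742, 57), (.ofNat 596483,
  58), (.ofNat 2794855, 59), (.ofNat 809243, 60), (.ofNat 1143292, 61), (.ofNat 1663988, 62), (.ofNat 1885804, 63),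
  (.ofNat 1465060, 64), (.ofNat 1320172, 65), (.ofNat 1937519, 66), (.ofNat 1599984, 67), (.negSucc 325131, 68),
  (.ofNat 1606611, 69), (.ofNat 1737047, 70), (.ofNat 2075518, 71), (.ofNat 1869813, 72), (.ofNat 1945249, 73),
  (.ofNat 2269159, 75), (.ofNat 2214531, 76), (.ofNat 1826389, 77), (.ofNat 2465145, 78), (.ofNat 2268837, 79),
  (.ofNat 4782969, 80), (.ofNat 2748455, 81), (.ofNat 2460261, 82), (.ofNat 2215222, 83), (.ofNat 2918501, 84),
  (.ofNat 2479543, 85), (.ofNat 3514579, 86), (.ofNat 3468566, 87), (.ofNat 3683292, 88), (.ofNat 4094609, 89),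
  (.ofNat 4254487, 90), (.ofNat 3940864, 91), (.ofNat 4229125, 92), (.ofNat 4338114, 93), (.ofNat 4295889, 94),
  (.ofNat 4095504, 95), (.ofNat 4174813, 96), (.ofNat 3771, 97), (.ofNat 166771, 98)]))) (.far (.ofNat 0) [(.negSucc
  163, 1), (.negSucc 129, 3), (.negSucc 113, 4), (.negSucc 244, 5), (.negSucc 141, 6), (.negSucc 3, 7), (.ofNat 168,
  8), (.ofNat 38, 9), (.negSucc 45, 10), (.ofNat 2, 11), (.ofNat 46, 13), (.ofNat 51, 14), (.ofNat 272, 20), (.ofNat
  16, 21), (.ofNat 106, 22), (.ofNat 43, 23), (.ofNat 48, 25), (.ofNat 207, 26), (.ofNat 81, 29), (.negSucc 63, 30),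
  (.negSucc 40, 31), (.negSucc 64, 32), (.negSucc 149, 33), (.ofNat 94, 34), (.negSucc 244, 35), (.ofNat 11, 36),
  (.negSucc 82, 37), (.ofNat 155, 38), (.ofNat 4, 39), (.ofNat 118, 40), (.ofNat 160, 41), (.ofNat 30, 42), (.negSucc
  75, 43), (.ofNat 174, 44), (.negSucc 17, 45), (.negSucc 213, 46), (.ofNat 32, 47), (.ofNat 35, 48), (.negSucc 39,
  49), (.ofNat 107, 50), (.ofNat 95, 51), (.ofNat 62, 52), (.ofNat 127, 53), (.ofNat 56, 54), (.ofNat 131, 55),
  (.ofNat 13, 56), (.ofNat 250, 57), (.ofNat 106, 58), (.ofNat 14, 60), (.ofNat 360, 61), (.ofNat 137, 62), (.ofNat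
  233, 63), (.ofNat 35, 64), (.ofNat 362, 65), (.ofNat 611, 66), (.ofNat 202, 67), (.ofNat 104, 68), (.negSucc 8,
  69), (.ofNat 199, 70), (.ofNat 229, 71), (.ofNat 386, 72), (.ofNat 304, 73), (.ofNat 177, 74), (.ofNat 275, 75),
  (.ofNat 260, 76), (.ofNat 260, 77), (.ofNat 176, 78), (.ofNat 129, 79), (.ofNat 389, 80), (.ofNat 390, 81), (.ofNat
  278, 82), (.ofNat 263, 83), (.ofNat 204, 84), (.ofNat 502, 85), (.ofNat 167, 86), (.ofNat 374, 87), (.ofNat 633,
  88), (.ofNat 463, 89), (.ofNat 412, 90), (.ofNat 529, 91), (.ofNat 428, 92), (.ofNat 533, 93), (.ofNat 729, 94),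
  (.ofNat 508, 95), (.ofNat 404, 96), (.ofNat 3, 97)])) (.far (.negSucc 351) [(.negSucc 2, 3), (.negSucc 176, 5),
  (.ofNat 55, 6), (.ofNat 90, 8), (.negSucc 51, 9), (.ofNat 230, 11), (.ofNat 8, 14), (.ofNat 66, 20), (.ofNat 147,
  21), (.ofNat 59, 23), (.ofNat 43, 24), (.negSucc 275, 29), (.negSucc 133, 30), (.negSucc 57, 31), (.negSucc 266,
  32), (.negSucc 266, 33), (.negSucc 215, 34), (.negSucc 212, 35), (.negSucc 239, 36), (.negSucc 242, 37), (.negSucc
  321, 38), (.negSucc 316, 39), (.negSucc 377, 40), (.negSucc 313, 41), (.negSucc 174, 42), (.negSucc 477, 43),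
  (.negSucc 513, 44), (.negSucc 572, 45), (.negSucc 533, 46), (.negSucc 606, 47), (.negSucc 601, 48), (.negSucc 822,
  49), (.negSucc 590, 50), (.negSucc 808, 51), (.negSucc 750, 52), (.negSucc 821, 53), (.negSucc 897, 54), (.negSucc
  915, 55), (.negSucc 1051, 56), (.negSucc 894, 57), (.negSucc 1255, 58), (.negSucc 1212, 59), (.negSucc 1320, 60),
  (.negSucc 1711, 61), (.negSucc 1905, 62), (.negSucc 2131, 63), (.negSucc 2268, 64), (.negSucc 2245, 65), (.negSucc
  2128, 66), (.negSucc 2427, 67), (.negSucc 2341, 68), (.negSucc 2371, 69), (.negSucc 2484, 70), (.negSucc 2537, 71),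
  (.negSucc 2597, 72), (.negSucc 2832, 73), (.negSucc 2796, 74), (.negSucc 2933, 75), (.negSucc 2976, 76), (.negSucc
  3049, 77), (.negSucc 3165, 78), (.negSucc 3274, 79), (.negSucc 3436, 80), (.negSucc 3478, 81), (.negSucc 3518, 82),
  (.negSucc 3701, 83), (.negSucc 3815, 84), (.negSucc 4260, 85), (.negSucc 4449, 86), (.negSucc 4668, 87), (.negSucc
  5469, 88), (.negSucc 5509, 89), (.negSucc 5449, 90), (.negSucc 5580, 91), (.negSucc 5808, 92), (.negSucc 5940, 93),
  (.negSucc 5885, 94), (.negSucc 6117, 95), (.negSucc 6560, 96), (.ofNat 254, 12)]))) (.far (.negSucc 621) [(.negSucc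
  358, 5), (.negSucc 79, 6), (.negSucc 24, 7), (.ofNat 100, 8), (.negSucc 397, 9), (.ofNat 35, 20), (.ofNat 49, 21),
  (.ofNat 167, 24), (.ofNat 34, 25), (.ofNat 61, 27), (.negSucc 324, 29), (.negSucc 2, 30), (.negSucc 6, 31),
  (.negSucc 66, 32), (.ofNat 372, 33), (.negSucc 117, 34), (.negSucc 129, 35), (.ofNat 315, 36), (.negSucc 88, 37),
  (.ofNat 4, 38), (.negSucc 32, 39), (.ofNat 33, 40), (.negSucc 35, 41), (.negSucc 13, 42), (.negSucc 54, 43),
  (.negSucc 55, 44), (.ofNat 35, 45), (.negSucc 132, 46), (.negSucc 69, 47), (.negSucc 49, 48), (.negSucc 123, 49),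
  (.negSucc 40, 50), (.negSucc 11, 51), (.negSucc 89, 52), (.negSucc 65, 53), (.ofNat 16, 54), (.negSucc 519, 55),
  (.ofNat 65, 56), (.negSucc 124, 57), (.negSucc 46, 58), (.negSucc 728, 59), (.negSucc 248, 60), (.negSucc 44, 61),
  (.negSucc 98, 62), (.negSucc 174, 63), (.negSucc 111, 64), (.negSucc 147, 65), (.ofNat 37, 66), (.negSucc 218, 67),
  (.ofNat 179, 68), (.negSucc 200, 69), (.negSucc 164, 70), (.negSucc 308, 71), (.ofNat 16, 72), (.negSucc 190, 73),
  (.ofNat 85, 74), (.negSucc 188, 75), (.negSucc 242, 76), (.negSucc 211, 77), (.negSucc 327, 78), (.negSucc 451,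
  79), (.negSucc 654, 80), (.negSucc 368, 81), (.negSucc 340, 82), (.negSucc 278, 83), (.negSucc 364, 84), (.negSucc
  255, 85), (.negSucc 395, 86), (.negSucc 329, 87), (.negSucc 449, 88), (.negSucc 470, 89), (.negSucc 475, 90),
  (.negSucc 497, 91), (.negSucc 454, 92), (.negSucc 564, 93), (.negSucc 367, 94), (.negSucc 386, 95), (.negSucc 708,
  96), (.ofNat 506, 11)])) (.far (.negSucc 319) [(.negSucc 135, 1), (.negSucc 0, 3), (.negSucc 329, 5), (.ofNat 197,
  6), (.negSucc 49, 8), (.negSucc 54, 9), (.ofNat 48, 13), (.ofNat 198, 20), (.ofNat 81, 22), (.ofNat 55, 29),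
  (.negSucc 356, 30), (.negSucc 147, 31), (.negSucc 320, 32), (.negSucc 592, 33), (.negSucc 150, 34), (.negSucc 160,
  35), (.negSucc 621, 36), (.negSucc 186, 37), (.negSucc 389, 38), (.negSucc 269, 39), (.negSucc 177, 40), (.negSucc
  398, 41), (.negSucc 274, 42), (.negSucc 538, 43), (.negSucc 514, 44), (.negSucc 748, 45), (.negSucc 520, 46),
  (.negSucc 494, 47), (.negSucc 884, 48), (.negSucc 686, 49), (.negSucc 568, 50), (.negSucc 629, 51), (.negSucc 769,
  52), (.negSucc 719, 53), (.negSucc 959, 54), (.negSucc 587, 55), (.negSucc 1057, 56), (.negSucc 875, 57), (.negSucc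
  1216, 58), (.negSucc 774, 59), (.negSucc 1398, 60), (.negSucc 2086, 61), (.negSucc 1934, 62), (.negSucc 2257, 63),
  (.negSucc 2165, 64), (.negSucc 2310, 65), (.negSucc 2477, 66), (.negSucc 2547, 67), (.negSucc 2617, 68), (.negSucc
  2774, 69), (.negSucc 2500, 70), (.negSucc 2444, 71), (.negSucc 2689, 72), (.negSucc 2931, 73), (.negSucc 3255, 74),
  (.negSucc 3158, 75), (.negSucc 3106, 76), (.negSucc 3248, 77), (.negSucc 3127, 78), (.negSucc 3292, 79), (.negSucc
  3267, 80), (.negSucc 3454, 81), (.negSucc 3619, 82), (.negSucc 3960, 83), (.negSucc 3845, 84), (.negSucc 4318, 85),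
  (.negSucc 4618, 86), (.negSucc 4789, 87), (.negSucc 5568, 88), (.negSucc 5753, 89), (.negSucc 5697, 90), (.negSucc
  5793, 91), (.negSucc 6105, 92), (.negSucc 6003, 93), (.negSucc 6319, 94), (.negSucc 6398, 95), (.negSucc 6560, 96),
  (.ofNat 111, 97), (.ofNat 6, 98), (.ofNat 343, 10)])) (.far (.negSucc 334) [(.negSucc 383, 5), (.ofNat 88, 6),
  (.negSucc 130, 7), (.ofNat 153, 8), (.ofNat 200, 13), (.ofNat 22, 19), (.ofNat 157, 20), (.ofNat 47, 21), (.ofNat
  296, 22), (.ofNat 117, 23), (.ofNat 91, 24), (.ofNat 91, 25), (.ofNat 186, 29), (.negSucc 6, 30), (.ofNat 111, 31),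
  (.negSucc 184, 32), (.negSucc 419, 33), (.ofNat 48, 34), (.negSucc 4, 35), (.negSucc 41, 36), (.negSucc 30, 37),
  (.ofNat 105, 38), (.ofNat 106, 39), (.ofNat 70, 40), (.ofNat 163, 41), (.ofNat 78, 42), (.ofNat 7, 43), (.ofNat
  223, 44), (.negSucc 32, 45), (.ofNat 102, 46), (.ofNat 250, 47), (.ofNat 191, 48), (.ofNat 71, 49), (.ofNat 292,
  50), (.ofNat 174, 51), (.ofNat 243, 52), (.ofNat 467, 53), (.ofNat 219, 54), (.ofNat 593, 55), (.ofNat 314, 56),
  (.ofNat 590, 57), (.ofNat 374, 58), (.ofNat 644, 59), (.ofNat 404, 60), (.ofNat 519, 61), (.ofNat 636, 62), (.ofNat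
  763, 63), (.ofNat 698, 64), (.ofNat 860, 65), (.ofNat 1024, 66), (.ofNat 760, 67), (.ofNat 687, 68), (.ofNat 667,
  69), (.ofNat 757, 70), (.ofNat 886, 71), (.ofNat 824, 72), (.ofNat 860, 73), (.ofNat 805, 74), (.ofNat 910, 75),
  (.ofNat 1076, 76), (.ofNat 980, 77), (.ofNat 1008, 78), (.ofNat 1128, 79), (.ofNat 1476, 80), (.ofNat 1475, 81),
  (.ofNat 1233, 82), (.ofNat 1212, 83), (.ofNat 1218, 84), (.ofNat 1476, 85), (.ofNat 1455, 86), (.ofNat 1618, 87),
  (.ofNat 1989, 88), (.ofNat 1888, 89), (.ofNat 1896, 90), (.ofNat 2001, 91), (.ofNat 1996, 92), (.ofNat 1958, 93),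
  (.ofNat 1974, 94), (.ofNat 2170, 95), (.ofNat 2187, 96), (.ofNat 90, 98), (.ofNat 445, 9)])) (.far (.negSucc 372)
  [(.negSucc 91, 3), (.negSucc 1111, 5), (.negSucc 159, 6), (.negSucc 282, 7), (.ofNat 591, 13), (.ofNat 36, 14),
  (.ofNat 388, 20), (.ofNat 118, 21), (.ofNat 262, 22), (.ofNat 107, 23), (.ofNat 144, 24), (.ofNat 189, 25), (.ofNat
  369, 29), (.negSucc 348, 30), (.negSucc 86, 31), (.negSucc 261, 32), (.negSucc 888, 33), (.negSucc 205, 34),
  (.negSucc 584, 35), (.negSucc 547, 36), (.negSucc 658, 37), (.negSucc 122, 38), (.negSucc 375, 39), (.negSucc 187,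
  40), (.negSucc 170, 41), (.negSucc 346, 42), (.negSucc 544, 43), (.negSucc 370, 44), (.negSucc 674, 45), (.negSucc
  954, 46), (.negSucc 496, 47), (.negSucc 608, 48), (.negSucc 918, 49), (.negSucc 495, 50), (.negSucc 694, 51),
  (.negSucc 783, 52), (.negSucc 484, 53), (.negSucc 993, 54), (.negSucc 718, 55), (.negSucc 1077, 56), (.negSucc 547,
  57), (.negSucc 1139, 58), (.negSucc 1268, 59), (.negSucc 1500, 60), (.negSucc 1537, 61), (.negSucc 1744, 62),
  (.negSucc 2028, 63), (.negSucc 2104, 64), (.negSucc 1960, 65), (.negSucc 1383, 66), (.negSucc 2373, 67), (.negSucc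
  2732, 68), (.negSucc 2763, 69), (.negSucc 2576, 70), (.negSucc 2605, 71), (.negSucc 2189, 72), (.negSucc 2653, 73),
  (.negSucc 3066, 74), (.negSucc 2904, 75), (.negSucc 2993, 76), (.negSucc 3057, 77), (.negSucc 3432, 78), (.negSucc
  3543, 79), (.negSucc 2996, 80), (.negSucc 3369, 81), (.negSucc 3516, 82), (.negSucc 3642, 83), (.negSucc 4055, 84),
  (.negSucc 3837, 85), (.negSucc 4712, 86), (.negSucc 4630, 87), (.negSucc 5131, 88), (.negSucc 5447, 89), (.negSucc
  5504, 90), (.negSucc 5554, 91), (.negSucc 6029, 92), (.negSucc 5749, 93), (.negSucc 5663, 94), (.negSucc 6224, 95),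
  (.negSucc 6560, 96), (.ofNat 534, 8)])) (.far (.negSucc 305) [(.negSucc 119, 1), (.negSucc 90, 4), (.negSucc 856,
  5), (.ofNat 6, 6), (.ofNat 493, 13), (.ofNat 82, 16), (.ofNat 119, 20), (.ofNat 198, 21), (.ofNat 3, 22), (.ofNat
  6, 23), (.ofNat 428, 24), (.ofNat 336, 25), (.ofNat 745, 29), (.negSucc 693, 30), (.negSucc 328, 31), (.negSucc
  787, 32), (.negSucc 1220, 33), (.negSucc 635, 34), (.negSucc 637, 35), (.negSucc 1177, 36), (.negSucc 544, 37),
  (.negSucc 988, 38), (.negSucc 962, 39), (.negSucc 1068, 40), (.negSucc 1259, 41), (.negSucc 549, 42), (.negSucc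
  1855, 43), (.negSucc 1644, 44), (.negSucc 1904, 45), (.negSucc 1556, 46), (.negSucc 2046, 47), (.negSucc 2148, 48),
  (.negSucc 2375, 49), (.negSucc 1853, 50), (.negSucc 2175, 51), (.negSucc 2354, 52), (.negSucc 2542, 53), (.negSucc
  2406, 54), (.negSucc 2216, 55), (.negSucc 3112, 56), (.negSucc 2764, 57), (.negSucc 3864, 58), (.negSucc 3064, 59),
  (.negSucc 4581, 60), (.negSucc 5281, 61), (.negSucc 6249, 62), (.negSucc 6809, 63), (.negSucc 6519, 64), (.negSucc
  6474, 65), (.negSucc 6714, 66), (.negSucc 7788, 67), (.negSucc 7783, 68), (.negSucc 7560, 69), (.negSucc 7121, 70),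
  (.negSucc 7400, 71), (.negSucc 8018, 72), (.negSucc 8488, 73), (.negSucc 9471, 74), (.negSucc 8726, 75), (.negSucc
  9155, 76), (.negSucc 9392, 77), (.negSucc 9763, 78), (.negSucc 9771, 79), (.negSucc 9793, 80), (.negSucc 10709,
  81), (.negSucc 11150, 82), (.negSucc 11528, 83), (.negSucc 11622, 84), (.negSucc 12884, 85), (.negSucc 14436, 86),
  (.negSucc 13844, 87), (.negSucc 16866, 88), (.negSucc 16604, 89), (.negSucc 16795, 90), (.negSucc 17316, 91),
  (.negSucc 17689, 92), (.negSucc 18145, 93), (.negSucc 18067, 94), (.negSucc 19367, 95), (.negSucc 19682, 96),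
  (.ofNat 1061, 7)]))) (.far (.negSucc 564) [(.negSucc 88, 1), (.negSucc 49, 3), (.negSucc 282, 5), (.ofNat 44, 13),
  (.ofNat 21, 14), (.ofNat 131, 20), (.ofNat 55, 21), (.ofNat 55, 22), (.ofNat 119, 23), (.ofNat 234, 25), (.ofNat
  174, 27), (.ofNat 93, 28), (.ofNat 44, 29), (.ofNat 186, 30), (.negSucc 28, 31), (.negSucc 33, 32), (.ofNat 81,
  33), (.ofNat 252, 34), (.ofNat 361, 35), (.ofNat 173, 36), (.ofNat 48, 37), (.ofNat 332, 38), (.ofNat 224, 39),
  (.ofNat 300, 40), (.ofNat 368, 41), (.ofNat 201, 42), (.ofNat 357, 43), (.ofNat 571, 44), (.ofNat 168, 45), (.ofNat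
  479, 46), (.ofNat 516, 47), (.ofNat 538, 48), (.ofNat 630, 49), (.ofNat 722, 50), (.ofNat 786, 51), (.ofNat 694,
  52), (.ofNat 742, 53), (.ofNat 943, 54), (.ofNat 1011, 55), (.ofNat 905, 56), (.ofNat 1038, 57), (.ofNat 1128, 58),
  (.ofNat 1514, 59), (.ofNat 1100, 60), (.ofNat 1873, 61), (.ofNat 1679, 62), (.ofNat 2155, 63), (.ofNat 2124, 64),
  (.ofNat 2209, 65), (.ofNat 2275, 66), (.ofNat 2284, 67), (.ofNat 2350, 68), (.ofNat 2121, 69), (.ofNat 2531, 70),
  (.ofNat 2602, 71), (.ofNat 2287, 72), (.ofNat 2906, 73), (.ofNat 2759, 74), (.ofNat 2804, 75), (.ofNat 2962, 76),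
  (.ofNat 2854, 77), (.ofNat 2864, 78), (.ofNat 3465, 79), (.ofNat 3428, 80), (.ofNat 3570, 81), (.ofNat 3447, 82),
  (.ofNat 3427, 83), (.ofNat 3599, 84), (.ofNat 4329, 85), (.ofNat 4305, 86), (.ofNat 4504, 87), (.ofNat 5495, 88),
  (.ofNat 5390, 89), (.ofNat 5266, 90), (.ofNat 5654, 91), (.ofNat 5700, 92), (.ofNat 5898, 93), (.ofNat 5531, 94),
  (.ofNat 6020, 95), (.ofNat 6561, 96), (.ofNat 174, 97), (.ofNat 402, 6)])) (.far (.negSucc 3846) [(.negSucc 298,
  1), (.ofNat 233, 13), (.ofNat 1029, 18), (.ofNat 1380, 20), (.ofNat 1353, 22), (.ofNat 607, 23), (.ofNat 417, 25),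
  (.ofNat 2249, 28), (.ofNat 4480, 29), (.ofNat 1318, 30), (.ofNat 4543, 31), (.ofNat 3141, 32), (.ofNat 3178, 33),
  (.ofNat 8560, 34), (.ofNat 8026, 35), (.ofNat 5628, 36), (.ofNat 7795, 37), (.ofNat 7055, 38), (.ofNat 7534, 39),
  (.ofNat 6401, 40), (.ofNat 6421, 41), (.ofNat 8388, 42), (.ofNat 8851, 43), (.ofNat 11178, 44), (.ofNat 14887, 45),
  (.ofNat 12665, 46), (.ofNat 15029, 47), (.ofNat 14407, 48), (.ofNat 19759, 49), (.ofNat 19283, 50), (.ofNat 18669,
  51), (.ofNat 20632, 52), (.ofNat 20870, 53), (.ofNat 25674, 54), (.ofNat 30471, 55), (.ofNat 28038, 56), (.ofNat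
  29247, 57), (.ofNat 34746, 58), (.ofNat 35110, 59), (.ofNat 36756, 60), (.ofNat 47402, 61), (.ofNat 52862, 62),
  (.ofNat 60205, 63), (.ofNat 60868, 64), (.ofNat 60174, 65), (.ofNat 62688, 66), (.ofNat 63008, 67), (.ofNat 63887,
  68), (.ofNat 64654, 69), (.ofNat 65063, 70), (.ofNat 68493, 71), (.ofNat 73379, 72), (.ofNat 79391, 73), (.ofNat
  75986, 74), (.ofNat 80809, 75), (.ofNat 83477, 76), (.ofNat 81972, 77), (.ofNat 87422, 78), (.ofNat 88116, 79),
  (.ofNat 96192, 80), (.ofNat 96639, 81), (.ofNat 98245, 82), (.ofNat 97193, 83), (.ofNat 106568, 84), (.ofNat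
  117169, 85), (.ofNat 123564, 86), (.ofNat 131256, 87), (.ofNat 149699, 88), (.ofNat 150463, 89), (.ofNat 151962,
  90), (.ofNat 155210, 91), (.ofNat 159600, 92), (.ofNat 161323, 93), (.ofNat 164985, 94), (.ofNat 168855, 95),
  (.ofNat 177147, 96), (.ofNat 1810, 98), (.ofNat 5488, 5)])) (.far (.negSucc 1408) [(.negSucc 91, 3), (.ofNat 18,
  8), (.ofNat 917, 13), (.ofNat 42, 22), (.ofNat 161, 23), (.ofNat 442, 25), (.ofNat 221, 28), (.ofNat 102, 29),
  (.negSucc 301, 30), (.negSucc 872, 31), (.negSucc 884, 32), (.negSucc 1147, 33), (.negSucc 697, 34), (.negSucc 668,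
  35), (.negSucc 786, 36), (.negSucc 1110, 37), (.negSucc 688, 38), (.negSucc 861, 39), (.negSucc 1144, 40),
  (.negSucc 832, 41), (.negSucc 1503, 42), (.negSucc 1153, 43), (.negSucc 1231, 44), (.negSucc 1751, 45), (.negSucc
  1221, 46), (.negSucc 1578, 47), (.negSucc 2331, 48), (.negSucc 2249, 49), (.negSucc 1847, 50), (.negSucc 2598, 51),
  (.negSucc 2752, 52), (.negSucc 2593, 53), (.negSucc 2299, 54), (.negSucc 2378, 55), (.negSucc 3054, 56), (.negSucc
  3262, 57), (.negSucc 3994, 58), (.negSucc 3286, 59), (.negSucc 3787, 60), (.negSucc 5714, 61), (.negSucc 6362, 62),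
  (.negSucc 6612, 63), (.negSucc 6703, 64), (.negSucc 6745, 65), (.negSucc 7318, 66), (.negSucc 7640, 67), (.negSucc
  7757, 68), (.negSucc 7814, 69), (.negSucc 7684, 70), (.negSucc 7538, 71), (.negSucc 7992, 72), (.negSucc 8546, 73),
  (.negSucc 9596, 74), (.negSucc 9208, 75), (.negSucc 9233, 76), (.negSucc 9803, 77), (.negSucc 9622, 78), (.negSucc
  9550, 79), (.negSucc 10115, 80), (.negSucc 10345, 81), (.negSucc 11135, 82), (.negSucc 11239, 83), (.negSucc 11845,
  84), (.negSucc 13622, 85), (.negSucc 14004, 86), (.negSucc 14511, 87), (.negSucc 16561, 88), (.negSucc 16976, 89),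
  (.negSucc 16687, 90), (.negSucc 17013, 91), (.negSucc 17900, 92), (.negSucc 17473, 93), (.negSucc 18741, 94),
  (.negSucc 18254, 95), (.negSucc 19682, 96), (.ofNat 482, 97), (.ofNat 1287, 4)])) (.far (.negSucc 12334) [(.ofNat
  2543, 8), (.ofNat 7880, 9), (.ofNat 11802, 13), (.ofNat 8301, 14), (.ofNat 2464, 19), (.ofNat 1292, 21), (.ofNat
  3950, 22), (.ofNat 3024, 25), (.ofNat 880, 26), (.ofNat 3651, 29), (.negSucc 23, 30), (.ofNat 1651, 31), (.ofNat
  3313, 32), (.negSucc 8349, 33), (.ofNat 2215, 34), (.ofNat 6446, 35), (.negSucc 2897, 36), (.ofNat 2559, 37),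
  (.ofNat 4950, 38), (.ofNat 2031, 39), (.ofNat 4116, 40), (.negSucc 592, 41), (.ofNat 8944, 42), (.ofNat 715, 43),
  (.ofNat 8576, 44), (.negSucc 2811, 45), (.negSucc 1514, 46), (.negSucc 1256, 47), (.ofNat 1260, 48), (.ofNat 1885,
  49), (.ofNat 6204, 50), (.ofNat 4669, 51), (.ofNat 4907, 52), (.ofNat 3943, 53), (.ofNat 8279, 54), (.ofNat 14597,
  55), (.ofNat 7011, 56), (.ofNat 13417, 57), (.ofNat 8272, 58), (.ofNat 21092, 59), (.ofNat 13944, 60), (.ofNat
  7446, 61), (.ofNat 17562, 62), (.ofNat 22365, 63), (.ofNat 18573, 64), (.ofNat 16414, 65), (.ofNat 16177, 66),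
  (.ofNat 18580, 67), (.ofNat 14624, 68), (.ofNat 21132, 69), (.ofNat 15627, 70), (.ofNat 21153, 71), (.ofNat 21271,
  72), (.ofNat 26916, 73), (.ofNat 18764, 74), (.ofNat 29886, 75), (.ofNat 30257, 76), (.ofNat 25682, 77), (.ofNat
  30899, 78), (.ofNat 30212, 79), (.ofNat 38643, 80), (.ofNat 33593, 81), (.ofNat 31575, 82), (.ofNat 33142, 83),
  (.ofNat 37663, 84), (.ofNat 24768, 85), (.ofNat 37667, 86), (.ofNat 41978, 87), (.ofNat 45407, 88), (.ofNat 49198,
  89), (.ofNat 55150, 90), (.ofNat 51115, 91), (.ofNat 50835, 92), (.ofNat 47032, 93), (.ofNat 53284, 94), (.ofNat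
  59049, 95), (.ofNat 58516, 96), (.ofNat 908, 98), (.ofNat 12644, 3)])) (.far (.negSucc 532) [(.ofNat 421, 9),
  (.ofNat 356, 13), (.ofNat 342, 14), (.ofNat 1014, 20), (.ofNat 637, 21), (.ofNat 647, 23), (.ofNat 145, 25),
  (.ofNat 1797, 29), (.negSucc 248, 30), (.ofNat 1053, 31), (.ofNat 169, 32), (.negSucc 309, 33), (.ofNat 844, 34),
  (.ofNat 985, 35), (.negSucc 488, 36), (.ofNat 1782, 37), (.ofNat 665, 38), (.ofNat 991, 39), (.ofNat 168, 40),
  (.ofNat 336, 41), (.ofNat 906, 42), (.ofNat 112, 43), (.ofNat 1089, 44), (.ofNat 1451, 45), (.ofNat 872, 46),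
  (.ofNat 1516, 47), (.ofNat 766, 48), (.ofNat 2084, 49), (.ofNat 2179, 50), (.ofNat 1583, 51), (.ofNat 2581, 52),
  (.ofNat 2114, 53), (.ofNat 3049, 54), (.ofNat 4868, 55), (.ofNat 3068, 56), (.ofNat 3890, 57), (.ofNat 4136, 58),
  (.ofNat 4605, 59), (.ofNat 4005, 60), (.ofNat 5144, 61), (.ofNat 6240, 62), (.ofNat 6113, 63), (.ofNat 7319, 64),
  (.ofNat 6836, 65), (.ofNat 6884, 66), (.ofNat 6306, 67), (.ofNat 6714, 68), (.ofNat 6717, 69), (.ofNat 7010, 70),
  (.ofNat 7725, 71), (.ofNat 7963, 72), (.ofNat 8569, 73), (.ofNat 7946, 74), (.ofNat 9079, 75), (.ofNat 9379, 76),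
  (.ofNat 8838, 77), (.ofNat 10056, 78), (.ofNat 9115, 79), (.ofNat 11348, 80), (.ofNat 10649, 81), (.ofNat 11136,
  82), (.ofNat 9794, 83), (.ofNat 11880, 84), (.ofNat 12205, 85), (.ofNat 13730, 86), (.ofNat 14956, 87), (.ofNat
  16386, 88), (.ofNat 16416, 89), (.ofNat 16875, 90), (.ofNat 18550, 91), (.ofNat 17814, 92), (.ofNat 17986, 93),
  (.ofNat 18125, 94), (.ofNat 18508, 95), (.ofNat 19683, 96), (.ofNat 394, 98), (.ofNat 1079, 1)])) (.far (.negSucc
  5883) [(.ofNat 964, 8), (.ofNat 551, 12), (.ofNat 388, 14), (.ofNat 3018, 18), (.ofNat 4381, 19), (.ofNat 930, 20),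
  (.ofNat 2803, 21), (.ofNat 2946, 22), (.ofNat 3681, 25), (.ofNat 3043, 26), (.ofNat 3352, 28), (.ofNat 4245, 29),
  (.ofNat 8263, 30), (.ofNat 4423, 31), (.ofNat 1334, 32), (.ofNat 11329, 33), (.ofNat 28230, 34), (.ofNat 27034,
  35), (.ofNat 22915, 36), (.ofNat 12035, 37), (.ofNat 22921, 38), (.ofNat 16582, 39), (.ofNat 10880, 40), (.ofNat
  9117, 41), (.ofNat 21860, 42), (.ofNat 22397, 43), (.ofNat 47964, 44), (.ofNat 34402, 45), (.ofNat 37363, 46),
  (.ofNat 46104, 47), (.ofNat 61779, 48), (.ofNat 52683, 49), (.ofNat 50491, 50), (.ofNat 41911, 51), (.ofNat 60335,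
  52), (.ofNat 55942, 53), (.ofNat 62955, 54), (.ofNat 76019, 55), (.ofNat 68942, 56), (.ofNat 92287, 57), (.ofNat
  105662, 58), (.ofNat 92691, 59), (.ofNat 96422, 60), (.ofNat 140342, 61), (.ofNat 167977, 62), (.ofNat 157650, 63),
  (.ofNat 166544, 64), (.ofNat 157091, 65), (.ofNat 177264, 66), (.ofNat 203443, 67), (.ofNat 198443, 68), (.ofNat
  178579, 69), (.ofNat 224752, 70), (.ofNat 201267, 71), (.ofNat 203511, 72), (.ofNat 221925, 73), (.ofNat 210704,
  74), (.ofNat 227521, 75), (.ofNat 231528, 76), (.ofNat 249086, 77), (.ofNat 252539, 78), (.ofNat 248200, 79),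
  (.ofNat 265243, 80), (.ofNat 273973, 81), (.ofNat 263942, 82), (.ofNat 282527, 83), (.ofNat 306681, 84), (.ofNat
  334520, 85), (.ofNat 355732, 86), (.ofNat 362591, 87), (.ofNat 433241, 88), (.ofNat 446964, 89), (.ofNat 472949,
  90), (.ofNat 449501, 91), (.ofNat 471777, 92), (.ofNat 467063, 93), (.ofNat 470163, 94), (.ofNat 492097, 95),
  (.ofNat 531441, 96), (.ofNat 2896, 97), (.ofNat 3231, 98)])) (.far (.negSucc 1802577) [(.ofNat 156601, 2), (.ofNat
  596827, 8), (.ofNat 815915, 13), (.ofNat 576585, 14), (.ofNat 588294, 16), (.ofNat 336112, 21), (.ofNat 983657,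
  23), (.ofNat 78595, 24), (.ofNat 772996, 25), (.ofNat 1408844, 28), (.ofNat 1272235, 29), (.ofNat 3136712, 30),
  (.ofNat 2142401, 31), (.ofNat 1110767, 32), (.ofNat 3051358, 33), (.ofNat 5330229, 34), (.ofNat 6899338, 35),
  (.ofNat 1551552, 36), (.ofNat 6250268, 37), (.ofNat 3047502, 38), (.ofNat 1429850, 39), (.ofNat 6148935, 40),
  (.ofNat 5422170, 41), (.ofNat 3221869, 42), (.ofNat 5091630, 43), (.ofNat 7361583, 44), (.ofNat 2586627, 45),
  (.ofNat 10827418, 46), (.ofNat 14587659, 47), (.ofNat 10887193, 48), (.ofNat 15327592, 49), (.ofNat 13631957, 50),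
  (.ofNat 15317837, 51), (.ofNat 16400683, 52), (.ofNat 12038510, 53), (.ofNat 17563212, 54), (.ofNat 19548984, 55),
  (.ofNat 13753261, 56), (.ofNat 18185973, 57), (.ofNat 17747214, 58), (.ofNat 17834329, 59), (.ofNat 31589317, 60),
  (.ofNat 29254529, 61), (.ofNat 37214667, 62), (.ofNat 38020920, 63), (.ofNat 33915053, 64), (.ofNat 38359952, 65),
  (.ofNat 42918955, 66), (.ofNat 47774380, 67), (.ofNat 48447784, 68), (.ofNat 40165321, 69), (.ofNat 46163373, 70),
  (.ofNat 47546217, 71), (.ofNat 47791131, 72), (.ofNat 49656096, 73), (.ofNat 49694189, 74), (.ofNat 60024913, 75),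
  (.ofNat 64660440, 76), (.ofNat 50870341, 77), (.ofNat 54886127, 78), (.ofNat 62945785, 79), (.ofNat 70507238, 80),
  (.ofNat 62617761, 81), (.ofNat 65334401, 82), (.ofNat 76128032, 83), (.ofNat 75327752, 84), (.ofNat 78278151, 85),
  (.ofNat 88940030, 86), (.ofNat 94967801, 87), (.ofNat 100292939, 88), (.ofNat 101469434, 89), (.ofNat 97951857,
  90), (.ofNat 109513993, 91), (.ofNat 112242913, 92), (.ofNat 109102795, 93), (.ofNat 113255991, 94), (.ofNat
  114274268, 95), (.ofNat 129140163, 96), (.ofNat 427884, 97), (.ofNat 1499706, 98)])) (.far (.negSucc 267426)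
  [(.ofNat 490668, 12), (.ofNat 45937, 13), (.ofNat 494577, 14), (.ofNat 870081, 18), (.ofNat 2089314, 20), (.ofNat
  752209, 23), (.ofNat 1628822, 25), (.ofNat 1629298, 26), (.ofNat 4902031, 28), (.ofNat 6714543, 29), (.ofNat
  7296728, 30), (.ofNat 6831766, 31), (.ofNat 6561432, 32), (.ofNat 3267260, 33), (.ofNat 9845831, 34), (.ofNat
  14194698, 35), (.ofNat 15085933, 36), (.ofNat 16400295, 37), (.ofNat 17308526, 38), (.ofNat 14805456, 39), (.ofNat
  11438542, 40), (.ofNat 11343279, 41), (.ofNat 19997103, 42), (.ofNat 22454921, 43), (.ofNat 26357494, 44), (.ofNat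
  27461610, 45), (.ofNat 32842087, 46), (.ofNat 29586988, 47), (.ofNat 28245994, 48), (.ofNat 26446616, 49), (.ofNat
  37803066, 50), (.ofNat 43144440, 51), (.ofNat 44483551, 52), (.ofNat 36250418, 53), (.ofNat 59490918, 54), (.ofNat
  47682730, 55), (.ofNat 50961148, 56), (.ofNat 52837954, 57), (.ofNat 66590169, 58), (.ofNat 78725327, 59), (.ofNat
  69370480, 60), (.ofNat 103114816, 61), (.ofNat 116814814, 62), (.ofNat 119079002, 63), (.ofNat 121276876, 64),
  (.ofNat 120911039, 65), (.ofNat 130989764, 66), (.ofNat 123628829, 67), (.ofNat 139036331, 68), (.ofNat 136451587,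
  69), (.ofNat 140861485, 70), (.ofNat 135724026, 71), (.ofNat 162387973, 72), (.ofNat 150485044, 73), (.ofNat
  180162127, 74), (.ofNat 179049596, 75), (.ofNat 158703875, 76), (.ofNat 173793203, 77), (.ofNat 195541997, 78),
  (.ofNat 189746473, 79), (.ofNat 213558204, 80), (.ofNat 210910069, 81), (.ofNat 207180436, 82), (.ofNat 216844190,
  83), (.ofNat 226926571, 84), (.ofNat 257575783, 85), (.ofNat 264702439, 86), (.ofNat 265165194, 87), (.ofNat
  318249399, 88), (.ofNat 332770560, 89), (.ofNat 314676367, 90), (.ofNat 335096778, 91), (.ofNat 341749093, 92),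
  (.ofNat 348751793, 93), (.ofNat 346016271, 94), (.ofNat 358080280, 95), (.ofNat 387420489, 96), (.ofNat 118864,
  97), (.ofNat 2359336, 98)])) (.far (.negSucc 774308) [(.ofNat 289453, 9), (.ofNat 47746, 14), (.ofNat 374170, 20),
  (.ofNat 434279, 21), (.ofNat 57200, 24), (.ofNat 622761, 26), (.ofNat 636403, 29), (.ofNat 407384, 30), (.ofNat
  715731, 31), (.ofNat 1077403, 32), (.ofNat 1074617, 33), (.ofNat 1514124, 34), (.ofNat 1633950, 35), (.ofNat
  1624608, 36), (.ofNat 780603, 37), (.ofNat 1478845, 38), (.ofNat 1497483, 39), (.ofNat 1403602, 40), (.ofNat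
  2255171, 41), (.ofNat 2331537, 42), (.ofNat 1862918, 43), (.ofNat 3201736, 44), (.ofNat 2406132, 45), (.ofNat
  3188712, 46), (.ofNat 3658766, 47), (.ofNat 3652249, 48), (.ofNat 4779475, 49), (.ofNat 4567920, 50), (.ofNat
  5206386, 51), (.ofNat 5077960, 52), (.ofNat 5326803, 53), (.ofNat 5968445, 54), (.ofNat 6408174, 55), (.ofNat
  6338975, 56), (.ofNat 7705712, 57), (.ofNat 8667388, 58), (.ofNat 7312172, 59), (.ofNat 8125673, 60), (.ofNat
  11140098, 61), (.ofNat 12909491, 62), (.ofNat 14871764, 63), (.ofNat 13687612, 64), (.ofNat 14580208, 65), (.ofNat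
  13944857, 66), (.ofNat 15550293, 67), (.ofNat 15180016, 68), (.ofNat 16809933, 69), (.ofNat 15986469, 70), (.ofNat
  16531571, 71), (.ofNat 17273865, 72), (.ofNat 19000663, 73), (.ofNat 19323010, 74), (.ofNat 19684547, 75), (.ofNat
  20200735, 76), (.ofNat 20063914, 77), (.ofNat 19955997, 78), (.ofNat 21104733, 79), (.ofNat 22960907, 80), (.ofNat
  24593170, 81), (.ofNat 23944074, 82), (.ofNat 23800249, 83), (.ofNat 25573693, 84), (.ofNat 28005669, 85), (.ofNat
  30171949, 86), (.ofNat 31758805, 87), (.ofNat 36599935, 88), (.ofNat 37566526, 89), (.ofNat 36813508, 90), (.ofNat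
  38090151, 91), (.ofNat 39151146, 92), (.ofNat 39330706, 93), (.ofNat 39092473, 94), (.ofNat 40648680, 95), (.ofNat
  43046721, 96), (.ofNat 95894, 97), (.ofNat 343520, 98)])) (.far (.negSucc 2661286) [(.ofNat 668589, 8), (.ofNat
  891167, 13), (.ofNat 193166, 14), (.ofNat 874604, 20), (.ofNat 1612201, 21), (.ofNat 2038889, 22), (.ofNat 109111,
  23), (.ofNat 724093, 25), (.ofNat 283023, 26), (.ofNat 736790, 28), (.ofNat 2480162, 29), (.ofNat 702085, 30),
  (.ofNat 3941796, 31), (.ofNat 2955162, 32), (.ofNat 2962408, 33), (.ofNat 1773878, 34), (.ofNat 6144574, 35),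
  (.ofNat 5336014, 36), (.ofNat 5811690, 37), (.ofNat 2839948, 38), (.ofNat 5299014, 39), (.ofNat 3568089, 40),
  (.ofNat 2987673, 41), (.ofNat 3882942, 42), (.ofNat 6611795, 43), (.ofNat 6758216, 44), (.ofNat 3783912, 45),
  (.ofNat 9757115, 46), (.ofNat 13438545, 47), (.ofNat 6567593, 48), (.ofNat 17311069, 49), (.ofNat 14056014, 50),
  (.ofNat 12041489, 51), (.ofNat 16972456, 52), (.ofNat 18015617, 53), (.ofNat 19905195, 54), (.ofNat 20646290, 55),
  (.ofNat 21235339, 56), (.ofNat 22297745, 57), (.ofNat 25078921, 58), (.ofNat 27130363, 59), (.ofNat 23340671, 60),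
  (.ofNat 39627794, 61), (.ofNat 38093557, 62), (.ofNat 44262911, 63), (.ofNat 43279679, 64), (.ofNat 34617846, 65),
  (.ofNat 44100364, 66), (.ofNat 43269071, 67), (.ofNat 47216204, 68), (.ofNat 47271248, 69), (.ofNat 50116718, 70),
  (.ofNat 51421282, 71), (.ofNat 51661010, 72), (.ofNat 57015552, 73), (.ofNat 56122821, 74), (.ofNat 58839131, 75),
  (.ofNat 63095076, 76), (.ofNat 69265087, 77), (.ofNat 62245290, 78), (.ofNat 69579149, 79), (.ofNat 69514702, 80),
  (.ofNat 69886946, 81), (.ofNat 68425707, 82), (.ofNat 74201800, 83), (.ofNat 76837977, 84), (.ofNat 77184535, 85),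
  (.ofNat 89975155, 86), (.ofNat 90073967, 87), (.ofNat 117207012, 88), (.ofNat 109419451, 89), (.ofNat 105384597,
  90), (.ofNat 111767136, 91), (.ofNat 113594221, 92), (.ofNat 117551925, 93), (.ofNat 121378952, 94), (.ofNat
  119346596, 95), (.ofNat 129140163, 96), (.ofNat 407570, 98)])) (.far (.negSucc 181362) [(.ofNat 72819, 13), (.ofNat
  4654, 18), (.ofNat 14248, 19), (.ofNat 88627, 20), (.ofNat 29042, 22), (.ofNat 127978, 23), (.ofNat 449872, 28),
  (.ofNat 1152206, 29), (.ofNat 528913, 30), (.ofNat 1055870, 31), (.ofNat 935832, 32), (.ofNat 322906, 33), (.ofNat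
  857882, 34), (.ofNat 1861271, 35), (.ofNat 1135310, 36), (.ofNat 1961722, 37), (.ofNat 1850207, 38), (.ofNat
  1629337, 39), (.ofNat 1709361, 40), (.ofNat 1444063, 41), (.ofNat 1541292, 42), (.ofNat 2320284, 43), (.ofNat
  3423998, 44), (.ofNat 3121014, 45), (.ofNat 3034189, 46), (.ofNat 3744337, 47), (.ofNat 2962002, 48), (.ofNat
  3678567, 49), (.ofNat 4697992, 50), (.ofNat 4716056, 51), (.ofNat 4329212, 52), (.ofNat 4616691, 53), (.ofNat
  5396941, 54), (.ofNat 7142505, 55), (.ofNat 6974147, 56), (.ofNat 7011262, 57), (.ofNat 7822818, 58), (.ofNat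
  8842878, 59), (.ofNat 8322249, 60), (.ofNat 11452887, 61), (.ofNat 12765794, 62), (.ofNat 14434288, 63), (.ofNat
  14732979, 64), (.ofNat 14686029, 65), (.ofNat 14671658, 66), (.ofNat 15586563, 67), (.ofNat 15732250, 68), (.ofNat
  15814701, 69), (.ofNat 16523122, 70), (.ofNat 16143822, 71), (.ofNat 16374787, 72), (.ofNat 18734943, 73), (.ofNat
  18428612, 74), (.ofNat 19798141, 75), (.ofNat 20146120, 76), (.ofNat 19908426, 77), (.ofNat 20915640, 78), (.ofNat
  21856472, 79), (.ofNat 22763252, 80), (.ofNat 23324869, 81), (.ofNat 23627301, 82), (.ofNat 23242080, 83), (.ofNat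
  25145600, 84), (.ofNat 27674282, 85), (.ofNat 30560634, 86), (.ofNat 31858556, 87), (.ofNat 36470898, 88), (.ofNat
  36391183, 89), (.ofNat 36507428, 90), (.ofNat 37922882, 91), (.ofNat 39501655, 92), (.ofNat 39049087, 93), (.ofNat
  39699648, 94), (.ofNat 40052738, 95), (.ofNat 43046721, 96), (.ofNat 173807, 97), (.ofNat 291920, 98)])) (.far
  (.negSucc 718914) [(.ofNat 299811, 5), (.ofNat 14380, 9), (.ofNat 258746, 13), (.ofNat 1451169, 21), (.ofNat
  1326190, 22), (.ofNat 1247288, 23), (.ofNat 1071765, 24), (.ofNat 1361671, 25), (.ofNat 3263123, 27), (.ofNat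
  4015383, 28), (.ofNat 1889293, 29), (.ofNat 3448763, 30), (.ofNat 2984441, 31), (.ofNat 6049266, 32), (.ofNat
  12870950, 33), (.ofNat 15037685, 34), (.ofNat 8588792, 35), (.ofNat 10532070, 36), (.ofNat 15271220, 37), (.ofNat
  16905412, 38), (.ofNat 14630750, 39), (.ofNat 17729268, 40), (.ofNat 15596079, 41), (.ofNat 16959900, 42), (.ofNat
  16841557, 43), (.ofNat 21750780, 44), (.ofNat 27656094, 45), (.ofNat 24313435, 46), (.ofNat 27417049, 47), (.ofNat
  34552991, 48), (.ofNat 37405042, 49), (.ofNat 33406232, 50), (.ofNat 34735433, 51), (.ofNat 48570831, 52), (.ofNat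
  48912138, 53), (.ofNat 55447346, 54), (.ofNat 61229351, 55), (.ofNat 54437287, 56), (.ofNat 63989372, 57), (.ofNat
  60898211, 58), (.ofNat 71205562, 59), (.ofNat 68655267, 60), (.ofNat 97255562, 61), (.ofNat 102402712, 62), (.ofNat
  128401431, 63), (.ofNat 130286874, 64), (.ofNat 135989661, 65), (.ofNat 124911656, 66), (.ofNat 145915811, 67),
  (.ofNat 149894873, 68), (.ofNat 145361331, 69), (.ofNat 142296905, 70), (.ofNat 148439607, 71), (.ofNat 149261267,
  72), (.ofNat 172264075, 73), (.ofNat 176236645, 74), (.ofNat 168915458, 75), (.ofNat 183014402, 76), (.ofNat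
  187955941, 77), (.ofNat 190428580, 78), (.ofNat 192990614, 79), (.ofNat 212099371, 80), (.ofNat 197578307, 81),
  (.ofNat 206284542, 82), (.ofNat 216405029, 83), (.ofNat 222740268, 84), (.ofNat 258113387, 85), (.ofNat 279004190,
  86), (.ofNat 283794928, 87), (.ofNat 331196294, 88), (.ofNat 338960746, 89), (.ofNat 330396608, 90), (.ofNat
  336941109, 91), (.ofNat 345243108, 92), (.ofNat 356984031, 93), (.ofNat 358852388, 94), (.ofNat 371915111, 95),
  (.ofNat 387420489, 96), (.ofNat 126970, 97), (.ofNat 2429549, 98)])) (.far (.negSucc 3953) [(.ofNat 804, 8),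
  (.ofNat 227, 9), (.ofNat 5580, 13), (.ofNat 1893, 16), (.ofNat 2234, 20), (.ofNat 1325, 24), (.ofNat 2939, 25),
  (.ofNat 5573, 26), (.ofNat 1722, 27), (.ofNat 12195, 29), (.ofNat 7735, 30), (.ofNat 5928, 31), (.ofNat 1423, 32),
  (.ofNat 14797, 33), (.ofNat 15225, 34), (.ofNat 18352, 35), (.ofNat 19440, 36), (.ofNat 28072, 37), (.ofNat 21451,
  38), (.ofNat 19360, 39), (.ofNat 24970, 40), (.ofNat 21268, 41), (.ofNat 24824, 42), (.ofNat 29614, 43), (.ofNat
  35768, 44), (.ofNat 47676, 45), (.ofNat 40624, 46), (.ofNat 42214, 47), (.ofNat 49900, 48), (.ofNat 53030, 49),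
  (.ofNat 56099, 50), (.ofNat 56850, 51), (.ofNat 67366, 52), (.ofNat 60020, 53), (.ofNat 73387, 54), (.ofNat 78917,
  55), (.ofNat 85391, 56), (.ofNat 97147, 57), (.ofNat 95522, 58), (.ofNat 99172, 59), (.ofNat 104758, 60), (.ofNat
  140903, 61), (.ofNat 150685, 62), (.ofNat 171498, 63), (.ofNat 165084, 64), (.ofNat 172930, 65), (.ofNat 185375,
  66), (.ofNat 188854, 67), (.ofNat 187819, 68), (.ofNat 193156, 69), (.ofNat 186632, 70), (.ofNat 199991, 71),
  (.ofNat 204438, 72), (.ofNat 224534, 73), (.ofNat 230764, 74), (.ofNat 224486, 75), (.ofNat 239257, 76), (.ofNat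
  243009, 77), (.ofNat 249997, 78), (.ofNat 260969, 79), (.ofNat 265788, 80), (.ofNat 281726, 81), (.ofNat 282423,
  82), (.ofNat 280917, 83), (.ofNat 305271, 84), (.ofNat 328089, 85), (.ofNat 362476, 86), (.ofNat 377354, 87),
  (.ofNat 425778, 88), (.ofNat 442276, 89), (.ofNat 432145, 90), (.ofNat 450426, 91), (.ofNat 460779, 92), (.ofNat
  473459, 93), (.ofNat 470652, 94), (.ofNat 485799, 95), (.ofNat 531441, 96)])) (.far (.negSucc 26354) [(.ofNat
  28942, 13), (.ofNat 5230, 14), (.ofNat 37577, 18), (.ofNat 2330, 19), (.ofNat 80520, 20), (.ofNat 64167, 23),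
  (.ofNat 95844, 27), (.ofNat 123987, 28), (.ofNat 372950, 29), (.ofNat 336839, 30), (.ofNat 211128, 31), (.ofNat
  344378, 32), (.ofNat 221758, 33), (.ofNat 445721, 34), (.ofNat 577430, 35), (.ofNat 514257, 36), (.ofNat 544563,
  37), (.ofNat 608204, 38), (.ofNat 666811, 39), (.ofNat 647575, 40), (.ofNat 699452, 41), (.ofNat 663783, 42),
  (.ofNat 727796, 43), (.ofNat 1050530, 44), (.ofNat 1007531, 45), (.ofNat 1210291, 46), (.ofNat 1103676, 47),
  (.ofNat 1301495, 48), (.ofNat 1495099, 49), (.ofNat 1479073, 50), (.ofNat 1513238, 51), (.ofNat 1656545, 52),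
  (.ofNat 1655773, 53), (.ofNat 2014753, 54), (.ofNat 2220731, 55), (.ofNat 2205689, 56), (.ofNat 2358140, 57),
  (.ofNat 2641532, 58), (.ofNat 2740250, 59), (.ofNat 2870264, 60), (.ofNat 4038179, 61), (.ofNat 4189937, 62),
  (.ofNat 4760119, 63), (.ofNat 4934302, 64), (.ofNat 4840956, 65), (.ofNat 5022587, 66), (.ofNat 5218723, 67),
  (.ofNat 5270321, 68), (.ofNat 5386450, 69), (.ofNat 5492343, 70), (.ofNat 5603444, 71), (.ofNat 5646726, 72),
  (.ofNat 6349547, 73), (.ofNat 6359136, 74), (.ofNat 6514928, 75), (.ofNat 6770807, 76), (.ofNat 6737962, 77),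
  (.ofNat 7034478, 78), (.ofNat 7290326, 79), (.ofNat 7769290, 80), (.ofNat 7772933, 81), (.ofNat 7866389, 82),
  (.ofNat 8043187, 83), (.ofNat 8604286, 84), (.ofNat 9302965, 85), (.ofNat 10080406, 86), (.ofNat 10494586, 87),
  (.ofNat 12035709, 88), (.ofNat 12248495, 89), (.ofNat 12249467, 90), (.ofNat 12614050, 91), (.ofNat 12997399, 92),
  (.ofNat 13030205, 93), (.ofNat 13020117, 94), (.ofNat 13602208, 95), (.ofNat 14348907, 96), (.ofNat 39995, 97),
  (.ofNat 51214, 98)])) (.far (.negSucc 10725302) [(.ofNat 579540, 9), (.ofNat 5429812, 13), (.ofNat 5156679, 19),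
  (.ofNat 4246443, 21), (.ofNat 957451, 22), (.ofNat 7706237, 25), (.ofNat 12012516, 27), (.ofNat 8578950, 28),
  (.ofNat 13804504, 29), (.ofNat 15098538, 30), (.ofNat 18536121, 31), (.ofNat 17822054, 32), (.ofNat 32796317, 33),
  (.ofNat 42303516, 34), (.ofNat 44798135, 35), (.ofNat 43643905, 36), (.ofNat 41069657, 37), (.ofNat 46995567, 38),
  (.ofNat 45042278, 39), (.ofNat 51458550, 40), (.ofNat 47310725, 41), (.ofNat 54630292, 42), (.ofNat 66652771, 43),
  (.ofNat 86706684, 44), (.ofNat 81217491, 45), (.ofNat 99294349, 46), (.ofNat 92989253, 47), (.ofNat 108565911, 48),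
  (.ofNat 118369231, 49), (.ofNat 130624603, 50), (.ofNat 124429240, 51), (.ofNat 135506021, 52), (.ofNat 139112489,
  53), (.ofNat 166463957, 54), (.ofNat 175660504, 55), (.ofNat 174962631, 56), (.ofNat 190812810, 57), (.ofNat
  216846812, 58), (.ofNat 230095894, 59), (.ofNat 233569749, 60), (.ofNat 311356193, 61), (.ofNat 334997603, 62),
  (.ofNat 383276341, 63), (.ofNat 386522083, 64), (.ofNat 388992461, 65), (.ofNat 392487269, 66), (.ofNat 421337907,
  67), (.ofNat 430144540, 68), (.ofNat 427299838, 69), (.ofNat 447873993, 70), (.ofNat 451811325, 71), (.ofNat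
  450536546, 72), (.ofNat 502365518, 73), (.ofNat 515782332, 74), (.ofNat 527426378, 75), (.ofNat 537202758, 76),
  (.ofNat 544459171, 77), (.ofNat 558459946, 78), (.ofNat 591638148, 79), (.ofNat 614510876, 80), (.ofNat 623731246,
  81), (.ofNat 627099898, 82), (.ofNat 646922527, 83), (.ofNat 686908934, 84), (.ofNat 747004096, 85), (.ofNat
  804727294, 86), (.ofNat 843414587, 87), (.ofNat 970184185, 88), (.ofNat 987602354, 89), (.ofNat 994219563, 90),
  (.ofNat 1005716306, 91), (.ofNat 1047704881, 92), (.ofNat 1051752570, 93), (.ofNat 1048086753, 94), (.ofNat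
  1082566030, 95), (.ofNat 1162261467, 96), (.ofNat 1795780, 97), (.ofNat 7686624, 98)])) (.far (.negSucc 5458)
  [(.ofNat 3277, 13), (.ofNat 3872, 20), (.ofNat 132, 22), (.ofNat 2267, 23), (.ofNat 2873, 27), (.ofNat 7078, 28),
  (.ofNat 17858, 29), (.ofNat 437, 30), (.ofNat 17273, 31), (.ofNat 7965, 32), (.ofNat 3979, 33), (.ofNat 22764, 34),
  (.ofNat 26154, 35), (.ofNat 4151, 36), (.ofNat 28786, 37), (.ofNat 21615, 38), (.ofNat 22322, 39), (.ofNat 18397,
  40), (.ofNat 22234, 41), (.ofNat 25011, 42), (.ofNat 27746, 43), (.ofNat 40960, 44), (.ofNat 40791, 45), (.ofNat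
  43105, 46), (.ofNat 41304, 47), (.ofNat 38446, 48), (.ofNat 59546, 49), (.ofNat 53860, 50), (.ofNat 53340, 51),
  (.ofNat 62931, 52), (.ofNat 64049, 53), (.ofNat 72985, 54), (.ofNat 105470, 55), (.ofNat 85724, 56), (.ofNat 85595,
  57), (.ofNat 102669, 58), (.ofNat 118902, 59), (.ofNat 111250, 60), (.ofNat 137203, 61), (.ofNat 159487, 62),
  (.ofNat 171306, 63), (.ofNat 181305, 64), (.ofNat 179093, 65), (.ofNat 172827, 66), (.ofNat 185268, 67), (.ofNat
  188244, 68), (.ofNat 187070, 69), (.ofNat 201090, 70), (.ofNat 206042, 71), (.ofNat 213746, 72), (.ofNat 233892,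
  73), (.ofNat 226172, 74), (.ofNat 242058, 75), (.ofNat 248113, 76), (.ofNat 247341, 77), (.ofNat 262137, 78),
  (.ofNat 261545, 79), (.ofNat 291987, 80), (.ofNat 285818, 81), (.ofNat 292834, 82), (.ofNat 286329, 83), (.ofNat
  316898, 84), (.ofNat 340407, 85), (.ofNat 370805, 86), (.ofNat 390630, 87), (.ofNat 446072, 88), (.ofNat 444782,
  89), (.ofNat 448084, 90), (.ofNat 472648, 91), (.ofNat 477615, 92), (.ofNat 480021, 93), (.ofNat 481696, 94),
  (.ofNat 500246, 95), (.ofNat 531441, 96), (.ofNat 2418, 97), (.ofNat 3178, 98)])) (.far (.negSucc 279943) [(.ofNat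
  129787, 13), (.ofNat 170645, 19), (.ofNat 47833, 21), (.ofNat 26805, 22), (.ofNat 174133, 25), (.ofNat 178259, 27),
  (.ofNat 87662, 28), (.ofNat 101781, 29), (.ofNat 280600, 30), (.ofNat 231158, 31), (.ofNat 293118, 32), (.ofNat
  450327, 33), (.ofNat 404832, 34), (.ofNat 726729, 35), (.ofNat 569918, 36), (.ofNat 541716, 37), (.ofNat 574529,
  38), (.ofNat 559622, 39), (.ofNat 718139, 40), (.ofNat 583755, 41), (.ofNat 661052, 42), (.ofNat 823991, 43),
  (.ofNat 1110750, 44), (.ofNat 902843, 45), (.ofNat 1196985, 46), (.ofNat 1099004, 47), (.ofNat 1305382, 48),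
  (.ofNat 1473855, 49), (.ofNat 1527562, 50), (.ofNat 1563202, 51), (.ofNat 1707665, 52), (.ofNat 1630445, 53),
  (.ofNat 2042754, 54), (.ofNat 2157435, 55), (.ofNat 2140020, 56), (.ofNat 2349248, 57), (.ofNat 2649799, 58),
  (.ofNat 2855218, 59), (.ofNat 2865692, 60), (.ofNat 3807391, 61), (.ofNat 4165861, 62), (.ofNat 4743883, 63),
  (.ofNat 4781085, 64), (.ofNat 4889941, 65), (.ofNat 4765832, 66), (.ofNat 5086910, 67), (.ofNat 5232184, 68),
  (.ofNat 5311516, 69), (.ofNat 5429732, 70), (.ofNat 5560450, 71), (.ofNat 5558706, 72), (.ofNat 6300034, 73),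
  (.ofNat 6355932, 74), (.ofNat 6399200, 75), (.ofNat 6670572, 76), (.ofNat 6684301, 77), (.ofNat 6950971, 78),
  (.ofNat 7368354, 79), (.ofNat 7635324, 80), (.ofNat 7794226, 81), (.ofNat 7746505, 82), (.ofNat 8080152, 83),
  (.ofNat 8417872, 84), (.ofNat 9191074, 85), (.ofNat 10015886, 86), (.ofNat 10395266, 87), (.ofNat 12024384, 88),
  (.ofNat 12015621, 89), (.ofNat 12211290, 90), (.ofNat 12473090, 91), (.ofNat 13005499, 92), (.ofNat 13070002, 93),
  (.ofNat 12927684, 94), (.ofNat 13453443, 95), (.ofNat 14348907, 96), (.ofNat 93912, 97), (.ofNat 55708, 98)])))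

/-- certificates -/
noncomputable def CL13 : List (Hd × Tr) :=
  [c62]

theorem okC13 : okL TAB.Co1.D (TAB.Sm2.mkRows TAB.Co1.RA TAB.Co1.RB) P Z CL13 = true := by decide +kernel

end Cfsg.Agent.SM.Sp.NCo1
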