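import Cfsg.Agent.SM.Sp.NCo1D

/-!
# SM (S3570), sporadic socles: Co1, certificates (helper26; generated by notes/SM/sp26/gen3.py.txt)
-/

set_option autoImplicit false
set_option Elab.async false

namespace Cfsg.Agent.SM.Sp.NCo1

open Cfsg Cfsg.Agent.TAB.Eng Cfsg.Agent.H940.Eng Cfsg.Agent.TH.Spor

/-- a certificate -/
noncomputable def c63 : Hd × Tr :=
  ((509483520000, [], []), (.bf 57 18 (.bf 26 539 (.bf 27 21 (.bf 14 4643 (.bf 15 168 (.bf 16 33 (.bf 4 197802 (.bf 5
  2283 (.bf 6 540 (.bf 7 255 (.bf 1 30208 (.bf 2 5464 (.bf 3 2816 (.bm 2 1 (.bm 4 1 (.bm 6 1 (.bm 6 0 (.far (.ofNat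
  80) [(.ofNat 44, 13), (.ofNat 22, 20), (.ofNat 12, 21), (.ofNat 202, 26), (.ofNat 33, 29), (.negSucc 111, 30),
  (.negSucc 68, 31), (.negSucc 43, 32), (.negSucc 126, 33), (.negSucc 63, 34), (.negSucc 304, 35), (.negSucc 138,
  36), (.negSucc 66, 37), (.negSucc 61, 38), (.negSucc 101, 39), (.negSucc 74, 40), (.negSucc 129, 41), (.negSucc
  102, 42), (.negSucc 153, 43), (.negSucc 78, 44), (.negSucc 9, 45), (.negSucc 146, 46), (.negSucc 188, 47),
  (.negSucc 284, 48), (.negSucc 178, 49), (.negSucc 181, 50), (.negSucc 169, 51), (.negSucc 277, 52), (.negSucc 233,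
  53), (.negSucc 285, 54), (.negSucc 232, 55), (.negSucc 372, 56), (.negSucc 311, 57), (.negSucc 330, 58), (.negSucc
  512, 59), (.negSucc 403, 60), (.negSucc 570, 61), (.negSucc 638, 62), (.negSucc 686, 63), (.negSucc 621, 64),
  (.negSucc 674, 65), (.negSucc 456, 66), (.negSucc 774, 67), (.negSucc 792, 68), (.negSucc 811, 69), (.negSucc 759,
  70), (.negSucc 761, 71), (.negSucc 619, 72), (.negSucc 854, 73), (.negSucc 993, 74), (.negSucc 942, 75), (.negSucc
  959, 76), (.negSucc 949, 77), (.negSucc 955, 78), (.negSucc 1226, 79), (.negSucc 991, 80), (.negSucc 1053, 81),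
  (.negSucc 1114, 82), (.negSucc 1152, 83), (.negSucc 1220, 84), (.negSucc 1352, 85), (.negSucc 1428, 86), (.negSucc
  1460, 87), (.negSucc 1709, 88), (.negSucc 1726, 89), (.negSucc 1730, 90), (.negSucc 1707, 91), (.negSucc 1845, 92),
  (.negSucc 1793, 93), (.negSucc 1610, 94), (.negSucc 1866, 95), (.negSucc 2186, 96), (.negSucc 259, 6)]) (.bm 8 1
  (.bm 9 0 (.bm 10 1 (.bm 11 1 (.bm 11 0 (.far (.ofNat 1) [(.ofNat 1, 13), (.ofNat 1, 29), (.negSucc 0, 33),
  (.negSucc 0, 36), (.ofNat 1, 55), (.ofNat 1, 59), (.negSucc 0, 68), (.negSucc 0, 74), (.ofNat 1, 80), (.negSucc 0,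
  11)]) (.bm 12 1 (.bf 57 5 (.bf 27 14 (.bf 14 2228 (.bf 6 450 (.bf 1 28160 (.bm 1 1 (.bm 3 1 (.bm 5 0 (.bm 7 1 (.bm
  8 0 (.bm 13 0 (.bm 15 1 (.bm 15 0 (.far (.ofNat 32911) [(.negSucc 2991, 5), (.negSucc 921, 6), (.negSucc 1068, 7),
  (.ofNat 778, 8), (.negSucc 1669, 9), (.negSucc 33505, 11), (.ofNat 35258, 13), (.ofNat 1164, 21), (.ofNat 668, 23),
  (.ofNat 31689, 29), (.negSucc 2355, 30), (.negSucc 3665, 31), (.negSucc 5903, 32), (.negSucc 42067, 33), (.negSucc
  7287, 34), (.negSucc 9125, 35), (.negSucc 40505, 36), (.negSucc 6743, 37), (.negSucc 7192, 38), (.negSucc 7566,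
  39), (.negSucc 11299, 40), (.negSucc 6367, 41), (.negSucc 8494, 42), (.negSucc 10482, 43), (.negSucc 13045, 44),
  (.negSucc 11582, 45), (.negSucc 14372, 46), (.negSucc 14503, 47), (.negSucc 15141, 48), (.negSucc 19379, 49),
  (.negSucc 17447, 50), (.negSucc 19270, 51), (.negSucc 20915, 52), (.negSucc 20478, 53), (.negSucc 24359, 54),
  (.ofNat 11771, 55), (.negSucc 26260, 56), (.negSucc 28064, 57), (.negSucc 31696, 58), (.negSucc 34925, 60),
  (.negSucc 46966, 61), (.negSucc 52715, 62), (.negSucc 57468, 63), (.negSucc 58867, 64), (.negSucc 59801, 65),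
  (.negSucc 56739, 66), (.negSucc 63723, 67), (.negSucc 100389, 68), (.negSucc 66230, 69), (.negSucc 67750, 70),
  (.negSucc 68902, 71), (.negSucc 67949, 72), (.negSucc 77345, 73), (.negSucc 112065, 74), (.negSucc 79917, 75),
  (.negSucc 81418, 76), (.negSucc 82394, 77), (.negSucc 85134, 78), (.negSucc 92744, 79), (.negSucc 58406, 80),
  (.negSucc 93715, 81), (.negSucc 97142, 82), (.negSucc 96280, 83), (.negSucc 104865, 84), (.negSucc 113803, 85),
  (.negSucc 121026, 86), (.negSucc 126958, 87), (.negSucc 146728, 88), (.negSucc 148361, 89), (.negSucc 149077, 90),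
  (.negSucc 153333, 91), (.negSucc 157270, 92), (.negSucc 159289, 93), (.negSucc 158451, 94), (.negSucc 165545, 95),
  (.negSucc 177146, 96), (.negSucc 3543, 15)]) (.bf 26 84 (.far (.negSucc 11499) [(.negSucc 16521, 5), (.ofNat 3876,
  6), (.ofNat 4496, 8), (.negSucc 7682, 9), (.negSucc 1813, 11), (.ofNat 8060, 12), (.ofNat 11327, 13), (.ofNat 312,
  14), (.ofNat 8288, 15), (.ofNat 2053, 22), (.negSucc 9667, 30), (.negSucc 7045, 31), (.negSucc 22099, 32),
  (.negSucc 30895, 33), (.negSucc 18066, 34), (.negSucc 33555, 35), (.negSucc 29224, 36), (.negSucc 20268, 37),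
  (.negSucc 20003, 38), (.negSucc 26745, 39), (.negSucc 23814, 40), (.negSucc 28357, 41), (.negSucc 24707, 42),
  (.negSucc 35450, 43), (.negSucc 30541, 44), (.negSucc 42441, 45), (.negSucc 46157, 46), (.negSucc 34936, 47),
  (.negSucc 54145, 48), (.negSucc 55312, 49), (.negSucc 57174, 50), (.negSucc 56177, 51), (.negSucc 58429, 52),
  (.negSucc 57066, 53), (.negSucc 77900, 54), (.negSucc 67226, 55), (.negSucc 86050, 56), (.negSucc 77909, 57),
  (.negSucc 95093, 58), (.negSucc 94932, 59), (.negSucc 103979, 60), (.negSucc 145323, 61), (.negSucc 161908, 62),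
  (.negSucc 173199, 63), (.negSucc 175726, 64), (.negSucc 174607, 65), (.negSucc 169135, 66), (.negSucc 189714, 67),
  (.negSucc 207411, 68), (.negSucc 196945, 69), (.negSucc 196283, 70), (.negSucc 205776, 71), (.negSucc 206565, 72),
  (.negSucc 232572, 73), (.negSucc 245664, 74), (.negSucc 234822, 75), (.negSucc 242853, 76), (.negSucc 244832, 77),
  (.negSucc 245258, 78), (.negSucc 270559, 79), (.negSucc 266592, 80), (.negSucc 274684, 81), (.negSucc 289591, 82),
  (.negSucc 300813, 83), (.negSucc 301715, 84), (.negSucc 340354, 85), (.negSucc 364380, 86), (.negSucc 380723, 87),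
  (.negSucc 442528, 88), (.negSucc 446261, 89), (.negSucc 450557, 90), (.negSucc 453833, 91), (.negSucc 479037, 92),
  (.negSucc 478689, 93), (.negSucc 478129, 94), (.negSucc 491512, 95), (.negSucc 531440, 96)]) (.bf 27 0 (.bf 15 48
  (.bf 15 3 (.far (.ofNat 1147) [(.negSucc 1802, 3), (.ofNat 4477, 5), (.ofNat 11414, 6), (.negSucc 8566, 8), (.ofNat
  3683, 9), (.negSucc 15324, 11), (.ofNat 6708, 13), (.ofNat 1752, 15), (.ofNat 1850, 21), (.ofNat 658, 22), (.ofNat
  396, 25), (.negSucc 6304, 30), (.negSucc 2245, 31), (.negSucc 8081, 32), (.negSucc 18601, 33), (.negSucc 3628, 34),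
  (.ofNat 892, 35), (.negSucc 19922, 36), (.negSucc 4258, 37), (.negSucc 8098, 38), (.negSucc 9796, 39), (.negSucc
  10642, 40), (.negSucc 10203, 41), (.negSucc 8386, 42), (.negSucc 9252, 43), (.negSucc 12704, 44), (.negSucc 22058,
  45), (.negSucc 14860, 46), (.negSucc 11769, 47), (.negSucc 17153, 48), (.negSucc 18491, 49), (.negSucc 19812, 50),
  (.negSucc 18098, 51), (.negSucc 20156, 52), (.negSucc 21745, 53), (.negSucc 26935, 54), (.negSucc 3636, 55),
  (.negSucc 30133, 56), (.negSucc 29136, 57), (.negSucc 33991, 58), (.negSucc 35828, 60), (.negSucc 54447, 61),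
  (.negSucc 56445, 62), (.negSucc 60676, 63), (.negSucc 73505, 64), (.negSucc 62468, 65), (.negSucc 73708, 66),
  (.negSucc 67890, 67), (.negSucc 84226, 68), (.negSucc 69063, 69), (.negSucc 70269, 70), (.negSucc 71056, 71),
  (.negSucc 84273, 72), (.negSucc 83973, 73), (.negSucc 97767, 74), (.negSucc 84385, 75), (.negSucc 88595, 76),
  (.negSucc 87918, 77), (.negSucc 89588, 78), (.negSucc 84958, 79), (.negSucc 85596, 80), (.negSucc 97414, 81),
  (.negSucc 102725, 82), (.negSucc 105196, 83), (.negSucc 108570, 84), (.negSucc 120310, 85), (.negSucc 128383, 86),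
  (.negSucc 134304, 87), (.negSucc 153506, 88), (.negSucc 158810, 89), (.negSucc 158592, 90), (.negSucc 161718, 91),
  (.negSucc 168137, 92), (.negSucc 166635, 93), (.negSucc 175243, 94), (.negSucc 174503, 95), (.negSucc 177146, 96),
  (.ofNat 5205, 97)]) (.bf 16 23 (.bf 5 903 (.far (.ofNat 470511) [(.negSucc 53967, 3), (.ofNat 85172, 5), (.ofNat
  686541, 6), (.negSucc 921805, 8), (.ofNat 44818, 9), (.negSucc 1220062, 11), (.ofNat 285296, 13), (.ofNat 55102,
  15), (.ofNat 125552, 21), (.ofNat 26782, 25), (.ofNat 204783, 26), (.negSucc 238110, 30), (.negSucc 273655, 31),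
  (.negSucc 375206, 32), (.negSucc 1568964, 33), (.negSucc 278487, 34), (.negSucc 1669888, 36), (.negSucc 578402,
  37), (.negSucc 629182, 38), (.negSucc 575382, 39), (.negSucc 645467, 40), (.negSucc 574588, 41), (.negSucc 524553,
  42), (.negSucc 939046, 43), (.negSucc 1097251, 44), (.negSucc 1881920, 45), (.negSucc 1006235, 46), (.negSucc
  1233020, 47), (.negSucc 1193409, 48), (.negSucc 1218259, 49), (.negSucc 1676788, 50), (.negSucc 1595966, 51),
  (.negSucc 1544291, 52), (.negSucc 1540691, 53), (.negSucc 1878800, 54), (.ofNat 9112, 55), (.negSucc 2505047, 56),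
  (.negSucc 2351870, 57), (.negSucc 2623624, 58), (.negSucc 2790683, 60), (.negSucc 4040363, 61), (.negSucc 4492053,
  62), (.negSucc 5022038, 63), (.negSucc 5879623, 64), (.negSucc 5031161, 65), (.negSucc 5789176, 66), (.negSucc
  5436510, 67), (.negSucc 6720616, 68), (.negSucc 5546592, 69), (.negSucc 5608526, 70), (.negSucc 5510763, 71),
  (.negSucc 6370854, 72), (.negSucc 6501797, 73), (.negSucc 7718218, 74), (.negSucc 6789931, 75), (.negSucc 6900917,
  76), (.negSucc 6860242, 77), (.negSucc 7005864, 78), (.negSucc 6910029, 79), (.negSucc 6362549, 80), (.negSucc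
  7850155, 81), (.negSucc 8122247, 82), (.negSucc 8060567, 83), (.negSucc 8471249, 84), (.negSucc 9547640, 85),
  (.negSucc 10435496, 86), (.negSucc 10826398, 87), (.negSucc 12464745, 88), (.negSucc 12576936, 89), (.negSucc
  12507058, 90), (.negSucc 12900883, 91), (.negSucc 13529166, 92), (.negSucc 13434463, 93), (.negSucc 14348906, 94),
  (.negSucc 13701311, 95), (.negSucc 14235449, 96), (.ofNat 319529, 97)]) (.bf 6 378 (.bf 3 1408 (.bf 3 704 (.far
  (.negSucc 461) [(.ofNat 294, 2), (.negSucc 32, 3), (.negSucc 281, 5), (.ofNat 10392, 6), (.negSucc 11096, 8),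
  (.negSucc 529, 9), (.negSucc 10648, 11), (.negSucc 3, 13), (.ofNat 1586, 15), (.ofNat 218, 25), (.negSucc 2151,
  30), (.ofNat 470, 31), (.negSucc 2832, 32), (.negSucc 18517, 33), (.negSucc 8322, 34), (.negSucc 4241, 35),
  (.negSucc 19520, 36), (.negSucc 1903, 37), (.negSucc 7139, 38), (.negSucc 7590, 39), (.negSucc 5720, 40), (.negSucc
  5377, 41), (.negSucc 7211, 42), (.negSucc 10491, 43), (.negSucc 14861, 44), (.negSucc 22553, 45), (.negSucc 10138,
  46), (.negSucc 12857, 47), (.negSucc 23934, 48), (.negSucc 17575, 49), (.negSucc 18068, 50), (.negSucc 15518, 51),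
  (.negSucc 19419, 52), (.negSucc 18620, 53), (.negSucc 21895, 54), (.negSucc 1404, 55), (.negSucc 25182, 56),
  (.negSucc 29737, 57), (.negSucc 35568, 58), (.negSucc 31737, 60), (.negSucc 51995, 61), (.negSucc 62466, 62),
  (.negSucc 54372, 63), (.negSucc 66165, 64), (.negSucc 55061, 65), (.negSucc 69655, 66), (.negSucc 70164, 67),
  (.negSucc 82333, 68), (.negSucc 61584, 69), (.negSucc 77920, 70), (.negSucc 69418, 71), (.negSucc 80120, 72),
  (.negSucc 78531, 73), (.negSucc 86280, 74), (.negSucc 80043, 75), (.negSucc 79992, 76), (.negSucc 88905, 77),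
  (.negSucc 81551, 78), (.negSucc 78587, 79), (.negSucc 79595, 80), (.negSucc 90629, 81), (.negSucc 93025, 82),
  (.negSucc 99683, 83), (.negSucc 101851, 84), (.negSucc 118563, 85), (.negSucc 119921, 86), (.negSucc 123896, 87),
  (.negSucc 149992, 88), (.negSucc 155248, 89), (.negSucc 164976, 90), (.negSucc 153442, 91), (.negSucc 162945, 92),
  (.negSucc 162376, 93), (.negSucc 172815, 94), (.negSucc 169484, 95), (.negSucc 177146, 96), (.ofNat 3989, 97)])
  (.bm 1 0 (.far (.negSucc 4698) [(.negSucc 6654, 1), (.negSucc 255, 3), (.negSucc 2111, 5), (.negSucc 1868, 6),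
  (.ofNat 1637, 9), (.ofNat 2945, 11), (.ofNat 4866, 13), (.ofNat 2235, 15), (.ofNat 1277, 26), (.ofNat 1862, 30),
  (.ofNat 1442, 31), (.ofNat 5320, 32), (.negSucc 846, 33), (.negSucc 9435, 34), (.negSucc 5985, 35), (.negSucc 1179,
  36), (.ofNat 5754, 37), (.ofNat 1506, 38), (.ofNat 25, 39), (.ofNat 2129, 40), (.ofNat 3219, 41), (.negSucc 239,
  42), (.ofNat 1888, 43), (.negSucc 1777, 44), (.negSucc 2442, 46), (.negSucc 861, 47), (.negSucc 12861, 48),
  (.negSucc 6515, 49), (.ofNat 1997, 50), (.ofNat 7083, 51), (.negSucc 3456, 52), (.negSucc 5196, 53), (.negSucc 215,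
  54), (.negSucc 2851, 55), (.ofNat 3574, 56), (.negSucc 3236, 57), (.negSucc 6973, 58), (.ofNat 420, 59), (.negSucc
  142, 60), (.ofNat 242, 61), (.negSucc 12212, 62), (.ofNat 6401, 63), (.negSucc 1209, 64), (.ofNat 10115, 65),
  (.ofNat 2009, 66), (.negSucc 5896, 67), (.negSucc 6653, 68), (.ofNat 6161, 69), (.negSucc 13727, 70), (.negSucc
  6783, 71), (.negSucc 6442, 72), (.negSucc 1690, 73), (.ofNat 2573, 74), (.ofNat 3106, 75), (.ofNat 862, 76),
  (.negSucc 5869, 77), (.negSucc 2392, 78), (.ofNat 4134, 79), (.negSucc 1934, 80), (.ofNat 1058, 81), (.ofNat 4940,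
  82), (.negSucc 1792, 83), (.negSucc 4571, 84), (.negSucc 6968, 85), (.negSucc 223, 86), (.ofNat 4988, 87),
  (.negSucc 1060, 88), (.negSucc 9291, 89), (.negSucc 19682, 90), (.negSucc 4414, 91), (.negSucc 5259, 92), (.negSucc
  6901, 93), (.negSucc 10029, 95), (.negSucc 15632, 96), (.ofNat 251, 97)]) (.far (.ofNat 620) [(.ofNat 410, 5),
  (.ofNat 181, 6), (.negSucc 489, 8), (.negSucc 884, 9), (.negSucc 1203, 11), (.ofNat 1552, 13), (.ofNat 128, 15),
  (.ofNat 326, 21), (.ofNat 276, 22), (.ofNat 1143, 29), (.ofNat 120, 30), (.negSucc 239, 31), (.negSucc 513, 32),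
  (.negSucc 1609, 33), (.ofNat 718, 34), (.ofNat 927, 35), (.negSucc 708, 36), (.negSucc 227, 37), (.negSucc 41, 38),
  (.negSucc 51, 39), (.ofNat 185, 40), (.negSucc 616, 41), (.ofNat 146, 42), (.negSucc 256, 43), (.ofNat 737, 44),
  (.ofNat 373, 46), (.ofNat 799, 47), (.ofNat 1019, 48), (.ofNat 599, 49), (.ofNat 381, 50), (.negSucc 58, 51),
  (.ofNat 346, 52), (.ofNat 322, 53), (.ofNat 572, 54), (.ofNat 2299, 55), (.ofNat 359, 56), (.ofNat 883, 57),
  (.ofNat 1729, 58), (.ofNat 2687, 59), (.ofNat 806, 60), (.ofNat 1143, 61), (.ofNat 2012, 62), (.ofNat 1124, 63),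
  (.ofNat 1420, 64), (.ofNat 1144, 65), (.ofNat 1249, 66), (.ofNat 2705, 67), (.ofNat 1027, 68), (.ofNat 1269, 69),
  (.ofNat 3779, 70), (.ofNat 2212, 71), (.ofNat 1657, 72), (.ofNat 2109, 73), (.ofNat 2039, 75), (.ofNat 2142, 76),
  (.ofNat 2851, 77), (.ofNat 2998, 78), (.ofNat 2529, 79), (.ofNat 3868, 80), (.ofNat 2759, 81), (.ofNat 2259, 82),
  (.ofNat 2618, 83), (.ofNat 4003, 84), (.ofNat 3343, 85), (.ofNat 3678, 86), (.ofNat 3352, 87), (.ofNat 4465, 88),
  (.ofNat 5125, 89), (.ofNat 6182, 90), (.ofNat 4495, 91), (.ofNat 5195, 92), (.ofNat 4793, 93), (.ofNat 4571, 94),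
  (.ofNat 5680, 95), (.ofNat 6561, 96), (.ofNat 54, 97), (.ofNat 588, 1)]))) (.far (.negSucc 2332) [(.negSucc 231,
  3), (.negSucc 2163, 5), (.ofNat 934, 6), (.negSucc 275, 8), (.negSucc 1062, 9), (.negSucc 572, 11), (.ofNat 754,
  13), (.ofNat 689, 15), (.ofNat 46, 19), (.ofNat 722, 25), (.negSucc 549, 30), (.negSucc 1361, 31), (.negSucc 2213,
  32), (.negSucc 1918, 33), (.ofNat 1159, 34), (.ofNat 1456, 35), (.negSucc 900, 36), (.negSucc 2110, 37), (.negSucc
  226, 38), (.negSucc 930, 39), (.negSucc 1531, 40), (.negSucc 3294, 41), (.negSucc 687, 42), (.negSucc 1480, 43),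
  (.ofNat 1696, 44), (.negSucc 2335, 45), (.negSucc 1360, 46), (.negSucc 47, 47), (.ofNat 1249, 48), (.negSucc 843,
  49), (.negSucc 917, 50), (.negSucc 2401, 51), (.negSucc 927, 52), (.negSucc 1283, 53), (.negSucc 2345, 54), (.ofNat
  136, 55), (.negSucc 2862, 56), (.ofNat 631, 57), (.ofNat 959, 58), (.negSucc 2683, 60), (.negSucc 1557, 61),
  (.ofNat 721, 62), (.negSucc 4046, 63), (.negSucc 3390, 64), (.negSucc 4487, 65), (.negSucc 2228, 66), (.ofNat 303,
  67), (.negSucc 1907, 68), (.negSucc 4734, 69), (.ofNat 2636, 70), (.negSucc 1729, 71), (.negSucc 3079, 72),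
  (.negSucc 2622, 73), (.negSucc 6299, 74), (.negSucc 3520, 75), (.negSucc 4007, 76), (.negSucc 1759, 77), (.negSucc
  2927, 78), (.negSucc 4143, 79), (.negSucc 3507, 80), (.negSucc 4310, 81), (.negSucc 6000, 82), (.negSucc 4877, 83),
  (.negSucc 3332, 84), (.negSucc 2858, 85), (.negSucc 5239, 86), (.negSucc 6560, 87), (.negSucc 4911, 88), (.negSucc
  3519, 89), (.negSucc 1, 90), (.negSucc 5317, 91), (.negSucc 5482, 92), (.negSucc 5705, 93), (.negSucc 6249, 94),
  (.negSucc 5153, 95), (.negSucc 2170, 96), (.ofNat 779, 97)])) (.far (.ofNat 0) [(.ofNat 4218, 5), (.ofNat 34264,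
  6), (.negSucc 44662, 8), (.negSucc 12756, 9), (.negSucc 47844, 11), (.negSucc 101, 15), (.ofNat 26978, 21), (.ofNat
  3244, 23), (.ofNat 4708, 25), (.ofNat 12757, 26), (.ofNat 6092, 29), (.ofNat 10349, 30), (.ofNat 14606, 31),
  (.negSucc 9641, 32), (.negSucc 61458, 33), (.negSucc 13121, 34), (.ofNat 22885, 35), (.negSucc 27468, 36), (.ofNat
  4851, 37), (.negSucc 14075, 38), (.ofNat 5682, 39), (.ofNat 2832, 40), (.negSucc 22761, 41), (.negSucc 9434, 42),
  (.negSucc 10947, 43), (.negSucc 2748, 44), (.negSucc 54777, 45), (.ofNat 24944, 46), (.ofNat 44491, 47), (.negSucc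
  29347, 48), (.ofNat 47506, 49), (.ofNat 2204, 50), (.ofNat 2744, 51), (.ofNat 38452, 52), (.ofNat 43997, 53),
  (.ofNat 29657, 54), (.ofNat 114541, 55), (.ofNat 37959, 56), (.ofNat 26991, 57), (.ofNat 36627, 58), (.ofNat
  148166, 59), (.ofNat 13908, 60), (.ofNat 63126, 61), (.ofNat 17763, 62), (.ofNat 56132, 63), (.ofNat 10991, 64),
  (.negSucc 29062, 65), (.ofNat 24094, 66), (.ofNat 25821, 67), (.negSucc 156, 68), (.ofNat 46697, 69), (.ofNat
  63144, 70), (.ofNat 54029, 71), (.ofNat 24534, 72), (.ofNat 51444, 73), (.ofNat 54954, 75), (.ofNat 86130, 76),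
  (.ofNat 119656, 77), (.ofNat 83977, 78), (.ofNat 119756, 79), (.ofNat 118618, 80), (.ofNat 84239, 81), (.ofNat
  50940, 82), (.ofNat 82044, 83), (.ofNat 104685, 84), (.ofNat 39100, 85), (.ofNat 106889, 86), (.ofNat 68890, 87),
  (.ofNat 177147, 88), (.ofNat 110419, 89), (.ofNat 74370, 90), (.ofNat 111551, 91), (.ofNat 102644, 92), (.ofNat
  120870, 93), (.ofNat 119721, 94), (.ofNat 113018, 95), (.ofNat 154488, 96), (.ofNat 9020, 97), (.ofNat 1932,
  98)]))) (.far (.ofNat 66059) [(.negSucc 3071, 5), (.ofNat 5386, 6), (.negSucc 102, 7), (.negSucc 1861, 8),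
  (.negSucc 424, 9), (.negSucc 74948, 11), (.ofNat 73681, 13), (.ofNat 1535, 15), (.ofNat 3718, 25), (.ofNat 76508,
  29), (.ofNat 6055, 30), (.ofNat 2827, 31), (.negSucc 3952, 32), (.negSucc 66934, 33), (.ofNat 2282, 34), (.ofNat
  6067, 35), (.negSucc 69274, 36), (.ofNat 13036, 37), (.ofNat 8193, 38), (.ofNat 3737, 39), (.ofNat 5158, 40),
  (.ofNat 4510, 41), (.ofNat 8094, 42), (.ofNat 9793, 43), (.ofNat 11012, 44), (.ofNat 11132, 45), (.ofNat 14755,
  46), (.ofNat 13805, 47), (.ofNat 16340, 48), (.ofNat 15764, 49), (.ofNat 22513, 50), (.ofNat 15547, 51), (.ofNat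
  21802, 52), (.ofNat 18521, 53), (.ofNat 25575, 54), (.ofNat 104839, 55), (.ofNat 26471, 56), (.ofNat 32281, 57),
  (.ofNat 32790, 58), (.ofNat 113799, 59), (.ofNat 36183, 60), (.ofNat 44392, 61), (.ofNat 40775, 62), (.ofNat 54102,
  63), (.ofNat 44752, 64), (.ofNat 55896, 65), (.ofNat 57562, 66), (.ofNat 61162, 67), (.negSucc 17088, 68), (.ofNat
  62196, 69), (.ofNat 58681, 70), (.ofNat 62997, 71), (.ofNat 60283, 72), (.ofNat 66602, 73), (.ofNat 67776, 75),
  (.ofNat 76480, 76), (.ofNat 78920, 77), (.ofNat 81646, 78), (.ofNat 85440, 79), (.ofNat 156965, 80), (.ofNat 92093,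
  81), (.ofNat 92028, 82), (.ofNat 86751, 83), (.ofNat 92299, 84), (.ofNat 101066, 85), (.ofNat 114497, 86), (.ofNat
  122090, 87), (.ofNat 133769, 88), (.ofNat 139417, 89), (.ofNat 138348, 90), (.ofNat 144279, 91), (.ofNat 143452,
  92), (.ofNat 149716, 93), (.ofNat 143711, 94), (.ofNat 151998, 95), (.ofNat 177147, 96)]))) (.far (.negSucc 10241)
  [(.negSucc 11141, 5), (.ofNat 13011, 6), (.negSucc 2027, 7), (.negSucc 14293, 8), (.negSucc 1381, 9), (.negSucc
  9497, 11), (.negSucc 3162, 13), (.ofNat 2876, 15), (.ofNat 3587, 23), (.ofNat 3776, 30), (.negSucc 7872, 31),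
  (.negSucc 8278, 32), (.negSucc 33898, 33), (.negSucc 8813, 34), (.negSucc 835, 35), (.negSucc 14076, 36), (.negSucc
  11786, 37), (.negSucc 9602, 38), (.negSucc 6225, 39), (.negSucc 2906, 40), (.negSucc 12007, 41), (.negSucc 7006,
  42), (.negSucc 18817, 43), (.negSucc 11103, 44), (.negSucc 30750, 45), (.negSucc 9902, 46), (.negSucc 13216, 47),
  (.negSucc 17801, 48), (.negSucc 19570, 49), (.negSucc 20310, 50), (.negSucc 17192, 51), (.negSucc 20195, 52),
  (.negSucc 22688, 53), (.negSucc 27732, 54), (.negSucc 1165, 55), (.negSucc 34136, 56), (.negSucc 16454, 57),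
  (.negSucc 32342, 58), (.negSucc 36307, 60), (.negSucc 45764, 61), (.negSucc 60218, 62), (.negSucc 56032, 63),
  (.negSucc 65919, 64), (.negSucc 61892, 65), (.negSucc 60160, 66), (.negSucc 61321, 67), (.negSucc 80216, 68),
  (.negSucc 63039, 69), (.negSucc 66935, 70), (.negSucc 64757, 71), (.negSucc 87115, 72), (.negSucc 75711, 73),
  (.negSucc 93966, 74), (.negSucc 84536, 75), (.negSucc 77932, 76), (.negSucc 85310, 77), (.negSucc 76666, 78),
  (.negSucc 76765, 79), (.negSucc 75417, 80), (.negSucc 85972, 81), (.negSucc 98820, 82), (.negSucc 100214, 83),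
  (.negSucc 90583, 84), (.negSucc 111337, 85), (.negSucc 115363, 86), (.negSucc 128357, 87), (.negSucc 149883, 88),
  (.negSucc 145993, 89), (.negSucc 151695, 90), (.negSucc 152112, 91), (.negSucc 164461, 92), (.negSucc 159683, 93),
  (.negSucc 177146, 94), (.negSucc 166751, 95), (.negSucc 167124, 96), (.ofNat 6711, 97), (.ofNat 3578, 98)])) (.far
  (.negSucc 1793) [(.negSucc 3303, 5), (.negSucc 914, 6), (.negSucc 341, 7), (.negSucc 1818, 8), (.negSucc 1451, 9),
  (.ofNat 745, 11), (.ofNat 655, 15), (.ofNat 226, 29), (.negSucc 2897, 30), (.ofNat 1241, 31), (.negSucc 1479, 32),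
  (.negSucc 3450, 33), (.negSucc 2269, 34), (.negSucc 1858, 35), (.negSucc 6340, 36), (.negSucc 386, 37), (.negSucc
  3078, 38), (.negSucc 1499, 39), (.negSucc 4003, 40), (.negSucc 4076, 41), (.negSucc 2992, 42), (.negSucc 4395, 43),
  (.negSucc 4552, 44), (.negSucc 5198, 45), (.negSucc 4952, 46), (.negSucc 4759, 47), (.negSucc 8482, 48), (.negSucc
  6057, 49), (.negSucc 5593, 50), (.negSucc 8015, 51), (.negSucc 6969, 52), (.negSucc 6040, 53), (.negSucc 8219, 54),
  (.negSucc 2533, 55), (.negSucc 8156, 56), (.negSucc 9383, 57), (.negSucc 8986, 58), (.negSucc 7318, 59), (.negSucc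
  11193, 60), (.negSucc 18382, 61), (.negSucc 16402, 62), (.negSucc 21676, 63), (.negSucc 19905, 64), (.negSucc
  18828, 65), (.negSucc 22258, 66), (.negSucc 22764, 67), (.negSucc 23301, 68), (.negSucc 24669, 69), (.negSucc
  22557, 70), (.negSucc 23575, 71), (.negSucc 22763, 72), (.negSucc 27030, 73), (.negSucc 29067, 74), (.negSucc
  27058, 75), (.negSucc 26995, 76), (.negSucc 28006, 77), (.negSucc 26905, 78), (.negSucc 31780, 79), (.negSucc
  29236, 80), (.negSucc 32161, 81), (.negSucc 31179, 82), (.negSucc 35268, 83), (.negSucc 34978, 84), (.negSucc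
  39869, 85), (.negSucc 41862, 86), (.negSucc 42516, 87), (.negSucc 50005, 88), (.negSucc 51461, 89), (.negSucc
  51107, 90), (.negSucc 49122, 91), (.negSucc 53680, 92), (.negSucc 54576, 93), (.negSucc 54934, 94), (.negSucc
  55832, 95), (.negSucc 59048, 96), (.ofNat 260, 97)])))) (.far (.ofNat 324) [(.negSucc 141, 5), (.ofNat 224, 6),
  (.negSucc 125, 8), (.negSucc 216, 9), (.negSucc 1151, 11), (.ofNat 1352, 13), (.ofNat 182, 25), (.ofNat 835, 29),
  (.negSucc 50, 30), (.negSucc 72, 31), (.negSucc 211, 32), (.negSucc 1363, 33), (.negSucc 298, 34), (.negSucc 397,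
  35), (.negSucc 1380, 36), (.negSucc 165, 37), (.negSucc 128, 38), (.negSucc 418, 39), (.negSucc 375, 40), (.negSucc
  578, 41), (.negSucc 293, 42), (.negSucc 469, 43), (.negSucc 180, 44), (.negSucc 725, 45), (.negSucc 547, 46),
  (.negSucc 411, 47), (.negSucc 810, 48), (.negSucc 573, 49), (.negSucc 776, 50), (.negSucc 541, 51), (.negSucc 721,
  52), (.negSucc 882, 53), (.negSucc 953, 54), (.ofNat 184, 55), (.negSucc 1212, 56), (.negSucc 910, 57), (.negSucc
  1106, 58), (.negSucc 1242, 60), (.negSucc 1866, 61), (.negSucc 2041, 62), (.negSucc 1961, 63), (.negSucc 2251, 64),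
  (.negSucc 2259, 65), (.negSucc 2198, 66), (.negSucc 2261, 67), (.negSucc 3629, 68), (.negSucc 2255, 69), (.negSucc
  2564, 70), (.negSucc 2503, 71), (.negSucc 2597, 72), (.negSucc 2738, 73), (.negSucc 4046, 74), (.negSucc 2884, 75),
  (.negSucc 3097, 76), (.negSucc 3187, 77), (.negSucc 2920, 78), (.negSucc 3281, 79), (.negSucc 2333, 80), (.negSucc
  3409, 81), (.negSucc 3707, 82), (.negSucc 3695, 83), (.negSucc 3534, 84), (.negSucc 4342, 85), (.negSucc 4362, 86),
  (.negSucc 4658, 87), (.negSucc 5469, 88), (.negSucc 5502, 89), (.negSucc 5478, 90), (.negSucc 5659, 91), (.negSucc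
  6015, 92), (.negSucc 6026, 93), (.negSucc 5984, 94), (.negSucc 5881, 95), (.negSucc 6560, 96), (.ofNat 33, 97),
  (.ofNat 430, 15)])) (.far (.ofNat 1) [(.negSucc 0, 11), (.ofNat 1, 29), (.negSucc 0, 33), (.negSucc 0, 36), (.ofNat
  1, 55), (.ofNat 1, 59), (.negSucc 0, 68), (.negSucc 0, 74), (.ofNat 1, 80), (.ofNat 1, 13)])) (.far (.negSucc 653)
  [(.negSucc 1171, 5), (.negSucc 255, 6), (.negSucc 348, 7), (.negSucc 343, 9), (.ofNat 277, 11), (.ofNat 465, 13),
  (.ofNat 264, 20), (.ofNat 242, 21), (.ofNat 130, 25), (.negSucc 359, 30), (.negSucc 148, 31), (.negSucc 748, 32),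
  (.negSucc 1174, 33), (.negSucc 778, 34), (.negSucc 1419, 35), (.negSucc 893, 36), (.negSucc 977, 37), (.negSucc
  852, 38), (.negSucc 897, 39), (.negSucc 732, 40), (.negSucc 837, 41), (.negSucc 816, 42), (.negSucc 1400, 43),
  (.negSucc 1281, 44), (.negSucc 1282, 45), (.negSucc 1787, 46), (.negSucc 1450, 47), (.negSucc 1971, 48), (.negSucc
  2136, 49), (.negSucc 1995, 50), (.negSucc 2085, 51), (.negSucc 2201, 52), (.negSucc 1820, 53), (.negSucc 2844, 54),
  (.negSucc 2671, 55), (.negSucc 2768, 56), (.negSucc 2766, 57), (.negSucc 3302, 58), (.negSucc 4267, 59), (.negSucc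
  3843, 60), (.negSucc 5144, 61), (.negSucc 5682, 62), (.negSucc 6361, 63), (.negSucc 6224, 64), (.negSucc 6312, 65),
  (.negSucc 5858, 66), (.negSucc 7097, 67), (.negSucc 7167, 68), (.negSucc 7607, 69), (.negSucc 7345, 70), (.negSucc
  7727, 71), (.negSucc 6943, 72), (.negSucc 8420, 73), (.negSucc 8618, 74), (.negSucc 8690, 75), (.negSucc 8872, 76),
  (.negSucc 9111, 77), (.negSucc 9112, 78), (.negSucc 10375, 79), (.negSucc 10018, 80), (.negSucc 10283, 81),
  (.negSucc 10542, 82), (.negSucc 10870, 83), (.negSucc 11249, 84), (.negSucc 12358, 85), (.negSucc 13443, 86),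
  (.negSucc 13824, 87), (.negSucc 15959, 88), (.negSucc 16326, 89), (.negSucc 16355, 90), (.negSucc 16557, 91),
  (.negSucc 17444, 92), (.negSucc 17490, 93), (.negSucc 17007, 94), (.negSucc 18051, 95), (.negSucc 19682, 96),
  (.ofNat 627, 8)])) (.far (.negSucc 737) [(.negSucc 636, 5), (.negSucc 63, 6), (.negSucc 259, 9), (.ofNat 604, 11),
  (.ofNat 290, 21), (.ofNat 168, 24), (.ofNat 269, 25), (.ofNat 65, 29), (.negSucc 511, 30), (.negSucc 42, 31),
  (.negSucc 765, 32), (.negSucc 556, 33), (.negSucc 600, 34), (.negSucc 777, 35), (.negSucc 892, 36), (.negSucc 434,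
  37), (.negSucc 1092, 38), (.negSucc 963, 39), (.negSucc 1224, 40), (.negSucc 1264, 41), (.negSucc 676, 42),
  (.negSucc 1583, 43), (.negSucc 1713, 44), (.negSucc 1618, 45), (.negSucc 1424, 46), (.negSucc 1853, 47), (.negSucc
  2276, 48), (.negSucc 2212, 49), (.negSucc 1889, 50), (.negSucc 2324, 51), (.negSucc 2356, 52), (.negSucc 2618, 53),
  (.negSucc 2293, 54), (.negSucc 2570, 55), (.negSucc 2979, 56), (.negSucc 3039, 57), (.negSucc 3658, 58), (.negSucc
  3695, 59), (.negSucc 4390, 60), (.negSucc 5544, 61), (.negSucc 6134, 62), (.negSucc 7031, 63), (.negSucc 6131, 64),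
  (.negSucc 6565, 65), (.negSucc 6870, 66), (.negSucc 7756, 67), (.negSucc 7278, 68), (.negSucc 7435, 69), (.negSucc
  7192, 70), (.negSucc 7496, 71), (.negSucc 8012, 72), (.negSucc 8795, 73), (.negSucc 9108, 74), (.negSucc 8941, 75),
  (.negSucc 8972, 76), (.negSucc 9415, 77), (.negSucc 9234, 78), (.negSucc 10097, 79), (.negSucc 10231, 80),
  (.negSucc 10708, 81), (.negSucc 10863, 82), (.negSucc 11670, 83), (.negSucc 11404, 84), (.negSucc 13136, 85),
  (.negSucc 14111, 86), (.negSucc 13811, 87), (.negSucc 16789, 88), (.negSucc 16805, 89), (.negSucc 16841, 90),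
  (.negSucc 17003, 91), (.negSucc 17577, 92), (.negSucc 18229, 93), (.negSucc 18116, 94), (.negSucc 19029, 95),
  (.negSucc 19682, 96), (.ofNat 924, 7)])) (.far (.ofNat 19799) [(.negSucc 408, 1), (.negSucc 2912, 6), (.negSucc
  960, 9), (.negSucc 22779, 11), (.ofNat 23144, 13), (.ofNat 2022, 18), (.ofNat 522, 20), (.ofNat 29246, 29),
  (.negSucc 3093, 30), (.ofNat 1466, 31), (.negSucc 123, 32), (.negSucc 24863, 33), (.ofNat 4595, 34), (.negSucc 88,
  35), (.negSucc 25183, 36), (.ofNat 6266, 37), (.ofNat 2512, 38), (.ofNat 2730, 39), (.ofNat 1476, 40), (.negSucc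
  479, 41), (.ofNat 2705, 42), (.ofNat 1156, 43), (.ofNat 4944, 44), (.ofNat 6395, 45), (.ofNat 5642, 46), (.ofNat
  5007, 47), (.ofNat 682, 48), (.ofNat 7173, 49), (.ofNat 6210, 50), (.ofNat 7695, 51), (.ofNat 6545, 52), (.ofNat
  7226, 53), (.ofNat 8249, 54), (.ofNat 40519, 55), (.ofNat 9229, 56), (.ofNat 9223, 57), (.ofNat 13607, 58), (.ofNat
  36089, 59), (.ofNat 15045, 60), (.ofNat 13267, 61), (.ofNat 17396, 62), (.ofNat 16684, 63), (.ofNat 24218, 64),
  (.ofNat 17638, 65), (.ofNat 23562, 66), (.ofNat 18538, 67), (.negSucc 5728, 68), (.ofNat 21335, 69), (.ofNat 23274,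
  70), (.ofNat 22303, 71), (.ofNat 26384, 72), (.ofNat 27086, 73), (.ofNat 26819, 75), (.ofNat 28894, 76), (.ofNat
  27578, 77), (.ofNat 32107, 78), (.ofNat 24082, 79), (.ofNat 59012, 80), (.ofNat 31885, 81), (.ofNat 34321, 82),
  (.ofNat 29287, 83), (.ofNat 37631, 84), (.ofNat 38066, 85), (.ofNat 43882, 86), (.ofNat 45789, 87), (.ofNat 48754,
  88), (.ofNat 49570, 89), (.ofNat 50807, 90), (.ofNat 54458, 91), (.ofNat 52420, 92), (.ofNat 53726, 93), (.ofNat
  59049, 94), (.ofNat 57817, 95), (.ofNat 56478, 96), (.ofNat 7603, 5)])) (.far (.negSucc 215) [(.ofNat 22, 2),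
  (.negSucc 159, 6), (.ofNat 86, 9), (.ofNat 61, 11), (.ofNat 100, 13), (.ofNat 91, 19), (.ofNat 133, 21), (.ofNat
  19, 24), (.ofNat 49, 29), (.negSucc 113, 30), (.ofNat 65, 31), (.negSucc 37, 32), (.negSucc 180, 33), (.negSucc
  144, 34), (.negSucc 161, 35), (.negSucc 213, 36), (.ofNat 103, 37), (.negSucc 158, 38), (.negSucc 82, 39),
  (.negSucc 156, 40), (.negSucc 277, 41), (.negSucc 33, 42), (.negSucc 256, 43), (.negSucc 90, 44), (.negSucc 167,
  45), (.negSucc 145, 46), (.negSucc 218, 47), (.negSucc 435, 48), (.negSucc 286, 49), (.negSucc 202, 50), (.negSucc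
  234, 51), (.negSucc 285, 52), (.negSucc 277, 53), (.negSucc 329, 54), (.negSucc 400, 56), (.negSucc 233, 57),
  (.negSucc 263, 58), (.negSucc 404, 59), (.negSucc 227, 60), (.negSucc 749, 61), (.negSucc 648, 62), (.negSucc 846,
  63), (.negSucc 553, 64), (.negSucc 826, 65), (.negSucc 869, 66), (.negSucc 954, 67), (.negSucc 738, 68), (.negSucc
  808, 69), (.negSucc 903, 70), (.negSucc 952, 71), (.negSucc 817, 72), (.negSucc 947, 73), (.negSucc 1020, 74),
  (.negSucc 921, 75), (.negSucc 905, 76), (.negSucc 964, 77), (.negSucc 789, 78), (.negSucc 1256, 79), (.negSucc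
  1048, 80), (.negSucc 1107, 81), (.negSucc 1044, 82), (.negSucc 1272, 83), (.negSucc 1118, 84), (.negSucc 1643, 85),
  (.negSucc 1378, 86), (.negSucc 1451, 87), (.negSucc 1940, 88), (.negSucc 1895, 89), (.negSucc 1659, 90), (.negSucc
  1703, 91), (.negSucc 1977, 92), (.negSucc 1976, 93), (.negSucc 1844, 94), (.negSucc 1932, 95), (.negSucc 2186, 96),
  (.ofNat 26, 98), (.ofNat 287, 3)])) (.far (.ofNat 784) [(.negSucc 255, 6), (.ofNat 15, 9), (.negSucc 789, 11),
  (.ofNat 873, 13), (.ofNat 192, 21), (.ofNat 35, 23), (.ofNat 1107, 29), (.negSucc 90, 30), (.ofNat 242, 31),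
  (.negSucc 1, 32), (.negSucc 950, 33), (.ofNat 102, 34), (.ofNat 85, 35), (.negSucc 966, 36), (.ofNat 276, 37),
  (.ofNat 30, 38), (.ofNat 74, 39), (.negSucc 114, 40), (.ofNat 12, 41), (.ofNat 14, 42), (.ofNat 18, 43), (.negSucc
  5, 44), (.ofNat 286, 45), (.ofNat 212, 46), (.ofNat 154, 47), (.negSucc 13, 48), (.ofNat 311, 49), (.ofNat 290,
  50), (.ofNat 170, 51), (.ofNat 248, 52), (.ofNat 184, 53), (.ofNat 333, 54), (.ofNat 1579, 55), (.ofNat 314, 56),
  (.ofNat 427, 57), (.ofNat 478, 58), (.ofNat 1365, 59), (.ofNat 579, 60), (.ofNat 415, 61), (.ofNat 705, 62),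
  (.ofNat 605, 63), (.ofNat 964, 64), (.ofNat 686, 65), (.ofNat 741, 66), (.ofNat 618, 67), (.negSucc 136, 68),
  (.ofNat 769, 69), (.ofNat 716, 70), (.ofNat 790, 71), (.ofNat 953, 72), (.ofNat 899, 73), (.ofNat 957, 75), (.ofNat
  1013, 76), (.ofNat 1024, 77), (.ofNat 1193, 78), (.ofNat 799, 79), (.ofNat 2187, 80), (.ofNat 1144, 81), (.ofNat
  1231, 82), (.ofNat 1115, 83), (.ofNat 1363, 84), (.ofNat 1226, 85), (.ofNat 1627, 86), (.ofNat 1696, 87), (.ofNat
  1727, 88), (.ofNat 1783, 89), (.ofNat 1954, 90), (.ofNat 2125, 91), (.ofNat 2024, 92), (.ofNat 1955, 93), (.ofNat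
  2053, 94), (.ofNat 1933, 95), (.ofNat 2001, 96), (.ofNat 9, 98), (.ofNat 351, 1)])) (.far (.ofNat 239435) [(.ofNat
  1379, 6), (.negSucc 3565, 9), (.negSucc 242917, 11), (.ofNat 269, 12), (.ofNat 243539, 13), (.ofNat 1096, 18),
  (.ofNat 3123, 20), (.ofNat 45, 23), (.ofNat 666, 25), (.ofNat 6713, 28), (.ofNat 253380, 29), (.ofNat 10117, 30),
  (.ofNat 9882, 31), (.ofNat 6519, 32), (.negSucc 242905, 33), (.ofNat 11391, 34), (.ofNat 20756, 35), (.negSucc
  223514, 36), (.ofNat 23021, 37), (.ofNat 23248, 38), (.ofNat 19234, 39), (.ofNat 12038, 40), (.ofNat 11896, 41),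
  (.ofNat 28240, 42), (.ofNat 29355, 43), (.ofNat 32810, 44), (.ofNat 34330, 45), (.ofNat 46167, 46), (.ofNat 37728,
  47), (.ofNat 32253, 48), (.ofNat 27619, 49), (.ofNat 49127, 50), (.ofNat 57397, 51), (.ofNat 57537, 52), (.ofNat
  41729, 53), (.ofNat 83073, 54), (.ofNat 301049, 55), (.ofNat 62180, 56), (.ofNat 62390, 57), (.ofNat 87156, 58),
  (.ofNat 352137, 59), (.ofNat 88586, 60), (.ofNat 135822, 61), (.ofNat 156102, 62), (.ofNat 151686, 63), (.ofNat
  157537, 64), (.ofNat 156149, 65), (.ofNat 170773, 66), (.ofNat 154545, 67), (.negSucc 60437, 68), (.ofNat 176807,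
  69), (.ofNat 185557, 70), (.ofNat 171777, 71), (.ofNat 218420, 72), (.ofNat 189414, 73), (.ofNat 239652, 75),
  (.ofNat 199843, 76), (.ofNat 227666, 77), (.ofNat 265911, 78), (.ofNat 250931, 79), (.ofNat 531441, 80), (.ofNat
  281532, 81), (.ofNat 274396, 82), (.ofNat 287083, 83), (.ofNat 302200, 84), (.ofNat 345159, 85), (.ofNat 349525,
  86), (.ofNat 343774, 87), (.ofNat 419662, 88), (.ofNat 444975, 89), (.ofNat 409934, 90), (.ofNat 444605, 91),
  (.ofNat 449886, 92), (.ofNat 463692, 93), (.ofNat 454613, 94), (.ofNat 473987, 95), (.ofNat 519562, 96), (.ofNat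
  2101, 98)])) (.far (.ofNat 558761) [(.negSucc 2443, 6), (.ofNat 15767, 8), (.negSucc 67194, 9), (.negSucc 628557,
  11), (.ofNat 1316, 12), (.ofNat 652867, 13), (.ofNat 58040, 21), (.ofNat 13937, 23), (.ofNat 5066, 25), (.ofNat
  19058, 28), (.ofNat 698632, 29), (.negSucc 16443, 30), (.ofNat 95236, 31), (.ofNat 2149, 32), (.negSucc 627601,
  33), (.negSucc 20488, 34), (.ofNat 46931, 35), (.negSucc 579848, 36), (.ofNat 94913, 37), (.negSucc 22443, 38),
  (.ofNat 85114, 39), (.ofNat 27158, 40), (.negSucc 54135, 41), (.ofNat 4063, 42), (.ofNat 33739, 43), (.ofNat 49265,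
  44), (.negSucc 33199, 45), (.ofNat 160673, 46), (.ofNat 238860, 47), (.negSucc 73707, 48), (.ofNat 314300, 49),
  (.ofNat 148227, 50), (.ofNat 117606, 51), (.ofNat 258541, 52), (.ofNat 301942, 53), (.ofNat 274614, 54), (.ofNat
  915291, 55), (.ofNat 331101, 56), (.ofNat 278656, 57), (.ofNat 345787, 58), (.ofNat 953495, 59), (.ofNat 243678,
  60), (.ofNat 537089, 61), (.ofNat 455505, 62), (.ofNat 540388, 63), (.ofNat 600734, 64), (.ofNat 222416, 65),
  (.ofNat 544529, 66), (.ofNat 441779, 67), (.negSucc 68118, 68), (.ofNat 544451, 69), (.ofNat 650787, 70), (.ofNat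
  636081, 71), (.ofNat 683189, 72), (.ofNat 672290, 73), (.ofNat 702813, 75), (.ofNat 842092, 76), (.ofNat 1018580,
  77), (.ofNat 816690, 78), (.ofNat 880296, 79), (.ofNat 1497598, 80), (.ofNat 858546, 81), (.ofNat 790694, 82),
  (.ofNat 899993, 83), (.ofNat 993915, 84), (.ofNat 802947, 85), (.ofNat 1132665, 86), (.ofNat 1039667, 87), (.ofNat
  1594323, 88), (.ofNat 1312452, 89), (.ofNat 1176310, 90), (.ofNat 1370276, 91), (.ofNat 1325021, 92), (.ofNat
  1429906, 93), (.ofNat 1580419, 94), (.ofNat 1421842, 95), (.ofNat 1548870, 96), (.ofNat 3427, 98)])) (.far (.ofNat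
  612861) [(.ofNat 8270, 5), (.negSucc 41468, 6), (.ofNat 791, 9), (.negSucc 671563, 11), (.ofNat 664497, 13),
  (.ofNat 1267, 21), (.ofNat 63921, 25), (.ofNat 51743, 28), (.ofNat 541208, 29), (.negSucc 100859, 30), (.negSucc
  52720, 31), (.negSucc 21338, 32), (.negSucc 640005, 33), (.ofNat 213454, 34), (.negSucc 142839, 35), (.negSucc
  724987, 36), (.ofNat 39521, 37), (.ofNat 31756, 38), (.negSucc 22792, 39), (.ofNat 108249, 40), (.ofNat 36701, 41),
  (.ofNat 223870, 42), (.ofNat 16216, 43), (.ofNat 66566, 44), (.ofNat 188189, 45), (.ofNat 164859, 46), (.ofNat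
  169299, 47), (.ofNat 77096, 48), (.ofNat 69974, 49), (.ofNat 217326, 50), (.ofNat 118041, 51), (.ofNat 337441, 52),
  (.ofNat 192907, 53), (.ofNat 364505, 54), (.ofNat 893795, 55), (.ofNat 352153, 56), (.ofNat 279664, 57), (.ofNat
  186567, 58), (.ofNat 896592, 59), (.ofNat 264427, 60), (.ofNat 365519, 61), (.ofNat 557739, 62), (.ofNat 638002,
  63), (.ofNat 498351, 64), (.ofNat 423291, 65), (.ofNat 674870, 66), (.ofNat 527221, 67), (.negSucc 103814, 68),
  (.ofNat 534202, 69), (.ofNat 576135, 70), (.ofNat 702706, 71), (.ofNat 628192, 72), (.ofNat 635396, 73), (.ofNat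
  750484, 75), (.ofNat 736057, 76), (.ofNat 589536, 77), (.ofNat 832870, 78), (.ofNat 738854, 79), (.ofNat 1594323,
  80), (.ofNat 931230, 81), (.ofNat 811753, 82), (.ofNat 721103, 83), (.ofNat 986875, 84), (.ofNat 798162, 85),
  (.ofNat 1186111, 86), (.ofNat 1155665, 87), (.ofNat 1209116, 88), (.ofNat 1367453, 89), (.ofNat 1428190, 90),
  (.ofNat 1297548, 91), (.ofNat 1401497, 92), (.ofNat 1454154, 93), (.ofNat 1444547, 94), (.ofNat 1342185, 95),
  (.ofNat 1349415, 96), (.ofNat 62146, 98)])) (.far (.negSucc 312) [(.negSucc 1776, 6), (.negSucc 261, 8), (.negSucc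
  1010, 9), (.ofNat 427, 11), (.ofNat 61, 12), (.ofNat 194, 14), (.ofNat 64, 20), (.ofNat 81, 23), (.ofNat 498, 28),
  (.ofNat 2540, 29), (.negSucc 2284, 30), (.ofNat 1354, 31), (.negSucc 314, 32), (.negSucc 1754, 33), (.ofNat 188,
  34), (.ofNat 3, 35), (.negSucc 3304, 36), (.ofNat 2292, 37), (.negSucc 237, 38), (.ofNat 850, 39), (.negSucc 642,
  40), (.negSucc 1078, 41), (.negSucc 256, 42), (.negSucc 865, 43), (.ofNat 275, 44), (.ofNat 277, 45), (.ofNat 109,
  46), (.ofNat 53, 47), (.negSucc 2579, 48), (.ofNat 346, 49), (.ofNat 421, 50), (.negSucc 19, 51), (.negSucc 180,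
  52), (.ofNat 987, 53), (.ofNat 487, 54), (.ofNat 6561, 55), (.ofNat 972, 56), (.ofNat 525, 57), (.ofNat 1734, 58),
  (.ofNat 3059, 59), (.ofNat 1505, 60), (.negSucc 1405, 61), (.ofNat 1742, 62), (.negSucc 1716, 63), (.ofNat 2140,
  64), (.ofNat 653, 65), (.negSucc 162, 66), (.negSucc 1457, 67), (.negSucc 733, 68), (.negSucc 1339, 69), (.ofNat
  886, 70), (.ofNat 378, 71), (.ofNat 2033, 72), (.ofNat 549, 73), (.negSucc 1586, 74), (.ofNat 781, 75), (.ofNat
  1962, 76), (.ofNat 1368, 77), (.ofNat 2730, 78), (.negSucc 1539, 79), (.ofNat 3760, 80), (.ofNat 957, 81), (.ofNat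
  2570, 82), (.negSucc 1242, 83), (.ofNat 1644, 84), (.ofNat 551, 85), (.ofNat 1524, 86), (.ofNat 2841, 87), (.ofNat
  1327, 88), (.ofNat 1050, 89), (.ofNat 1726, 90), (.ofNat 4226, 91), (.ofNat 2156, 92), (.ofNat 1489, 93), (.ofNat
  2570, 94), (.ofNat 2247, 95), (.ofNat 1682, 96)])) (.far (.negSucc 51) [(.negSucc 338, 4), (.ofNat 4, 6), (.ofNat
  34, 8), (.negSucc 104, 9), (.negSucc 92, 10), (.negSucc 366, 11), (.ofNat 583, 13), (.ofNat 193, 14), (.ofNat 289,
  20), (.ofNat 106, 22), (.ofNat 400, 29), (.negSucc 132, 30), (.negSucc 49, 31), (.negSucc 86, 32), (.negSucc 481,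
  33), (.negSucc 121, 34), (.negSucc 168, 35), (.negSucc 502, 36), (.ofNat 104, 37), (.negSucc 23, 38), (.negSucc
  156, 39), (.negSucc 66, 40), (.ofNat 89, 41), (.negSucc 173, 42), (.negSucc 183, 43), (.negSucc 87, 44), (.negSucc
  312, 45), (.negSucc 499, 46), (.negSucc 177, 47), (.negSucc 242, 48), (.negSucc 264, 49), (.negSucc 110, 50),
  (.negSucc 171, 51), (.negSucc 316, 52), (.negSucc 373, 53), (.negSucc 201, 54), (.ofNat 159, 55), (.negSucc 398,
  56), (.negSucc 299, 57), (.negSucc 274, 58), (.negSucc 536, 60), (.negSucc 353, 61), (.negSucc 595, 62), (.negSucc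
  711, 63), (.negSucc 854, 64), (.negSucc 428, 65), (.negSucc 601, 66), (.negSucc 776, 67), (.negSucc 1188, 68),
  (.negSucc 1068, 69), (.negSucc 754, 70), (.negSucc 806, 71), (.negSucc 820, 72), (.negSucc 876, 73), (.negSucc
  1430, 74), (.negSucc 918, 75), (.negSucc 919, 76), (.negSucc 956, 77), (.negSucc 1053, 78), (.negSucc 1078, 79),
  (.negSucc 657, 80), (.negSucc 1009, 81), (.negSucc 1043, 82), (.negSucc 1185, 83), (.negSucc 1219, 84), (.negSucc
  1353, 85), (.negSucc 1634, 86), (.negSucc 1575, 87), (.negSucc 1560, 88), (.negSucc 1769, 89), (.negSucc 1729, 90),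
  (.negSucc 1708, 91), (.negSucc 1962, 92), (.negSucc 1821, 93), (.negSucc 1808, 94), (.negSucc 1704, 95), (.negSucc
  2186, 96), (.ofNat 2, 97)])) (.far (.ofNat 3163) [(.negSucc 42, 4), (.negSucc 78, 6), (.ofNat 163, 8), (.negSucc
  156, 9), (.negSucc 199, 10), (.negSucc 3504, 11), (.ofNat 3919, 13), (.ofNat 26, 21), (.ofNat 89, 23), (.ofNat
  3264, 29), (.negSucc 412, 30), (.negSucc 330, 31), (.negSucc 810, 32), (.negSucc 4484, 33), (.negSucc 734, 34),
  (.negSucc 956, 35), (.negSucc 4543, 36), (.negSucc 646, 37), (.negSucc 743, 38), (.negSucc 882, 39), (.negSucc 904,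
  40), (.negSucc 866, 41), (.negSucc 834, 42), (.negSucc 1231, 43), (.negSucc 1257, 44), (.negSucc 1598, 45),
  (.negSucc 1420, 46), (.negSucc 1731, 47), (.negSucc 1910, 48), (.negSucc 2268, 49), (.negSucc 1857, 50), (.negSucc
  2146, 51), (.negSucc 2187, 52), (.negSucc 2505, 53), (.negSucc 2699, 54), (.ofNat 1092, 55), (.negSucc 3106, 56),
  (.negSucc 2957, 57), (.negSucc 3635, 58), (.negSucc 3821, 60), (.negSucc 5432, 61), (.negSucc 5848, 62), (.negSucc
  6366, 63), (.negSucc 6459, 64), (.negSucc 6745, 65), (.negSucc 6572, 66), (.negSucc 7237, 67), (.negSucc 11074,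
  68), (.negSucc 7201, 69), (.negSucc 7283, 70), (.negSucc 7461, 71), (.negSucc 7591, 72), (.negSucc 8602, 73),
  (.negSucc 12529, 74), (.negSucc 8782, 75), (.negSucc 8932, 76), (.negSucc 9173, 77), (.negSucc 9320, 78), (.negSucc
  10024, 79), (.negSucc 6562, 80), (.negSucc 10518, 81), (.negSucc 10586, 82), (.negSucc 11048, 83), (.negSucc 11302,
  84), (.negSucc 12781, 85), (.negSucc 13418, 86), (.negSucc 14168, 87), (.negSucc 16431, 88), (.negSucc 16447, 89),
  (.negSucc 16488, 90), (.negSucc 16849, 91), (.negSucc 17624, 92), (.negSucc 17592, 93), (.negSucc 17571, 94),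
  (.negSucc 18196, 95), (.negSucc 19682, 96), (.ofNat 599, 12)]))) (.far (.negSucc 601) [(.negSucc 14, 4), (.negSucc
  161, 6), (.ofNat 56, 8), (.negSucc 223, 9), (.ofNat 4, 20), (.ofNat 243, 21), (.ofNat 56, 25), (.ofNat 141, 28),
  (.ofNat 2, 30), (.ofNat 216, 31), (.ofNat 18, 32), (.ofNat 244, 33), (.ofNat 201, 34), (.ofNat 225, 35), (.ofNat
  426, 36), (.ofNat 257, 37), (.ofNat 227, 38), (.ofNat 368, 39), (.ofNat 378, 40), (.ofNat 243, 41), (.ofNat 291,
  42), (.ofNat 222, 43), (.ofNat 420, 44), (.ofNat 591, 45), (.ofNat 519, 46), (.ofNat 498, 47), (.ofNat 401, 48),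
  (.ofNat 640, 49), (.ofNat 640, 50), (.ofNat 729, 51), (.ofNat 718, 52), (.ofNat 859, 53), (.ofNat 973, 54), (.ofNat
  1083, 55), (.ofNat 1228, 56), (.ofNat 1074, 57), (.ofNat 1334, 58), (.ofNat 936, 59), (.ofNat 1355, 60), (.ofNat
  1660, 61), (.ofNat 1957, 62), (.ofNat 1960, 63), (.ofNat 2423, 64), (.ofNat 2203, 65), (.ofNat 2334, 66), (.ofNat
  2169, 67), (.ofNat 2677, 68), (.ofNat 2199, 69), (.ofNat 2519, 70), (.ofNat 2383, 71), (.ofNat 2713, 72), (.ofNat
  2886, 73), (.ofNat 3036, 74), (.ofNat 2905, 75), (.ofNat 3163, 76), (.ofNat 3117, 77), (.ofNat 3313, 78), (.ofNat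
  3016, 79), (.ofNat 3339, 80), (.ofNat 3512, 81), (.ofNat 3710, 82), (.ofNat 3405, 83), (.ofNat 4053, 84), (.ofNat
  4228, 85), (.ofNat 4500, 86), (.ofNat 4954, 87), (.ofNat 5475, 88), (.ofNat 5507, 89), (.ofNat 5460, 90), (.ofNat
  5802, 91), (.ofNat 5972, 92), (.ofNat 5895, 93), (.ofNat 6065, 94), (.ofNat 6257, 95), (.ofNat 6561, 96), (.ofNat
  541, 11)])) (.far (.negSucc 481) [(.negSucc 239, 6), (.ofNat 48, 8), (.negSucc 136, 9), (.ofNat 132, 20), (.ofNat
  34, 22), (.negSucc 301, 30), (.negSucc 65, 31), (.negSucc 1, 32), (.negSucc 607, 33), (.negSucc 181, 34), (.negSucc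
  401, 35), (.negSucc 599, 36), (.negSucc 58, 37), (.negSucc 452, 38), (.negSucc 260, 39), (.negSucc 145, 40),
  (.negSucc 437, 41), (.negSucc 378, 42), (.negSucc 615, 43), (.negSucc 571, 44), (.negSucc 622, 45), (.negSucc 366,
  46), (.negSucc 357, 47), (.negSucc 946, 48), (.negSucc 673, 49), (.negSucc 582, 50), (.negSucc 599, 51), (.negSucc
  752, 52), (.negSucc 748, 53), (.negSucc 937, 54), (.negSucc 554, 55), (.negSucc 1029, 56), (.negSucc 1352, 57),
  (.negSucc 1185, 58), (.negSucc 982, 59), (.negSucc 1412, 60), (.negSucc 2182, 61), (.negSucc 2076, 62), (.negSucc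
  2383, 63), (.negSucc 2217, 64), (.negSucc 2394, 65), (.negSucc 2472, 66), (.negSucc 2663, 67), (.negSucc 2602, 68),
  (.negSucc 2847, 69), (.negSucc 2533, 70), (.negSucc 2616, 71), (.negSucc 2675, 72), (.negSucc 2659, 73), (.negSucc
  3323, 74), (.negSucc 3320, 75), (.negSucc 3154, 76), (.negSucc 3417, 77), (.negSucc 3057, 78), (.negSucc 3581, 79),
  (.negSucc 3450, 80), (.negSucc 3449, 81), (.negSucc 3743, 82), (.negSucc 4092, 83), (.negSucc 4171, 84), (.negSucc
  4458, 85), (.negSucc 5052, 86), (.negSucc 4825, 87), (.negSucc 5650, 88), (.negSucc 5954, 89), (.negSucc 5770, 90),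
  (.negSucc 5955, 91), (.negSucc 6287, 92), (.negSucc 6143, 93), (.negSucc 6442, 94), (.negSucc 6408, 95), (.negSucc
  6560, 96), (.ofNat 7, 97), (.ofNat 591, 10)])) (.far (.negSucc 3996) [(.negSucc 535, 4), (.ofNat 878, 6), (.ofNat
  2535, 13), (.ofNat 54, 19), (.ofNat 1252, 20), (.ofNat 868, 22), (.ofNat 423, 26), (.ofNat 1128, 29), (.ofNat 670,
  30), (.ofNat 1867, 31), (.negSucc 1977, 32), (.negSucc 3616, 33), (.ofNat 2368, 34), (.ofNat 1908, 35), (.ofNat
  2025, 36), (.ofNat 1556, 37), (.ofNat 986, 38), (.ofNat 2500, 39), (.ofNat 2499, 40), (.ofNat 1734, 41), (.ofNat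
  3006, 42), (.ofNat 3577, 43), (.ofNat 4404, 44), (.ofNat 4304, 45), (.ofNat 3718, 46), (.ofNat 4695, 47), (.ofNat
  6083, 48), (.ofNat 5337, 49), (.ofNat 7630, 50), (.ofNat 6823, 51), (.ofNat 7184, 52), (.ofNat 8479, 53), (.ofNat
  7338, 54), (.ofNat 11136, 55), (.ofNat 9432, 56), (.ofNat 13431, 57), (.ofNat 10888, 58), (.ofNat 13001, 59),
  (.ofNat 12659, 60), (.ofNat 14025, 61), (.ofNat 18371, 62), (.ofNat 20787, 63), (.ofNat 20898, 64), (.ofNat 20631,
  65), (.ofNat 20537, 66), (.ofNat 21499, 67), (.ofNat 20235, 68), (.ofNat 22453, 69), (.ofNat 20863, 70), (.ofNat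
  24154, 71), (.ofNat 23779, 72), (.ofNat 24897, 73), (.ofNat 25129, 74), (.ofNat 27045, 75), (.ofNat 28675, 76),
  (.ofNat 27467, 77), (.ofNat 30483, 78), (.ofNat 30540, 79), (.ofNat 35146, 80), (.ofNat 33080, 81), (.ofNat 31644,
  82), (.ofNat 33848, 83), (.ofNat 36563, 84), (.ofNat 37695, 85), (.ofNat 41047, 86), (.ofNat 43635, 87), (.ofNat
  50473, 88), (.ofNat 51176, 89), (.ofNat 50804, 90), (.ofNat 52963, 91), (.ofNat 54353, 92), (.ofNat 53561, 93),
  (.ofNat 54561, 94), (.ofNat 56332, 95), (.ofNat 59049, 96), (.ofNat 2817, 98), (.ofNat 4875, 9)])) (.far (.negSucc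
  191) [(.negSucc 673, 6), (.ofNat 12, 12), (.ofNat 267, 21), (.ofNat 12, 28), (.ofNat 665, 29), (.negSucc 174, 30),
  (.ofNat 625, 31), (.ofNat 70, 32), (.negSucc 252, 33), (.ofNat 527, 34), (.ofNat 76, 35), (.negSucc 178, 36),
  (.ofNat 693, 37), (.ofNat 298, 38), (.ofNat 266, 39), (.ofNat 47, 40), (.ofNat 448, 41), (.ofNat 204, 42), (.ofNat
  118, 43), (.ofNat 479, 44), (.ofNat 666, 45), (.ofNat 513, 46), (.ofNat 378, 47), (.ofNat 82, 48), (.ofNat 806,
  49), (.ofNat 694, 50), (.ofNat 513, 51), (.ofNat 855, 52), (.ofNat 584, 53), (.ofNat 944, 54), (.ofNat 2034, 55),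
  (.ofNat 1114, 56), (.ofNat 1211, 57), (.ofNat 1419, 58), (.ofNat 1593, 59), (.ofNat 1491, 60), (.ofNat 1818, 61),
  (.ofNat 2033, 62), (.ofNat 1710, 63), (.ofNat 2525, 64), (.ofNat 2427, 65), (.ofNat 2395, 66), (.ofNat 2093, 67),
  (.ofNat 2163, 68), (.ofNat 2149, 69), (.ofNat 2450, 70), (.ofNat 2387, 71), (.ofNat 2804, 72), (.ofNat 2952, 73),
  (.ofNat 2492, 74), (.ofNat 3150, 75), (.ofNat 3249, 76), (.ofNat 3303, 77), (.ofNat 3527, 78), (.ofNat 2816, 79),
  (.ofNat 4091, 80), (.ofNat 3682, 81), (.ofNat 3829, 82), (.ofNat 3365, 83), (.ofNat 4163, 84), (.ofNat 4203, 85),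
  (.ofNat 4582, 86), (.ofNat 5183, 87), (.ofNat 5745, 88), (.ofNat 5462, 89), (.ofNat 5719, 90), (.ofNat 6356, 91),
  (.ofNat 6111, 92), (.ofNat 6050, 93), (.ofNat 6354, 94), (.ofNat 6286, 95), (.ofNat 6561, 96), (.ofNat 502, 8)])))
  (.far (.negSucc 6135) [(.negSucc 1328, 2), (.ofNat 1933, 13), (.ofNat 233, 15), (.ofNat 857, 20), (.ofNat 712, 21),
  (.ofNat 1994, 23), (.ofNat 1427, 27), (.ofNat 1469, 28), (.ofNat 1910, 29), (.ofNat 3200, 30), (.ofNat 3097, 31),
  (.ofNat 2323, 32), (.ofNat 3673, 33), (.ofNat 5792, 34), (.ofNat 9806, 35), (.ofNat 5356, 36), (.ofNat 6144, 37),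
  (.ofNat 6526, 38), (.ofNat 7387, 39), (.ofNat 7877, 40), (.ofNat 8276, 41), (.ofNat 8586, 42), (.ofNat 10273, 43),
  (.ofNat 12891, 44), (.ofNat 9628, 45), (.ofNat 14404, 46), (.ofNat 14708, 47), (.ofNat 16094, 48), (.ofNat 17691,
  49), (.ofNat 17355, 50), (.ofNat 18901, 51), (.ofNat 21056, 52), (.ofNat 21177, 53), (.ofNat 24631, 54), (.ofNat
  27283, 55), (.ofNat 26091, 56), (.ofNat 30270, 57), (.ofNat 31224, 58), (.ofNat 38083, 59), (.ofNat 33708, 60),
  (.ofNat 48345, 61), (.ofNat 52151, 62), (.ofNat 57924, 63), (.ofNat 59027, 64), (.ofNat 58527, 65), (.ofNat 57591,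
  66), (.ofNat 63351, 67), (.ofNat 64205, 68), (.ofNat 66240, 69), (.ofNat 66615, 70), (.ofNat 69580, 71), (.ofNat
  64969, 72), (.ofNat 74793, 73), (.ofNat 76732, 74), (.ofNat 79264, 75), (.ofNat 81274, 76), (.ofNat 81394, 77),
  (.ofNat 83869, 78), (.ofNat 92075, 79), (.ofNat 93464, 80), (.ofNat 94825, 81), (.ofNat 94800, 82), (.ofNat 95896,
  83), (.ofNat 102845, 84), (.ofNat 115233, 85), (.ofNat 122588, 86), (.ofNat 126885, 87), (.ofNat 146254, 88),
  (.ofNat 147853, 89), (.ofNat 147043, 90), (.ofNat 151758, 91), (.ofNat 158240, 92), (.ofNat 157336, 93), (.ofNat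
  155500, 94), (.ofNat 164120, 95), (.ofNat 177147, 96), (.ofNat 2256, 97), (.ofNat 1569, 98), (.ofNat 5656, 6)]))
  (.far (.negSucc 1182) [(.ofNat 64, 8), (.ofNat 723, 13), (.ofNat 26, 22), (.ofNat 54, 23), (.ofNat 312, 25),
  (.ofNat 184, 28), (.negSucc 308, 30), (.negSucc 688, 31), (.negSucc 774, 32), (.negSucc 1056, 33), (.negSucc 648,
  34), (.negSucc 677, 35), (.negSucc 832, 36), (.negSucc 1057, 37), (.negSucc 657, 38), (.negSucc 850, 39), (.negSucc
  1025, 40), (.negSucc 856, 41), (.negSucc 1303, 42), (.negSucc 1197, 43), (.negSucc 1233, 44), (.negSucc 1728, 45),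
  (.negSucc 1346, 46), (.negSucc 1677, 47), (.negSucc 2262, 48), (.negSucc 2258, 49), (.negSucc 1859, 50), (.negSucc
  2541, 51), (.negSucc 2699, 52), (.negSucc 2590, 53), (.negSucc 2415, 54), (.negSucc 2461, 55), (.negSucc 3135, 56),
  (.negSucc 3195, 57), (.negSucc 3958, 58), (.negSucc 3444, 59), (.negSucc 3806, 60), (.negSucc 5620, 61), (.negSucc
  6238, 62), (.negSucc 6570, 63), (.negSucc 6693, 64), (.negSucc 6735, 65), (.negSucc 7286, 66), (.negSucc 7525, 67),
  (.negSucc 7638, 68), (.negSucc 7751, 69), (.negSucc 7633, 70), (.negSucc 7557, 71), (.negSucc 7976, 72), (.negSucc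
  8575, 73), (.negSucc 9417, 74), (.negSucc 9162, 75), (.negSucc 9258, 76), (.negSucc 9656, 77), (.negSucc 9612, 78),
  (.negSucc 9639, 79), (.negSucc 10215, 80), (.negSucc 10362, 81), (.negSucc 11079, 82), (.negSucc 11204, 83),
  (.negSucc 11845, 84), (.negSucc 13567, 85), (.negSucc 13991, 86), (.negSucc 14542, 87), (.negSucc 16635, 88),
  (.negSucc 16942, 89), (.negSucc 16788, 90), (.negSucc 17046, 91), (.negSucc 17856, 92), (.negSucc 17582, 93),
  (.negSucc 18582, 94), (.negSucc 18333, 95), (.negSucc 19682, 96), (.ofNat 285, 97), (.ofNat 1035, 4)])) (.far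
  (.negSucc 741) [(.ofNat 340, 9), (.ofNat 1578, 13), (.ofNat 407, 14), (.ofNat 54, 20), (.ofNat 129, 21), (.ofNat
  86, 22), (.ofNat 418, 25), (.ofNat 413, 28), (.ofNat 1588, 29), (.ofNat 738, 30), (.ofNat 1126, 31), (.ofNat 562,
  32), (.ofNat 797, 33), (.ofNat 1685, 34), (.ofNat 3050, 35), (.ofNat 1703, 36), (.ofNat 2782, 37), (.ofNat 2463,
  38), (.ofNat 2238, 39), (.ofNat 2677, 40), (.ofNat 2713, 41), (.ofNat 2798, 42), (.ofNat 3430, 43), (.ofNat 4357,
  44), (.ofNat 4349, 45), (.ofNat 4315, 46), (.ofNat 4293, 47), (.ofNat 5458, 48), (.ofNat 6009, 49), (.ofNat 5619,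
  50), (.ofNat 6266, 51), (.ofNat 7188, 52), (.ofNat 6521, 53), (.ofNat 8176, 54), (.ofNat 9372, 55), (.ofNat 9563,
  56), (.ofNat 10228, 57), (.ofNat 10077, 58), (.ofNat 12387, 59), (.ofNat 11742, 60), (.ofNat 15376, 61), (.ofNat
  17077, 62), (.ofNat 19092, 63), (.ofNat 18593, 64), (.ofNat 19339, 65), (.ofNat 19023, 66), (.ofNat 20834, 67),
  (.ofNat 20396, 68), (.ofNat 21376, 69), (.ofNat 21201, 70), (.ofNat 22532, 71), (.ofNat 22159, 72), (.ofNat 25294,
  73), (.ofNat 24575, 74), (.ofNat 25781, 75), (.ofNat 26788, 76), (.ofNat 26883, 77), (.ofNat 27972, 78), (.ofNat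
  29753, 79), (.ofNat 30947, 80), (.ofNat 31295, 81), (.ofNat 31002, 82), (.ofNat 31549, 83), (.ofNat 34706, 84),
  (.ofNat 36312, 85), (.ofNat 39971, 86), (.ofNat 42030, 87), (.ofNat 47649, 88), (.ofNat 49217, 89), (.ofNat 48102,
  90), (.ofNat 50083, 91), (.ofNat 51870, 92), (.ofNat 52174, 93), (.ofNat 51948, 94), (.ofNat 54489, 95), (.ofNat
  59049, 96), (.ofNat 477, 97), (.ofNat 1014, 2)])) (.far (.negSucc 841) [(.ofNat 86, 8), (.ofNat 43, 10), (.ofNat
  133, 12), (.ofNat 8, 13), (.ofNat 362, 18), (.ofNat 653, 19), (.ofNat 318, 21), (.ofNat 313, 22), (.ofNat 374, 25),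
  (.ofNat 385, 26), (.ofNat 214, 28), (.ofNat 431, 29), (.ofNat 863, 30), (.ofNat 180, 31), (.negSucc 330, 32),
  (.ofNat 1006, 33), (.ofNat 3429, 34), (.ofNat 3143, 35), (.ofNat 2612, 36), (.ofNat 1232, 37), (.ofNat 2433, 38),
  (.ofNat 1746, 39), (.ofNat 895, 40), (.ofNat 482, 41), (.ofNat 2352, 42), (.ofNat 2321, 43), (.ofNat 5575, 44),
  (.ofNat 3744, 45), (.ofNat 4243, 46), (.ofNat 5242, 47), (.ofNat 7221, 48), (.ofNat 5777, 49), (.ofNat 5499, 50),
  (.ofNat 4270, 51), (.ofNat 6727, 52), (.ofNat 6061, 53), (.ofNat 6617, 54), (.ofNat 8401, 55), (.ofNat 7348, 56),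
  (.ofNat 10430, 57), (.ofNat 11951, 58), (.ofNat 10045, 59), (.ofNat 10485, 60), (.ofNat 15341, 61), (.ofNat 18952,
  62), (.ofNat 16922, 63), (.ofNat 18307, 64), (.ofNat 16741, 65), (.ofNat 19621, 66), (.ofNat 22931, 67), (.ofNat
  21986, 68), (.ofNat 19538, 69), (.ofNat 25745, 70), (.ofNat 22269, 71), (.ofNat 22426, 72), (.ofNat 24260, 73),
  (.ofNat 22579, 74), (.ofNat 24917, 75), (.ofNat 25354, 76), (.ofNat 27765, 77), (.ofNat 28070, 78), (.ofNat 26998,
  79), (.ofNat 29214, 80), (.ofNat 30098, 81), (.ofNat 28613, 82), (.ofNat 31036, 83), (.ofNat 34092, 84), (.ofNat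
  36918, 85), (.ofNat 39395, 86), (.ofNat 39569, 87), (.ofNat 47744, 88), (.ofNat 49624, 89), (.ofNat 53368, 90),
  (.ofNat 49694, 91), (.ofNat 52210, 92), (.ofNat 51460, 93), (.ofNat 52024, 94), (.ofNat 54506, 95), (.ofNat 59049,
  96), (.ofNat 446, 97), (.ofNat 363, 98)])) (.far (.negSucc 249570) [(.ofNat 40315, 8), (.ofNat 148580, 13), (.ofNat
  31548, 14), (.ofNat 15978, 16), (.ofNat 35492, 21), (.ofNat 123977, 23), (.ofNat 36321, 24), (.ofNat 3043, 25),
  (.ofNat 38151, 28), (.ofNat 140932, 30), (.ofNat 83182, 31), (.negSucc 66189, 32), (.ofNat 14684, 33), (.ofNat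
  229728, 34), (.ofNat 304304, 35), (.negSucc 161179, 36), (.ofNat 266566, 37), (.negSucc 23788, 38), (.negSucc
  144450, 39), (.ofNat 247289, 40), (.ofNat 168540, 41), (.negSucc 33803, 42), (.ofNat 42115, 43), (.ofNat 190634,
  44), (.negSucc 273286, 45), (.ofNat 474829, 46), (.ofNat 763316, 47), (.ofNat 314896, 48), (.ofNat 672560, 49),
  (.ofNat 536496, 50), (.ofNat 639690, 51), (.ofNat 621758, 52), (.ofNat 247423, 53), (.ofNat 626169, 54), (.ofNat
  774689, 55), (.ofNat 147696, 56), (.ofNat 524106, 57), (.ofNat 362078, 58), (.ofNat 333849, 59), (.ofNat 1446268,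
  60), (.ofNat 821254, 61), (.ofNat 1331898, 62), (.ofNat 1155132, 63), (.ofNat 778142, 64), (.ofNat 1190968, 65),
  (.ofNat 1623681, 66), (.ofNat 1783602, 67), (.ofNat 1841151, 68), (.ofNat 1105351, 69), (.ofNat 1575130, 70),
  (.ofNat 1594740, 71), (.ofNat 1594922, 72), (.ofNat 1463841, 73), (.ofNat 1400985, 74), (.ofNat 2247389, 75),
  (.ofNat 2633627, 76), (.ofNat 1405547, 77), (.ofNat 1601570, 78), (.ofNat 2192787, 79), (.ofNat 2757805, 80),
  (.ofNat 1977174, 81), (.ofNat 2196674, 82), (.ofNat 3045656, 83), (.ofNat 2779963, 84), (.ofNat 2614789, 85),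
  (.ofNat 3288155, 86), (.ofNat 3588134, 87), (.ofNat 3324508, 88), (.ofNat 3362432, 89), (.ofNat 3084817, 90),
  (.ofNat 3897625, 91), (.ofNat 3888595, 92), (.ofNat 3661136, 93), (.ofNat 4004509, 94), (.ofNat 3917523, 95),
  (.ofNat 4782969, 96), (.ofNat 62216, 98)])) (.far (.negSucc 10196) [(.ofNat 8584, 10), (.ofNat 21196, 12), (.ofNat
  9806, 14), (.ofNat 24328, 18), (.ofNat 83935, 20), (.ofNat 30221, 23), (.ofNat 58389, 25), (.ofNat 60325, 26),
  (.ofNat 173624, 28), (.ofNat 261197, 29), (.ofNat 268285, 30), (.ofNat 245200, 31), (.ofNat 234237, 32), (.ofNat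
  109910, 33), (.ofNat 365805, 34), (.ofNat 527377, 35), (.ofNat 558681, 36), (.ofNat 616809, 37), (.ofNat 639642,
  38), (.ofNat 550777, 39), (.ofNat 422735, 40), (.ofNat 413519, 41), (.ofNat 739096, 42), (.ofNat 828873, 43),
  (.ofNat 973372, 44), (.ofNat 1022557, 45), (.ofNat 1225841, 46), (.ofNat 1091349, 47), (.ofNat 1042267, 48),
  (.ofNat 974324, 49), (.ofNat 1401876, 50), (.ofNat 1597323, 51), (.ofNat 1656748, 52), (.ofNat 1332999, 53),
  (.ofNat 2205779, 54), (.ofNat 1774087, 55), (.ofNat 1891703, 56), (.ofNat 1937539, 57), (.ofNat 2468264, 58),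
  (.ofNat 2920586, 59), (.ofNat 2563876, 60), (.ofNat 3817849, 61), (.ofNat 4321502, 62), (.ofNat 4400397, 63),
  (.ofNat 4493800, 64), (.ofNat 4473686, 65), (.ofNat 4857099, 66), (.ofNat 4564967, 67), (.ofNat 5144242, 68),
  (.ofNat 5053885, 69), (.ofNat 5219316, 70), (.ofNat 5018691, 71), (.ofNat 6028178, 72), (.ofNat 5567489, 73),
  (.ofNat 6673065, 74), (.ofNat 6645057, 75), (.ofNat 5870961, 76), (.ofNat 6439883, 77), (.ofNat 7253600, 78),
  (.ofNat 7017461, 79), (.ofNat 7930300, 80), (.ofNat 7813134, 81), (.ofNat 7679835, 82), (.ofNat 8032492, 83),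
  (.ofNat 8409775, 84), (.ofNat 9554863, 85), (.ofNat 9803320, 86), (.ofNat 9817429, 87), (.ofNat 11787857, 88),
  (.ofNat 12334030, 89), (.ofNat 11657372, 90), (.ofNat 12426517, 91), (.ofNat 12660617, 92), (.ofNat 12909891, 93),
  (.ofNat 12827106, 94), (.ofNat 13261180, 95), (.ofNat 14348907, 96), (.ofNat 977, 97), (.ofNat 75266, 98)])) (.far
  (.negSucc 96133) [(.ofNat 18322, 9), (.ofNat 6836, 12), (.ofNat 1474, 14), (.ofNat 8249, 20), (.ofNat 39905, 21),
  (.ofNat 29955, 26), (.ofNat 43379, 29), (.negSucc 7709, 30), (.ofNat 17737, 31), (.ofNat 27716, 32), (.ofNat 19925,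
  33), (.ofNat 59249, 34), (.ofNat 45025, 35), (.ofNat 46753, 36), (.negSucc 32711, 37), (.ofNat 12550, 38), (.ofNat
  31193, 39), (.ofNat 20349, 40), (.ofNat 97541, 41), (.ofNat 94746, 42), (.ofNat 46654, 43), (.ofNat 114480, 44),
  (.ofNat 66995, 45), (.ofNat 137388, 46), (.ofNat 161204, 47), (.ofNat 113851, 48), (.ofNat 192109, 49), (.ofNat
  181480, 50), (.ofNat 225419, 51), (.ofNat 171141, 52), (.ofNat 209775, 53), (.ofNat 222651, 54), (.ofNat 250868,
  55), (.ofNat 234119, 56), (.ofNat 297935, 57), (.ofNat 369590, 58), (.ofNat 208001, 59), (.ofNat 287111, 60),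
  (.ofNat 364999, 61), (.ofNat 471838, 62), (.ofNat 553722, 63), (.ofNat 459965, 64), (.ofNat 550476, 65), (.ofNat
  440935, 66), (.ofNat 556896, 67), (.ofNat 522317, 68), (.ofNat 676855, 69), (.ofNat 594540, 70), (.ofNat 577335,
  71), (.ofNat 647991, 72), (.ofNat 695154, 73), (.ofNat 703979, 74), (.ofNat 703925, 75), (.ofNat 779505, 76),
  (.ofNat 735054, 77), (.ofNat 717784, 78), (.ofNat 740020, 79), (.ofNat 864067, 80), (.ofNat 1005223, 81), (.ofNat
  928412, 82), (.ofNat 873965, 83), (.ofNat 996415, 84), (.ofNat 1011812, 85), (.ofNat 1144618, 86), (.ofNat 1207565,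
  87), (.ofNat 1397561, 88), (.ofNat 1452867, 89), (.ofNat 1380803, 90), (.ofNat 1444152, 91), (.ofNat 1464864, 92),
  (.ofNat 1490760, 93), (.ofNat 1423058, 94), (.ofNat 1534563, 95), (.ofNat 1594323, 96), (.ofNat 16484, 98)])) (.far
  (.negSucc 103509) [(.ofNat 12842, 5), (.ofNat 12711, 8), (.ofNat 26430, 13), (.ofNat 3675, 14), (.ofNat 36558, 21),
  (.ofNat 42021, 22), (.ofNat 23932, 23), (.ofNat 4499, 25), (.ofNat 2624, 26), (.ofNat 60572, 29), (.negSucc 28935,
  30), (.ofNat 93294, 31), (.negSucc 2286, 32), (.ofNat 4328, 33), (.negSucc 43638, 34), (.ofNat 59964, 35), (.ofNat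
  54279, 36), (.ofNat 128230, 37), (.negSucc 33169, 38), (.ofNat 86198, 39), (.negSucc 23004, 40), (.negSucc 63500,
  41), (.negSucc 4231, 42), (.ofNat 45856, 43), (.ofNat 33047, 44), (.negSucc 63122, 45), (.ofNat 151676, 46),
  (.ofNat 240646, 47), (.negSucc 73935, 48), (.ofNat 310468, 49), (.ofNat 160648, 50), (.ofNat 107397, 51), (.ofNat
  260921, 52), (.ofNat 274300, 53), (.ofNat 271262, 54), (.ofNat 301826, 55), (.ofNat 304577, 56), (.ofNat 286317,
  57), (.ofNat 336826, 58), (.ofNat 354986, 59), (.ofNat 234846, 60), (.ofNat 538366, 61), (.ofNat 450097, 62),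
  (.ofNat 537431, 63), (.ofNat 559722, 64), (.ofNat 192903, 65), (.ofNat 533753, 66), (.ofNat 420836, 67), (.ofNat
  546909, 68), (.ofNat 558980, 69), (.ofNat 633657, 70), (.ofNat 653982, 71), (.ofNat 645593, 72), (.ofNat 659434,
  73), (.ofNat 611775, 74), (.ofNat 692994, 75), (.ofNat 837596, 76), (.ofNat 1030572, 77), (.ofNat 788097, 78),
  (.ofNat 890755, 79), (.ofNat 869604, 80), (.ofNat 863717, 81), (.ofNat 776220, 82), (.ofNat 908179, 83), (.ofNat
  970340, 84), (.ofNat 764527, 85), (.ofNat 1120411, 86), (.ofNat 1005769, 87), (.ofNat 1594323, 88), (.ofNat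
  1295542, 89), (.ofNat 1165802, 90), (.ofNat 1345743, 91), (.ofNat 1281631, 92), (.ofNat 1406254, 93), (.ofNat
  1564236, 94), (.ofNat 1398464, 95), (.ofNat 1515776, 96)])) (.far (.negSucc 1739833) [(.ofNat 531931, 13), (.ofNat
  741896, 20), (.ofNat 243466, 22), (.ofNat 1147873, 23), (.ofNat 4023315, 28), (.ofNat 10408104, 29), (.ofNat
  4840181, 30), (.ofNat 9354611, 31), (.ofNat 8437085, 32), (.ofNat 2742792, 33), (.ofNat 7402158, 34), (.ofNat
  16802820, 35), (.ofNat 10308611, 36), (.ofNat 17572449, 37), (.ofNat 16662811, 38), (.ofNat 14511027, 39), (.ofNat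
  15424856, 40), (.ofNat 12846616, 41), (.ofNat 13770468, 42), (.ofNat 20953546, 43), (.ofNat 30863268, 44), (.ofNat
  28084391, 45), (.ofNat 27137376, 46), (.ofNat 33722541, 47), (.ofNat 26566658, 48), (.ofNat 32913011, 49), (.ofNat
  42354242, 50), (.ofNat 42606962, 51), (.ofNat 38709670, 52), (.ofNat 41454415, 53), (.ofNat 48392899, 54), (.ofNat
  64068497, 55), (.ofNat 62841681, 56), (.ofNat 63091903, 57), (.ofNat 70322377, 58), (.ofNat 79640780, 59), (.ofNat
  74660098, 60), (.ofNat 103114470, 61), (.ofNat 114850281, 62), (.ofNat 130071454, 63), (.ofNat 132559309, 64),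
  (.ofNat 132271562, 65), (.ofNat 132284472, 66), (.ofNat 140397551, 67), (.ofNat 141596099, 68), (.ofNat 142449547,
  69), (.ofNat 148821146, 70), (.ofNat 145241190, 71), (.ofNat 147175069, 72), (.ofNat 168500794, 73), (.ofNat
  165762489, 74), (.ofNat 178227777, 75), (.ofNat 181305878, 76), (.ofNat 179172659, 77), (.ofNat 188142711, 78),
  (.ofNat 196881682, 79), (.ofNat 204883269, 80), (.ofNat 209910487, 81), (.ofNat 212622118, 82), (.ofNat 209165360,
  83), (.ofNat 226102814, 84), (.ofNat 249047429, 85), (.ofNat 275163651, 86), (.ofNat 286862039, 87), (.ofNat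
  328335341, 88), (.ofNat 327624522, 89), (.ofNat 328624999, 90), (.ofNat 341282206, 91), (.ofNat 355772163, 92),
  (.ofNat 351400570, 93), (.ofNat 357506134, 94), (.ofNat 360387933, 95), (.ofNat 387420489, 96), (.ofNat 1637923,
  97), (.ofNat 2638868, 98)])) (.far (.negSucc 718914) [(.ofNat 299811, 5), (.ofNat 14380, 9), (.ofNat 258746, 13),
  (.ofNat 1451169, 21), (.ofNat 1326190, 22), (.ofNat 1247288, 23), (.ofNat 1071765, 24), (.ofNat 1361671, 25),
  (.ofNat 3263123, 27), (.ofNat 4015383, 28), (.ofNat 1889293, 29), (.ofNat 3448763, 30), (.ofNat 2984441, 31),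
  (.ofNat 6049266, 32), (.ofNat 12870950, 33), (.ofNat 15037685, 34), (.ofNat 8588792, 35), (.ofNat 10532070, 36),
  (.ofNat 15271220, 37), (.ofNat 16905412, 38), (.ofNat 14630750, 39), (.ofNat 17729268, 40), (.ofNat 15596079, 41),
  (.ofNat 16959900, 42), (.ofNat 16841557, 43), (.ofNat 21750780, 44), (.ofNat 27656094, 45), (.ofNat 24313435, 46),
  (.ofNat 27417049, 47), (.ofNat 34552991, 48), (.ofNat 37405042, 49), (.ofNat 33406232, 50), (.ofNat 34735433, 51),
  (.ofNat 48570831, 52), (.ofNat 48912138, 53), (.ofNat 55447346, 54), (.ofNat 61229351, 55), (.ofNat 54437287, 56),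
  (.ofNat 63989372, 57), (.ofNat 60898211, 58), (.ofNat 71205562, 59), (.ofNat 68655267, 60), (.ofNat 97255562, 61),
  (.ofNat 102402712, 62), (.ofNat 128401431, 63), (.ofNat 130286874, 64), (.ofNat 135989661, 65), (.ofNat 124911656,
  66), (.ofNat 145915811, 67), (.ofNat 149894873, 68), (.ofNat 145361331, 69), (.ofNat 142296905, 70), (.ofNat
  148439607, 71), (.ofNat 149261267, 72), (.ofNat 172264075, 73), (.ofNat 176236645, 74), (.ofNat 168915458, 75),
  (.ofNat 183014402, 76), (.ofNat 187955941, 77), (.ofNat 190428580, 78), (.ofNat 192990614, 79), (.ofNat 212099371,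
  80), (.ofNat 197578307, 81), (.ofNat 206284542, 82), (.ofNat 216405029, 83), (.ofNat 222740268, 84), (.ofNat
  258113387, 85), (.ofNat 279004190, 86), (.ofNat 283794928, 87), (.ofNat 331196294, 88), (.ofNat 338960746, 89),
  (.ofNat 330396608, 90), (.ofNat 336941109, 91), (.ofNat 345243108, 92), (.ofNat 356984031, 93), (.ofNat 358852388,
  94), (.ofNat 371915111, 95), (.ofNat 387420489, 96), (.ofNat 126970, 97), (.ofNat 2429549, 98)])) (.far (.negSucc
  65237) [(.ofNat 11734, 8), (.ofNat 54722, 13), (.ofNat 9220, 16), (.ofNat 14453, 20), (.ofNat 29256, 25), (.ofNat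
  58799, 26), (.ofNat 129870, 29), (.ofNat 63759, 30), (.ofNat 37202, 31), (.negSucc 25406, 32), (.ofNat 148410, 33),
  (.ofNat 117220, 34), (.ofNat 165780, 35), (.ofNat 160590, 36), (.ofNat 279947, 37), (.ofNat 201438, 38), (.ofNat
  179262, 39), (.ofNat 222386, 40), (.ofNat 171829, 41), (.ofNat 237220, 42), (.ofNat 255946, 43), (.ofNat 292450,
  44), (.ofNat 446054, 45), (.ofNat 347363, 46), (.ofNat 374486, 47), (.ofNat 424828, 48), (.ofNat 479903, 49),
  (.ofNat 517836, 50), (.ofNat 538314, 51), (.ofNat 623881, 52), (.ofNat 527598, 53), (.ofNat 638672, 54), (.ofNat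
  694603, 55), (.ofNat 781550, 56), (.ofNat 922981, 57), (.ofNat 873121, 58), (.ofNat 880107, 59), (.ofNat 925732,
  60), (.ofNat 1247205, 61), (.ofNat 1346435, 62), (.ofNat 1498871, 63), (.ofNat 1462573, 64), (.ofNat 1534565, 65),
  (.ofNat 1679882, 66), (.ofNat 1671297, 67), (.ofNat 1673628, 68), (.ofNat 1712315, 69), (.ofNat 1609087, 70),
  (.ofNat 1780196, 71), (.ofNat 1814242, 72), (.ofNat 1998346, 73), (.ofNat 2058434, 74), (.ofNat 1964174, 75),
  (.ofNat 2134953, 76), (.ofNat 2168292, 77), (.ofNat 2235747, 78), (.ofNat 2320456, 79), (.ofNat 2345174, 80),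
  (.ofNat 2507869, 81), (.ofNat 2507369, 82), (.ofNat 2475222, 83), (.ofNat 2716682, 84), (.ofNat 2905701, 85),
  (.ofNat 3225041, 86), (.ofNat 3379582, 87), (.ofNat 3767507, 88), (.ofNat 3945281, 89), (.ofNat 3845168, 90),
  (.ofNat 4026095, 91), (.ofNat 4079303, 92), (.ofNat 4230417, 93), (.ofNat 4190242, 94), (.ofNat 4301953, 95),
  (.ofNat 4782969, 96)])) (.far (.negSucc 23165) [(.ofNat 2439, 12), (.ofNat 33640, 13), (.ofNat 3503, 14), (.ofNat
  37378, 18), (.ofNat 79244, 20), (.ofNat 35, 22), (.ofNat 61974, 23), (.ofNat 92935, 27), (.ofNat 122787, 28),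
  (.ofNat 371607, 29), (.ofNat 345857, 30), (.ofNat 200904, 31), (.ofNat 345422, 32), (.ofNat 218433, 33), (.ofNat
  440168, 34), (.ofNat 576223, 35), (.ofNat 524871, 36), (.ofNat 533233, 37), (.ofNat 606019, 38), (.ofNat 667427,
  39), (.ofNat 657755, 40), (.ofNat 703441, 41), (.ofNat 662807, 42), (.ofNat 728177, 43), (.ofNat 1047821, 44),
  (.ofNat 1004929, 45), (.ofNat 1211777, 46), (.ofNat 1101816, 47), (.ofNat 1311132, 48), (.ofNat 1490610, 49),
  (.ofNat 1479711, 50), (.ofNat 1516592, 51), (.ofNat 1654121, 52), (.ofNat 1655379, 53), (.ofNat 2015969, 54),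
  (.ofNat 2202844, 55), (.ofNat 2203174, 56), (.ofNat 2360052, 57), (.ofNat 2635942, 58), (.ofNat 2728304, 59),
  (.ofNat 2866012, 60), (.ofNat 4047063, 61), (.ofNat 4187559, 62), (.ofNat 4763262, 63), (.ofNat 4937394, 64),
  (.ofNat 4837995, 65), (.ofNat 5033528, 66), (.ofNat 5224939, 67), (.ofNat 5270491, 68), (.ofNat 5396912, 69),
  (.ofNat 5494432, 70), (.ofNat 5603956, 71), (.ofNat 5640462, 72), (.ofNat 6351881, 73), (.ofNat 6363863, 74),
  (.ofNat 6513361, 75), (.ofNat 6773206, 76), (.ofNat 6739333, 77), (.ofNat 7032242, 78), (.ofNat 7298666, 79),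
  (.ofNat 7770128, 80), (.ofNat 7772939, 81), (.ofNat 7864677, 82), (.ofNat 8051043, 83), (.ofNat 8605478, 84),
  (.ofNat 9307574, 85), (.ofNat 10080679, 86), (.ofNat 10490531, 87), (.ofNat 12032831, 88), (.ofNat 12254768, 89),
  (.ofNat 12251720, 90), (.ofNat 12605832, 91), (.ofNat 12996289, 92), (.ofNat 13027812, 93), (.ofNat 13019295, 94),
  (.ofNat 13603943, 95), (.ofNat 14348907, 96), (.ofNat 41853, 97), (.ofNat 51587, 98)])) (.far (.negSucc 350965)
  [(.ofNat 44361, 13), (.ofNat 214472, 19), (.ofNat 199266, 21), (.ofNat 134106, 22), (.ofNat 27199, 23), (.ofNat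
  249628, 25), (.ofNat 318354, 27), (.ofNat 288688, 28), (.ofNat 410101, 29), (.ofNat 547018, 30), (.ofNat 598372,
  31), (.ofNat 593302, 32), (.ofNat 1366075, 33), (.ofNat 1642785, 34), (.ofNat 1806064, 35), (.ofNat 1740296, 36),
  (.ofNat 1542129, 37), (.ofNat 1758561, 38), (.ofNat 1659221, 39), (.ofNat 1698386, 40), (.ofNat 1602382, 41),
  (.ofNat 1997621, 42), (.ofNat 2305622, 43), (.ofNat 3226299, 44), (.ofNat 3020937, 45), (.ofNat 3435796, 46),
  (.ofNat 3641399, 47), (.ofNat 4195872, 48), (.ofNat 4238382, 49), (.ofNat 4529269, 50), (.ofNat 4397388, 51),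
  (.ofNat 5127104, 52), (.ofNat 5002651, 53), (.ofNat 5900815, 54), (.ofNat 6332124, 55), (.ofNat 6452897, 56),
  (.ofNat 7212071, 57), (.ofNat 8041609, 58), (.ofNat 8153047, 59), (.ofNat 8371797, 60), (.ofNat 11618140, 61),
  (.ofNat 12753584, 62), (.ofNat 13912335, 63), (.ofNat 14030709, 64), (.ofNat 14003751, 65), (.ofNat 14561163, 66),
  (.ofNat 15725064, 67), (.ofNat 16003553, 68), (.ofNat 15572838, 69), (.ofNat 16676492, 70), (.ofNat 16581732, 71),
  (.ofNat 16590906, 72), (.ofNat 18457767, 73), (.ofNat 18680999, 74), (.ofNat 19183799, 75), (.ofNat 19632456, 76),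
  (.ofNat 20080644, 77), (.ofNat 20607381, 78), (.ofNat 21475093, 79), (.ofNat 22274860, 80), (.ofNat 22851127, 81),
  (.ofNat 22867735, 82), (.ofNat 23535907, 83), (.ofNat 25239889, 84), (.ofNat 27388260, 85), (.ofNat 29645830, 86),
  (.ofNat 30754298, 87), (.ofNat 35460899, 88), (.ofNat 36474018, 89), (.ofNat 36798548, 90), (.ofNat 36994124, 91),
  (.ofNat 38622196, 92), (.ofNat 38723935, 93), (.ofNat 38490776, 94), (.ofNat 40059249, 95), (.ofNat 43046721, 96),
  (.ofNat 163172, 97), (.ofNat 157858, 98)])) (.far (.negSucc 443075) [(.ofNat 295674, 13), (.ofNat 312104, 20),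
  (.ofNat 12817, 22), (.ofNat 146846, 23), (.ofNat 213192, 27), (.ofNat 526186, 28), (.ofNat 1466258, 29), (.ofNat
  22427, 30), (.ofNat 1383397, 31), (.ofNat 608102, 32), (.ofNat 309179, 33), (.ofNat 1812020, 34), (.ofNat 2104794,
  35), (.ofNat 332003, 36), (.ofNat 2369262, 37), (.ofNat 1748119, 38), (.ofNat 1782915, 39), (.ofNat 1481706, 40),
  (.ofNat 1802195, 41), (.ofNat 2023328, 42), (.ofNat 2255101, 43), (.ofNat 3314741, 44), (.ofNat 3362144, 45),
  (.ofNat 3488657, 46), (.ofNat 3321286, 47), (.ofNat 3115216, 48), (.ofNat 4823103, 49), (.ofNat 4357387, 50),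
  (.ofNat 4294205, 51), (.ofNat 5127897, 52), (.ofNat 5167111, 53), (.ofNat 5890481, 54), (.ofNat 8524634, 55),
  (.ofNat 6970384, 56), (.ofNat 6984038, 57), (.ofNat 8298854, 58), (.ofNat 9605276, 59), (.ofNat 8979959, 60),
  (.ofNat 11088447, 61), (.ofNat 12878987, 62), (.ofNat 13835533, 63), (.ofNat 14598476, 64), (.ofNat 14457975, 65),
  (.ofNat 14007085, 66), (.ofNat 14967936, 67), (.ofNat 15207860, 68), (.ofNat 15110930, 69), (.ofNat 16181924, 70),
  (.ofNat 16630451, 71), (.ofNat 17269704, 72), (.ofNat 18907700, 73), (.ofNat 18261420, 74), (.ofNat 19496910, 75),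
  (.ofNat 20039083, 76), (.ofNat 19967716, 77), (.ofNat 21166014, 78), (.ofNat 21119725, 79), (.ofNat 23541781, 80),
  (.ofNat 23096934, 81), (.ofNat 23650523, 82), (.ofNat 23079360, 83), (.ofNat 25612217, 84), (.ofNat 27447245, 85),
  (.ofNat 29966267, 86), (.ofNat 31555511, 87), (.ofNat 35993166, 88), (.ofNat 35960898, 89), (.ofNat 36127907, 90),
  (.ofNat 38162578, 91), (.ofNat 38569351, 92), (.ofNat 38816884, 93), (.ofNat 38897528, 94), (.ofNat 40434900, 95),
  (.ofNat 43046721, 96), (.ofNat 187685, 97), (.ofNat 218865, 98)])) (.far (.negSucc 534275) [(.ofNat 95926, 13),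
  (.ofNat 352268, 19), (.ofNat 256342, 21), (.ofNat 134295, 22), (.ofNat 366312, 25), (.ofNat 250098, 27), (.ofNat
  228550, 28), (.ofNat 524782, 29), (.ofNat 637728, 30), (.ofNat 594921, 31), (.ofNat 557875, 32), (.ofNat 1339863,
  33), (.ofNat 1485389, 34), (.ofNat 2160119, 35), (.ofNat 1819252, 36), (.ofNat 1591513, 37), (.ofNat 1768464, 38),
  (.ofNat 1615602, 39), (.ofNat 1675402, 40), (.ofNat 1494525, 41), (.ofNat 1983604, 42), (.ofNat 2233206, 43),
  (.ofNat 3162875, 44), (.ofNat 2945728, 45), (.ofNat 3558775, 46), (.ofNat 3540664, 47), (.ofNat 4290025, 48),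
  (.ofNat 4195482, 49), (.ofNat 4497948, 50), (.ofNat 4305831, 51), (.ofNat 5058289, 52), (.ofNat 4824536, 53),
  (.ofNat 5747259, 54), (.ofNat 6239486, 55), (.ofNat 6344751, 56), (.ofNat 7390308, 57), (.ofNat 8013683, 58),
  (.ofNat 8211371, 59), (.ofNat 8241249, 60), (.ofNat 11387907, 61), (.ofNat 12632776, 62), (.ofNat 13621455, 63),
  (.ofNat 13830150, 64), (.ofNat 13675600, 65), (.ofNat 14153599, 66), (.ofNat 15623000, 67), (.ofNat 15762774, 68),
  (.ofNat 15421662, 69), (.ofNat 16487967, 70), (.ofNat 16368537, 71), (.ofNat 16379772, 72), (.ofNat 18199132, 73),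
  (.ofNat 18295766, 74), (.ofNat 18582861, 75), (.ofNat 19316150, 76), (.ofNat 19841056, 77), (.ofNat 20414899, 78),
  (.ofNat 21313938, 79), (.ofNat 21856662, 80), (.ofNat 22477916, 81), (.ofNat 22576084, 82), (.ofNat 23253512, 83),
  (.ofNat 24991339, 84), (.ofNat 26998373, 85), (.ofNat 29422081, 86), (.ofNat 30418612, 87), (.ofNat 35121577, 88),
  (.ofNat 36064727, 89), (.ofNat 36431336, 90), (.ofNat 36658119, 91), (.ofNat 38234876, 92), (.ofNat 38220291, 93),
  (.ofNat 37990881, 94), (.ofNat 39776296, 95), (.ofNat 43046721, 96), (.ofNat 271611, 97), (.ofNat 9846, 98)]))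
  (.far (.negSucc 3568) [(.ofNat 461, 9), (.ofNat 918, 13), (.ofNat 423, 19), (.ofNat 976, 20), (.ofNat 614, 22),
  (.ofNat 274, 25), (.negSucc 253, 30), (.negSucc 984, 31), (.negSucc 697, 32), (.negSucc 765, 33), (.ofNat 267, 34),
  (.negSucc 121, 35), (.ofNat 939, 36), (.ofNat 186, 37), (.ofNat 621, 38), (.ofNat 173, 39), (.negSucc 367, 40),
  (.ofNat 115, 41), (.negSucc 548, 42), (.negSucc 214, 43), (.ofNat 1228, 44), (.negSucc 590, 45), (.ofNat 405, 46),
  (.ofNat 1086, 47), (.negSucc 138, 48), (.ofNat 532, 49), (.ofNat 1555, 50), (.ofNat 246, 51), (.ofNat 162, 52),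
  (.ofNat 994, 53), (.ofNat 1071, 54), (.ofNat 63, 55), (.ofNat 351, 56), (.ofNat 1752, 57), (.ofNat 938, 58),
  (.ofNat 1662, 59), (.ofNat 1471, 60), (.ofNat 964, 61), (.ofNat 793, 62), (.ofNat 2429, 63), (.ofNat 807, 64),
  (.ofNat 2152, 65), (.ofNat 2473, 66), (.ofNat 1624, 67), (.ofNat 1478, 68), (.ofNat 339, 69), (.negSucc 476, 70),
  (.ofNat 1587, 71), (.ofNat 2214, 72), (.ofNat 3282, 73), (.ofNat 679, 74), (.ofNat 913, 75), (.ofNat 2445, 76),
  (.ofNat 1594, 77), (.ofNat 2193, 78), (.ofNat 4231, 79), (.ofNat 2568, 80), (.ofNat 3765, 81), (.ofNat 2746, 82),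
  (.ofNat 1858, 83), (.ofNat 2212, 84), (.ofNat 2647, 85), (.ofNat 2753, 86), (.ofNat 3081, 87), (.ofNat 4439, 88),
  (.ofNat 4579, 89), (.ofNat 4265, 90), (.ofNat 4641, 91), (.ofNat 4500, 92), (.ofNat 5686, 93), (.ofNat 3756, 94),
  (.ofNat 6357, 95), (.ofNat 6561, 96), (.ofNat 892, 97)])))

/-- certificates -/
noncomputable def CL14 : List (Hd × Tr) :=
  [c63]

theorem okC14 : okL TAB.Co1.D (TAB.Sm2.mkRows TAB.Co1.RA TAB.Co1.RB) P Z CL14 = true := by decide +kernel

/-- a certificate -/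
noncomputable def c64 : Hd × Tr :=
  ((448345497600, [], []), (.bf 57 11 (.bf 26 420 (.bf 26 126 (.far (.negSucc 694727) [(.ofNat 1632, 14), (.ofNat
  19617, 16), (.ofNat 181054, 20), (.ofNat 21195, 25), (.ofNat 174707, 26), (.ofNat 74990, 30), (.negSucc 3641, 31),
  (.negSucc 469447, 32), (.negSucc 139429, 33), (.negSucc 102628, 34), (.negSucc 365949, 35), (.negSucc 160308, 36),
  (.negSucc 64232, 37), (.ofNat 50112, 38), (.negSucc 133991, 39), (.negSucc 117366, 40), (.ofNat 43054, 41),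
  (.negSucc 302920, 42), (.negSucc 248582, 43), (.negSucc 63874, 44), (.ofNat 34757, 45), (.negSucc 82476, 46),
  (.negSucc 114270, 47), (.negSucc 352442, 48), (.ofNat 74536, 49), (.ofNat 92823, 50), (.negSucc 73618, 51),
  (.negSucc 297200, 52), (.negSucc 179557, 53), (.negSucc 77628, 54), (.negSucc 152507, 55), (.negSucc 160773, 56),
  (.negSucc 381048, 57), (.negSucc 59007, 58), (.negSucc 395131, 59), (.negSucc 471707, 60), (.negSucc 359756, 61),
  (.negSucc 741141, 62), (.negSucc 241205, 63), (.negSucc 372933, 64), (.negSucc 238213, 65), (.ofNat 12762, 66),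
  (.negSucc 561913, 67), (.negSucc 237161, 68), (.negSucc 1148024, 69), (.negSucc 368124, 70), (.negSucc 235505, 71),
  (.negSucc 240805, 72), (.negSucc 350031, 73), (.negSucc 687428, 74), (.negSucc 723964, 75), (.negSucc 720403, 76),
  (.negSucc 805949, 77), (.negSucc 833881, 78), (.negSucc 963027, 79), (.negSucc 651917, 80), (.negSucc 284869, 81),
  (.negSucc 869757, 82), (.negSucc 837299, 83), (.negSucc 1027196, 84), (.negSucc 645875, 85), (.negSucc 1178100,
  86), (.negSucc 1045418, 87), (.negSucc 893474, 88), (.negSucc 1184497, 89), (.negSucc 1280524, 90), (.negSucc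
  945036, 91), (.negSucc 1184669, 92), (.negSucc 1018325, 93), (.negSucc 1075628, 94), (.negSucc 927730, 95),
  (.negSucc 1594322, 96)]) (.bf 27 56 (.bf 14 3760 (.bf 16 0 (.far (.negSucc 6560) [(.ofNat 361, 14), (.ofNat 867,
  20), (.ofNat 467, 23), (.ofNat 1393, 25), (.ofNat 89, 26), (.negSucc 2489, 31), (.negSucc 517, 32), (.ofNat 770,
  33), (.ofNat 636, 34), (.negSucc 2481, 35), (.negSucc 1771, 36), (.negSucc 103, 37), (.ofNat 686, 38), (.negSucc
  350, 39), (.ofNat 121, 40), (.ofNat 665, 41), (.negSucc 900, 42), (.negSucc 293, 43), (.ofNat 2586, 44), (.negSucc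
  1156, 45), (.ofNat 1576, 46), (.negSucc 2141, 48), (.negSucc 772, 49), (.ofNat 2308, 50), (.ofNat 756, 51),
  (.negSucc 64, 52), (.negSucc 257, 53), (.ofNat 807, 54), (.ofNat 504, 55), (.ofNat 186, 56), (.negSucc 1105, 57),
  (.negSucc 66, 58), (.ofNat 189, 59), (.negSucc 399, 60), (.ofNat 2023, 61), (.negSucc 936, 62), (.negSucc 1665,
  63), (.negSucc 520, 64), (.ofNat 411, 65), (.ofNat 2093, 66), (.negSucc 868, 67), (.ofNat 1669, 68), (.negSucc 114,
  69), (.ofNat 3157, 70), (.negSucc 209, 71), (.ofNat 507, 72), (.ofNat 2402, 73), (.negSucc 119, 74), (.negSucc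
  1245, 75), (.ofNat 964, 76), (.negSucc 880, 77), (.negSucc 1762, 78), (.negSucc 572, 79), (.ofNat 808, 81), (.ofNat
  340, 82), (.ofNat 904, 83), (.negSucc 2197, 84), (.ofNat 4354, 85), (.negSucc 624, 86), (.negSucc 1230, 87),
  (.ofNat 2677, 88), (.negSucc 266, 90), (.ofNat 25, 91), (.ofNat 554, 92), (.negSucc 723, 93), (.ofNat 206, 94),
  (.ofNat 1758, 95), (.negSucc 2242, 96)]) (.far (.negSucc 64876) [(.ofNat 1846, 20), (.ofNat 3706, 24), (.ofNat
  9048, 25), (.ofNat 16686, 26), (.ofNat 13889, 30), (.ofNat 2554, 31), (.negSucc 24502, 32), (.ofNat 13095, 33),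
  (.ofNat 2653, 34), (.ofNat 12481, 35), (.ofNat 26641, 36), (.ofNat 23281, 37), (.ofNat 25470, 38), (.ofNat 13122,
  39), (.ofNat 21134, 40), (.ofNat 26571, 41), (.ofNat 18303, 42), (.ofNat 29246, 43), (.ofNat 22003, 44), (.ofNat
  65471, 45), (.ofNat 45198, 46), (.ofNat 34531, 47), (.ofNat 54904, 48), (.ofNat 58693, 49), (.ofNat 77457, 50),
  (.ofNat 62721, 51), (.ofNat 75677, 52), (.ofNat 64104, 53), (.ofNat 69873, 54), (.ofNat 71148, 55), (.ofNat 98729,
  56), (.ofNat 92949, 57), (.ofNat 94279, 58), (.ofNat 86757, 59), (.ofNat 87634, 60), (.ofNat 145257, 61), (.ofNat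
  121533, 62), (.ofNat 178974, 63), (.ofNat 138048, 64), (.ofNat 179424, 65), (.ofNat 234083, 66), (.ofNat 183724,
  67), (.ofNat 190167, 68), (.ofNat 165368, 69), (.ofNat 177614, 70), (.ofNat 197511, 71), (.ofNat 213776, 72),
  (.ofNat 236463, 73), (.ofNat 230891, 74), (.ofNat 194491, 75), (.ofNat 232613, 76), (.ofNat 224240, 77), (.ofNat
  231838, 78), (.ofNat 246158, 79), (.ofNat 246586, 80), (.ofNat 294618, 81), (.ofNat 262977, 82), (.ofNat 270486,
  83), (.ofNat 268659, 84), (.ofNat 321399, 85), (.ofNat 329889, 86), (.ofNat 363546, 87), (.ofNat 421589, 88),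
  (.ofNat 437782, 89), (.ofNat 414181, 90), (.ofNat 459740, 91), (.ofNat 441017, 92), (.ofNat 484360, 93), (.ofNat
  473091, 94), (.ofNat 486055, 95), (.ofNat 531441, 96), (.ofNat 11902, 97)])) (.far (.negSucc 1199809) [(.ofNat
  57156, 19), (.ofNat 318148, 23), (.ofNat 28578, 25), (.ofNat 526163, 30), (.ofNat 386637, 31), (.ofNat 140567, 32),
  (.ofNat 2091012, 33), (.ofNat 1806622, 34), (.ofNat 907444, 35), (.ofNat 1772426, 36), (.ofNat 1459280, 37),
  (.ofNat 1605587, 38), (.ofNat 1478463, 39), (.ofNat 1681039, 40), (.ofNat 1506077, 41), (.ofNat 2143323, 42),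
  (.ofNat 2501279, 43), (.ofNat 3333937, 44), (.ofNat 3376449, 45), (.ofNat 3575928, 46), (.ofNat 3527818, 47),
  (.ofNat 3813907, 48), (.ofNat 4553256, 49), (.ofNat 5151819, 50), (.ofNat 4885817, 51), (.ofNat 5047798, 52),
  (.ofNat 5231582, 53), (.ofNat 6310078, 54), (.ofNat 6181914, 55), (.ofNat 7206959, 56), (.ofNat 6970248, 57),
  (.ofNat 8334873, 58), (.ofNat 7666253, 59), (.ofNat 8788689, 60), (.ofNat 12480460, 61), (.ofNat 12320139, 62),
  (.ofNat 14982411, 63), (.ofNat 14397259, 64), (.ofNat 14943679, 65), (.ofNat 15541532, 66), (.ofNat 15389506, 67),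
  (.ofNat 16773880, 68), (.ofNat 16018311, 69), (.ofNat 16651536, 70), (.ofNat 17344266, 71), (.ofNat 17698255, 72),
  (.ofNat 19108182, 73), (.ofNat 20018941, 74), (.ofNat 20473461, 75), (.ofNat 20432267, 76), (.ofNat 20522676, 77),
  (.ofNat 20823519, 78), (.ofNat 22121384, 79), (.ofNat 22947751, 80), (.ofNat 23355734, 81), (.ofNat 23316354, 82),
  (.ofNat 24076945, 83), (.ofNat 25037752, 84), (.ofNat 28173738, 85), (.ofNat 30018087, 86), (.ofNat 31512656, 87),
  (.ofNat 36074326, 88), (.ofNat 37276743, 89), (.ofNat 37234913, 90), (.ofNat 38200313, 91), (.ofNat 39081961, 92),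
  (.ofNat 39835309, 93), (.ofNat 39954510, 94), (.ofNat 40755252, 95), (.ofNat 43046721, 96), (.ofNat 606225, 98)]))
  (.far (.negSucc 19682) [(.ofNat 2071, 20), (.ofNat 435, 23), (.ofNat 3190, 31), (.negSucc 6175, 32), (.negSucc
  5776, 33), (.negSucc 3010, 34), (.negSucc 2470, 35), (.negSucc 337, 36), (.negSucc 591, 37), (.ofNat 1835, 38),
  (.negSucc 1658, 39), (.negSucc 2298, 40), (.ofNat 147, 41), (.negSucc 3572, 42), (.negSucc 2413, 43), (.ofNat 173,
  44), (.negSucc 6732, 45), (.ofNat 3073, 46), (.ofNat 2625, 47), (.negSucc 3765, 48), (.ofNat 4368, 49), (.ofNat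
  6347, 50), (.negSucc 468, 51), (.ofNat 1291, 52), (.ofNat 3484, 53), (.ofNat 2111, 54), (.ofNat 5379, 55), (.ofNat
  5012, 56), (.ofNat 3244, 57), (.ofNat 5499, 58), (.ofNat 9017, 59), (.negSucc 1020, 60), (.ofNat 1812, 61), (.ofNat
  16, 62), (.ofNat 9345, 63), (.ofNat 1797, 64), (.ofNat 3162, 65), (.ofNat 4403, 66), (.ofNat 477, 67), (.ofNat
  8546, 68), (.negSucc 3819, 69), (.ofNat 5608, 70), (.ofNat 11692, 71), (.ofNat 8436, 72), (.ofNat 10470, 73),
  (.ofNat 5391, 74), (.ofNat 6125, 75), (.ofNat 4558, 76), (.ofNat 6151, 77), (.ofNat 2412, 78), (.ofNat 6404, 79),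
  (.ofNat 7689, 80), (.ofNat 10972, 81), (.negSucc 1343, 82), (.ofNat 7756, 83), (.ofNat 1876, 84), (.ofNat 7893,
  85), (.ofNat 1466, 86), (.ofNat 8346, 87), (.ofNat 16058, 88), (.ofNat 10309, 89), (.ofNat 5940, 90), (.ofNat 8807,
  91), (.ofNat 9622, 92), (.ofNat 10940, 93), (.ofNat 9529, 94), (.ofNat 11438, 95), (.ofNat 12625, 96), (.ofNat
  2860, 97)]))) (.far (.negSucc 102372) [(.ofNat 3045, 19), (.ofNat 21772, 23), (.ofNat 2368, 25), (.ofNat 11896,
  30), (.ofNat 32793, 31), (.ofNat 8275, 32), (.ofNat 76642, 33), (.ofNat 63794, 34), (.ofNat 54381, 35), (.ofNat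
  88583, 36), (.ofNat 67455, 37), (.ofNat 61926, 38), (.ofNat 34235, 39), (.ofNat 58005, 40), (.ofNat 34207, 41),
  (.ofNat 91559, 42), (.ofNat 97204, 43), (.ofNat 112347, 44), (.ofNat 115132, 45), (.ofNat 173806, 46), (.ofNat
  120091, 47), (.ofNat 140215, 48), (.ofNat 176980, 49), (.ofNat 203081, 50), (.ofNat 175653, 51), (.ofNat 174560,
  52), (.ofNat 188798, 53), (.ofNat 217493, 54), (.ofNat 206716, 55), (.ofNat 271613, 56), (.ofNat 239936, 57),
  (.ofNat 322244, 58), (.ofNat 261556, 59), (.ofNat 324735, 60), (.ofNat 437672, 61), (.ofNat 420046, 62), (.ofNat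
  544582, 63), (.ofNat 549119, 64), (.ofNat 520662, 65), (.ofNat 561044, 66), (.ofNat 568984, 67), (.ofNat 599379,
  68), (.ofNat 616574, 69), (.ofNat 610049, 70), (.ofNat 658178, 71), (.ofNat 688724, 72), (.ofNat 692482, 73),
  (.ofNat 757940, 74), (.ofNat 723689, 75), (.ofNat 737333, 76), (.ofNat 751293, 77), (.ofNat 765686, 78), (.ofNat
  803323, 79), (.ofNat 817071, 80), (.ofNat 834496, 81), (.ofNat 857942, 82), (.ofNat 899288, 83), (.ofNat 892437,
  84), (.ofNat 1041333, 85), (.ofNat 1126485, 86), (.ofNat 1175527, 87), (.ofNat 1315916, 88), (.ofNat 1353170, 89),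
  (.ofNat 1379806, 90), (.ofNat 1392247, 91), (.ofNat 1399831, 92), (.ofNat 1424307, 93), (.ofNat 1483889, 94),
  (.ofNat 1464939, 95), (.ofNat 1594323, 96)])) (.far (.negSucc 3507) [(.ofNat 524, 25), (.ofNat 593, 26), (.ofNat
  212, 30), (.negSucc 727, 31), (.negSucc 1022, 32), (.negSucc 428, 33), (.ofNat 172, 34), (.negSucc 355, 35),
  (.ofNat 844, 36), (.ofNat 215, 37), (.negSucc 120, 38), (.negSucc 11, 39), (.negSucc 98, 40), (.ofNat 651, 41),
  (.negSucc 945, 42), (.ofNat 230, 43), (.ofNat 650, 44), (.ofNat 110, 45), (.ofNat 1704, 46), (.ofNat 599, 47),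
  (.ofNat 449, 48), (.ofNat 1042, 49), (.ofNat 1171, 50), (.ofNat 826, 51), (.ofNat 548, 52), (.ofNat 1077, 53),
  (.ofNat 949, 54), (.ofNat 1033, 55), (.ofNat 1460, 56), (.ofNat 1072, 57), (.ofNat 1088, 58), (.ofNat 1217, 59),
  (.ofNat 441, 60), (.ofNat 2163, 61), (.ofNat 284, 62), (.ofNat 2472, 63), (.ofNat 1940, 64), (.ofNat 3096, 65),
  (.ofNat 3427, 66), (.ofNat 1963, 67), (.ofNat 2461, 68), (.ofNat 1009, 69), (.ofNat 3741, 70), (.ofNat 3604, 71),
  (.ofNat 3186, 72), (.ofNat 3008, 73), (.ofNat 3408, 74), (.ofNat 3589, 75), (.ofNat 3359, 76), (.ofNat 2577, 77),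
  (.ofNat 2025, 78), (.ofNat 3991, 79), (.ofNat 3452, 80), (.ofNat 3850, 81), (.ofNat 2462, 82), (.ofNat 3263, 83),
  (.ofNat 2617, 84), (.ofNat 4756, 85), (.ofNat 3084, 86), (.ofNat 3899, 87), (.ofNat 6255, 88), (.ofNat 6194, 89),
  (.ofNat 5034, 90), (.ofNat 6123, 91), (.ofNat 5553, 92), (.ofNat 6339, 93), (.ofNat 6131, 94), (.ofNat 6561, 95),
  (.ofNat 5901, 96), (.ofNat 51, 97)])))

/-- certificates -/
noncomputable def CL15 : List (Hd × Tr) :=
  [c64]

theorem okC15 : okL TAB.Co1.D (TAB.Sm2.mkRows TAB.Co1.RA TAB.Co1.RB) P Z CL15 = true := by decide +kernel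

end Cfsg.Agent.SM.Sp.NCo1
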