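import Cfsg.Agent.SM.Sp.NCo1D

/-!
# SM (S3570), sporadic socles: Co1, certificates (helper26; generated by notes/SM/sp26/gen3.py.txt)
-/

set_option autoImplicit false
set_option Elab.async false

namespace Cfsg.Agent.SM.Sp.NCo1

open Cfsg Cfsg.Agent.TAB.Eng Cfsg.Agent.H940.Eng Cfsg.Agent.TH.Spor

/-- a certificate -/
noncomputable def c65 : Hd × Tr :=
  ((64561751654400, [], []), (.far (.negSucc 242) [(.negSucc 55, 7), (.negSucc 66, 9), (.negSucc 89, 10), (.ofNat 17,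
  11), (.negSucc 35, 13), (.ofNat 24, 14), (.negSucc 28, 15), (.negSucc 89, 17), (.ofNat 84, 18), (.negSucc 5, 19),
  (.ofNat 39, 20), (.negSucc 39, 21), (.ofNat 18, 24), (.ofNat 155, 26), (.ofNat 34, 27), (.negSucc 68, 29),
  (.negSucc 35, 30), (.negSucc 7, 31), (.negSucc 26, 32), (.ofNat 52, 33), (.ofNat 37, 34), (.negSucc 128, 35),
  (.ofNat 27, 38), (.ofNat 43, 41), (.ofNat 19, 42), (.negSucc 2, 43), (.ofNat 55, 44), (.ofNat 15, 45), (.negSucc
  24, 46), (.negSucc 4, 47), (.negSucc 17, 48), (.ofNat 11, 49), (.negSucc 24, 50), (.negSucc 7, 51), (.ofNat 11,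
  52), (.negSucc 22, 56), (.negSucc 5, 57), (.ofNat 21, 58), (.negSucc 119, 59), (.negSucc 52, 60), (.ofNat 219, 61),
  (.negSucc 15, 62), (.negSucc 19, 63), (.negSucc 95, 64), (.ofNat 47, 65), (.ofNat 178, 66), (.ofNat 29, 68),
  (.ofNat 56, 72), (.negSucc 3, 73), (.ofNat 10, 74), (.ofNat 29, 75), (.negSucc 57, 78), (.negSucc 11, 79),
  (.negSucc 27, 80), (.negSucc 68, 84), (.ofNat 113, 85), (.negSucc 3, 86), (.ofNat 2, 88), (.negSucc 12, 92),
  (.ofNat 185, 94), (.ofNat 12, 95), (.negSucc 46, 96), (.negSucc 87, 98)]))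

/-- certificates -/
noncomputable def CL16 : List (Hd × Tr) :=
  [c65]

theorem okC16 : okL TAB.Co1.D (TAB.Sm2.mkRows TAB.Co1.RA TAB.Co1.RB) P Z CL16 = true := by decide +kernel

end Cfsg.Agent.SM.Sp.NCo1
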