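import Cfsg.Agent.SM.Sp.NCo1A0
import Cfsg.Agent.SM.Sp.NCo1A1
import Cfsg.Agent.SM.Sp.NCo1A2
import Cfsg.Agent.SM.Sp.NCo1A3
import Cfsg.Agent.SM.Sp.NCo1A4
import Cfsg.Agent.SM.Sp.NCo1A5
import Cfsg.Agent.SM.Sp.NCo1A6
import Cfsg.Agent.SM.Sp.NCo1C0
import Cfsg.Agent.SM.Sp.NCo1C1
import Cfsg.Agent.SM.Sp.NCo1C2
import Cfsg.Agent.SM.Sp.NCo1C3
import Cfsg.Agent.SM.Sp.NCo1C4
import Cfsg.Agent.SM.Sp.NCo1C5
import Cfsg.Agent.SM.Sp.NCo1C6
import Cfsg.Agent.SM.Sp.NCo1C7
import Cfsg.Agent.SM.Sp.NCo1C8

/-!
# SM (S3570), sporadic socles: Co1 (helper26; generated by notes/SM/sp26/gen3.py.txt)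
-/

set_option autoImplicit false
set_option Elab.async false

namespace Cfsg.Agent.SM.Sp.NCo1

open Cfsg Cfsg.Agent.TAB.Eng Cfsg.Agent.H940.Eng Cfsg.Agent.TH.Spor

/-- the enumeration -/
theorem lst0 {K : Type} [Group K] [Finite K] (h : In K TAB.Co1.D (TAB.Sm2.mkRows TAB.Co1.RA TAB.Co1.RB)) :
    Ls2 K [42305421312000, 495766656000] SV :=
  ls2_of_enum (E := E) h ok1 (H940.Eng.D.ords_co1 base) (fun _ => List.not_mem_nil) List.mem_cons_self (dv_iff.1
  (by decide +kernel)) okB1 (l1 := [(23, 1), (13, 1), (11, 1), (7, 2), (5, 4)]) rfl (W := [W0, W1, W2, W3, W4, W5,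
  W6, W7, W8, W9, W10, W11].flatten) (by decide +kernel) <| forall_flatten <|
    fa_cons (fun _ h => ⟨_, okD0, h⟩) <| fa_cons (fun _ h => ⟨_, okD1, h⟩) <| fa_cons (fun _ h => ⟨_, okD2, h⟩) <| fa_cons (fun _ h => ⟨_, okD3, h⟩) <|
    fa_cons (fun _ h => ⟨_, okD4, h⟩) <| fa_cons (fun _ h => ⟨_, okD5, h⟩) <| fa_cons (fun _ h => ⟨_, okD6, h⟩) <| fa_cons (fun _ h => ⟨_, okD7, h⟩) <|
    fa_cons (fun _ h => ⟨_, okD8, h⟩) <| fa_cons (fun _ h => ⟨_, okD9, h⟩) <| fa_cons (fun _ h => ⟨_, okD10, h⟩) <| fa_cons (fun _ h => ⟨_, okD11, h⟩) <|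
    fa_nil

/-- the heads -/
def FL : List Hd :=
  [(1015330111488000, [], []), (2347700060160000, [], []), (2054237552640000, [], []), (1173850030080000, [], []),
  (1027118776320000, [], []), (782566686720000, [], []), (684745850880000, [], []), (586925015040000, [], []),
  (513559388160000, [], []), (391283343360000, [], []), (342372925440000, [], []), (293462507520000, [], []),
  (260855562240000, [], []), (256779694080000, [], []), (228248616960000, [], []), (195641671680000, [], []),
  (171186462720000, [], []), (146731253760000, [], []), (130427781120000, [], []), (128389847040000, [], []),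
  (114124308480000, [], []), (97820835840000, [], []), (85593231360000, [], []), (73365626880000, [], []),
  (65213890560000, [], []), (48910417920000, [], []), (42796615680000, [], []), (36682813440000, [], []),
  (24455208960000, [], []), (12227604480000, [], []), (4075868160000, [], []), (86951854080000, [], []),
  (76082872320000, [], []), (64194923520000, [], []), (57062154240000, [], []), (43475927040000, [], []),
  (38041436160000, [], []), (32606945280000, [], []), (32097461760000, [], []), (28531077120000, [], []),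
  (21737963520000, [], []), (21398307840000, [], []), (19020718080000, [], []), (18341406720000, [], []),
  (16303472640000, [], []), (14265538560000, [], []), (10868981760000, [], []), (10699153920000, [], []),
  (9510359040000, [], []), (9170703360000, [], []), (8151736320000, [], []), (7132769280000, [], []), (6113802240000,
  [], []), (5434490880000, [], []), (4755179520000, [], []), (4585351680000, [], []), (3566384640000, [], []),
  (3056901120000, [], []), (2717245440000, [], []), (2037934080000, [], []), (1528450560000, [], []), (1018967040000,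
  [], []), (679311360000, [], []), (509483520000, [], []), (448345497600, [], []), (64561751654400, [], [])]

/-- scripts -/
noncomputable def S0 : List ((ℕ × ℕ) × Ps) :=
  [((262080, 4095), (.ky 0)), ((10200960, 1771), (.ky 1)), ((10200960, 2024), (.ky 2)), ((10200960, 3542), (.ky 3)),
  ((10200960, 4048), (.ky 4)), ((10200960, 5313), (.ky 5)), ((10200960, 6072), (.ky 6)), ((10200960, 7084), (.ky 7)),
  ((10200960, 8096), (.ky 8)), ((10200960, 10626), (.ky 9)), ((10200960, 12144), (.ky 10)), ((10200960, 14168), (.ky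
  11)), ((10200960, 15939), (.ky 12)), ((10200960, 16192), (.ky 13)), ((10200960, 18216), (.ky 14)), ((10200960,
  21252), (.ky 15)), ((10200960, 24288), (.ky 16)), ((10200960, 28336), (.ky 17)), ((10200960, 31878), (.ky 18)),
  ((10200960, 32384), (.ky 19)), ((10200960, 36432), (.ky 20)), ((10200960, 42504), (.ky 21)), ((10200960, 48576),
  (.ky 22)), ((10200960, 56672), (.ky 23)), ((10200960, 63756), (.ky 24)), ((10200960, 85008), (.ky 25)), ((10200960,
  97152), (.ky 26)), ((10200960, 113344), (.ky 27)), ((10200960, 170016), (.ky 28)), ((10200960, 340032), (.ky 29)),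
  ((10200960, 1020096), (.ky 30)), ((42456960, 4095), (.ky 0)), ((244823040, 1771), (.ky 1)), ((244823040, 2024),
  (.ky 2)), ((244823040, 3542), (.ky 3)), ((244823040, 4048), (.ky 4)), ((244823040, 5313), (.ky 5)), ((244823040,
  6072), (.ky 6)), ((244823040, 7084), (.ky 7)), ((244823040, 8096), (.ky 8)), ((244823040, 10626), (.ky 9)),
  ((244823040, 12144), (.ky 10)), ((244823040, 14168), (.ky 11)), ((244823040, 15939), (.ky 12)), ((244823040,
  16192), (.ky 13)), ((244823040, 18216), (.ky 14)), ((244823040, 21252), (.ky 15)), ((244823040, 24288), (.ky 16)),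
  ((244823040, 28336), (.ky 17)), ((244823040, 31878), (.ky 18)), ((244823040, 32384), (.ky 19)), ((244823040,
  36432), (.ky 20)), ((244823040, 42504), (.ky 21)), ((244823040, 47817), (.ky 31)), ((244823040, 48576), (.ky 22)),
  ((244823040, 54648), (.ky 32)), ((244823040, 56672), (.ky 23)), ((244823040, 63756), (.ky 24)), ((244823040,
  64768), (.ky 33)), ((244823040, 72864), (.ky 34))]

/-- scripts -/
noncomputable def S1 : List ((ℕ × ℕ) × Ps) :=
  [((244823040, 85008), (.ky 25)), ((244823040, 95634), (.ky 35)), ((244823040, 97152), (.ky 26)), ((244823040,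
  109296), (.ky 36)), ((244823040, 113344), (.ky 27)), ((244823040, 127512), (.ky 37)), ((244823040, 129536), (.ky
  38)), ((244823040, 145728), (.ky 39)), ((244823040, 170016), (.ky 28)), ((244823040, 191268), (.ky 40)),
  ((244823040, 194304), (.ky 41)), ((244823040, 218592), (.ky 42)), ((244823040, 226688), (.ky 43)), ((244823040,
  255024), (.ky 44)), ((244823040, 291456), (.ky 45)), ((244823040, 340032), (.ky 29)), ((244823040, 382536), (.ky
  46)), ((244823040, 388608), (.ky 47)), ((244823040, 437184), (.ky 48)), ((244823040, 453376), (.ky 49)),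
  ((244823040, 510048), (.ky 50)), ((244823040, 582912), (.ky 51)), ((244823040, 680064), (.ky 52)), ((244823040,
  765072), (.ky 53)), ((244823040, 874368), (.ky 54)), ((244823040, 906752), (.ky 55)), ((244823040, 1020096), (.ky
  30)), ((244823040, 1165824), (.ky 56)), ((244823040, 1360128), (.ky 57)), ((244823040, 1530144), (.ky 58)),
  ((244823040, 2040192), (.ky 59)), ((244823040, 2720256), (.ky 60)), ((244823040, 4080384), (.ky 61)), ((244823040,
  6120576), (.ky 62)), ((244823040, 8160768), (.ky 63)), ((251596800, 4095), (.ky 0)), ((1056706560, 4095), (.ky 0)),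
  ((4585351680, 4095), (.ky 0)), ((43589145600, 4095), (.ky 0)), ((448345497600, 98280), (.kx 64)), ((448345497600,
  8386560), (.kx 64)), ((64561751654400, 98280), (.kx 65)), ((64561751654400, 8386560), (.kx 65))]

theorem okC : ∀ x ∈ FL, ∃ CL, okL TAB.Co1.D (TAB.Sm2.mkRows TAB.Co1.RA TAB.Co1.RB) P Z CL = true ∧ x ∈ CL.map Prod.fst := by
  rw [show FL = [CL0.map Prod.fst, CL1.map Prod.fst, CL2.map Prod.fst, CL3.map Prod.fst, CL4.map Prod.fst, CL5.map
  Prod.fst, CL6.map Prod.fst, CL7.map Prod.fst, CL8.map Prod.fst, CL9.map Prod.fst, CL10.map Prod.fst, CL11.map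
  Prod.fst, CL12.map Prod.fst, CL13.map Prod.fst, CL14.map Prod.fst, CL15.map Prod.fst, CL16.map Prod.fst].flatten
  by decide +kernel]
  exact forall_flatten <| fa_cons (fun _ h => ⟨_, okC0, h⟩) <| fa_cons (fun _ h => ⟨_, okC1, h⟩) <| fa_cons (fun _ h => ⟨_, okC2, h⟩) <| fa_cons (fun _ h => ⟨_, okC3, h⟩) <|
    fa_cons (fun _ h => ⟨_, okC4, h⟩) <| fa_cons (fun _ h => ⟨_, okC5, h⟩) <| fa_cons (fun _ h => ⟨_, okC6, h⟩) <| fa_cons (fun _ h => ⟨_, okC7, h⟩) <|
    fa_cons (fun _ h => ⟨_, okC8, h⟩) <| fa_cons (fun _ h => ⟨_, okC9, h⟩) <| fa_cons (fun _ h => ⟨_, okC10, h⟩) <| fa_cons (fun _ h => ⟨_, okC11, h⟩) <|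
    fa_cons (fun _ h => ⟨_, okC12, h⟩) <| fa_cons (fun _ h => ⟨_, okC13, h⟩) <| fa_cons (fun _ h => ⟨_, okC14, h⟩) <| fa_cons (fun _ h => ⟨_, okC15, h⟩) <|
    fa_cons (fun _ h => ⟨_, okC16, h⟩) <| fa_nil

/-- **the list** -/
theorem lst {K : Type} [Group K] [Finite K] (h : In K TAB.Co1.D (TAB.Sm2.mkRows TAB.Co1.RA TAB.Co1.RB)) :
    Ls2 K [42305421312000, 495766656000] L :=
  ls2_of_cert h (lst0 h) (l := E.l) (by decide +kernel) (SG := []) (by decide +kernel) okC (SS := [S0, S1].flatten)
  (by decide +kernel) (by decide +kernel)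

end Cfsg.Agent.SM.Sp.NCo1
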