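import Cfsg.Agent.SM.Sp.NCo1D

/-!
# SM (S3570), sporadic socles: Co1, enumeration (helper26; generated by notes/SM/sp26/gen3.py.txt)
-/

set_option autoImplicit false
set_option Elab.async false

namespace Cfsg.Agent.SM.Sp.NCo1

open Cfsg Cfsg.Agent.TAB.Eng Cfsg.Agent.H940.Eng Cfsg.Agent.TH.Spor

theorem okB1 : okB E ⟨23, 23, [(11, 1), (23, 1)]⟩ = true := by decide +kernel

/-- pieces -/
def W0 : List (ℕ × ℕ) :=
  [(6072, 1), (6072, 11), (6072, 23), (6072, 253), (10200960, 1), (10200960, 5), (10200960, 7)]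

theorem okD0 : okD E [(3, 9), (2, 21)] W0 = true := by decide +kernel

end Cfsg.Agent.SM.Sp.NCo1
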