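import Cfsg.Agent.SM.Sp.NFi22D

/-!
# SM (S3570), sporadic socles: Fi22, enumeration (helper26; generated by notes/SM/sp26/gen2.py.txt)
-/

set_option autoImplicit false
set_option Elab.async false

namespace Cfsg.Agent.SM.Sp.NFi22

open Cfsg Cfsg.Agent.TAB.Eng Cfsg.Agent.H940.Eng Cfsg.Agent.TH.Spor

/-- pieces -/
def W3 : List (ℕ × ℕ) :=
  [(3113510400, 11), (3113510400, 77), (3113510400, 13)]

theorem okD3 : okD E [(5, 2), (3, 9), (2, 17)] W3 = true := by decide +kernel

/-- pieces -/
def W4 : List (ℕ × ℕ) :=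
  [(3113510400, 91), (3113510400, 143), (3113510400, 1001)]

theorem okD4 : okD E [(5, 2), (3, 9), (2, 17)] W4 = true := by decide +kernel

/-- pieces -/
def W5 : List (ℕ × ℕ) :=
  [(4585351680, 1), (4585351680, 7), (4585351680, 13)]

theorem okD5 : okD E [(5, 2), (3, 9), (2, 17)] W5 = true := by decide +kernel

/-- pieces -/
def W6 : List (ℕ × ℕ) :=
  [(4585351680, 91), (448345497600, 1)]

theorem okD6 : okD E [(5, 2), (3, 9), (2, 17)] W6 = true := by decide +kernel

end Cfsg.Agent.SM.Sp.NFi22
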