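import Cfsg.Agent.SM.Sp.NFi22D

/-!
# SM (S3570), sporadic socles: Fi22, enumeration (helper26; generated by notes/SM/sp26/gen2.py.txt)
-/

set_option autoImplicit false
set_option Elab.async false

namespace Cfsg.Agent.SM.Sp.NFi22

open Cfsg Cfsg.Agent.TAB.Eng Cfsg.Agent.H940.Eng Cfsg.Agent.TH.Spor

/-- pieces -/
def W7 : List (ℕ × ℕ) :=
  [(448345497600, 7), (448345497600, 11)]

theorem okD7 : okD E [(5, 2), (3, 9), (2, 17)] W7 = true := by decide +kernel

/-- pieces -/
def W8 : List (ℕ × ℕ) :=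
  [(448345497600, 77), (448345497600, 13)]

theorem okD8 : okD E [(5, 2), (3, 9), (2, 17)] W8 = true := by decide +kernel

/-- pieces -/
def W9 : List (ℕ × ℕ) :=
  [(448345497600, 91), (448345497600, 143)]

theorem okD9 : okD E [(5, 2), (3, 9), (2, 17)] W9 = true := by decide +kernel

/-- pieces -/
def W10 : List (ℕ × ℕ) :=
  [(448345497600, 1001)]

theorem okD10 : okD E [(5, 2), (3, 9), (2, 17)] W10 = true := by decide +kernel

end Cfsg.Agent.SM.Sp.NFi22
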