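import Cfsg.Agent.SM.Sp.NFi22D

/-!
# SM (S3570), sporadic socles: Fi22, certificates (helper26; generated by notes/SM/sp26/gen2.py.txt)
-/

set_option autoImplicit false
set_option Elab.async false

namespace Cfsg.Agent.SM.Sp.NFi22

open Cfsg Cfsg.Agent.TAB.Eng Cfsg.Agent.H940.Eng Cfsg.Agent.TH.Spor

/-- a certificate -/
noncomputable def c0 : Hd × Tr :=
  ((448345497600, [], []), (.far (.ofNat 0) [(.negSucc 26, 2), (.negSucc 26, 4), (.negSucc 12, 7), (.negSucc 12, 8),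
  (.negSucc 12, 11), (.ofNat 13, 20), (.negSucc 12, 22), (.ofNat 13, 23), (.ofNat 27, 26), (.ofNat 13, 27), (.negSucc
  12, 31), (.ofNat 27, 32), (.ofNat 13, 38), (.ofNat 13, 41), (.negSucc 26, 42), (.negSucc 26, 43), (.ofNat 13, 44),
  (.ofNat 27, 45), (.ofNat 13, 48), (.negSucc 26, 50), (.negSucc 26, 51), (.ofNat 27, 52), (.negSucc 6, 56),
  (.negSucc 6, 58)]))

/-- a certificate -/
noncomputable def c1 : Hd × Tr :=
  ((183414067200, [], []), (.far (.ofNat 9) [(.negSucc 8, 8), (.ofNat 9, 41), (.ofNat 9, 44), (.negSucc 8, 51),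
  (.negSucc 4, 56)]))

/-- a certificate -/
noncomputable def c2 : Hd × Tr :=
  ((69872025600, [], []), (.far (.ofNat 81) [(.ofNat 41, 1), (.negSucc 39, 8), (.negSucc 39, 20), (.negSucc 39, 23),
  (.ofNat 40, 31), (.ofNat 40, 41), (.ofNat 41, 44), (.negSucc 39, 52), (.negSucc 19, 56)]))

/-- a certificate -/
noncomputable def c3 : Hd × Tr :=
  ((23290675200, [], []), (.far (.negSucc 26) [(.ofNat 27, 6), (.negSucc 26, 26), (.ofNat 27, 31), (.ofNat 27, 41),
  (.negSucc 26, 43), (.negSucc 12, 53)]))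

/-- a certificate -/
noncomputable def c4 : Hd × Tr :=
  ((13101004800, [], []), (.far (.ofNat 243) [(.ofNat 122, 1), (.negSucc 120, 8), (.negSucc 120, 20), (.negSucc 120,
  23), (.ofNat 121, 31), (.ofNat 121, 41), (.ofNat 122, 44), (.negSucc 120, 52), (.negSucc 60, 56)]))

/-- a certificate -/
noncomputable def c5 : Hd × Tr :=
  ((20437401600, [], []), (.far (.negSucc 1226) [(.ofNat 1058, 8), (.ofNat 1672, 9), (.ofNat 2211, 10), (.ofNat 3193,
  11), (.ofNat 1763, 12), (.ofNat 3029, 13), (.ofNat 2465, 14), (.ofNat 2701, 15), (.ofNat 4990, 16), (.ofNat 5376,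
  17), (.ofNat 4912, 18), (.ofNat 5265, 19), (.ofNat 7372, 20), (.ofNat 9212, 21), (.ofNat 13563, 22), (.ofNat 17942,
  23), (.ofNat 19906, 24), (.ofNat 19877, 25), (.ofNat 24285, 26), (.ofNat 23232, 27), (.ofNat 28215, 28), (.ofNat
  29590, 29), (.ofNat 38970, 30), (.ofNat 36125, 31), (.ofNat 38759, 32), (.ofNat 40042, 33), (.ofNat 44526, 34),
  (.ofNat 47824, 35), (.ofNat 51511, 36), (.ofNat 53877, 37), (.ofNat 61610, 38), (.ofNat 64006, 39), (.ofNat 79428,
  40), (.ofNat 87351, 41), (.ofNat 89929, 42), (.ofNat 95110, 43), (.ofNat 116570, 44), (.ofNat 121995, 45), (.ofNat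
  132269, 46), (.ofNat 134263, 47), (.ofNat 150161, 48), (.ofNat 155942, 49), (.ofNat 167563, 50), (.ofNat 167563,
  51), (.ofNat 177147, 52), (.ofNat 9296, 53), (.ofNat 26889, 54), (.ofNat 25750, 55), (.ofNat 38553, 56), (.ofNat
  38870, 57), (.ofNat 64748, 58)]))

/-- a certificate -/
noncomputable def c6 : Hd × Tr :=
  ((6793113600, [], []), (.far (.ofNat 81) [(.negSucc 80, 8), (.ofNat 81, 41), (.ofNat 81, 44), (.negSucc 80, 51),
  (.negSucc 40, 56)]))

/-- a certificate -/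
noncomputable def c7 : Hd × Tr :=
  ((3113510400, [], []), (.far (.negSucc 1017) [(.negSucc 627, 9), (.negSucc 376, 10), (.negSucc 744, 11), (.negSucc
  1184, 12), (.negSucc 851, 13), (.negSucc 1469, 14), (.negSucc 871, 15), (.negSucc 2021, 16), (.negSucc 1059, 17),
  (.negSucc 1759, 18), (.negSucc 1910, 19), (.negSucc 2144, 20), (.negSucc 3644, 21), (.negSucc 4262, 22), (.negSucc
  7129, 23), (.negSucc 6192, 24), (.negSucc 6851, 25), (.negSucc 8194, 26), (.negSucc 8014, 27), (.negSucc 9105, 28),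
  (.negSucc 9813, 29), (.negSucc 12424, 30), (.negSucc 12323, 31), (.negSucc 13166, 32), (.negSucc 13574, 33),
  (.negSucc 14888, 34), (.negSucc 16226, 35), (.negSucc 17245, 36), (.negSucc 18960, 37), (.negSucc 20629, 38),
  (.negSucc 20444, 39), (.negSucc 25685, 40), (.negSucc 27758, 41), (.negSucc 29601, 42), (.negSucc 31757, 43),
  (.negSucc 39583, 44), (.negSucc 39997, 45), (.negSucc 43323, 46), (.negSucc 44205, 47), (.negSucc 49496, 48),
  (.negSucc 52035, 49), (.negSucc 54917, 50), (.negSucc 54980, 51), (.negSucc 59048, 52), (.negSucc 3453, 53),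
  (.negSucc 8279, 54), (.negSucc 8966, 55), (.negSucc 12475, 56), (.negSucc 12865, 57), (.negSucc 21442, 58)]))

/-- a certificate -/
noncomputable def c8 : Hd × Tr :=
  ((110361968640, [], []), (.far (.ofNat 27) [(.negSucc 26, 6), (.ofNat 27, 26), (.negSucc 26, 31), (.negSucc 26,
  41), (.ofNat 27, 43), (.ofNat 13, 53)]))

/-- a certificate -/
noncomputable def c9 : Hd × Tr :=
  ((9196830720, [], []), (.far (.negSucc 177) [(.ofNat 20, 3), (.negSucc 43, 7), (.ofNat 13, 8), (.negSucc 64, 9),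
  (.negSucc 85, 10), (.negSucc 50, 12), (.ofNat 13, 14), (.negSucc 15, 16), (.negSucc 21, 17), (.negSucc 57, 19),
  (.ofNat 35, 20), (.ofNat 19, 22), (.ofNat 8, 23), (.ofNat 2, 24), (.negSucc 67, 25), (.ofNat 243, 26), (.ofNat 37,
  27), (.ofNat 14, 28), (.negSucc 0, 29), (.ofNat 49, 30), (.negSucc 113, 31), (.ofNat 97, 32), (.negSucc 1, 33),
  (.negSucc 38, 34), (.ofNat 56, 35), (.negSucc 139, 37), (.ofNat 40, 38), (.ofNat 63, 39), (.negSucc 5, 40),
  (.negSucc 85, 41), (.negSucc 85, 42), (.negSucc 14, 43), (.ofNat 53, 44), (.ofNat 77, 45), (.negSucc 11, 46),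
  (.ofNat 16, 48), (.negSucc 76, 52), (.ofNat 24, 53), (.ofNat 2, 54), (.ofNat 1, 55), (.ofNat 11, 56), (.ofNat 9,
  57), (.ofNat 18, 58)]))

/-- a certificate -/
noncomputable def c10 : Hd × Tr :=
  ((33538572288, [], []), (.far (.ofNat 81) [(.negSucc 26, 8), (.ofNat 27, 13), (.negSucc 26, 19), (.negSucc 26, 20),
  (.negSucc 26, 23), (.negSucc 26, 27), (.ofNat 54, 31), (.ofNat 27, 38), (.ofNat 27, 41), (.negSucc 26, 47),
  (.negSucc 13, 56)]))

/-- a certificate -/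
noncomputable def c11 : Hd × Tr :=
  ((29346250752, [], []), (.far (.negSucc 26) [(.ofNat 27, 6), (.negSucc 26, 26), (.ofNat 27, 31), (.ofNat 27, 41),
  (.negSucc 26, 43), (.negSucc 13, 53)]))

/-- a certificate -/
noncomputable def c12 : Hd × Tr :=
  ((16769286144, [], []), (.far (.ofNat 4) [(.negSucc 8, 8), (.negSucc 1, 16), (.negSucc 2, 19), (.negSucc 6, 20),
  (.negSucc 11, 23), (.negSucc 0, 25), (.negSucc 17, 26), (.ofNat 27, 31), (.ofNat 4, 38), (.ofNat 16, 41), (.negSucc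
  5, 43), (.negSucc 2, 53), (.negSucc 2, 56)]))

/-- a certificate -/
noncomputable def c13 : Hd × Tr :=
  ((3260694528, [], []), (.far (.ofNat 94) [(.ofNat 23, 3), (.ofNat 9, 5), (.negSucc 16, 9), (.ofNat 160, 10),
  (.negSucc 61, 11), (.negSucc 81, 12), (.ofNat 46, 13), (.negSucc 1, 16), (.negSucc 29, 19), (.ofNat 58, 20),
  (.negSucc 46, 22), (.ofNat 28, 23), (.negSucc 54, 25), (.ofNat 119, 26), (.ofNat 3, 31), (.ofNat 75, 32), (.negSucc
  17, 33), (.negSucc 3, 34), (.ofNat 151, 38), (.negSucc 64, 39), (.negSucc 9, 40), (.ofNat 41, 41), (.negSucc 50,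
  42), (.negSucc 206, 43), (.negSucc 87, 44), (.ofNat 13, 45), (.ofNat 2, 46), (.negSucc 167, 47), (.ofNat 35, 48),
  (.ofNat 7, 49), (.ofNat 243, 52), (.negSucc 11, 57), (.negSucc 29, 58)]))

/-- a certificate -/
noncomputable def c14 : Hd × Tr :=
  ((2587852800, [], []), (.far (.ofNat 1) [(.ofNat 1, 1), (.negSucc 0, 20), (.negSucc 0, 23), (.ofNat 1, 31), (.ofNat
  1, 51), (.negSucc 0, 52)]))

/-- a certificate -/
noncomputable def c15 : Hd × Tr :=
  ((2096160768, [], []), (.far (.negSucc 80) [(.ofNat 81, 6), (.negSucc 80, 26), (.ofNat 81, 31), (.ofNat 81, 41),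
  (.negSucc 80, 43), (.negSucc 39, 53)]))

/-- a certificate -/
noncomputable def c16 : Hd × Tr :=
  ((1242169344, [], []), (.far (.ofNat 1) [(.ofNat 1, 1), (.negSucc 0, 20), (.negSucc 0, 23), (.ofNat 1, 31), (.ofNat
  1, 51), (.negSucc 0, 52)]))

/-- a certificate -/
noncomputable def c17 : Hd × Tr :=
  ((1086898176, [], []), (.far (.negSucc 80) [(.ofNat 81, 6), (.negSucc 80, 26), (.ofNat 81, 31), (.ofNat 81, 41),
  (.negSucc 80, 43), (.negSucc 40, 53)]))

/-- a certificate -/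
noncomputable def c18 : Hd × Tr :=
  ((1048080384, [], []), (.far (.negSucc 26) [(.ofNat 27, 6), (.negSucc 26, 26), (.ofNat 27, 31), (.ofNat 27, 41),
  (.negSucc 26, 43), (.negSucc 12, 53)]))

/-- a certificate -/
noncomputable def c19 : Hd × Tr :=
  ((621084672, [], []), (.far (.ofNat 0) [(.ofNat 121, 1), (.ofNat 121, 6), (.negSucc 120, 20), (.negSucc 121, 23),
  (.negSucc 120, 26), (.ofNat 243, 31), (.ofNat 121, 41), (.negSucc 121, 43), (.ofNat 121, 51), (.negSucc 121, 52),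
  (.negSucc 60, 53)]))

/-- a certificate -/
noncomputable def c20 : Hd × Tr :=
  ((485222400, [], []), (.far (.negSucc 324) [(.ofNat 1635, 1), (.ofNat 7, 3), (.ofNat 139, 4), (.ofNat 284, 9),
  (.ofNat 284, 10), (.ofNat 152, 11), (.ofNat 125, 14), (.ofNat 12, 15), (.ofNat 107, 17), (.ofNat 220, 21), (.ofNat
  1077, 22), (.negSucc 1740, 23), (.negSucc 556, 24), (.ofNat 2, 25), (.negSucc 1558, 26), (.negSucc 194, 27),
  (.negSucc 237, 28), (.negSucc 449, 29), (.negSucc 355, 30), (.ofNat 2187, 31), (.negSucc 534, 32), (.ofNat 404,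
  33), (.negSucc 475, 34), (.ofNat 240, 36), (.ofNat 504, 37), (.negSucc 772, 38), (.ofNat 372, 39), (.ofNat 1897,
  41), (.negSucc 538, 43), (.ofNat 954, 44), (.negSucc 797, 45), (.ofNat 288, 47), (.ofNat 681, 48), (.negSucc 308,
  49), (.ofNat 1308, 51), (.negSucc 818, 52), (.negSucc 392, 53), (.ofNat 181, 54), (.ofNat 223, 55), (.negSucc 156,
  56), (.ofNat 22, 58)]))

/-- a certificate -/
noncomputable def c21 : Hd × Tr :=
  ((232906752, [], []), (.far (.ofNat 1) [(.ofNat 1, 2), (.ofNat 1, 10), (.ofNat 1, 38), (.negSucc 0, 39), (.negSucc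
  0, 43), (.negSucc 0, 44), (.negSucc 0, 47), (.ofNat 1, 50), (.ofNat 1, 52)]))

/-- a certificate -/
noncomputable def c22 : Hd × Tr :=
  ((116453376, [], []), (.far (.ofNat 1) [(.ofNat 1, 2), (.ofNat 1, 10), (.ofNat 1, 38), (.negSucc 0, 39), (.negSucc
  0, 43), (.negSucc 0, 44), (.negSucc 0, 47), (.ofNat 1, 50), (.ofNat 1, 52)]))

/-- a certificate -/
noncomputable def c23 : Hd × Tr :=
  ((77635584, [], []), (.far (.ofNat 39) [(.ofNat 5, 3), (.ofNat 16, 5), (.ofNat 188, 10), (.ofNat 70, 13), (.ofNat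
  37, 28), (.ofNat 51, 31), (.ofNat 53, 32), (.ofNat 35, 37), (.ofNat 113, 38), (.negSucc 128, 39), (.ofNat 87, 41),
  (.negSucc 7, 42), (.negSucc 242, 43), (.negSucc 63, 44), (.ofNat 20, 46), (.negSucc 120, 47), (.ofNat 31, 48),
  (.ofNat 23, 49), (.ofNat 136, 50), (.ofNat 51, 51), (.ofNat 230, 52), (.ofNat 11, 54), (.ofNat 10, 58)]))

/-- a certificate -/
noncomputable def c24 : Hd × Tr :=
  ((862617600, [], []), (.far (.negSucc 80) [(.ofNat 81, 6), (.negSucc 80, 26), (.ofNat 81, 31), (.ofNat 81, 41),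
  (.negSucc 80, 43), (.negSucc 39, 53)]))

/-- a certificate -/
noncomputable def c25 : Hd × Tr :=
  ((120766464, [], []), (.far (.ofNat 1) [(.ofNat 1, 2), (.ofNat 1, 10), (.ofNat 1, 38), (.negSucc 0, 39), (.negSucc
  0, 43), (.negSucc 0, 44), (.negSucc 0, 47), (.ofNat 1, 50), (.ofNat 1, 52)]))

/-- a certificate -/
noncomputable def c26 : Hd × Tr :=
  ((38817792, [], []), (.far (.negSucc 242) [(.ofNat 62, 6), (.ofNat 5, 13), (.ofNat 86, 31), (.ofNat 27, 32),
  (.ofNat 17, 36), (.ofNat 60, 37), (.ofNat 42, 38), (.ofNat 21, 40), (.ofNat 61, 41), (.ofNat 21, 42), (.negSucc 16,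
  43), (.ofNat 77, 45), (.ofNat 50, 46), (.ofNat 55, 47), (.ofNat 36, 48), (.ofNat 56, 49), (.ofNat 26, 50), (.ofNat
  51, 51), (.ofNat 106, 52), (.ofNat 5, 54), (.ofNat 31, 56), (.ofNat 4, 58)]))

/-- a certificate -/
noncomputable def c27 : Hd × Tr :=
  ((47297986560, [], []), (.far (.ofNat 81) [(.ofNat 41, 1), (.negSucc 39, 6), (.negSucc 40, 20), (.negSucc 40, 23),
  (.ofNat 41, 26), (.negSucc 40, 41), (.ofNat 40, 43), (.ofNat 41, 51), (.negSucc 40, 52), (.ofNat 20, 53)]))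

/-- a certificate -/
noncomputable def c28 : Hd × Tr :=
  ((23648993280, [], []), (.far (.ofNat 243) [(.ofNat 122, 1), (.negSucc 120, 6), (.negSucc 121, 20), (.negSucc 121,
  23), (.ofNat 122, 26), (.negSucc 121, 41), (.ofNat 121, 43), (.ofNat 121, 51), (.negSucc 120, 52), (.ofNat 61,
  53)]))

/-- a certificate -/
noncomputable def c29 : Hd × Tr :=
  ((3941498880, [], []), (.far (.ofNat 1) [(.ofNat 1, 1), (.negSucc 0, 20), (.negSucc 0, 23), (.ofNat 1, 31), (.ofNat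
  1, 51), (.negSucc 0, 52)]))

/-- a certificate -/
noncomputable def c30 : Hd × Tr :=
  ((1970749440, [], []), (.far (.ofNat 1) [(.ofNat 1, 1), (.negSucc 0, 20), (.negSucc 0, 23), (.ofNat 1, 31), (.ofNat
  1, 51), (.negSucc 0, 52)]))

/-- certificates -/
noncomputable def CL0 : List (Hd × Tr) :=
  [c0, c1, c2, c3, c4, c5, c6, c7, c8, c9, c10, c11, c12, c13, c14, c15, c16, c17, c18, c19, c20, c21, c22, c23, c24,
  c25, c26, c27, c28, c29, c30]

theorem okC0 : okL TAB.F22.dat (TAB.Sm2.mkRows TAB.F22.rowA TAB.F22.rowB) P Z CL0 = true := by decide +kernel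

/-- a certificate -/
noncomputable def c31 : Hd × Tr :=
  ((328458240, [], []), (.far (.negSucc 270) [(.ofNat 74, 1), (.ofNat 4, 3), (.ofNat 455, 4), (.ofNat 90, 9), (.ofNat
  448, 11), (.ofNat 104, 16), (.ofNat 29, 17), (.ofNat 236, 21), (.ofNat 210, 22), (.negSucc 881, 23), (.ofNat 669,
  24), (.ofNat 82, 25), (.negSucc 372, 26), (.negSucc 343, 27), (.negSucc 114, 28), (.negSucc 360, 29), (.negSucc
  341, 30), (.ofNat 1119, 31), (.negSucc 25, 32), (.negSucc 47, 33), (.negSucc 606, 34), (.ofNat 629, 35), (.negSucc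
  175, 36), (.ofNat 302, 37), (.negSucc 299, 38), (.ofNat 258, 39), (.negSucc 133, 40), (.negSucc 678, 41), (.negSucc
  199, 42), (.ofNat 541, 43), (.negSucc 418, 44), (.negSucc 192, 45), (.ofNat 531, 46), (.negSucc 36, 47), (.ofNat
  66, 49), (.ofNat 2187, 50), (.ofNat 1929, 51), (.negSucc 1273, 52), (.ofNat 105, 54), (.negSucc 158, 55), (.ofNat
  234, 56), (.ofNat 162, 57)]))

/-- a certificate -/
noncomputable def c32 : Hd × Tr :=
  ((164229120, [], []), (.far (.negSucc 1642) [(.ofNat 1096, 4), (.ofNat 409, 8), (.ofNat 1083, 11), (.ofNat 59, 16),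
  (.ofNat 676, 21), (.ofNat 419, 22), (.negSucc 871, 23), (.ofNat 1434, 24), (.negSucc 167, 28), (.ofNat 191, 29),
  (.negSucc 61, 30), (.ofNat 1295, 31), (.negSucc 458, 32), (.ofNat 597, 33), (.negSucc 629, 34), (.ofNat 1469, 35),
  (.ofNat 2, 36), (.negSucc 841, 37), (.ofNat 1116, 38), (.ofNat 778, 39), (.ofNat 199, 40), (.negSucc 706, 41),
  (.ofNat 1796, 42), (.ofNat 2607, 43), (.ofNat 128, 44), (.ofNat 1120, 45), (.ofNat 2121, 46), (.ofNat 1287, 47),
  (.ofNat 1326, 48), (.ofNat 1676, 49), (.ofNat 5231, 50), (.ofNat 6561, 51), (.negSucc 1549, 52), (.ofNat 65, 54),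
  (.ofNat 21, 55), (.ofNat 766, 56), (.ofNat 778, 57), (.ofNat 1252, 58)]))

/-- a certificate -/
noncomputable def c33 : Hd × Tr :=
  ((251596800, [], []), (.bf 25 2 (.bf 13 8 (.bf 4 0 (.far (.negSucc 1223) [(.ofNat 5984, 4), (.ofNat 3738, 9),
  (.ofNat 2171, 11), (.ofNat 21, 14), (.ofNat 3649, 15), (.ofNat 2148, 18), (.ofNat 7901, 22), (.negSucc 2521, 23),
  (.negSucc 3228, 24), (.ofNat 829, 25), (.negSucc 4994, 26), (.ofNat 299, 27), (.ofNat 2524, 28), (.ofNat 3770, 29),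
  (.ofNat 4134, 30), (.ofNat 11269, 31), (.ofNat 150, 32), (.negSucc 900, 33), (.ofNat 8754, 34), (.ofNat 1043, 35),
  (.ofNat 11374, 36), (.ofNat 3195, 37), (.ofNat 3901, 38), (.ofNat 5096, 39), (.ofNat 12147, 40), (.ofNat 19683,
  41), (.ofNat 12943, 42), (.ofNat 14226, 44), (.ofNat 7843, 45), (.ofNat 10273, 46), (.ofNat 12992, 47), (.ofNat
  15318, 48), (.ofNat 12146, 49), (.ofNat 16387, 50), (.ofNat 8808, 51), (.ofNat 13411, 52), (.negSucc 2257, 54),
  (.ofNat 1757, 55), (.ofNat 4328, 56), (.ofNat 1302, 57), (.ofNat 9945, 58)]) (.far (.negSucc 2396) [(.ofNat 259,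
  4), (.ofNat 627, 11), (.ofNat 14, 13), (.ofNat 956, 20), (.ofNat 17, 21), (.ofNat 301, 22), (.negSucc 1237, 23),
  (.ofNat 923, 24), (.ofNat 59, 25), (.negSucc 2430, 26), (.ofNat 1903, 27), (.negSucc 462, 28), (.negSucc 1288, 29),
  (.negSucc 1110, 30), (.ofNat 3523, 31), (.ofNat 1159, 32), (.ofNat 741, 33), (.negSucc 1852, 34), (.ofNat 3428,
  35), (.ofNat 190, 36), (.ofNat 2366, 37), (.ofNat 1540, 38), (.ofNat 2702, 39), (.ofNat 1036, 40), (.ofNat 1965,
  41), (.negSucc 1478, 42), (.ofNat 678, 43), (.ofNat 3084, 44), (.ofNat 137, 45), (.ofNat 3585, 46), (.ofNat 2778,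
  47), (.ofNat 5488, 48), (.ofNat 2051, 49), (.ofNat 6561, 50), (.ofNat 943, 51), (.ofNat 2055, 52), (.ofNat 1745,
  54), (.negSucc 579, 55), (.ofNat 790, 56), (.ofNat 229, 57), (.negSucc 400, 58)])) (.far (.negSucc 2071) [(.ofNat
  159, 3), (.ofNat 1327, 4), (.ofNat 428, 7), (.ofNat 1293, 13), (.ofNat 1421, 15), (.ofNat 1134, 18), (.ofNat 3706,
  22), (.negSucc 499, 23), (.ofNat 1624, 24), (.ofNat 1134, 25), (.negSucc 6057, 26), (.ofNat 1324, 27), (.ofNat
  1223, 28), (.ofNat 352, 29), (.ofNat 1223, 30), (.ofNat 11993, 31), (.ofNat 1239, 32), (.ofNat 963, 33), (.ofNat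
  2164, 34), (.ofNat 8222, 35), (.ofNat 5645, 36), (.ofNat 6063, 37), (.ofNat 5520, 38), (.ofNat 8242, 39), (.ofNat
  8832, 40), (.ofNat 10392, 41), (.ofNat 5790, 42), (.ofNat 8172, 43), (.ofNat 12339, 44), (.ofNat 5564, 45), (.ofNat
  13612, 46), (.ofNat 12285, 47), (.ofNat 15765, 48), (.ofNat 12494, 49), (.ofNat 19683, 50), (.ofNat 8893, 51),
  (.ofNat 12042, 52), (.ofNat 3796, 54), (.ofNat 1240, 55), (.ofNat 2754, 56), (.ofNat 2566, 57), (.ofNat 4670,
  58)])) (.far (.negSucc 651) [(.ofNat 89, 15), (.ofNat 368, 18), (.ofNat 273, 20), (.ofNat 239, 23), (.ofNat 126,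
  24), (.ofNat 254, 25), (.ofNat 241, 26), (.ofNat 443, 27), (.ofNat 269, 28), (.ofNat 136, 29), (.ofNat 308, 30),
  (.ofNat 546, 31), (.ofNat 412, 32), (.ofNat 433, 33), (.ofNat 174, 34), (.ofNat 570, 35), (.ofNat 365, 36), (.ofNat
  583, 37), (.ofNat 932, 38), (.ofNat 518, 39), (.ofNat 684, 40), (.ofNat 1180, 41), (.ofNat 597, 42), (.ofNat 585,
  43), (.ofNat 1282, 44), (.ofNat 1267, 45), (.ofNat 1253, 46), (.ofNat 1302, 47), (.ofNat 1639, 48), (.ofNat 1491,
  49), (.ofNat 1219, 50), (.ofNat 1592, 51), (.ofNat 2187, 52), (.ofNat 348, 54), (.ofNat 224, 55), (.ofNat 342, 56),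
  (.ofNat 288, 57), (.ofNat 514, 58)])))

/-- a certificate -/
noncomputable def c34 : Hd × Tr :=
  ((451480780800, [], []), (.far (.ofNat 27) [(.negSucc 12, 6), (.negSucc 12, 8), (.ofNat 13, 26), (.negSucc 12, 31),
  (.ofNat 13, 43), (.ofNat 13, 44), (.negSucc 12, 51), (.ofNat 7, 53), (.negSucc 6, 56)]))

/-- a certificate -/
noncomputable def c35 : Hd × Tr :=
  ((225740390400, [], []), (.far (.ofNat 20) [(.negSucc 12, 2), (.negSucc 12, 4), (.negSucc 12, 6), (.negSucc 6, 7),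
  (.negSucc 12, 8), (.negSucc 6, 11), (.ofNat 7, 20), (.negSucc 6, 22), (.ofNat 7, 23), (.ofNat 27, 26), (.ofNat 7,
  27), (.negSucc 19, 31), (.ofNat 13, 32), (.ofNat 7, 38), (.negSucc 12, 42), (.ofNat 14, 44), (.ofNat 13, 45),
  (.ofNat 7, 48), (.negSucc 12, 50), (.negSucc 19, 51), (.ofNat 13, 52), (.ofNat 7, 53), (.negSucc 6, 56), (.negSucc
  2, 58)]))

/-- a certificate -/
noncomputable def c36 : Hd × Tr :=
  ((150493593600, [], []), (.far (.ofNat 81) [(.negSucc 39, 6), (.negSucc 39, 8), (.ofNat 40, 26), (.negSucc 39, 31),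
  (.ofNat 40, 43), (.ofNat 40, 44), (.negSucc 39, 51), (.ofNat 20, 53), (.negSucc 19, 56)]))

/-- a certificate -/
noncomputable def c37 : Hd × Tr :=
  ((112870195200, [], []), (.far (.ofNat 81) [(.negSucc 39, 6), (.negSucc 39, 8), (.ofNat 40, 26), (.negSucc 39, 31),
  (.ofNat 40, 43), (.ofNat 40, 44), (.negSucc 39, 51), (.ofNat 20, 53), (.negSucc 19, 56)]))

/-- a certificate -/
noncomputable def c38 : Hd × Tr :=
  ((90296156160, [], []), (.far (.ofNat 81) [(.negSucc 39, 6), (.negSucc 39, 8), (.ofNat 40, 26), (.negSucc 39, 31),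
  (.ofNat 40, 43), (.ofNat 40, 44), (.negSucc 39, 51), (.ofNat 20, 53), (.negSucc 19, 56)]))

/-- a certificate -/
noncomputable def c39 : Hd × Tr :=
  ((75246796800, [], []), (.far (.ofNat 81) [(.negSucc 39, 6), (.negSucc 39, 8), (.ofNat 40, 26), (.negSucc 39, 31),
  (.ofNat 40, 43), (.ofNat 40, 44), (.negSucc 39, 51), (.ofNat 20, 53), (.negSucc 19, 56)]))

/-- a certificate -/
noncomputable def c40 : Hd × Tr :=
  ((64497254400, [], []), (.far (.ofNat 27) [(.ofNat 9, 1), (.negSucc 8, 6), (.negSucc 8, 8), (.negSucc 8, 20),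
  (.negSucc 8, 23), (.ofNat 9, 26), (.ofNat 9, 43), (.ofNat 9, 44), (.negSucc 8, 52), (.ofNat 4, 53), (.negSucc 3,
  56)]))

/-- a certificate -/
noncomputable def c41 : Hd × Tr :=
  ((50164531200, [], []), (.far (.ofNat 81) [(.negSucc 39, 6), (.negSucc 39, 8), (.ofNat 40, 26), (.negSucc 39, 31),
  (.ofNat 40, 43), (.ofNat 40, 44), (.negSucc 39, 51), (.ofNat 20, 53), (.negSucc 19, 56)]))

/-- a certificate -/
noncomputable def c42 : Hd × Tr :=
  ((45148078080, [], []), (.far (.ofNat 81) [(.negSucc 39, 6), (.negSucc 39, 8), (.ofNat 40, 26), (.negSucc 39, 31),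
  (.ofNat 40, 43), (.ofNat 40, 44), (.negSucc 39, 51), (.ofNat 20, 53), (.negSucc 19, 56)]))

/-- a certificate -/
noncomputable def c43 : Hd × Tr :=
  ((37623398400, [], []), (.far (.ofNat 81) [(.negSucc 39, 6), (.negSucc 39, 8), (.ofNat 40, 26), (.negSucc 39, 31),
  (.ofNat 40, 43), (.ofNat 40, 44), (.negSucc 39, 51), (.ofNat 20, 53), (.negSucc 19, 56)]))

/-- a certificate -/
noncomputable def c44 : Hd × Tr :=
  ((32248627200, [], []), (.far (.ofNat 27) [(.ofNat 9, 1), (.negSucc 8, 6), (.negSucc 8, 8), (.negSucc 8, 20),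
  (.negSucc 8, 23), (.ofNat 9, 26), (.ofNat 9, 43), (.ofNat 9, 44), (.negSucc 8, 52), (.ofNat 4, 53), (.negSucc 3,
  56)]))

/-- a certificate -/
noncomputable def c45 : Hd × Tr :=
  ((30098718720, [], []), (.far (.ofNat 81) [(.negSucc 39, 6), (.negSucc 39, 8), (.ofNat 40, 26), (.negSucc 39, 31),
  (.ofNat 40, 43), (.ofNat 40, 44), (.negSucc 39, 51), (.ofNat 20, 53), (.negSucc 19, 56)]))

/-- a certificate -/
noncomputable def c46 : Hd × Tr :=
  ((25082265600, [], []), (.far (.ofNat 81) [(.negSucc 39, 6), (.negSucc 39, 8), (.ofNat 40, 26), (.negSucc 39, 31),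
  (.ofNat 40, 43), (.ofNat 40, 44), (.negSucc 39, 51), (.ofNat 20, 53), (.negSucc 19, 56)]))

/-- a certificate -/
noncomputable def c47 : Hd × Tr :=
  ((22574039040, [], []), (.far (.ofNat 81) [(.negSucc 39, 6), (.negSucc 39, 8), (.ofNat 40, 26), (.negSucc 39, 31),
  (.ofNat 40, 43), (.ofNat 40, 44), (.negSucc 39, 51), (.ofNat 20, 53), (.negSucc 19, 56)]))

/-- a certificate -/
noncomputable def c48 : Hd × Tr :=
  ((21499084800, [], []), (.far (.ofNat 81) [(.ofNat 27, 1), (.negSucc 26, 6), (.negSucc 26, 8), (.negSucc 26, 20),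
  (.negSucc 26, 23), (.ofNat 27, 26), (.ofNat 27, 43), (.ofNat 27, 44), (.negSucc 26, 52), (.ofNat 13, 53), (.negSucc
  12, 56)]))

/-- a certificate -/
noncomputable def c49 : Hd × Tr :=
  ((18059231232, [], []), (.far (.ofNat 68) [(.negSucc 13, 7), (.negSucc 26, 8), (.ofNat 27, 10), (.negSucc 13, 11),
  (.negSucc 26, 12), (.ofNat 14, 20), (.negSucc 13, 22), (.ofNat 14, 23), (.negSucc 26, 25), (.ofNat 81, 26), (.ofNat
  14, 27), (.negSucc 40, 31), (.ofNat 27, 32), (.ofNat 41, 38), (.negSucc 26, 39), (.negSucc 26, 42), (.negSucc 26,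
  43), (.ofNat 27, 45), (.negSucc 26, 47), (.ofNat 14, 48), (.negSucc 40, 51), (.ofNat 54, 52), (.ofNat 14, 53),
  (.negSucc 13, 56), (.negSucc 6, 58)]))

/-- a certificate -/
noncomputable def c50 : Hd × Tr :=
  ((16124313600, [], []), (.far (.ofNat 243) [(.ofNat 122, 1), (.negSucc 120, 8), (.negSucc 120, 20), (.negSucc 120,
  23), (.ofNat 121, 31), (.ofNat 121, 41), (.ofNat 122, 44), (.negSucc 120, 52), (.negSucc 60, 56)]))

/-- a certificate -/
noncomputable def c51 : Hd × Tr :=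
  ((15049359360, [], []), (.far (.ofNat 81) [(.negSucc 80, 8), (.ofNat 81, 41), (.ofNat 81, 44), (.negSucc 80, 51),
  (.negSucc 40, 56)]))

/-- a certificate -/
noncomputable def c52 : Hd × Tr :=
  ((12899450880, [], []), (.far (.ofNat 243) [(.ofNat 122, 1), (.negSucc 120, 8), (.negSucc 120, 20), (.negSucc 120,
  23), (.ofNat 121, 31), (.ofNat 121, 41), (.ofNat 122, 44), (.negSucc 120, 52), (.negSucc 60, 56)]))

/-- a certificate -/
noncomputable def c53 : Hd × Tr :=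
  ((12541132800, [], []), (.far (.ofNat 81) [(.negSucc 80, 8), (.ofNat 81, 41), (.ofNat 81, 44), (.negSucc 80, 51),
  (.negSucc 40, 56)]))

/-- a certificate -/
noncomputable def c54 : Hd × Tr :=
  ((11287019520, [], []), (.far (.ofNat 81) [(.negSucc 80, 8), (.ofNat 81, 41), (.ofNat 81, 44), (.negSucc 80, 51),
  (.negSucc 40, 56)]))

/-- a certificate -/
noncomputable def c55 : Hd × Tr :=
  ((10749542400, [], []), (.far (.ofNat 243) [(.ofNat 122, 1), (.negSucc 120, 8), (.negSucc 120, 20), (.negSucc 120,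
  23), (.ofNat 121, 31), (.ofNat 121, 41), (.ofNat 122, 44), (.negSucc 120, 52), (.negSucc 60, 56)]))

/-- a certificate -/
noncomputable def c56 : Hd × Tr :=
  ((10032906240, [], []), (.far (.ofNat 81) [(.negSucc 80, 8), (.ofNat 81, 41), (.ofNat 81, 44), (.negSucc 80, 51),
  (.negSucc 40, 56)]))

/-- a certificate -/
noncomputable def c57 : Hd × Tr :=
  ((9029615616, [], []), (.far (.ofNat 27) [(.negSucc 26, 8), (.ofNat 27, 41), (.ofNat 27, 44), (.negSucc 26, 51),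
  (.negSucc 12, 56)]))

/-- a certificate -/
noncomputable def c58 : Hd × Tr :=
  ((8062156800, [], []), (.far (.ofNat 243) [(.ofNat 122, 1), (.negSucc 120, 8), (.negSucc 120, 20), (.negSucc 120,
  23), (.ofNat 121, 31), (.ofNat 121, 41), (.ofNat 122, 44), (.negSucc 120, 52), (.negSucc 60, 56)]))

/-- a certificate -/
noncomputable def c59 : Hd × Tr :=
  ((7524679680, [], []), (.far (.ofNat 81) [(.negSucc 80, 8), (.ofNat 81, 41), (.ofNat 81, 44), (.negSucc 80, 51),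
  (.negSucc 40, 56)]))

/-- certificates -/
noncomputable def CL1 : List (Hd × Tr) :=
  [c31, c32, c33, c34, c35, c36, c37, c38, c39, c40, c41, c42, c43, c44, c45, c46, c47, c48, c49, c50, c51, c52, c53,
  c54, c55, c56, c57, c58, c59]

theorem okC1 : okL TAB.F22.dat (TAB.Sm2.mkRows TAB.F22.rowA TAB.F22.rowB) P Z CL1 = true := by decide +kernel

/-- a certificate -/
noncomputable def c60 : Hd × Tr :=
  ((7166361600, [], []), (.far (.ofNat 243) [(.ofNat 122, 1), (.negSucc 120, 8), (.negSucc 120, 20), (.negSucc 120,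
  23), (.ofNat 121, 31), (.ofNat 121, 41), (.ofNat 122, 44), (.negSucc 120, 52), (.negSucc 60, 56)]))

/-- a certificate -/
noncomputable def c61 : Hd × Tr :=
  ((6449725440, [], []), (.far (.ofNat 243) [(.ofNat 122, 1), (.negSucc 120, 8), (.negSucc 120, 20), (.negSucc 120,
  23), (.ofNat 121, 31), (.ofNat 121, 41), (.ofNat 122, 44), (.negSucc 120, 52), (.negSucc 60, 56)]))

/-- a certificate -/
noncomputable def c62 : Hd × Tr :=
  ((6019743744, [], []), (.far (.ofNat 81) [(.negSucc 80, 8), (.ofNat 81, 41), (.ofNat 81, 44), (.negSucc 80, 51),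
  (.negSucc 39, 56)]))

/-- a certificate -/
noncomputable def c63 : Hd × Tr :=
  ((5643509760, [], []), (.far (.ofNat 81) [(.negSucc 80, 8), (.ofNat 81, 41), (.ofNat 81, 44), (.negSucc 80, 51),
  (.negSucc 40, 56)]))

/-- a certificate -/
noncomputable def c64 : Hd × Tr :=
  ((5374771200, [], []), (.far (.ofNat 243) [(.ofNat 122, 1), (.negSucc 120, 8), (.negSucc 120, 20), (.negSucc 120,
  23), (.ofNat 121, 31), (.ofNat 121, 41), (.ofNat 122, 44), (.negSucc 120, 52), (.negSucc 60, 56)]))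

/-- a certificate -/
noncomputable def c65 : Hd × Tr :=
  ((5016453120, [], []), (.far (.ofNat 81) [(.negSucc 80, 8), (.ofNat 81, 41), (.ofNat 81, 44), (.negSucc 80, 51),
  (.negSucc 40, 56)]))

/-- a certificate -/
noncomputable def c66 : Hd × Tr :=
  ((4514807808, [], []), (.far (.ofNat 25) [(.negSucc 4, 7), (.ofNat 24, 10), (.negSucc 18, 11), (.negSucc 26, 12),
  (.negSucc 0, 14), (.negSucc 4, 16), (.negSucc 0, 17), (.negSucc 16, 19), (.ofNat 19, 20), (.negSucc 7, 22), (.ofNat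
  1, 23), (.negSucc 26, 25), (.ofNat 81, 26), (.ofNat 8, 27), (.ofNat 1, 28), (.ofNat 1, 29), (.ofNat 4, 30),
  (.negSucc 28, 31), (.ofNat 27, 32), (.negSucc 5, 34), (.ofNat 3, 36), (.ofNat 55, 38), (.negSucc 16, 39), (.negSucc
  23, 42), (.negSucc 27, 43), (.negSucc 10, 44), (.ofNat 35, 45), (.negSucc 23, 47), (.ofNat 26, 48), (.ofNat 4, 49),
  (.ofNat 3, 50), (.negSucc 13, 51), (.ofNat 61, 52), (.ofNat 11, 53), (.negSucc 0, 57), (.negSucc 3, 58)]))

/-- a certificate -/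
noncomputable def c67 : Hd × Tr :=
  ((4299816960, [], []), (.far (.ofNat 1) [(.ofNat 1, 1), (.negSucc 0, 20), (.negSucc 0, 23), (.ofNat 1, 31), (.ofNat
  1, 51), (.negSucc 0, 52)]))

/-- a certificate -/
noncomputable def c68 : Hd × Tr :=
  ((4031078400, [], []), (.far (.ofNat 1) [(.ofNat 1, 1), (.negSucc 0, 20), (.negSucc 0, 23), (.ofNat 1, 31), (.ofNat
  1, 51), (.negSucc 0, 52)]))

/-- a certificate -/
noncomputable def c69 : Hd × Tr :=
  ((3583180800, [], []), (.far (.ofNat 1) [(.ofNat 1, 1), (.negSucc 0, 20), (.negSucc 0, 23), (.ofNat 1, 31), (.ofNat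
  1, 51), (.negSucc 0, 52)]))

/-- a certificate -/
noncomputable def c70 : Hd × Tr :=
  ((3344302080, [], []), (.far (.negSucc 121) [(.negSucc 60, 9), (.negSucc 60, 10), (.negSucc 60, 11), (.negSucc 60,
  16), (.negSucc 60, 17), (.ofNat 61, 18), (.negSucc 60, 19), (.ofNat 61, 20), (.negSucc 60, 25), (.ofNat 243, 26),
  (.ofNat 61, 27), (.ofNat 61, 30), (.negSucc 181, 31), (.ofNat 61, 32), (.negSucc 60, 34), (.ofNat 61, 35),
  (.negSucc 121, 37), (.ofNat 122, 38), (.ofNat 61, 39), (.negSucc 60, 41), (.negSucc 60, 42), (.ofNat 122, 44),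
  (.ofNat 61, 45), (.negSucc 60, 46), (.ofNat 61, 48), (.negSucc 60, 50), (.negSucc 60, 51), (.ofNat 30, 53)]))

/-- a certificate -/
noncomputable def c71 : Hd × Tr :=
  ((3224862720, [], []), (.far (.ofNat 1) [(.ofNat 1, 1), (.negSucc 0, 20), (.negSucc 0, 23), (.ofNat 1, 31), (.ofNat
  1, 51), (.negSucc 0, 52)]))

/-- a certificate -/
noncomputable def c72 : Hd × Tr :=
  ((3009871872, [], []), (.far (.ofNat 243) [(.ofNat 122, 2), (.ofNat 122, 4), (.ofNat 122, 10), (.negSucc 121, 12),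
  (.negSucc 120, 25), (.ofNat 243, 26), (.negSucc 121, 31), (.ofNat 122, 38), (.negSucc 121, 39), (.negSucc 121, 41),
  (.negSucc 120, 44), (.negSucc 120, 47), (.ofNat 122, 50), (.ofNat 122, 52), (.ofNat 61, 53)]))

/-- a certificate -/
noncomputable def c73 : Hd × Tr :=
  ((2821754880, [], []), (.far (.negSucc 364) [(.negSucc 181, 9), (.negSucc 181, 10), (.negSucc 181, 11), (.negSucc
  181, 16), (.negSucc 181, 17), (.ofNat 182, 18), (.negSucc 181, 19), (.ofNat 182, 20), (.negSucc 181, 25), (.ofNat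
  729, 26), (.ofNat 182, 27), (.ofNat 182, 30), (.negSucc 546, 31), (.ofNat 182, 32), (.negSucc 181, 34), (.ofNat
  182, 35), (.negSucc 364, 37), (.ofNat 365, 38), (.ofNat 182, 39), (.negSucc 181, 41), (.negSucc 181, 42), (.ofNat
  365, 44), (.ofNat 182, 45), (.negSucc 181, 46), (.ofNat 182, 48), (.negSucc 181, 50), (.negSucc 181, 51), (.ofNat
  91, 53)]))

/-- a certificate -/
noncomputable def c74 : Hd × Tr :=
  ((2687385600, [], []), (.far (.ofNat 1) [(.ofNat 1, 1), (.negSucc 0, 20), (.negSucc 0, 23), (.ofNat 1, 31), (.ofNat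
  1, 51), (.negSucc 0, 52)]))

/-- a certificate -/
noncomputable def c75 : Hd × Tr :=
  ((2579890176, [], []), (.far (.ofNat 1) [(.ofNat 1, 1), (.negSucc 0, 20), (.negSucc 0, 23), (.ofNat 1, 31), (.ofNat
  1, 51), (.negSucc 0, 52)]))

/-- a certificate -/
noncomputable def c76 : Hd × Tr :=
  ((2388787200, [], []), (.far (.ofNat 1) [(.ofNat 1, 1), (.negSucc 0, 20), (.negSucc 0, 23), (.ofNat 1, 31), (.ofNat
  1, 51), (.negSucc 0, 52)]))

/-- a certificate -/
noncomputable def c77 : Hd × Tr :=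
  ((2257403904, [], []), (.far (.ofNat 85) [(.ofNat 28, 4), (.ofNat 71, 10), (.negSucc 52, 11), (.negSucc 98, 12),
  (.negSucc 9, 14), (.negSucc 13, 16), (.negSucc 1, 17), (.negSucc 57, 19), (.ofNat 55, 20), (.negSucc 21, 22),
  (.negSucc 92, 25), (.ofNat 243, 26), (.ofNat 9, 27), (.ofNat 7, 29), (.ofNat 2, 30), (.negSucc 61, 31), (.ofNat 67,
  32), (.negSucc 4, 33), (.negSucc 17, 34), (.ofNat 7, 36), (.ofNat 150, 38), (.negSucc 42, 39), (.negSucc 2, 40),
  (.negSucc 54, 42), (.negSucc 50, 43), (.negSucc 33, 44), (.ofNat 90, 45), (.negSucc 69, 47), (.ofNat 66, 48),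
  (.ofNat 15, 49), (.ofNat 8, 50), (.negSucc 41, 51), (.ofNat 165, 52), (.ofNat 37, 53), (.negSucc 4, 57), (.negSucc
  11, 58)]))

/-- a certificate -/
noncomputable def c78 : Hd × Tr :=
  ((2149908480, [], []), (.far (.ofNat 1) [(.ofNat 1, 1), (.negSucc 0, 20), (.negSucc 0, 23), (.ofNat 1, 31), (.ofNat
  1, 51), (.negSucc 0, 52)]))

/-- a certificate -/
noncomputable def c79 : Hd × Tr :=
  ((2015539200, [], []), (.far (.ofNat 1) [(.ofNat 1, 1), (.negSucc 0, 20), (.negSucc 0, 23), (.ofNat 1, 31), (.ofNat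
  1, 51), (.negSucc 0, 52)]))

/-- a certificate -/
noncomputable def c80 : Hd × Tr :=
  ((2006581248, [], []), (.far (.ofNat 184) [(.ofNat 30, 2), (.ofNat 95, 4), (.ofNat 22, 5), (.ofNat 92, 10),
  (.negSucc 46, 11), (.negSucc 130, 12), (.ofNat 24, 13), (.negSucc 5, 14), (.negSucc 0, 16), (.negSucc 16, 19),
  (.ofNat 19, 20), (.negSucc 18, 22), (.ofNat 7, 23), (.negSucc 117, 25), (.ofNat 243, 26), (.negSucc 12, 30),
  (.negSucc 87, 31), (.ofNat 21, 32), (.negSucc 2, 33), (.ofNat 2, 36), (.ofNat 28, 37), (.ofNat 84, 38), (.negSucc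
  64, 39), (.negSucc 3, 40), (.negSucc 90, 41), (.negSucc 20, 42), (.negSucc 74, 44), (.negSucc 96, 47), (.ofNat 5,
  48), (.ofNat 3, 49), (.ofNat 151, 52), (.ofNat 54, 53), (.negSucc 2, 54), (.negSucc 0, 55), (.negSucc 3, 57),
  (.negSucc 25, 58)]))

/-- a certificate -/
noncomputable def c81 : Hd × Tr :=
  ((1881169920, [], []), (.far (.negSucc 728) [(.negSucc 461, 11), (.negSucc 26, 12), (.negSucc 89, 13), (.negSucc
  44, 14), (.negSucc 168, 16), (.negSucc 69, 17), (.ofNat 170, 18), (.negSucc 265, 19), (.ofNat 252, 20), (.ofNat 54,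
  21), (.negSucc 148, 22), (.negSucc 4, 23), (.negSucc 138, 24), (.negSucc 67, 25), (.ofNat 474, 26), (.ofNat 308,
  27), (.negSucc 3, 28), (.ofNat 36, 29), (.ofNat 132, 30), (.negSucc 360, 31), (.ofNat 228, 32), (.ofNat 54, 33),
  (.negSucc 139, 34), (.ofNat 166, 35), (.negSucc 33, 36), (.negSucc 89, 37), (.ofNat 490, 38), (.ofNat 108, 39),
  (.ofNat 166, 41), (.negSucc 262, 42), (.negSucc 218, 43), (.ofNat 327, 44), (.ofNat 234, 45), (.negSucc 132, 46),
  (.ofNat 29, 47), (.ofNat 441, 48), (.negSucc 604, 50), (.negSucc 225, 51), (.ofNat 521, 52), (.ofNat 40, 53),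
  (.negSucc 72, 54), (.negSucc 38, 55), (.negSucc 33, 56), (.negSucc 16, 57), (.negSucc 172, 58)]))

/-- a certificate -/
noncomputable def c82 : Hd × Tr :=
  ((1791590400, [], []), (.far (.ofNat 1) [(.ofNat 1, 1), (.negSucc 0, 20), (.negSucc 0, 23), (.ofNat 1, 31), (.ofNat
  1, 51), (.negSucc 0, 52)]))

/-- a certificate -/
noncomputable def c83 : Hd × Tr :=
  ((1672151040, [], []), (.far (.negSucc 2186) [(.negSucc 1433, 11), (.negSucc 135, 12), (.negSucc 159, 13),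
  (.negSucc 490, 14), (.negSucc 84, 15), (.negSucc 515, 16), (.negSucc 402, 17), (.ofNat 301, 18), (.negSucc 743,
  19), (.ofNat 889, 20), (.negSucc 388, 22), (.negSucc 150, 23), (.negSucc 454, 24), (.negSucc 163, 25), (.ofNat
  1427, 26), (.ofNat 989, 27), (.negSucc 123, 28), (.ofNat 180, 29), (.ofNat 550, 30), (.negSucc 895, 31), (.ofNat
  803, 32), (.ofNat 194, 33), (.negSucc 258, 34), (.ofNat 563, 35), (.negSucc 67, 36), (.negSucc 118, 37), (.ofNat
  1423, 38), (.ofNat 344, 39), (.negSucc 247, 40), (.ofNat 818, 41), (.negSucc 639, 42), (.negSucc 707, 43), (.ofNat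
  1132, 44), (.ofNat 882, 45), (.negSucc 162, 46), (.ofNat 184, 47), (.ofNat 1569, 48), (.negSucc 1664, 50),
  (.negSucc 675, 51), (.ofNat 1655, 52), (.ofNat 90, 53), (.negSucc 319, 54), (.ofNat 11, 55), (.negSucc 55, 56),
  (.negSucc 123, 57), (.negSucc 603, 58)]))

/-- a certificate -/
noncomputable def c84 : Hd × Tr :=
  ((1612431360, [], []), (.far (.ofNat 1) [(.ofNat 1, 1), (.negSucc 0, 20), (.negSucc 0, 23), (.ofNat 1, 31), (.ofNat
  1, 51), (.negSucc 0, 52)]))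

/-- a certificate -/
noncomputable def c85 : Hd × Tr :=
  ((1504935936, [], []), (.far (.ofNat 120) [(.ofNat 72, 4), (.ofNat 14, 5), (.ofNat 68, 10), (.negSucc 29, 11),
  (.negSucc 113, 12), (.ofNat 17, 13), (.negSucc 10, 16), (.negSucc 5, 19), (.ofNat 28, 20), (.negSucc 26, 22),
  (.ofNat 18, 23), (.negSucc 103, 25), (.ofNat 243, 26), (.ofNat 8, 27), (.ofNat 8, 29), (.negSucc 101, 31), (.ofNat
  34, 32), (.negSucc 8, 33), (.negSucc 11, 34), (.ofNat 8, 36), (.ofNat 74, 38), (.negSucc 30, 39), (.negSucc 0, 40),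
  (.negSucc 77, 41), (.negSucc 31, 42), (.negSucc 14, 44), (.ofNat 11, 45), (.ofNat 4, 46), (.negSucc 57, 47),
  (.ofNat 16, 48), (.ofNat 9, 49), (.ofNat 96, 52), (.ofNat 47, 53), (.ofNat 1, 55), (.negSucc 0, 57), (.negSucc 9,
  58)]))

/-- a certificate -/
noncomputable def c86 : Hd × Tr :=
  ((1433272320, [], []), (.far (.ofNat 1) [(.ofNat 1, 1), (.negSucc 0, 20), (.negSucc 0, 23), (.ofNat 1, 31), (.ofNat
  1, 51), (.negSucc 0, 52)]))

/-- a certificate -/
noncomputable def c87 : Hd × Tr :=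
  ((1343692800, [], []), (.far (.ofNat 1) [(.ofNat 1, 1), (.negSucc 0, 20), (.negSucc 0, 23), (.ofNat 1, 31), (.ofNat
  1, 51), (.negSucc 0, 52)]))

/-- a certificate -/
noncomputable def c88 : Hd × Tr :=
  ((1289945088, [], []), (.far (.ofNat 1) [(.ofNat 1, 1), (.negSucc 0, 20), (.negSucc 0, 23), (.ofNat 1, 31), (.ofNat
  1, 51), (.negSucc 0, 52)]))

/-- a certificate -/
noncomputable def c89 : Hd × Tr :=
  ((1194393600, [], []), (.far (.ofNat 1) [(.ofNat 1, 1), (.negSucc 0, 20), (.negSucc 0, 23), (.ofNat 1, 31), (.ofNat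
  1, 51), (.negSucc 0, 52)]))

/-- a certificate -/
noncomputable def c90 : Hd × Tr :=
  ((1128701952, [], []), (.far (.ofNat 1) [(.ofNat 1, 2), (.ofNat 1, 10), (.ofNat 1, 38), (.negSucc 0, 39), (.negSucc
  0, 43), (.negSucc 0, 44), (.negSucc 0, 47), (.ofNat 1, 50), (.ofNat 1, 52)]))

/-- a certificate -/
noncomputable def c91 : Hd × Tr :=
  ((1074954240, [], []), (.far (.ofNat 1) [(.ofNat 1, 1), (.negSucc 0, 20), (.negSucc 0, 23), (.ofNat 1, 31), (.ofNat
  1, 51), (.negSucc 0, 52)]))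

/-- a certificate -/
noncomputable def c92 : Hd × Tr :=
  ((1007769600, [], []), (.far (.ofNat 1) [(.ofNat 1, 1), (.negSucc 0, 20), (.negSucc 0, 23), (.ofNat 1, 31), (.ofNat
  1, 51), (.negSucc 0, 52)]))

/-- certificates -/
noncomputable def CL2 : List (Hd × Tr) :=
  [c60, c61, c62, c63, c64, c65, c66, c67, c68, c69, c70, c71, c72, c73, c74, c75, c76, c77, c78, c79, c80, c81, c82,
  c83, c84, c85, c86, c87, c88, c89, c90, c91, c92]

theorem okC2 : okL TAB.F22.dat (TAB.Sm2.mkRows TAB.F22.rowA TAB.F22.rowB) P Z CL2 = true := by decide +kernel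

end Cfsg.Agent.SM.Sp.NFi22
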