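import Cfsg.Agent.SM.Sp.NFi22D

/-!
# SM (S3570), sporadic socles: Fi22, certificates (helper26; generated by notes/SM/sp26/gen2.py.txt)
-/

set_option autoImplicit false
set_option Elab.async false

namespace Cfsg.Agent.SM.Sp.NFi22

open Cfsg Cfsg.Agent.TAB.Eng Cfsg.Agent.H940.Eng Cfsg.Agent.TH.Spor

/-- a certificate -/
noncomputable def c93 : Hd × Tr :=
  ((1003290624, [], []), (.far (.ofNat 31) [(.ofNat 134, 10), (.ofNat 75, 13), (.negSucc 43, 16), (.negSucc 41, 17),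
  (.ofNat 49, 18), (.negSucc 88, 19), (.ofNat 61, 20), (.negSucc 68, 22), (.ofNat 2, 23), (.negSucc 54, 25), (.ofNat
  218, 26), (.ofNat 25, 27), (.ofNat 13, 29), (.ofNat 10, 30), (.negSucc 61, 31), (.ofNat 120, 32), (.negSucc 39,
  34), (.negSucc 37, 35), (.ofNat 22, 37), (.ofNat 214, 38), (.negSucc 58, 39), (.ofNat 2, 40), (.negSucc 75, 42),
  (.negSucc 186, 43), (.negSucc 43, 44), (.ofNat 75, 45), (.negSucc 0, 46), (.negSucc 137, 47), (.ofNat 70, 48),
  (.ofNat 3, 49), (.ofNat 19, 50), (.ofNat 243, 52), (.ofNat 9, 53), (.ofNat 3, 55), (.ofNat 1, 56), (.negSucc 7,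
  57), (.negSucc 8, 58)]))

/-- a certificate -/
noncomputable def c94 : Hd × Tr :=
  ((895795200, [], []), (.far (.ofNat 1) [(.ofNat 1, 1), (.negSucc 0, 20), (.negSucc 0, 23), (.ofNat 1, 31), (.ofNat
  1, 51), (.negSucc 0, 52)]))

/-- a certificate -/
noncomputable def c95 : Hd × Tr :=
  ((859963392, [], []), (.far (.ofNat 1) [(.ofNat 1, 1), (.negSucc 0, 20), (.negSucc 0, 23), (.ofNat 1, 31), (.ofNat
  1, 51), (.negSucc 0, 52)]))

/-- a certificate -/
noncomputable def c96 : Hd × Tr :=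
  ((806215680, [], []), (.far (.ofNat 1) [(.ofNat 1, 1), (.negSucc 0, 20), (.negSucc 0, 23), (.ofNat 1, 31), (.ofNat
  1, 51), (.negSucc 0, 52)]))

/-- a certificate -/
noncomputable def c97 : Hd × Tr :=
  ((796262400, [], []), (.far (.ofNat 1) [(.ofNat 1, 1), (.negSucc 0, 20), (.negSucc 0, 23), (.ofNat 1, 31), (.ofNat
  1, 51), (.negSucc 0, 52)]))

/-- a certificate -/
noncomputable def c98 : Hd × Tr :=
  ((752467968, [], []), (.far (.ofNat 1) [(.ofNat 1, 2), (.ofNat 1, 10), (.ofNat 1, 38), (.negSucc 0, 39), (.negSucc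
  0, 43), (.negSucc 0, 44), (.negSucc 0, 47), (.ofNat 1, 50), (.ofNat 1, 52)]))

/-- a certificate -/
noncomputable def c99 : Hd × Tr :=
  ((716636160, [], []), (.far (.ofNat 1) [(.ofNat 1, 1), (.negSucc 0, 20), (.negSucc 0, 23), (.ofNat 1, 31), (.ofNat
  1, 51), (.negSucc 0, 52)]))

/-- a certificate -/
noncomputable def c100 : Hd × Tr :=
  ((671846400, [], []), (.far (.ofNat 1) [(.ofNat 1, 1), (.negSucc 0, 20), (.negSucc 0, 23), (.ofNat 1, 31), (.ofNat
  1, 51), (.negSucc 0, 52)]))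

/-- a certificate -/
noncomputable def c101 : Hd × Tr :=
  ((668860416, [], []), (.far (.ofNat 1) [(.ofNat 1, 2), (.ofNat 1, 10), (.ofNat 1, 38), (.negSucc 0, 39), (.negSucc
  0, 43), (.negSucc 0, 44), (.negSucc 0, 47), (.ofNat 1, 50), (.ofNat 1, 52)]))

/-- a certificate -/
noncomputable def c102 : Hd × Tr :=
  ((644972544, [], []), (.far (.ofNat 1) [(.ofNat 1, 1), (.negSucc 0, 20), (.negSucc 0, 23), (.ofNat 1, 31), (.ofNat
  1, 51), (.negSucc 0, 52)]))

/-- a certificate -/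
noncomputable def c103 : Hd × Tr :=
  ((597196800, [], []), (.far (.ofNat 1) [(.ofNat 1, 1), (.negSucc 0, 20), (.negSucc 0, 23), (.ofNat 1, 31), (.ofNat
  1, 51), (.negSucc 0, 52)]))

/-- a certificate -/
noncomputable def c104 : Hd × Tr :=
  ((564350976, [], []), (.far (.ofNat 0) [(.ofNat 142, 10), (.ofNat 39, 13), (.ofNat 30, 20), (.negSucc 81, 22),
  (.ofNat 26, 23), (.negSucc 7, 24), (.negSucc 42, 25), (.ofNat 157, 26), (.ofNat 37, 27), (.ofNat 7, 28), (.negSucc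
  0, 29), (.negSucc 4, 30), (.negSucc 33, 31), (.ofNat 99, 32), (.negSucc 16, 34), (.negSucc 26, 35), (.negSucc 14,
  36), (.ofNat 14, 37), (.ofNat 176, 38), (.negSucc 102, 39), (.ofNat 12, 40), (.negSucc 15, 41), (.negSucc 89, 42),
  (.negSucc 226, 43), (.negSucc 119, 44), (.ofNat 53, 45), (.negSucc 159, 47), (.ofNat 53, 48), (.ofNat 20, 50),
  (.ofNat 20, 51), (.ofNat 243, 52), (.negSucc 0, 54), (.ofNat 6, 55), (.ofNat 15, 56), (.negSucc 11, 57), (.negSucc
  13, 58)]))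

/-- a certificate -/
noncomputable def c105 : Hd × Tr :=
  ((537477120, [], []), (.far (.ofNat 1236) [(.ofNat 615, 4), (.ofNat 1159, 10), (.ofNat 3659, 11), (.ofNat 358, 13),
  (.ofNat 584, 14), (.ofNat 721, 15), (.ofNat 620, 18), (.ofNat 579, 21), (.ofNat 2051, 22), (.negSucc 3003, 23),
  (.ofNat 1902, 24), (.ofNat 231, 25), (.negSucc 2223, 26), (.ofNat 3772, 27), (.ofNat 1209, 28), (.negSucc 651, 29),
  (.ofNat 1213, 30), (.ofNat 8666, 31), (.ofNat 3001, 32), (.ofNat 855, 33), (.ofNat 2079, 34), (.ofNat 6557, 35),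
  (.ofNat 5646, 36), (.ofNat 4986, 37), (.ofNat 4210, 38), (.ofNat 8483, 39), (.ofNat 9650, 40), (.ofNat 5789, 41),
  (.ofNat 2455, 42), (.ofNat 7182, 43), (.ofNat 11061, 44), (.ofNat 4521, 45), (.ofNat 13100, 46), (.ofNat 11099,
  47), (.ofNat 17415, 48), (.ofNat 10496, 49), (.ofNat 19683, 50), (.ofNat 12267, 51), (.ofNat 7819, 52), (.ofNat
  1254, 53), (.ofNat 4207, 54), (.ofNat 1689, 55), (.ofNat 3863, 56), (.ofNat 2079, 57), (.ofNat 5204, 58)]))

/-- a certificate -/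
noncomputable def c106 : Hd × Tr :=
  ((503884800, [], []), (.far (.ofNat 1236) [(.ofNat 615, 4), (.ofNat 1159, 10), (.ofNat 3659, 11), (.ofNat 358, 13),
  (.ofNat 584, 14), (.ofNat 721, 15), (.ofNat 620, 18), (.ofNat 579, 21), (.ofNat 2051, 22), (.negSucc 3003, 23),
  (.ofNat 1902, 24), (.ofNat 231, 25), (.negSucc 2223, 26), (.ofNat 3772, 27), (.ofNat 1209, 28), (.negSucc 651, 29),
  (.ofNat 1213, 30), (.ofNat 8666, 31), (.ofNat 3001, 32), (.ofNat 855, 33), (.ofNat 2079, 34), (.ofNat 6557, 35),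
  (.ofNat 5646, 36), (.ofNat 4986, 37), (.ofNat 4210, 38), (.ofNat 8483, 39), (.ofNat 9650, 40), (.ofNat 5789, 41),
  (.ofNat 2455, 42), (.ofNat 7182, 43), (.ofNat 11061, 44), (.ofNat 4521, 45), (.ofNat 13100, 46), (.ofNat 11099,
  47), (.ofNat 17415, 48), (.ofNat 10496, 49), (.ofNat 19683, 50), (.ofNat 12267, 51), (.ofNat 7819, 52), (.ofNat
  1254, 53), (.ofNat 4207, 54), (.ofNat 1689, 55), (.ofNat 3863, 56), (.ofNat 2079, 57), (.ofNat 5204, 58)]))

/-- a certificate -/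
noncomputable def c107 : Hd × Tr :=
  ((501645312, [], []), (.far (.ofNat 163) [(.ofNat 45, 5), (.ofNat 457, 10), (.ofNat 190, 13), (.ofNat 59, 20),
  (.negSucc 247, 22), (.ofNat 104, 23), (.negSucc 98, 25), (.ofNat 312, 26), (.ofNat 2, 27), (.ofNat 114, 28),
  (.negSucc 13, 30), (.negSucc 44, 31), (.ofNat 263, 32), (.negSucc 26, 33), (.negSucc 4, 35), (.negSucc 33, 36),
  (.ofNat 71, 37), (.ofNat 413, 38), (.negSucc 321, 39), (.ofNat 9, 40), (.negSucc 62, 41), (.negSucc 118, 42),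
  (.negSucc 550, 43), (.negSucc 360, 44), (.ofNat 66, 45), (.ofNat 33, 46), (.negSucc 396, 47), (.ofNat 173, 48),
  (.ofNat 110, 50), (.ofNat 118, 51), (.ofNat 729, 52), (.negSucc 2, 53), (.negSucc 16, 54), (.ofNat 20, 55), (.ofNat
  63, 56), (.negSucc 19, 57), (.negSucc 42, 58)]))

/-- a certificate -/
noncomputable def c108 : Hd × Tr :=
  ((477757440, [], []), (.far (.ofNat 1236) [(.ofNat 615, 4), (.ofNat 1159, 10), (.ofNat 3659, 11), (.ofNat 358, 13),
  (.ofNat 584, 14), (.ofNat 721, 15), (.ofNat 620, 18), (.ofNat 579, 21), (.ofNat 2051, 22), (.negSucc 3003, 23),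
  (.ofNat 1902, 24), (.ofNat 231, 25), (.negSucc 2223, 26), (.ofNat 3772, 27), (.ofNat 1209, 28), (.negSucc 651, 29),
  (.ofNat 1213, 30), (.ofNat 8666, 31), (.ofNat 3001, 32), (.ofNat 855, 33), (.ofNat 2079, 34), (.ofNat 6557, 35),
  (.ofNat 5646, 36), (.ofNat 4986, 37), (.ofNat 4210, 38), (.ofNat 8483, 39), (.ofNat 9650, 40), (.ofNat 5789, 41),
  (.ofNat 2455, 42), (.ofNat 7182, 43), (.ofNat 11061, 44), (.ofNat 4521, 45), (.ofNat 13100, 46), (.ofNat 11099,
  47), (.ofNat 17415, 48), (.ofNat 10496, 49), (.ofNat 19683, 50), (.ofNat 12267, 51), (.ofNat 7819, 52), (.ofNat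
  1254, 53), (.ofNat 4207, 54), (.ofNat 1689, 55), (.ofNat 3863, 56), (.ofNat 2079, 57), (.ofNat 5204, 58)]))

/-- a certificate -/
noncomputable def c109 : Hd × Tr :=
  ((447897600, [], []), (.far (.ofNat 1236) [(.ofNat 615, 4), (.ofNat 1159, 10), (.ofNat 3659, 11), (.ofNat 358, 13),
  (.ofNat 584, 14), (.ofNat 721, 15), (.ofNat 620, 18), (.ofNat 579, 21), (.ofNat 2051, 22), (.negSucc 3003, 23),
  (.ofNat 1902, 24), (.ofNat 231, 25), (.negSucc 2223, 26), (.ofNat 3772, 27), (.ofNat 1209, 28), (.negSucc 651, 29),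
  (.ofNat 1213, 30), (.ofNat 8666, 31), (.ofNat 3001, 32), (.ofNat 855, 33), (.ofNat 2079, 34), (.ofNat 6557, 35),
  (.ofNat 5646, 36), (.ofNat 4986, 37), (.ofNat 4210, 38), (.ofNat 8483, 39), (.ofNat 9650, 40), (.ofNat 5789, 41),
  (.ofNat 2455, 42), (.ofNat 7182, 43), (.ofNat 11061, 44), (.ofNat 4521, 45), (.ofNat 13100, 46), (.ofNat 11099,
  47), (.ofNat 17415, 48), (.ofNat 10496, 49), (.ofNat 19683, 50), (.ofNat 12267, 51), (.ofNat 7819, 52), (.ofNat
  1254, 53), (.ofNat 4207, 54), (.ofNat 1689, 55), (.ofNat 3863, 56), (.ofNat 2079, 57), (.ofNat 5204, 58)]))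

/-- a certificate -/
noncomputable def c110 : Hd × Tr :=
  ((429981696, [], []), (.far (.ofNat 1) [(.ofNat 1, 2), (.ofNat 1, 10), (.ofNat 1, 38), (.negSucc 0, 39), (.negSucc
  0, 43), (.negSucc 0, 44), (.negSucc 0, 47), (.ofNat 1, 50), (.ofNat 1, 52)]))

/-- a certificate -/
noncomputable def c111 : Hd × Tr :=
  ((403107840, [], []), (.far (.ofNat 1236) [(.ofNat 615, 4), (.ofNat 1159, 10), (.ofNat 3659, 11), (.ofNat 358, 13),
  (.ofNat 584, 14), (.ofNat 721, 15), (.ofNat 620, 18), (.ofNat 579, 21), (.ofNat 2051, 22), (.negSucc 3003, 23),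
  (.ofNat 1902, 24), (.ofNat 231, 25), (.negSucc 2223, 26), (.ofNat 3772, 27), (.ofNat 1209, 28), (.negSucc 651, 29),
  (.ofNat 1213, 30), (.ofNat 8666, 31), (.ofNat 3001, 32), (.ofNat 855, 33), (.ofNat 2079, 34), (.ofNat 6557, 35),
  (.ofNat 5646, 36), (.ofNat 4986, 37), (.ofNat 4210, 38), (.ofNat 8483, 39), (.ofNat 9650, 40), (.ofNat 5789, 41),
  (.ofNat 2455, 42), (.ofNat 7182, 43), (.ofNat 11061, 44), (.ofNat 4521, 45), (.ofNat 13100, 46), (.ofNat 11099,
  47), (.ofNat 17415, 48), (.ofNat 10496, 49), (.ofNat 19683, 50), (.ofNat 12267, 51), (.ofNat 7819, 52), (.ofNat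
  1254, 53), (.ofNat 4207, 54), (.ofNat 1689, 55), (.ofNat 3863, 56), (.ofNat 2079, 57), (.ofNat 5204, 58)]))

/-- a certificate -/
noncomputable def c112 : Hd × Tr :=
  ((398131200, [], []), (.far (.ofNat 1236) [(.ofNat 615, 4), (.ofNat 1159, 10), (.ofNat 3659, 11), (.ofNat 358, 13),
  (.ofNat 584, 14), (.ofNat 721, 15), (.ofNat 620, 18), (.ofNat 579, 21), (.ofNat 2051, 22), (.negSucc 3003, 23),
  (.ofNat 1902, 24), (.ofNat 231, 25), (.negSucc 2223, 26), (.ofNat 3772, 27), (.ofNat 1209, 28), (.negSucc 651, 29),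
  (.ofNat 1213, 30), (.ofNat 8666, 31), (.ofNat 3001, 32), (.ofNat 855, 33), (.ofNat 2079, 34), (.ofNat 6557, 35),
  (.ofNat 5646, 36), (.ofNat 4986, 37), (.ofNat 4210, 38), (.ofNat 8483, 39), (.ofNat 9650, 40), (.ofNat 5789, 41),
  (.ofNat 2455, 42), (.ofNat 7182, 43), (.ofNat 11061, 44), (.ofNat 4521, 45), (.ofNat 13100, 46), (.ofNat 11099,
  47), (.ofNat 17415, 48), (.ofNat 10496, 49), (.ofNat 19683, 50), (.ofNat 12267, 51), (.ofNat 7819, 52), (.ofNat
  1254, 53), (.ofNat 4207, 54), (.ofNat 1689, 55), (.ofNat 3863, 56), (.ofNat 2079, 57), (.ofNat 5204, 58)]))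

/-- a certificate -/
noncomputable def c113 : Hd × Tr :=
  ((376233984, [], []), (.far (.ofNat 1) [(.ofNat 1, 2), (.ofNat 1, 10), (.ofNat 1, 38), (.negSucc 0, 39), (.negSucc
  0, 43), (.negSucc 0, 44), (.negSucc 0, 47), (.ofNat 1, 50), (.ofNat 1, 52)]))

/-- a certificate -/
noncomputable def c114 : Hd × Tr :=
  ((358318080, [], []), (.far (.ofNat 1236) [(.ofNat 615, 4), (.ofNat 1159, 10), (.ofNat 3659, 11), (.ofNat 358, 13),
  (.ofNat 584, 14), (.ofNat 721, 15), (.ofNat 620, 18), (.ofNat 579, 21), (.ofNat 2051, 22), (.negSucc 3003, 23),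
  (.ofNat 1902, 24), (.ofNat 231, 25), (.negSucc 2223, 26), (.ofNat 3772, 27), (.ofNat 1209, 28), (.negSucc 651, 29),
  (.ofNat 1213, 30), (.ofNat 8666, 31), (.ofNat 3001, 32), (.ofNat 855, 33), (.ofNat 2079, 34), (.ofNat 6557, 35),
  (.ofNat 5646, 36), (.ofNat 4986, 37), (.ofNat 4210, 38), (.ofNat 8483, 39), (.ofNat 9650, 40), (.ofNat 5789, 41),
  (.ofNat 2455, 42), (.ofNat 7182, 43), (.ofNat 11061, 44), (.ofNat 4521, 45), (.ofNat 13100, 46), (.ofNat 11099,
  47), (.ofNat 17415, 48), (.ofNat 10496, 49), (.ofNat 19683, 50), (.ofNat 12267, 51), (.ofNat 7819, 52), (.ofNat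
  1254, 53), (.ofNat 4207, 54), (.ofNat 1689, 55), (.ofNat 3863, 56), (.ofNat 2079, 57), (.ofNat 5204, 58)]))

/-- certificates -/
noncomputable def CL3 : List (Hd × Tr) :=
  [c93, c94, c95, c96, c97, c98, c99, c100, c101, c102, c103, c104, c105, c106, c107, c108, c109, c110, c111, c112,
  c113, c114]

theorem okC3 : okL TAB.F22.dat (TAB.Sm2.mkRows TAB.F22.rowA TAB.F22.rowB) P Z CL3 = true := by decide +kernel

/-- a certificate -/
noncomputable def c115 : Hd × Tr :=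
  ((335923200, [], []), (.far (.ofNat 1236) [(.ofNat 615, 4), (.ofNat 1159, 10), (.ofNat 3659, 11), (.ofNat 358, 13),
  (.ofNat 584, 14), (.ofNat 721, 15), (.ofNat 620, 18), (.ofNat 579, 21), (.ofNat 2051, 22), (.negSucc 3003, 23),
  (.ofNat 1902, 24), (.ofNat 231, 25), (.negSucc 2223, 26), (.ofNat 3772, 27), (.ofNat 1209, 28), (.negSucc 651, 29),
  (.ofNat 1213, 30), (.ofNat 8666, 31), (.ofNat 3001, 32), (.ofNat 855, 33), (.ofNat 2079, 34), (.ofNat 6557, 35),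
  (.ofNat 5646, 36), (.ofNat 4986, 37), (.ofNat 4210, 38), (.ofNat 8483, 39), (.ofNat 9650, 40), (.ofNat 5789, 41),
  (.ofNat 2455, 42), (.ofNat 7182, 43), (.ofNat 11061, 44), (.ofNat 4521, 45), (.ofNat 13100, 46), (.ofNat 11099,
  47), (.ofNat 17415, 48), (.ofNat 10496, 49), (.ofNat 19683, 50), (.ofNat 12267, 51), (.ofNat 7819, 52), (.ofNat
  1254, 53), (.ofNat 4207, 54), (.ofNat 1689, 55), (.ofNat 3863, 56), (.ofNat 2079, 57), (.ofNat 5204, 58)]))

/-- a certificate -/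
noncomputable def c116 : Hd × Tr :=
  ((334430208, [], []), (.far (.ofNat 1) [(.ofNat 1, 2), (.ofNat 1, 10), (.ofNat 1, 38), (.negSucc 0, 39), (.negSucc
  0, 43), (.negSucc 0, 44), (.negSucc 0, 47), (.ofNat 1, 50), (.ofNat 1, 52)]))

/-- a certificate -/
noncomputable def c117 : Hd × Tr :=
  ((322486272, [], []), (.far (.ofNat 1) [(.ofNat 1, 2), (.ofNat 1, 10), (.ofNat 1, 38), (.negSucc 0, 39), (.negSucc
  0, 43), (.negSucc 0, 44), (.negSucc 0, 47), (.ofNat 1, 50), (.ofNat 1, 52)]))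

/-- a certificate -/
noncomputable def c118 : Hd × Tr :=
  ((298598400, [], []), (.far (.ofNat 11120) [(.ofNat 5537, 4), (.ofNat 10431, 10), (.ofNat 32932, 11), (.ofNat 3225,
  13), (.ofNat 5257, 14), (.ofNat 6488, 15), (.ofNat 5583, 18), (.ofNat 5211, 21), (.ofNat 18461, 22), (.negSucc
  27031, 23), (.ofNat 17119, 24), (.ofNat 2083, 25), (.negSucc 20012, 26), (.ofNat 33948, 27), (.ofNat 10883, 28),
  (.negSucc 5871, 29), (.ofNat 10920, 30), (.ofNat 77996, 31), (.ofNat 27009, 32), (.ofNat 7695, 33), (.ofNat 18713,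
  34), (.ofNat 59009, 35), (.ofNat 50815, 36), (.ofNat 44877, 37), (.ofNat 37891, 38), (.ofNat 76351, 39), (.ofNat
  86847, 40), (.ofNat 52097, 41), (.ofNat 22092, 42), (.ofNat 64634, 43), (.ofNat 99547, 44), (.ofNat 40692, 45),
  (.ofNat 117896, 46), (.ofNat 99887, 47), (.ofNat 156738, 48), (.ofNat 94467, 49), (.ofNat 177147, 50), (.ofNat
  110406, 51), (.ofNat 70371, 52), (.ofNat 11283, 53), (.ofNat 37863, 54), (.ofNat 15198, 55), (.ofNat 34764, 56),
  (.ofNat 18713, 57), (.ofNat 46840, 58)]))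

/-- a certificate -/
noncomputable def c119 : Hd × Tr :=
  ((286654464, [], []), (.far (.ofNat 1) [(.ofNat 1, 2), (.ofNat 1, 10), (.ofNat 1, 38), (.negSucc 0, 39), (.negSucc
  0, 43), (.negSucc 0, 44), (.negSucc 0, 47), (.ofNat 1, 50), (.ofNat 1, 52)]))

/-- a certificate -/
noncomputable def c120 : Hd × Tr :=
  ((282175488, [], []), (.far (.ofNat 1) [(.ofNat 1, 2), (.ofNat 1, 10), (.ofNat 1, 38), (.negSucc 0, 39), (.negSucc
  0, 43), (.negSucc 0, 44), (.negSucc 0, 47), (.ofNat 1, 50), (.ofNat 1, 52)]))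

/-- a certificate -/
noncomputable def c121 : Hd × Tr :=
  ((265420800, [], []), (.far (.ofNat 10980) [(.ofNat 272, 3), (.ofNat 6202, 4), (.ofNat 10638, 10), (.ofNat 33670,
  11), (.ofNat 3479, 13), (.ofNat 5209, 14), (.ofNat 6527, 15), (.ofNat 5323, 18), (.ofNat 5271, 21), (.ofNat 18724,
  22), (.negSucc 28056, 23), (.ofNat 17063, 24), (.ofNat 1717, 25), (.negSucc 22285, 26), (.ofNat 34127, 27), (.ofNat
  10422, 28), (.negSucc 6956, 29), (.ofNat 10264, 30), (.ofNat 79001, 31), (.ofNat 26181, 32), (.ofNat 6786, 33),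
  (.ofNat 18065, 34), (.ofNat 59175, 35), (.ofNat 50760, 36), (.ofNat 45032, 37), (.ofNat 36604, 38), (.ofNat 76923,
  39), (.ofNat 87148, 40), (.ofNat 51247, 41), (.ofNat 20687, 42), (.ofNat 64116, 43), (.ofNat 99257, 44), (.ofNat
  37592, 45), (.ofNat 117638, 46), (.ofNat 98972, 47), (.ofNat 156746, 48), (.ofNat 92616, 49), (.ofNat 177147, 50),
  (.ofNat 108894, 51), (.ofNat 67494, 52), (.ofNat 11310, 53), (.ofNat 38220, 54), (.ofNat 14859, 55), (.ofNat 34684,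
  56), (.ofNat 18065, 57), (.ofNat 46310, 58)]))

/-- a certificate -/
noncomputable def c122 : Hd × Tr :=
  ((250822656, [], []), (.far (.ofNat 1) [(.ofNat 1, 2), (.ofNat 1, 10), (.ofNat 1, 38), (.negSucc 0, 39), (.negSucc
  0, 43), (.negSucc 0, 44), (.negSucc 0, 47), (.ofNat 1, 50), (.ofNat 1, 52)]))

/-- a certificate -/
noncomputable def c123 : Hd × Tr :=
  ((222953472, [], []), (.far (.ofNat 1) [(.ofNat 1, 2), (.ofNat 1, 10), (.ofNat 1, 38), (.negSucc 0, 39), (.negSucc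
  0, 43), (.negSucc 0, 44), (.negSucc 0, 47), (.ofNat 1, 50), (.ofNat 1, 52)]))

/-- a certificate -/
noncomputable def c124 : Hd × Tr :=
  ((214990848, [], []), (.far (.ofNat 1) [(.ofNat 1, 2), (.ofNat 1, 10), (.ofNat 1, 38), (.negSucc 0, 39), (.negSucc
  0, 43), (.negSucc 0, 44), (.negSucc 0, 47), (.ofNat 1, 50), (.ofNat 1, 52)]))

/-- a certificate -/
noncomputable def c125 : Hd × Tr :=
  ((188116992, [], []), (.far (.ofNat 1) [(.ofNat 1, 2), (.ofNat 1, 10), (.ofNat 1, 38), (.negSucc 0, 39), (.negSucc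
  0, 43), (.negSucc 0, 44), (.negSucc 0, 47), (.ofNat 1, 50), (.ofNat 1, 52)]))

/-- a certificate -/
noncomputable def c126 : Hd × Tr :=
  ((167215104, [], []), (.far (.ofNat 1) [(.ofNat 1, 2), (.ofNat 1, 10), (.ofNat 1, 38), (.negSucc 0, 39), (.negSucc
  0, 43), (.negSucc 0, 44), (.negSucc 0, 47), (.ofNat 1, 50), (.ofNat 1, 52)]))

/-- a certificate -/
noncomputable def c127 : Hd × Tr :=
  ((161243136, [], []), (.far (.ofNat 1) [(.ofNat 1, 2), (.ofNat 1, 10), (.ofNat 1, 38), (.negSucc 0, 39), (.negSucc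
  0, 43), (.negSucc 0, 44), (.negSucc 0, 47), (.ofNat 1, 50), (.ofNat 1, 52)]))

/-- a certificate -/
noncomputable def c128 : Hd × Tr :=
  ((143327232, [], []), (.far (.ofNat 1) [(.ofNat 1, 2), (.ofNat 1, 10), (.ofNat 1, 38), (.negSucc 0, 39), (.negSucc
  0, 43), (.negSucc 0, 44), (.negSucc 0, 47), (.ofNat 1, 50), (.ofNat 1, 52)]))

/-- a certificate -/
noncomputable def c129 : Hd × Tr :=
  ((125411328, [], []), (.far (.ofNat 1) [(.ofNat 1, 2), (.ofNat 1, 10), (.ofNat 1, 38), (.negSucc 0, 39), (.negSucc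
  0, 43), (.negSucc 0, 44), (.negSucc 0, 47), (.ofNat 1, 50), (.ofNat 1, 52)]))

/-- a certificate -/
noncomputable def c130 : Hd × Tr :=
  ((111476736, [], []), (.far (.ofNat 1) [(.ofNat 1, 2), (.ofNat 1, 10), (.ofNat 1, 38), (.negSucc 0, 39), (.negSucc
  0, 43), (.negSucc 0, 44), (.negSucc 0, 47), (.ofNat 1, 50), (.ofNat 1, 52)]))

/-- a certificate -/
noncomputable def c131 : Hd × Tr :=
  ((107495424, [], []), (.far (.ofNat 1) [(.ofNat 1, 2), (.ofNat 1, 10), (.ofNat 1, 38), (.negSucc 0, 39), (.negSucc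
  0, 43), (.negSucc 0, 44), (.negSucc 0, 47), (.ofNat 1, 50), (.ofNat 1, 52)]))

/-- a certificate -/
noncomputable def c132 : Hd × Tr :=
  ((95551488, [], []), (.far (.ofNat 1) [(.ofNat 1, 2), (.ofNat 1, 10), (.ofNat 1, 38), (.negSucc 0, 39), (.negSucc
  0, 43), (.negSucc 0, 44), (.negSucc 0, 47), (.ofNat 1, 50), (.ofNat 1, 52)]))

/-- a certificate -/
noncomputable def c133 : Hd × Tr :=
  ((94058496, [], []), (.far (.ofNat 1) [(.ofNat 1, 2), (.ofNat 1, 10), (.ofNat 1, 38), (.negSucc 0, 39), (.negSucc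
  0, 43), (.negSucc 0, 44), (.negSucc 0, 47), (.ofNat 1, 50), (.ofNat 1, 52)]))

/-- a certificate -/
noncomputable def c134 : Hd × Tr :=
  ((83607552, [], []), (.far (.ofNat 1) [(.ofNat 1, 2), (.ofNat 1, 10), (.ofNat 1, 38), (.negSucc 0, 39), (.negSucc
  0, 43), (.negSucc 0, 44), (.negSucc 0, 47), (.ofNat 1, 50), (.ofNat 1, 52)]))

/-- a certificate -/
noncomputable def c135 : Hd × Tr :=
  ((80621568, [], []), (.far (.ofNat 1) [(.ofNat 1, 2), (.ofNat 1, 10), (.ofNat 1, 38), (.negSucc 0, 39), (.negSucc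
  0, 43), (.negSucc 0, 44), (.negSucc 0, 47), (.ofNat 1, 50), (.ofNat 1, 52)]))

/-- a certificate -/
noncomputable def c136 : Hd × Tr :=
  ((74317824, [], []), (.far (.ofNat 1) [(.ofNat 1, 2), (.ofNat 1, 10), (.ofNat 1, 38), (.negSucc 0, 39), (.negSucc
  0, 43), (.negSucc 0, 44), (.negSucc 0, 47), (.ofNat 1, 50), (.ofNat 1, 52)]))

/-- a certificate -/
noncomputable def c137 : Hd × Tr :=
  ((71663616, [], []), (.far (.ofNat 1) [(.ofNat 1, 2), (.ofNat 1, 10), (.ofNat 1, 38), (.negSucc 0, 39), (.negSucc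
  0, 43), (.negSucc 0, 44), (.negSucc 0, 47), (.ofNat 1, 50), (.ofNat 1, 52)]))

/-- a certificate -/
noncomputable def c138 : Hd × Tr :=
  ((62705664, [], []), (.far (.ofNat 396) [(.ofNat 373, 2), (.ofNat 424, 3), (.ofNat 1194, 10), (.ofNat 711, 13),
  (.ofNat 371, 20), (.ofNat 58, 23), (.ofNat 206, 27), (.ofNat 315, 30), (.ofNat 411, 32), (.ofNat 4, 33), (.ofNat
  27, 34), (.ofNat 153, 36), (.ofNat 581, 37), (.ofNat 974, 38), (.ofNat 356, 40), (.ofNat 563, 41), (.negSucc 111,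
  42), (.negSucc 1615, 43), (.negSucc 232, 45), (.ofNat 442, 46), (.negSucc 1122, 47), (.ofNat 647, 48), (.ofNat 403,
  49), (.ofNat 1159, 50), (.ofNat 773, 51), (.ofNat 2187, 52), (.ofNat 159, 54), (.ofNat 105, 55), (.ofNat 156, 56),
  (.ofNat 66, 57), (.ofNat 47, 58)]))

/-- a certificate -/
noncomputable def c139 : Hd × Tr :=
  ((55738368, [], []), (.far (.ofNat 910) [(.ofNat 782, 2), (.ofNat 603, 3), (.ofNat 34, 4), (.ofNat 147, 5), (.ofNat
  86, 9), (.ofNat 1002, 10), (.ofNat 913, 13), (.ofNat 67, 17), (.ofNat 62, 18), (.ofNat 36, 24), (.ofNat 20, 27),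
  (.ofNat 12, 29), (.ofNat 651, 30), (.ofNat 72, 32), (.ofNat 8, 34), (.ofNat 117, 36), (.ofNat 712, 37), (.ofNat
  1290, 38), (.ofNat 328, 40), (.ofNat 390, 41), (.ofNat 286, 42), (.negSucc 1382, 43), (.ofNat 10, 44), (.negSucc
  352, 45), (.ofNat 386, 46), (.negSucc 1288, 47), (.ofNat 511, 48), (.ofNat 445, 49), (.ofNat 1109, 50), (.ofNat
  1277, 51), (.ofNat 2187, 52), (.ofNat 73, 54), (.ofNat 87, 55), (.ofNat 178, 56), (.ofNat 116, 57), (.ofNat 19,
  58)]))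

/-- a certificate -/
noncomputable def c140 : Hd × Tr :=
  ((53747712, [], []), (.far (.ofNat 376) [(.ofNat 200, 2), (.ofNat 128, 3), (.ofNat 147, 5), (.ofNat 63, 7), (.ofNat
  81, 9), (.ofNat 399, 10), (.ofNat 295, 13), (.ofNat 13, 17), (.ofNat 11, 18), (.ofNat 50, 24), (.ofNat 15, 28),
  (.ofNat 14, 29), (.ofNat 125, 30), (.ofNat 78, 32), (.ofNat 39, 33), (.ofNat 17, 34), (.ofNat 63, 36), (.ofNat 412,
  37), (.ofNat 272, 38), (.ofNat 117, 40), (.ofNat 118, 41), (.ofNat 69, 42), (.negSucc 413, 43), (.ofNat 55, 44),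
  (.negSucc 111, 45), (.ofNat 213, 46), (.negSucc 324, 47), (.ofNat 158, 48), (.ofNat 187, 49), (.ofNat 408, 50),
  (.ofNat 526, 51), (.ofNat 729, 52), (.ofNat 45, 54), (.ofNat 17, 55), (.ofNat 53, 56), (.ofNat 50, 57)]))

/-- a certificate -/
noncomputable def c141 : Hd × Tr :=
  ((47775744, [], []), (.far (.ofNat 1104) [(.ofNat 634, 2), (.ofNat 461, 3), (.ofNat 399, 5), (.ofNat 187, 7),
  (.ofNat 237, 9), (.ofNat 1213, 10), (.ofNat 917, 13), (.ofNat 24, 17), (.ofNat 11, 18), (.ofNat 143, 24), (.ofNat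
  55, 28), (.ofNat 422, 30), (.ofNat 252, 32), (.ofNat 77, 33), (.ofNat 20, 34), (.ofNat 148, 36), (.ofNat 1168, 37),
  (.ofNat 849, 38), (.ofNat 353, 40), (.ofNat 350, 41), (.ofNat 103, 42), (.negSucc 1427, 43), (.ofNat 126, 44),
  (.negSucc 451, 45), (.ofNat 597, 46), (.negSucc 1149, 47), (.ofNat 470, 48), (.ofNat 489, 49), (.ofNat 1317, 50),
  (.ofNat 1445, 51), (.ofNat 2187, 52), (.ofNat 162, 54), (.ofNat 41, 55), (.ofNat 167, 56), (.ofNat 97, 57)]))

/-- a certificate -/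
noncomputable def c142 : Hd × Tr :=
  ((47029248, [], []), (.far (.ofNat 906) [(.ofNat 782, 2), (.ofNat 612, 3), (.ofNat 31, 4), (.ofNat 137, 5), (.ofNat
  86, 9), (.ofNat 1000, 10), (.ofNat 919, 13), (.ofNat 62, 17), (.ofNat 63, 18), (.ofNat 37, 24), (.ofNat 14, 27),
  (.ofNat 16, 29), (.ofNat 652, 30), (.ofNat 70, 32), (.ofNat 11, 34), (.ofNat 113, 36), (.ofNat 701, 37), (.ofNat
  1290, 38), (.ofNat 323, 40), (.ofNat 387, 41), (.ofNat 292, 42), (.negSucc 1386, 43), (.negSucc 351, 45), (.ofNat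
  374, 46), (.negSucc 1296, 47), (.ofNat 498, 48), (.ofNat 448, 49), (.ofNat 1102, 50), (.ofNat 1281, 51), (.ofNat
  2187, 52), (.ofNat 68, 54), (.ofNat 85, 55), (.ofNat 180, 56), (.ofNat 117, 57), (.ofNat 19, 58)]))

/-- certificates -/
noncomputable def CL4 : List (Hd × Tr) :=
  [c115, c116, c117, c118, c119, c120, c121, c122, c123, c124, c125, c126, c127, c128, c129, c130, c131, c132, c133,
  c134, c135, c136, c137, c138, c139, c140, c141, c142]

theorem okC4 : okL TAB.F22.dat (TAB.Sm2.mkRows TAB.F22.rowA TAB.F22.rowB) P Z CL4 = true := by decide +kernel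

/-- a certificate -/
noncomputable def c143 : Hd × Tr :=
  ((41803776, [], []), (.far (.ofNat 16922) [(.ofNat 14260, 2), (.ofNat 6763, 3), (.ofNat 2901, 9), (.ofNat 18552,
  10), (.ofNat 9425, 13), (.ofNat 1391, 21), (.ofNat 1833, 23), (.ofNat 3196, 24), (.ofNat 11072, 26), (.ofNat 2873,
  27), (.ofNat 2783, 28), (.ofNat 4542, 29), (.ofNat 11185, 30), (.ofNat 5062, 31), (.ofNat 7165, 32), (.ofNat 5932,
  33), (.ofNat 8257, 34), (.ofNat 6917, 35), (.ofNat 7895, 36), (.ofNat 18311, 37), (.ofNat 35639, 38), (.ofNat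
  14678, 40), (.ofNat 12384, 41), (.ofNat 13941, 42), (.ofNat 4646, 44), (.ofNat 19834, 45), (.ofNat 26934, 46),
  (.negSucc 735, 47), (.ofNat 29807, 48), (.ofNat 28168, 49), (.ofNat 45073, 50), (.ofNat 33963, 51), (.ofNat 59049,
  52), (.ofNat 3523, 53), (.ofNat 6786, 54), (.ofNat 6142, 55), (.ofNat 6618, 56), (.ofNat 6618, 57), (.ofNat 9053,
  58)]))

/-- a certificate -/
noncomputable def c144 : Hd × Tr :=
  ((40310784, [], []), (.far (.ofNat 8148) [(.ofNat 5666, 2), (.ofNat 2332, 4), (.ofNat 5136, 5), (.ofNat 2062, 7),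
  (.ofNat 3175, 9), (.ofNat 9579, 10), (.ofNat 4910, 13), (.ofNat 611, 18), (.ofNat 611, 21), (.ofNat 1928, 24),
  (.ofNat 1064, 28), (.ofNat 1517, 29), (.ofNat 1223, 30), (.ofNat 1152, 31), (.ofNat 41, 32), (.ofNat 2419, 33),
  (.ofNat 1295, 34), (.ofNat 2130, 36), (.ofNat 12094, 37), (.ofNat 5044, 38), (.ofNat 3565, 40), (.ofNat 3563, 41),
  (.ofNat 7072, 42), (.ofNat 2985, 44), (.negSucc 249, 45), (.ofNat 7422, 46), (.negSucc 1552, 47), (.ofNat 5801,
  48), (.ofNat 7974, 49), (.ofNat 11548, 50), (.ofNat 16761, 51), (.ofNat 19683, 52), (.ofNat 480, 53), (.ofNat 1306,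
  54), (.ofNat 1323, 55), (.ofNat 1604, 56), (.ofNat 2511, 57), (.ofNat 1359, 58)]))

/-- a certificate -/
noncomputable def c145 : Hd × Tr :=
  ((35831808, [], []), (.far (.ofNat 8148) [(.ofNat 5666, 2), (.ofNat 2332, 4), (.ofNat 5136, 5), (.ofNat 2062, 7),
  (.ofNat 3175, 9), (.ofNat 9579, 10), (.ofNat 4910, 13), (.ofNat 611, 18), (.ofNat 611, 21), (.ofNat 1928, 24),
  (.ofNat 1064, 28), (.ofNat 1517, 29), (.ofNat 1223, 30), (.ofNat 1152, 31), (.ofNat 41, 32), (.ofNat 2419, 33),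
  (.ofNat 1295, 34), (.ofNat 2130, 36), (.ofNat 12094, 37), (.ofNat 5044, 38), (.ofNat 3565, 40), (.ofNat 3563, 41),
  (.ofNat 7072, 42), (.ofNat 2985, 44), (.negSucc 249, 45), (.ofNat 7422, 46), (.negSucc 1552, 47), (.ofNat 5801,
  48), (.ofNat 7974, 49), (.ofNat 11548, 50), (.ofNat 16761, 51), (.ofNat 19683, 52), (.ofNat 480, 53), (.ofNat 1306,
  54), (.ofNat 1323, 55), (.ofNat 1604, 56), (.ofNat 2511, 57), (.ofNat 1359, 58)]))

/-- a certificate -/
noncomputable def c146 : Hd × Tr :=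
  ((31850496, [], []), (.far (.ofNat 8084) [(.ofNat 5520, 2), (.ofNat 1945, 4), (.ofNat 4812, 5), (.ofNat 2070, 7),
  (.ofNat 3102, 9), (.ofNat 9411, 10), (.ofNat 4534, 13), (.ofNat 541, 18), (.ofNat 541, 21), (.ofNat 1645, 24),
  (.ofNat 1100, 28), (.ofNat 1332, 29), (.ofNat 1247, 30), (.ofNat 1596, 31), (.ofNat 242, 32), (.ofNat 2116, 33),
  (.ofNat 1550, 34), (.ofNat 2365, 36), (.ofNat 12039, 37), (.ofNat 5120, 38), (.ofNat 4026, 40), (.ofNat 3696, 41),
  (.ofNat 6473, 42), (.ofNat 2893, 44), (.ofNat 7480, 46), (.negSucc 1239, 47), (.ofNat 6271, 48), (.ofNat 7908, 49),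
  (.ofNat 11624, 50), (.ofNat 15285, 51), (.ofNat 19683, 52), (.ofNat 611, 53), (.ofNat 1570, 54), (.ofNat 1442, 55),
  (.ofNat 1664, 56), (.ofNat 2294, 57), (.ofNat 1430, 58)]))

/-- a certificate -/
noncomputable def c147 : Hd × Tr :=
  ((56435097600, [], []), (.far (.ofNat 81) [(.negSucc 39, 6), (.negSucc 39, 8), (.ofNat 40, 26), (.negSucc 39, 31),
  (.ofNat 40, 43), (.ofNat 40, 44), (.negSucc 39, 51), (.ofNat 20, 53), (.negSucc 19, 56)]))

/-- a certificate -/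
noncomputable def c148 : Hd × Tr :=
  ((28217548800, [], []), (.far (.ofNat 81) [(.negSucc 39, 6), (.negSucc 39, 8), (.ofNat 40, 26), (.negSucc 39, 31),
  (.ofNat 40, 43), (.ofNat 40, 44), (.negSucc 39, 51), (.ofNat 20, 53), (.negSucc 19, 56)]))

/-- a certificate -/
noncomputable def c149 : Hd × Tr :=
  ((18811699200, [], []), (.far (.ofNat 81) [(.negSucc 80, 8), (.ofNat 81, 41), (.ofNat 81, 44), (.negSucc 80, 51),
  (.negSucc 40, 56)]))

/-- a certificate -/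
noncomputable def c150 : Hd × Tr :=
  ((16721510400, [], []), (.far (.ofNat 81) [(.negSucc 80, 8), (.ofNat 81, 41), (.ofNat 81, 44), (.negSucc 80, 51),
  (.negSucc 40, 56)]))

/-- a certificate -/
noncomputable def c151 : Hd × Tr :=
  ((14108774400, [], []), (.far (.ofNat 81) [(.negSucc 80, 8), (.ofNat 81, 41), (.ofNat 81, 44), (.negSucc 80, 51),
  (.negSucc 40, 56)]))

/-- a certificate -/
noncomputable def c152 : Hd × Tr :=
  ((9405849600, [], []), (.far (.ofNat 81) [(.negSucc 80, 8), (.ofNat 81, 41), (.ofNat 81, 44), (.negSucc 80, 51),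
  (.negSucc 40, 56)]))

/-- a certificate -/
noncomputable def c153 : Hd × Tr :=
  ((8360755200, [], []), (.far (.ofNat 81) [(.negSucc 80, 8), (.ofNat 81, 41), (.ofNat 81, 44), (.negSucc 80, 51),
  (.negSucc 40, 56)]))

/-- a certificate -/
noncomputable def c154 : Hd × Tr :=
  ((7054387200, [], []), (.far (.ofNat 81) [(.negSucc 80, 8), (.ofNat 81, 41), (.ofNat 81, 44), (.negSucc 80, 51),
  (.negSucc 40, 56)]))

/-- a certificate -/
noncomputable def c155 : Hd × Tr :=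
  ((6270566400, [], []), (.far (.ofNat 81) [(.negSucc 80, 8), (.ofNat 81, 41), (.ofNat 81, 44), (.negSucc 80, 51),
  (.negSucc 40, 56)]))

/-- a certificate -/
noncomputable def c156 : Hd × Tr :=
  ((5573836800, [], []), (.far (.ofNat 81) [(.negSucc 80, 8), (.ofNat 81, 41), (.ofNat 81, 44), (.negSucc 80, 51),
  (.negSucc 40, 56)]))

/-- a certificate -/
noncomputable def c157 : Hd × Tr :=
  ((4702924800, [], []), (.far (.ofNat 3337) [(.ofNat 1780, 7), (.ofNat 5451, 9), (.ofNat 6230, 10), (.ofNat 8010,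
  11), (.ofNat 8566, 12), (.ofNat 9345, 13), (.ofNat 10124, 14), (.ofNat 10124, 15), (.ofNat 14796, 16), (.ofNat
  14796, 17), (.ofNat 14017, 18), (.ofNat 15575, 19), (.ofNat 22361, 20), (.ofNat 28814, 21), (.ofNat 39939, 22),
  (.ofNat 55847, 23), (.ofNat 59185, 24), (.ofNat 62300, 25), (.ofNat 70866, 26), (.ofNat 72201, 27), (.ofNat 87999,
  28), (.ofNat 87999, 29), (.ofNat 112140, 30), (.ofNat 111584, 31), (.ofNat 112140, 32), (.ofNat 116812, 33),
  (.ofNat 131609, 34), (.ofNat 140175, 35), (.ofNat 155750, 36), (.ofNat 166652, 37), (.ofNat 182784, 38), (.ofNat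
  188457, 39), (.ofNat 233625, 40), (.ofNat 267111, 41), (.ofNat 267111, 42), (.ofNat 281129, 43), (.ofNat 351995,
  44), (.ofNat 364455, 45), (.ofNat 394047, 46), (.ofNat 398720, 47), (.ofNat 450674, 48), (.ofNat 467250, 49),
  (.ofNat 496509, 50), (.ofNat 493950, 51), (.ofNat 531441, 52), (.ofNat 27256, 53), (.ofNat 77875, 54), (.ofNat
  77875, 55), (.ofNat 111751, 56), (.ofNat 116812, 57), (.ofNat 190905, 58)]))

/-- a certificate -/
noncomputable def c158 : Hd × Tr :=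
  ((4180377600, [], []), (.far (.ofNat 3337) [(.ofNat 1780, 7), (.ofNat 5451, 9), (.ofNat 6230, 10), (.ofNat 8010,
  11), (.ofNat 8566, 12), (.ofNat 9345, 13), (.ofNat 10124, 14), (.ofNat 10124, 15), (.ofNat 14796, 16), (.ofNat
  14796, 17), (.ofNat 14017, 18), (.ofNat 15575, 19), (.ofNat 22361, 20), (.ofNat 28814, 21), (.ofNat 39939, 22),
  (.ofNat 55847, 23), (.ofNat 59185, 24), (.ofNat 62300, 25), (.ofNat 70866, 26), (.ofNat 72201, 27), (.ofNat 87999,
  28), (.ofNat 87999, 29), (.ofNat 112140, 30), (.ofNat 111584, 31), (.ofNat 112140, 32), (.ofNat 116812, 33),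
  (.ofNat 131609, 34), (.ofNat 140175, 35), (.ofNat 155750, 36), (.ofNat 166652, 37), (.ofNat 182784, 38), (.ofNat
  188457, 39), (.ofNat 233625, 40), (.ofNat 267111, 41), (.ofNat 267111, 42), (.ofNat 281129, 43), (.ofNat 351995,
  44), (.ofNat 364455, 45), (.ofNat 394047, 46), (.ofNat 398720, 47), (.ofNat 450674, 48), (.ofNat 467250, 49),
  (.ofNat 496509, 50), (.ofNat 493950, 51), (.ofNat 531441, 52), (.ofNat 27256, 53), (.ofNat 77875, 54), (.ofNat
  77875, 55), (.ofNat 111751, 56), (.ofNat 116812, 57), (.ofNat 190905, 58)]))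

/-- a certificate -/
noncomputable def c159 : Hd × Tr :=
  ((3135283200, [], []), (.far (.negSucc 121) [(.negSucc 60, 9), (.negSucc 60, 10), (.negSucc 60, 11), (.negSucc 60,
  16), (.negSucc 60, 17), (.ofNat 61, 18), (.negSucc 60, 19), (.ofNat 61, 20), (.negSucc 60, 25), (.ofNat 243, 26),
  (.ofNat 61, 27), (.ofNat 61, 30), (.negSucc 181, 31), (.ofNat 61, 32), (.negSucc 60, 34), (.ofNat 61, 35),
  (.negSucc 121, 37), (.ofNat 122, 38), (.ofNat 61, 39), (.negSucc 60, 41), (.negSucc 60, 42), (.ofNat 122, 44),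
  (.ofNat 61, 45), (.negSucc 60, 46), (.ofNat 61, 48), (.negSucc 60, 50), (.negSucc 60, 51), (.ofNat 30, 53)]))

/-- a certificate -/
noncomputable def c160 : Hd × Tr :=
  ((2786918400, [], []), (.far (.ofNat 0) [(.negSucc 3010, 8), (.negSucc 3010, 9), (.negSucc 3225, 10), (.negSucc
  3440, 11), (.negSucc 2923, 12), (.negSucc 3096, 13), (.negSucc 3311, 14), (.negSucc 3182, 15), (.negSucc 6020, 16),
  (.negSucc 6106, 17), (.negSucc 3526, 18), (.negSucc 6579, 19), (.negSucc 6880, 20), (.negSucc 9762, 21), (.negSucc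
  12643, 22), (.negSucc 19438, 23), (.negSucc 19438, 24), (.negSucc 21847, 25), (.negSucc 18750, 26), (.negSucc
  23309, 27), (.negSucc 29029, 28), (.negSucc 28986, 29), (.negSucc 35953, 30), (.negSucc 39867, 31), (.negSucc
  36168, 32), (.negSucc 38663, 33), (.negSucc 44770, 34), (.negSucc 45157, 35), (.negSucc 51651, 36), (.negSucc
  57371, 37), (.negSucc 58618, 38), (.negSucc 61542, 39), (.negSucc 77541, 40), (.negSucc 86229, 41), (.negSucc
  89583, 42), (.negSucc 93196, 43), (.negSucc 110700, 44), (.negSucc 119774, 45), (.negSucc 131902, 46), (.negSucc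
  132117, 47), (.negSucc 148632, 48), (.negSucc 154782, 49), (.negSucc 164588, 50), (.negSucc 167641, 51), (.negSucc
  177146, 52), (.negSucc 8450, 53), (.negSucc 25889, 54), (.negSucc 25889, 55), (.negSucc 38706, 56), (.negSucc
  38749, 57), (.negSucc 63069, 58)]))

/-- a certificate -/
noncomputable def c161 : Hd × Tr :=
  ((2090188800, [], []), (.far (.negSucc 18370) [(.ofNat 5249, 5), (.negSucc 5248, 10), (.negSucc 9184, 11),
  (.negSucc 1311, 12), (.negSucc 3936, 13), (.negSucc 3936, 14), (.negSucc 1311, 15), (.negSucc 3936, 16), (.negSucc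
  5248, 17), (.ofNat 6561, 18), (.negSucc 9184, 19), (.ofNat 9185, 20), (.negSucc 1311, 21), (.negSucc 6560, 22),
  (.negSucc 1311, 24), (.negSucc 5248, 25), (.ofNat 19683, 26), (.ofNat 9185, 27), (.ofNat 1312, 29), (.ofNat 2624,
  30), (.negSucc 14433, 31), (.ofNat 5249, 32), (.negSucc 5248, 34), (.ofNat 5249, 35), (.negSucc 5248, 37), (.ofNat
  14434, 38), (.ofNat 2624, 39), (.negSucc 2623, 40), (.ofNat 1312, 41), (.negSucc 5248, 42), (.ofNat 11810, 44),
  (.ofNat 6561, 45), (.negSucc 6560, 46), (.ofNat 2624, 47), (.ofNat 11810, 48), (.negSucc 17058, 50), (.negSucc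
  11809, 51), (.ofNat 10498, 52), (.ofNat 2624, 53), (.negSucc 2623, 54), (.negSucc 1311, 55), (.negSucc 655, 56),
  (.negSucc 1311, 57), (.negSucc 4592, 58)]))

/-- a certificate -/
noncomputable def c162 : Hd × Tr :=
  ((1393459200, [], []), (.far (.negSucc 2186) [(.ofNat 107, 5), (.ofNat 127, 12), (.negSucc 311, 13), (.negSucc 80,
  15), (.negSucc 685, 16), (.negSucc 508, 17), (.ofNat 636, 18), (.negSucc 1258, 19), (.ofNat 1144, 20), (.negSucc
  149, 21), (.negSucc 250, 22), (.negSucc 107, 23), (.negSucc 174, 24), (.negSucc 472, 25), (.ofNat 918, 26), (.ofNat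
  940, 27), (.negSucc 42, 28), (.negSucc 1150, 31), (.ofNat 696, 32), (.negSucc 607, 34), (.ofNat 466, 35), (.ofNat
  279, 36), (.negSucc 382, 37), (.ofNat 1912, 38), (.ofNat 415, 39), (.ofNat 809, 41), (.negSucc 316, 42), (.negSucc
  328, 43), (.ofNat 1316, 44), (.ofNat 991, 45), (.negSucc 56, 46), (.ofNat 388, 47), (.ofNat 1368, 48), (.negSucc
  116, 49), (.negSucc 769, 50), (.negSucc 632, 51), (.ofNat 618, 52), (.ofNat 105, 53), (.negSucc 154, 54), (.negSucc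
  64, 55), (.negSucc 84, 56), (.ofNat 78, 57), (.ofNat 15, 58)]))

/-- a certificate -/
noncomputable def c163 : Hd × Tr :=
  ((783820800, [], []), (.far (.negSucc 3537) [(.ofNat 115, 5), (.ofNat 774, 12), (.ofNat 844, 13), (.ofNat 1324,
  14), (.ofNat 881, 15), (.ofNat 3264, 18), (.ofNat 4842, 20), (.ofNat 2329, 21), (.ofNat 3077, 22), (.ofNat 5478,
  23), (.ofNat 6537, 24), (.ofNat 5204, 25), (.ofNat 10136, 26), (.ofNat 10800, 27), (.ofNat 9558, 28), (.ofNat 7889,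
  29), (.ofNat 11847, 30), (.ofNat 9918, 31), (.ofNat 14069, 32), (.ofNat 10966, 33), (.ofNat 12341, 34), (.ofNat
  19118, 35), (.ofNat 18132, 36), (.ofNat 18101, 37), (.ofNat 23626, 38), (.ofNat 23456, 39), (.ofNat 27724, 40),
  (.ofNat 26047, 41), (.ofNat 24401, 42), (.ofNat 30473, 43), (.ofNat 40817, 44), (.ofNat 38073, 45), (.ofNat 43635,
  46), (.ofNat 43602, 47), (.ofNat 54435, 48), (.ofNat 49952, 49), (.ofNat 54439, 50), (.ofNat 49746, 51), (.ofNat
  59049, 52), (.ofNat 4496, 53), (.ofNat 9776, 54), (.ofNat 7985, 55), (.ofNat 13010, 56), (.ofNat 12341, 57),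
  (.ofNat 19388, 58)]))

/-- a certificate -/
noncomputable def c164 : Hd × Tr :=
  ((141087744, [], []), (.far (.ofNat 1) [(.ofNat 1, 2), (.ofNat 1, 10), (.ofNat 1, 38), (.negSucc 0, 39), (.negSucc
  0, 43), (.negSucc 0, 44), (.negSucc 0, 47), (.ofNat 1, 50), (.ofNat 1, 52)]))

/-- certificates -/
noncomputable def CL5 : List (Hd × Tr) :=
  [c143, c144, c145, c146, c147, c148, c149, c150, c151, c152, c153, c154, c155, c156, c157, c158, c159, c160, c161,
  c162, c163, c164]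

theorem okC5 : okL TAB.F22.dat (TAB.Sm2.mkRows TAB.F22.rowA TAB.F22.rowB) P Z CL5 = true := by decide +kernel

end Cfsg.Agent.SM.Sp.NFi22
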