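import Cfsg.Agent.SM.Sp.NFi22D

/-!
# SM (S3570), sporadic socles: Fi22, certificates (helper26; generated by notes/SM/sp26/gen2.py.txt)
-/

set_option autoImplicit false
set_option Elab.async false

namespace Cfsg.Agent.SM.Sp.NFi22

open Cfsg Cfsg.Agent.TAB.Eng Cfsg.Agent.H940.Eng Cfsg.Agent.TH.Spor

/-- a certificate -/
noncomputable def c165 : Hd × Tr :=
  ((114633792, [], []), (.far (.ofNat 1) [(.ofNat 1, 2), (.ofNat 1, 10), (.ofNat 1, 38), (.negSucc 0, 39), (.negSucc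
  0, 43), (.negSucc 0, 44), (.negSucc 0, 47), (.ofNat 1, 50), (.ofNat 1, 52)]))

/-- a certificate -/
noncomputable def c166 : Hd × Tr :=
  ((97320960, [], []), (.far (.negSucc 1051) [(.ofNat 100, 7), (.ofNat 133, 8), (.ofNat 858, 11), (.ofNat 6, 15),
  (.ofNat 280, 21), (.ofNat 558, 24), (.ofNat 588, 28), (.ofNat 140, 29), (.ofNat 317, 30), (.ofNat 1843, 31),
  (.ofNat 1191, 33), (.negSucc 40, 34), (.ofNat 1372, 35), (.ofNat 78, 36), (.ofNat 229, 37), (.ofNat 1177, 38),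
  (.ofNat 830, 39), (.ofNat 803, 40), (.ofNat 1013, 41), (.ofNat 2096, 42), (.ofNat 2558, 43), (.ofNat 1302, 44),
  (.ofNat 2000, 45), (.ofNat 2538, 46), (.ofNat 2608, 47), (.ofNat 2794, 48), (.ofNat 2767, 49), (.ofNat 5515, 50),
  (.ofNat 6561, 51), (.ofNat 1372, 52), (.ofNat 199, 53), (.ofNat 916, 54), (.ofNat 613, 55), (.ofNat 644, 56),
  (.ofNat 732, 57), (.ofNat 1304, 58)]))

/-- a certificate -/
noncomputable def c167 : Hd × Tr :=
  ((70543872, [], []), (.far (.ofNat 1) [(.ofNat 1, 2), (.ofNat 1, 10), (.ofNat 1, 38), (.negSucc 0, 39), (.negSucc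
  0, 43), (.negSucc 0, 44), (.negSucc 0, 47), (.ofNat 1, 50), (.ofNat 1, 52)]))

/-- a certificate -/
noncomputable def c168 : Hd × Tr :=
  ((46006272, [], []), (.far (.ofNat 1134) [(.ofNat 644, 2), (.ofNat 540, 3), (.ofNat 432, 5), (.ofNat 227, 7),
  (.ofNat 169, 9), (.ofNat 1375, 10), (.ofNat 1018, 13), (.ofNat 6, 15), (.ofNat 1, 18), (.ofNat 89, 24), (.ofNat 55,
  28), (.ofNat 453, 30), (.ofNat 243, 32), (.ofNat 77, 33), (.ofNat 118, 36), (.ofNat 1077, 37), (.ofNat 773, 38),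
  (.ofNat 364, 40), (.ofNat 388, 41), (.ofNat 47, 42), (.negSucc 1761, 43), (.ofNat 173, 44), (.negSucc 658, 45),
  (.ofNat 576, 46), (.negSucc 1284, 47), (.ofNat 462, 48), (.ofNat 482, 49), (.ofNat 1650, 50), (.ofNat 1590, 51),
  (.ofNat 2187, 52), (.ofNat 214, 54), (.ofNat 30, 55), (.ofNat 140, 56), (.ofNat 35, 57)]))

/-- certificates -/
noncomputable def CL6 : List (Hd × Tr) :=
  [c165, c166, c167, c168]

theorem okC6 : okL TAB.F22.dat (TAB.Sm2.mkRows TAB.F22.rowA TAB.F22.rowB) P Z CL6 = true := by decide +kernel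

end Cfsg.Agent.SM.Sp.NFi22
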