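import Cfsg.Agent.SM.Sp.Enum
import Cfsg.Agent.TAB.HN.Tab

/-!
# SM (S3570), sporadic socles: HN (helper26; generated by notes/SM/sp26/gen2.py.txt)
-/

set_option autoImplicit false
set_option Elab.async false

namespace Cfsg.Agent.SM.Sp.NHN

open Cfsg Cfsg.Agent.TAB.Eng Cfsg.Agent.H940.Eng Cfsg.Agent.TH.Spor

/-- local data -/
def loc : List LD :=
  [⟨19, 19, [(3, 2), (19, 1)]⟩, ⟨11, 44, [(2, 2), (5, 1), (11, 1)]⟩, ⟨7, 2520, [(2, 3), (3, 2), (5, 1), (7, 1)]⟩]

/-- the pairs which remain -/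
def L : List (ℕ × ℕ) :=
  []

/-- the candidates -/
def SV : List (ℕ × ℕ) :=
  [(5515776, 266), (5515776, 532), (5515776, 1596), (5515776, 3192), (5515776, 6384), (5515776, 10773), (5515776,
  229824)]

/-- the data -/
def E : Ed :=
  ⟨273030912000000, [(19, 1), (11, 1), (7, 1), (5, 6), (3, 6), (2, 14)], H940.Eng.D.o_hn, loc, 133, [], [(19, 32),
  (11, 25), (7, 15)], [60, 168, 360, 504, 660, 2520, 3420, 6048, 7920, 20160, 25920, 95040, 126000, 181440, 443520,
  604800, 1451520, 1814400, 3265920, 5515776, 13685760, 19958400, 44352000, 174182400, 239500800, 898128000], SV⟩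

theorem ok1 : okEd TAB.HN.dat TAB.HN.rows E = true := by decide +kernel

/-- the types of prime order -/
def P : List (ℕ × ℕ × ℕ) :=
  [(19, 32, 28740096000000), (11, 25, 12410496000000), (7, 15, 650073600000), (5, 8, 433382400), (5, 9, 546061824),
  (5, 10, 36404121600), (5, 11, 109212364800), (3, 3, 501600000), (3, 4, 9363200000), (2, 1, 1539000), (2, 2,
  74064375)]

/-- the types -/
def Z : List Ze :=
  [(1, 2, 1539000, [1]), (2, 2, 74064375, [2]), (3, 3, 501600000, [3]), (4, 3, 9363200000, [4]), (5, 4, 17775450000,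
  [2]), (6, 4, 47401200000, [1]), (7, 4, 71101800000, [2]), (8, 5, 433382400, [8]), (9, 5, 546061824, [9]), (10, 5,
  36404121600, [10]), (11, 5, 109212364800, [11]), (12, 6, 189604800000, [3, 1]), (13, 6, 474012000000, [3, 2]), (14,
  6, 758419200000, [4, 2]), (15, 7, 650073600000, [15]), (16, 8, 3412886400000, [1]), (17, 8, 4266108000000, [2]),
  (18, 9, 10112256000000, [4]), (19, 10, 136515456000, [9, 1]), (20, 10, 227525760000, [8, 1]), (21, 10,
  341288640000, [9, 2]), (22, 10, 910103040000, [10, 2]), (23, 10, 2730309120000, [11, 1]), (24, 10, 5460618240000,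
  [11, 2]), (25, 11, 12410496000000, [25]), (26, 12, 3792096000000, [3, 1]), (27, 12, 5688144000000, [3, 2]), (28,
  12, 22752576000000, [4, 2]), (29, 14, 9751104000000, [15, 1]), (30, 15, 1516838400000, [8, 3]), (31, 15,
  18202060800000, [10, 4]), (32, 19, 28740096000000, [32]), (33, 20, 6825772800000, [9, 2]), (34, 20, 6825772800000,
  [8, 1]), (35, 20, 27303091200000, [10, 2]), (36, 21, 13001472000000, [15, 3]), (37, 22, 12410496000000, [25, 1]),
  (38, 25, 21842472960000, [9]), (39, 30, 4550515200000, [8, 3, 1]), (40, 30, 18202060800000, [10, 4, 2]), (41, 35,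
  15601766400000, [15, 8]), (42, 40, 13651545600000, [8, 1])]

theorem okB1 : okB E ⟨19, 19, [(3, 2), (19, 1)]⟩ = true := by decide +kernel

/-- pieces -/
def W0 : List (ℕ × ℕ) :=
  [(3420, 1), (5515776, 1)]

theorem okD0 : okD E [(19, 1), (11, 1), (7, 1), (5, 6), (3, 6), (2, 14)] W0 = true := by decide +kernel

/-- a certificate -/
noncomputable def c0 : Hd × Tr :=
  ((1026432000000, [], []), (.far (.ofNat 27) [(.negSucc 26, 5), (.ofNat 13, 12), (.negSucc 6, 18), (.ofNat 13, 27),
  (.negSucc 12, 31), (.ofNat 13, 32), (.ofNat 13, 33), (.negSucc 12, 40), (.ofNat 13, 42)]))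

/-- a certificate -/
noncomputable def c1 : Hd × Tr :=
  ((513216000000, [], []), (.far (.ofNat 27) [(.negSucc 26, 5), (.ofNat 13, 12), (.negSucc 6, 18), (.ofNat 13, 27),
  (.negSucc 12, 31), (.ofNat 13, 32), (.ofNat 13, 33), (.negSucc 12, 40), (.ofNat 13, 42)]))

/-- a certificate -/
noncomputable def c2 : Hd × Tr :=
  ((171072000000, [], []), (.far (.ofNat 27) [(.negSucc 26, 5), (.ofNat 13, 12), (.negSucc 6, 18), (.ofNat 13, 27),
  (.negSucc 12, 31), (.ofNat 13, 32), (.ofNat 13, 33), (.negSucc 12, 40), (.ofNat 13, 42)]))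

/-- a certificate -/
noncomputable def c3 : Hd × Tr :=
  ((85536000000, [], []), (.far (.ofNat 27) [(.negSucc 26, 5), (.ofNat 13, 12), (.negSucc 6, 18), (.ofNat 13, 27),
  (.negSucc 12, 31), (.ofNat 13, 32), (.ofNat 13, 33), (.negSucc 12, 40), (.ofNat 13, 42)]))

/-- a certificate -/
noncomputable def c4 : Hd × Tr :=
  ((42768000000, [], []), (.far (.ofNat 27) [(.negSucc 26, 5), (.ofNat 13, 12), (.negSucc 6, 18), (.ofNat 13, 27),
  (.negSucc 12, 31), (.ofNat 13, 32), (.ofNat 13, 33), (.negSucc 12, 40), (.ofNat 13, 42)]))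

/-- a certificate -/
noncomputable def c5 : Hd × Tr :=
  ((25344000000, [], []), (.far (.negSucc 80) [(.ofNat 23, 6), (.negSucc 71, 7), (.negSucc 26, 9), (.ofNat 43, 10),
  (.negSucc 10, 13), (.negSucc 1, 14), (.negSucc 5, 15), (.negSucc 1, 16), (.negSucc 25, 18), (.ofNat 36, 19),
  (.ofNat 7, 20), (.ofNat 21, 21), (.ofNat 12, 22), (.negSucc 8, 23), (.ofNat 55, 24), (.ofNat 28, 25), (.ofNat 76,
  26), (.ofNat 28, 27), (.negSucc 15, 28), (.negSucc 32, 29), (.negSucc 1, 31), (.ofNat 21, 32), (.negSucc 34, 34),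
  (.negSucc 20, 35), (.ofNat 53, 36), (.ofNat 69, 37), (.ofNat 69, 39), (.negSucc 53, 40), (.ofNat 34, 42)]))

/-- a certificate -/
noncomputable def c6 : Hd × Tr :=
  ((1188000000, [], []), (.far (.negSucc 123) [(.ofNat 231, 3), (.negSucc 1763, 12), (.negSucc 534, 13), (.negSucc
  317, 14), (.negSucc 281, 15), (.negSucc 581, 16), (.negSucc 639, 17), (.negSucc 1297, 18), (.negSucc 634, 19),
  (.negSucc 1088, 20), (.negSucc 921, 21), (.negSucc 860, 22), (.negSucc 1522, 23), (.negSucc 1167, 24), (.negSucc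
  1146, 25), (.negSucc 1167, 26), (.negSucc 3026, 27), (.negSucc 1860, 28), (.negSucc 1817, 29), (.negSucc 2558, 30),
  (.negSucc 3795, 31), (.negSucc 1169, 32), (.negSucc 968, 33), (.negSucc 3066, 35), (.negSucc 3428, 36), (.negSucc
  3669, 37), (.negSucc 1167, 38), (.negSucc 4308, 39), (.negSucc 5900, 40), (.negSucc 4503, 41), (.negSucc 6560,
  42)]))

/-- certificates -/
noncomputable def CL0 : List (Hd × Tr) :=
  [c0, c1, c2, c3, c4, c5, c6]

theorem okC0 : okL TAB.HN.dat TAB.HN.rows P Z CL0 = true := by decide +kernel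

/-- the enumeration -/
theorem lst0 {K : Type} [Group K] [Finite K] (h : In K TAB.HN.dat TAB.HN.rows) :
    Lst K SV :=
  lst_of_enum (E := E) h ok1 (H940.Eng.D.ords_hn base) (fun _ => List.not_mem_nil) List.mem_cons_self (dv_iff.1
  (by decide +kernel)) okB1 (l1 := []) rfl (W := [W0].flatten) (by decide +kernel) <| forall_flatten <|
    fa_cons (fun _ h => ⟨_, okD0, h⟩) <| fa_nil

/-- the heads -/
def FL : List Hd :=
  [(1026432000000, [], []), (513216000000, [], []), (171072000000, [], []), (85536000000, [], []), (42768000000, [],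
  []), (25344000000, [], []), (1188000000, [], [])]

/-- scripts -/
noncomputable def S0 : List ((ℕ × ℕ) × Ps) :=
  [((5515776, 266), (.ky 0)), ((5515776, 532), (.ky 1)), ((5515776, 1596), (.ky 2)), ((5515776, 3192), (.ky 3)),
  ((5515776, 6384), (.ky 4)), ((5515776, 10773), (.ky 5)), ((5515776, 229824), (.ky 6))]

theorem okC : ∀ x ∈ FL, ∃ CL, okL TAB.HN.dat TAB.HN.rows P Z CL = true ∧ x ∈ CL.map Prod.fst := by
  rw [show FL = [CL0.map Prod.fst].flatten by decide +kernel]
  exact forall_flatten <| fa_cons (fun _ h => ⟨_, okC0, h⟩) <| fa_nil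

/-- **the list** -/
theorem lst {K : Type} [Group K] [Finite K] (h : In K TAB.HN.dat TAB.HN.rows) :
    Lst K L :=
  lst_of_cert h (lst0 h) (l := E.l) (by decide +kernel) (SG := []) (by decide +kernel) okC (SS := [S0].flatten)
  (by decide +kernel) (by decide +kernel)

end Cfsg.Agent.SM.Sp.NHN
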