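import Cfsg.Agent.SM.Sp.Enum
import Cfsg.Agent.TAB.HS.Dat

/-!
# SM (S3570), sporadic socles: HS (helper26; generated by notes/SM/sp26/gen2.py.txt)
-/

set_option autoImplicit false
set_option Elab.async false

namespace Cfsg.Agent.SM.Sp.NHS

open Cfsg Cfsg.Agent.TAB.Eng Cfsg.Agent.H940.Eng Cfsg.Agent.TH.Spor

/-- local data -/
def loc : List LD :=
  [⟨11, 11, [(5, 1), (11, 1)]⟩, ⟨7, 7, [(2, 1), (3, 1), (7, 1)]⟩]

/-- the pairs which remain -/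
def L : List (ℕ × ℕ) :=
  [(443520, 176), (443520, 3080), (443520, 4928), (443520, 6160), (443520, 9240), (443520, 12320), (443520, 18480),
  (443520, 22176), (443520, 24640)]

/-- the candidates -/
def SV : List (ℕ × ℕ) :=
  [(443520, 176), (443520, 3080), (443520, 4928), (443520, 6160), (443520, 9240), (443520, 12320), (443520, 18480),
  (443520, 22176), (443520, 24640), (7920, 44), (443520, 77), (443520, 154), (443520, 231), (443520, 308), (443520,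
  385), (443520, 462), (443520, 616), (443520, 693), (443520, 770), (443520, 924), (443520, 1155), (443520, 1232),
  (443520, 1386), (443520, 1540), (443520, 1848), (443520, 2310), (443520, 2464), (443520, 2772), (443520, 3465),
  (443520, 3696), (443520, 4620), (443520, 7392), (443520, 9856), (443520, 14784)]

/-- the data -/
def E : Ed :=
  ⟨44352000, [(11, 1), (7, 1), (5, 3), (3, 2), (2, 9)], H940.Eng.D.o_hs, loc, 22, [], [(11, 17), (7, 12), (3, 3)],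
  [60, 168, 360, 504, 660, 2520, 7920, 20160, 126000, 443520], SV⟩

theorem ok1 : okEd TAB.HS.D (TAB.Sm2.mkRows TAB.HS.A TAB.HS.B) E = true := by decide +kernel

/-- the types of prime order -/
def P : List (ℕ × ℕ × ℕ) :=
  [(11, 17, 8064000), (7, 12, 6336000), (5, 7, 147840), (5, 8, 88704), (5, 9, 1774080), (3, 3, 123200), (2, 1,
  15400), (2, 2, 5775)]

/-- the types -/
def Z : List Ze :=
  [(1, 2, 15400, [1]), (2, 2, 5775, [2]), (3, 3, 123200, [3]), (4, 4, 11550, [2]), (5, 4, 693000, [2]), (6, 4,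
  173250, [2]), (7, 5, 147840, [7]), (8, 5, 88704, [8]), (9, 5, 1774080, [9]), (10, 6, 1232000, [3, 1]), (11, 6,
  1848000, [3, 2]), (12, 7, 6336000, [12]), (13, 8, 5544000, [2]), (14, 8, 2772000, [2]), (15, 10, 2217600, [8, 2]),
  (16, 10, 2217600, [7, 1]), (17, 11, 8064000, [17]), (18, 12, 3696000, [3, 2]), (19, 15, 2956800, [7, 3]), (20, 20,
  4435200, [8, 2])]

theorem okB1 : okB E ⟨11, 11, [(5, 1), (11, 1)]⟩ = true := by decide +kernel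

/-- pieces -/
def W0 : List (ℕ × ℕ) :=
  [(660, 1), (7920, 1), (443520, 1)]

theorem okD0 : okD E [(11, 1), (7, 1), (5, 3), (3, 2), (2, 9)] W0 = true := by decide +kernel

/-- a certificate -/
noncomputable def c0 : Hd × Tr :=
  ((1008000, [], []), (.far (.ofNat 0) [(.negSucc 0, 2), (.negSucc 1, 4), (.negSucc 0, 5), (.negSucc 0, 10), (.ofNat
  1, 12), (.ofNat 1, 15), (.negSucc 2, 17), (.negSucc 0, 20)]))

/-- a certificate -/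
noncomputable def c1 : Hd × Tr :=
  ((576000, [], []), (.far (.ofNat 9) [(.negSucc 1, 2), (.negSucc 8, 4), (.negSucc 0, 5), (.ofNat 2, 6), (.negSucc 0,
  8), (.negSucc 2, 9), (.negSucc 1, 10), (.ofNat 9, 11), (.ofNat 9, 12), (.ofNat 9, 15), (.ofNat 1, 19), (.negSucc 3,
  20)]))

/-- a certificate -/
noncomputable def c2 : Hd × Tr :=
  ((288000, [], []), (.far (.ofNat 23) [(.negSucc 0, 3), (.negSucc 23, 4), (.negSucc 3, 5), (.ofNat 3, 6), (.ofNat 3,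
  7), (.negSucc 3, 9), (.negSucc 3, 10), (.ofNat 22, 11), (.ofNat 24, 12), (.ofNat 27, 15), (.negSucc 0, 18), (.ofNat
  1, 19), (.negSucc 10, 20)]))

/-- a certificate -/
noncomputable def c3 : Hd × Tr :=
  ((192000, [], []), (.far (.ofNat 1) [(.ofNat 1, 1), (.negSucc 0, 8), (.negSucc 0, 9), (.ofNat 1, 11), (.negSucc 0,
  16), (.ofNat 1, 17)]))

/-- a certificate -/
noncomputable def c4 : Hd × Tr :=
  ((144000, [], []), (.far (.ofNat 1) [(.ofNat 1, 1), (.negSucc 0, 8), (.negSucc 0, 9), (.ofNat 1, 11), (.negSucc 0,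
  16), (.ofNat 1, 17)]))

/-- a certificate -/
noncomputable def c5 : Hd × Tr :=
  ((115200, [], []), (.far (.ofNat 1) [(.ofNat 1, 1), (.negSucc 0, 8), (.negSucc 0, 9), (.ofNat 1, 11), (.negSucc 0,
  16), (.ofNat 1, 17)]))

/-- a certificate -/
noncomputable def c6 : Hd × Tr :=
  ((96000, [], []), (.far (.ofNat 1) [(.ofNat 1, 1), (.negSucc 0, 8), (.negSucc 0, 9), (.ofNat 1, 11), (.negSucc 0,
  16), (.ofNat 1, 17)]))

/-- a certificate -/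
noncomputable def c7 : Hd × Tr :=
  ((72000, [], []), (.far (.ofNat 1) [(.ofNat 1, 1), (.negSucc 0, 8), (.negSucc 0, 9), (.ofNat 1, 11), (.negSucc 0,
  16), (.ofNat 1, 17)]))

/-- a certificate -/
noncomputable def c8 : Hd × Tr :=
  ((64000, [], []), (.far (.ofNat 1) [(.negSucc 0, 8), (.negSucc 1, 9), (.negSucc 0, 10), (.ofNat 1, 19), (.negSucc
  2, 20)]))

/-- a certificate -/
noncomputable def c9 : Hd × Tr :=
  ((57600, [], []), (.far (.ofNat 1) [(.ofNat 1, 1), (.negSucc 0, 8), (.negSucc 0, 9), (.ofNat 1, 11), (.negSucc 0,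
  16), (.ofNat 1, 17)]))

/-- a certificate -/
noncomputable def c10 : Hd × Tr :=
  ((48000, [], []), (.far (.ofNat 0) [(.ofNat 15, 1), (.ofNat 7, 6), (.negSucc 10, 9), (.negSucc 3, 10), (.ofNat 64,
  11), (.ofNat 19, 12), (.ofNat 11, 13), (.ofNat 19, 14), (.ofNat 26, 15), (.ofNat 4, 16), (.ofNat 81, 17), (.ofNat
  11, 19), (.ofNat 8, 20)]))

/-- a certificate -/
noncomputable def c11 : Hd × Tr :=
  ((38400, [], [(1, 0)]), (.bf 7 0 (.far (.ofNat 9) [(.negSucc 17, 1), (.ofNat 9, 3), (.ofNat 9, 5), (.negSucc 17,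
  11), (.ofNat 9, 12), (.ofNat 9, 13), (.ofNat 9, 14), (.ofNat 9, 15), (.ofNat 9, 16), (.negSucc 26, 17), (.ofNat 9,
  18), (.ofNat 5, 20)]) (.far (.ofNat 372) [(.ofNat 558, 1), (.ofNat 93, 2), (.ofNat 93, 6), (.ofNat 372, 7), (.ofNat
  372, 10), (.ofNat 1349, 11), (.ofNat 651, 12), (.ofNat 838, 13), (.ofNat 651, 14), (.ofNat 838, 15), (.ofNat 558,
  16), (.ofNat 2187, 17), (.ofNat 372, 19), (.ofNat 419, 20)])))

/-- a certificate -/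
noncomputable def c12 : Hd × Tr :=
  ((443520, [], [(1, 0)]), (.far (.negSucc 0) [(.negSucc 0, 1), (.ofNat 1, 8), (.ofNat 1, 9), (.negSucc 0, 11),
  (.ofNat 1, 16), (.negSucc 0, 17)]))

/-- a certificate -/
noncomputable def c13 : Hd × Tr :=
  ((36000, [], [(1, 0), (2, 0)]), (.bf 7 2 (.bf 8 7 (.bf 8 2 (.far (.ofNat 0) [(.ofNat 1, 11), (.ofNat 1, 17)]) (.bf
  9 2 (.bf 3 8 (.bf 1 12 (.bf 1 10 (.far (.ofNat 6) [(.ofNat 2, 1), (.ofNat 3, 3), (.ofNat 3, 6), (.ofNat 8, 10),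
  (.ofNat 4, 11), (.ofNat 9, 12), (.ofNat 6, 13), (.ofNat 3, 14), (.ofNat 9, 15), (.ofNat 3, 16), (.ofNat 3, 19),
  (.ofNat 3, 20)]) (.bf 2 48 (.bm 5 0 (.far (.negSucc 0) [(.negSucc 0, 1), (.negSucc 0, 2), (.negSucc 0, 5), (.ofNat
  1, 6), (.negSucc 0, 10)]) (.far (.ofNat 21) [(.ofNat 16, 1), (.ofNat 5, 2), (.ofNat 5, 3), (.ofNat 1, 7), (.ofNat
  27, 10), (.ofNat 23, 12), (.ofNat 20, 13), (.ofNat 16, 14), (.ofNat 24, 15), (.ofNat 1, 18), (.ofNat 6, 20),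
  (.ofNat 13, 5)])) (.far (.negSucc 4) [(.negSucc 16, 1), (.negSucc 8, 2), (.ofNat 4, 3), (.ofNat 6, 6), (.ofNat 10,
  12), (.ofNat 13, 13), (.ofNat 15, 14), (.ofNat 10, 15), (.ofNat 27, 16), (.ofNat 6, 18), (.ofNat 4, 19)]))) (.far
  (.negSucc 37) [(.negSucc 22, 1), (.negSucc 75, 2), (.ofNat 114, 6), (.ofNat 114, 7), (.negSucc 22, 10), (.negSucc
  242, 11), (.ofNat 76, 12), (.ofNat 152, 13), (.ofNat 228, 14), (.ofNat 190, 15), (.ofNat 228, 16), (.ofNat 76, 18),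
  (.ofNat 38, 19)])) (.far (.ofNat 0) [(.negSucc 39, 2), (.ofNat 40, 6), (.ofNat 40, 10), (.negSucc 80, 11), (.ofNat
  81, 12), (.ofNat 81, 13), (.ofNat 81, 14), (.ofNat 81, 15), (.ofNat 40, 16), (.ofNat 41, 20)])) (.far (.ofNat 2)
  [(.negSucc 5, 1), (.negSucc 11, 2), (.ofNat 6, 6), (.ofNat 2, 7), (.ofNat 10, 10), (.ofNat 8, 12), (.ofNat 17, 13),
  (.ofNat 8, 14), (.ofNat 27, 15), (.ofNat 12, 16), (.ofNat 8, 18), (.ofNat 6, 19)]))) (.far (.ofNat 1) [(.ofNat 1,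
  1), (.negSucc 1, 2), (.ofNat 3, 6), (.ofNat 5, 7), (.ofNat 1, 10), (.ofNat 8, 12), (.ofNat 4, 13), (.ofNat 4, 14),
  (.ofNat 9, 15), (.ofNat 6, 16), (.ofNat 4, 17), (.ofNat 3, 19), (.ofNat 2, 20)])) (.far (.negSucc 10) [(.negSucc
  10, 1), (.negSucc 21, 2), (.ofNat 11, 6), (.ofNat 32, 7), (.negSucc 10, 10), (.ofNat 81, 11), (.ofNat 43, 12),
  (.ofNat 32, 15), (.ofNat 22, 16), (.ofNat 81, 17), (.ofNat 11, 19)])))

/-- a certificate -/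
noncomputable def c14 : Hd × Tr :=
  ((443520, [], [(2, 0)]), (.far (.negSucc 24) [(.negSucc 10, 2), (.negSucc 4, 3), (.negSucc 19, 4), (.negSucc 10,
  5), (.ofNat 10, 7), (.ofNat 27, 8), (.ofNat 16, 9), (.negSucc 22, 11), (.negSucc 2, 14), (.negSucc 4, 15), (.ofNat
  18, 16), (.negSucc 26, 17), (.ofNat 5, 18)]))

/-- a certificate -/
noncomputable def c15 : Hd × Tr :=
  ((32000, [], []), (.far (.ofNat 1) [(.ofNat 1, 3), (.ofNat 1, 7), (.negSucc 0, 12), (.negSucc 0, 14), (.ofNat 1,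
  16)]))

/-- a certificate -/
noncomputable def c16 : Hd × Tr :=
  ((28800, [], [(1, 0), (2, 0)]), (.bf 7 10 (.bf 8 15 (.bf 9 0 (.bf 3 16 (.bf 1 32 (.bf 2 68 (.bm 3 0 (.bm 18 1 (.bm
  18 0 (.far (.ofNat 103) [(.ofNat 171, 1), (.ofNat 76, 2), (.negSucc 67, 3), (.ofNat 27, 5), (.ofNat 76, 7), (.ofNat
  54, 10), (.ofNat 122, 12), (.ofNat 121, 13), (.ofNat 122, 14), (.ofNat 198, 15), (.ofNat 103, 16), (.ofNat 243,
  17), (.ofNat 76, 19), (.ofNat 122, 20), (.negSucc 66, 18)]) (.bm 4 0 (.far (.ofNat 2) [(.ofNat 1, 1), (.ofNat 1,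
  7), (.ofNat 1, 10), (.ofNat 2, 11), (.ofNat 3, 12), (.ofNat 2, 13), (.ofNat 1, 14), (.ofNat 3, 15), (.ofNat 1, 16),
  (.ofNat 2, 17), (.ofNat 1, 19), (.negSucc 1, 4)]) (.bm 6 0 (.far (.ofNat 0) [(.ofNat 4, 1), (.negSucc 11, 2),
  (.negSucc 18, 3), (.negSucc 26, 6), (.ofNat 7, 10), (.negSucc 14, 12), (.ofNat 24, 13), (.negSucc 14, 14), (.ofNat
  15, 15), (.negSucc 9, 16), (.ofNat 9, 17), (.ofNat 7, 18), (.ofNat 10, 19), (.ofNat 4, 20)]) (.far (.negSucc 15)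
  [(.ofNat 5, 1), (.negSucc 4, 2), (.ofNat 5, 3), (.ofNat 27, 4), (.ofNat 11, 7), (.ofNat 16, 10), (.ofNat 38, 11),
  (.ofNat 27, 13), (.ofNat 27, 14), (.ofNat 11, 15), (.ofNat 27, 16), (.ofNat 81, 17), (.ofNat 5, 18), (.ofNat 11,
  19), (.ofNat 22, 20), (.ofNat 16, 6)])))) (.far (.ofNat 0) [(.negSucc 6, 1), (.negSucc 12, 2), (.negSucc 6, 3),
  (.ofNat 7, 10), (.ofNat 14, 11), (.ofNat 14, 13), (.ofNat 27, 15), (.ofNat 7, 16), (.ofNat 13, 17), (.ofNat 7, 19),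
  (.ofNat 7, 18)])) (.far (.ofNat 0) [(.ofNat 31, 1), (.negSucc 4, 2), (.ofNat 7, 10), (.ofNat 52, 11), (.ofNat 38,
  12), (.ofNat 43, 13), (.ofNat 38, 14), (.ofNat 67, 15), (.ofNat 36, 16), (.ofNat 81, 17), (.ofNat 7, 18), (.ofNat
  17, 19), (.ofNat 14, 20), (.ofNat 41, 3)])) (.far (.ofNat 0) [(.negSucc 23, 2), (.ofNat 24, 6), (.ofNat 97, 10),
  (.ofNat 121, 11), (.ofNat 121, 12), (.ofNat 121, 13), (.ofNat 121, 14), (.ofNat 121, 15), (.ofNat 243, 16), (.ofNat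
  243, 17), (.ofNat 73, 19), (.ofNat 61, 20)])) (.far (.negSucc 159) [(.ofNat 397, 1), (.negSucc 110, 2), (.ofNat
  439, 5), (.ofNat 376, 7), (.ofNat 512, 11), (.ofNat 362, 12), (.ofNat 850, 13), (.ofNat 1337, 14), (.ofNat 968,
  15), (.ofNat 1045, 16), (.ofNat 2187, 17), (.ofNat 258, 18), (.ofNat 3, 19), (.ofNat 57, 20)])) (.far (.ofNat 0)
  [(.negSucc 0, 2), (.ofNat 1, 6), (.ofNat 1, 10), (.ofNat 1, 11), (.ofNat 2, 12), (.ofNat 2, 13), (.ofNat 2, 14),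
  (.ofNat 2, 15), (.ofNat 1, 16), (.ofNat 3, 17), (.ofNat 1, 20)])) (.far (.ofNat 0) [(.negSucc 19, 1), (.negSucc 39,
  2), (.ofNat 20, 3), (.ofNat 40, 6), (.ofNat 40, 7), (.ofNat 20, 10), (.ofNat 81, 11), (.ofNat 81, 12), (.ofNat 40,
  13), (.ofNat 40, 14), (.ofNat 81, 15), (.ofNat 61, 16), (.ofNat 81, 17), (.ofNat 20, 18), (.ofNat 20, 19)])) (.far
  (.ofNat 0) [(.ofNat 65, 1), (.negSucc 15, 2), (.ofNat 49, 6), (.ofNat 97, 7), (.ofNat 65, 11), (.ofNat 211, 12),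
  (.ofNat 81, 13), (.ofNat 113, 14), (.ofNat 243, 15), (.ofNat 130, 16), (.ofNat 194, 17), (.ofNat 97, 19), (.ofNat
  65, 20)])) (.far (.ofNat 0) [(.ofNat 61, 1), (.ofNat 30, 2), (.ofNat 167, 11), (.ofNat 61, 12), (.ofNat 30, 13),
  (.ofNat 61, 14), (.ofNat 91, 15), (.ofNat 30, 16), (.ofNat 243, 17), (.ofNat 46, 19), (.ofNat 38, 20)])))

/-- a certificate -/
noncomputable def c17 : Hd × Tr :=
  ((24000, [], [(1, 0), (2, 0)]), (.far (.negSucc 22) [(.negSucc 45, 1), (.negSucc 92, 2), (.ofNat 46, 6), (.ofNat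
  93, 7), (.ofNat 243, 11), (.ofNat 139, 12), (.ofNat 46, 13), (.ofNat 23, 14), (.ofNat 162, 15), (.ofNat 93, 16),
  (.ofNat 243, 17), (.ofNat 23, 18), (.ofNat 46, 19)]))

/-- a certificate -/
noncomputable def c18 : Hd × Tr :=
  ((19200, [], [(1, 0), (2, 0)]), (.bf 7 15 (.bf 8 20 (.bf 9 0 (.bf 3 21 (.bf 1 42 (.bf 2 86 (.bm 18 1 (.bm 4 1 (.bm
  4 0 (.far (.ofNat 2) [(.ofNat 1, 1), (.ofNat 1, 7), (.ofNat 1, 10), (.ofNat 1, 11), (.ofNat 3, 12), (.ofNat 2, 13),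
  (.ofNat 1, 14), (.ofNat 3, 15), (.ofNat 1, 16), (.ofNat 1, 17), (.ofNat 1, 19), (.negSucc 1, 4)]) (.bm 5 1 (.bm 7 0
  (.bm 20 0 (.bm 10 0 (.bm 11 0 (.bf 7 10 (.bf 7 5 (.far (.ofNat 0) [(.negSucc 0, 11), (.negSucc 0, 17)]) (.bf 8 10
  (.bf 8 5 (.far (.ofNat 0) [(.ofNat 1, 11), (.ofNat 1, 17)]) (.bf 1 18 (.bf 1 0 (.far (.ofNat 0) [(.ofNat 19, 1),
  (.ofNat 11, 2), (.ofNat 22, 4), (.ofNat 19, 10), (.negSucc 18, 11), (.ofNat 11, 13), (.negSucc 10, 18), (.ofNat 11,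
  19), (.ofNat 27, 20)]) (.bm 3 0 (.far (.ofNat 0) [(.ofNat 1, 1), (.negSucc 3, 3), (.negSucc 3, 4), (.ofNat 4, 7),
  (.negSucc 6, 10), (.negSucc 8, 11), (.ofNat 4, 14), (.ofNat 4, 15), (.ofNat 4, 16), (.negSucc 1, 20)]) (.far
  (.negSucc 39) [(.ofNat 32, 1), (.ofNat 81, 4), (.negSucc 39, 7), (.ofNat 73, 10), (.ofNat 8, 11), (.ofNat 40, 13),
  (.ofNat 20, 19), (.ofNat 61, 20), (.ofNat 81, 3)]))) (.far (.negSucc 86) [(.ofNat 17, 1), (.negSucc 28, 2),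
  (.negSucc 86, 4), (.negSucc 28, 5), (.ofNat 58, 7), (.ofNat 29, 8), (.negSucc 242, 10), (.negSucc 190, 11), (.ofNat
  87, 14), (.ofNat 145, 15), (.ofNat 116, 16), (.ofNat 14, 19), (.negSucc 42, 20)]))) (.far (.ofNat 0) [(.negSucc 0,
  11), (.negSucc 0, 17)]))) (.far (.ofNat 0) [(.ofNat 1, 11), (.ofNat 1, 17)])) (.far (.ofNat 0) [(.ofNat 1, 17),
  (.ofNat 1, 11)])) (.far (.negSucc 1) [(.ofNat 18, 1), (.ofNat 2, 2), (.ofNat 4, 4), (.ofNat 2, 7), (.ofNat 3, 11),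
  (.ofNat 4, 13), (.ofNat 4, 14), (.ofNat 4, 15), (.ofNat 4, 16), (.ofNat 27, 17), (.negSucc 1, 18), (.ofNat 3, 19),
  (.ofNat 5, 20), (.ofNat 13, 10)])) (.far (.negSucc 2) [(.ofNat 7, 1), (.ofNat 2, 2), (.ofNat 8, 4), (.ofNat 2, 5),
  (.ofNat 4, 7), (.ofNat 6, 10), (.ofNat 9, 11), (.ofNat 10, 13), (.ofNat 8, 14), (.ofNat 2, 15), (.ofNat 6, 16),
  (.ofNat 27, 17), (.ofNat 4, 19), (.ofNat 9, 20)])) (.far (.negSucc 26) [(.negSucc 4, 1), (.negSucc 10, 2), (.ofNat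
  22, 4), (.ofNat 5, 5), (.ofNat 5, 9), (.ofNat 11, 12), (.ofNat 16, 16), (.ofNat 22, 17), (.ofNat 5, 19), (.ofNat
  11, 20), (.ofNat 22, 7)])) (.far (.negSucc 1) [(.negSucc 0, 2), (.ofNat 2, 4), (.ofNat 1, 7), (.ofNat 1, 10),
  (.ofNat 1, 11), (.ofNat 1, 12), (.ofNat 1, 13), (.ofNat 1, 14), (.ofNat 1, 16), (.ofNat 3, 17), (.ofNat 1, 20),
  (.ofNat 1, 5)]))) (.far (.negSucc 26) [(.negSucc 3, 1), (.negSucc 9, 2), (.ofNat 6, 5), (.ofNat 13, 7), (.ofNat 3,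
  11), (.negSucc 9, 15), (.ofNat 8, 16), (.ofNat 23, 17), (.ofNat 2, 19), (.ofNat 10, 20), (.ofNat 23, 4)])) (.far
  (.negSucc 4) [(.ofNat 5, 11), (.ofNat 9, 12), (.ofNat 5, 14), (.ofNat 5, 15), (.ofNat 5, 17), (.ofNat 5, 19),
  (.ofNat 5, 18)])) (.far (.negSucc 60) [(.negSucc 60, 1), (.negSucc 60, 2), (.ofNat 61, 10), (.ofNat 61, 11),
  (.ofNat 121, 12), (.ofNat 61, 13), (.ofNat 61, 14), (.ofNat 61, 15), (.ofNat 243, 16), (.ofNat 121, 17), (.ofNat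
  61, 19), (.ofNat 30, 20)])) (.far (.negSucc 98) [(.ofNat 130, 1), (.negSucc 36, 2), (.ofNat 117, 5), (.ofNat 142,
  7), (.ofNat 43, 9), (.ofNat 111, 11), (.ofNat 68, 12), (.ofNat 247, 13), (.ofNat 426, 14), (.ofNat 284, 15),
  (.ofNat 377, 16), (.ofNat 729, 17), (.ofNat 105, 18)])) (.far (.negSucc 90) [(.ofNat 91, 1), (.negSucc 181, 2),
  (.ofNat 137, 10), (.ofNat 273, 11), (.ofNat 410, 12), (.ofNat 410, 13), (.ofNat 319, 14), (.ofNat 228, 15), (.ofNat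
  46, 16), (.ofNat 729, 17), (.ofNat 228, 20)])) (.far (.negSucc 5) [(.negSucc 4, 1), (.negSucc 8, 2), (.ofNat 2, 6),
  (.ofNat 5, 7), (.ofNat 7, 11), (.ofNat 4, 12), (.ofNat 1, 13), (.ofNat 7, 15), (.ofNat 5, 16), (.ofNat 1, 17),
  (.ofNat 4, 18), (.ofNat 1, 19)])) (.far (.ofNat 0) [(.negSucc 80, 2), (.ofNat 81, 6), (.ofNat 162, 7), (.ofNat 81,
  11), (.ofNat 243, 12), (.ofNat 81, 13), (.ofNat 81, 14), (.ofNat 243, 15), (.ofNat 162, 16), (.ofNat 162, 17),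
  (.ofNat 81, 19), (.ofNat 40, 20)])) (.far (.ofNat 0) [(.negSucc 3, 2), (.ofNat 4, 6), (.ofNat 8, 7), (.ofNat 23,
  11), (.ofNat 12, 12), (.ofNat 4, 13), (.ofNat 4, 14), (.ofNat 12, 15), (.ofNat 8, 16), (.ofNat 27, 17), (.ofNat 4,
  19), (.ofNat 2, 20)])))

/-- a certificate -/
noncomputable def c19 : Hd × Tr :=
  ((18000, [], [(1, 0), (2, 0)]), (.far (.negSucc 22) [(.negSucc 45, 1), (.negSucc 92, 2), (.ofNat 46, 6), (.ofNat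
  93, 7), (.ofNat 243, 11), (.ofNat 139, 12), (.ofNat 46, 13), (.ofNat 23, 14), (.ofNat 162, 15), (.ofNat 93, 16),
  (.ofNat 243, 17), (.ofNat 23, 18), (.ofNat 46, 19)]))

/-- a certificate -/
noncomputable def c20 : Hd × Tr :=
  ((16000, [], []), (.far (.ofNat 1) [(.ofNat 1, 2), (.ofNat 1, 11), (.ofNat 1, 12), (.ofNat 1, 15), (.ofNat 3, 17),
  (.ofNat 1, 19)]))

/-- a certificate -/
noncomputable def c21 : Hd × Tr :=
  ((12800, [], []), (.far (.ofNat 6) [(.ofNat 4, 3), (.ofNat 1, 5), (.ofNat 1, 6), (.ofNat 5, 7), (.ofNat 1, 10),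
  (.ofNat 1, 11), (.ofNat 4, 13), (.ofNat 5, 15), (.ofNat 7, 16), (.ofNat 9, 17), (.ofNat 1, 19)]))

/-- a certificate -/
noncomputable def c22 : Hd × Tr :=
  ((12000, [], [(1, 0), (2, 0)]), (.bf 7 16 (.bf 8 26 (.bf 9 1 (.bf 3 27 (.bf 1 60 (.bf 2 80 (.bm 3 1 (.bm 18 1 (.bm
  4 1 (.bm 4 0 (.far (.ofNat 16) [(.ofNat 11, 1), (.ofNat 4, 7), (.ofNat 14, 11), (.ofNat 20, 12), (.ofNat 4, 13),
  (.ofNat 7, 14), (.ofNat 27, 15), (.ofNat 7, 16), (.ofNat 2, 19), (.negSucc 19, 4)]) (.bm 5 1 (.bm 6 1 (.bm 7 0 (.bm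
  19 1 (.bm 10 1 (.bm 11 0 (.bm 12 0 (.bm 13 0 (.bm 1003 0 (.far (.ofNat 0) [(.negSucc 0, 1003)]) (.bm 1004 60 (.far
  (.ofNat 902) [(.ofNat 1196, 1), (.ofNat 1121, 2), (.ofNat 308, 4), (.ofNat 362, 6), (.negSucc 348, 7), (.negSucc
  129, 10), (.ofNat 89, 11), (.ofNat 1251, 12), (.negSucc 272, 13), (.ofNat 34, 17), (.negSucc 348, 19), (.ofNat 191,
  20), (.negSucc 19682, 1004)]) (.bm 1125 13 (.bm 1125 4 (.far (.ofNat 0) [(.negSucc 0, 1125)]) (.bm 5000 2 (.bm 5000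
  1 (.far (.ofNat 14) [(.ofNat 5, 1), (.negSucc 0, 2), (.negSucc 1, 3), (.ofNat 6, 4), (.negSucc 3, 7), (.ofNat 7,
  11), (.ofNat 3, 13), (.ofNat 9, 14), (.ofNat 9, 17), (.ofNat 1, 18), (.ofNat 1, 19), (.ofNat 4, 20), (.negSucc 26,
  5000)]) (.bm 3 0 (.far (.ofNat 534) [(.ofNat 72, 1), (.negSucc 9, 2), (.ofNat 19, 4), (.negSucc 86, 7), (.ofNat 22,
  10), (.ofNat 101, 11), (.ofNat 87, 12), (.ofNat 29, 13), (.ofNat 195, 14), (.ofNat 19, 19), (.ofNat 24, 20),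
  (.ofNat 577, 1002), (.negSucc 728, 5000), (.negSucc 165, 3)]) (.bm 18 0 (.far (.negSucc 242) [(.negSucc 73, 1),
  (.negSucc 41, 2), (.ofNat 123, 3), (.negSucc 16, 4), (.ofNat 36, 7), (.negSucc 1, 11), (.negSucc 69, 12), (.negSucc
  7, 13), (.ofNat 15, 16), (.ofNat 44, 17), (.negSucc 12, 18), (.ofNat 30, 19), (.ofNat 209, 5000)]) (.far (.negSucc
  65) [(.negSucc 4, 1), (.negSucc 9, 2), (.ofNat 40, 3), (.ofNat 20, 4), (.negSucc 4, 7), (.ofNat 5, 11), (.negSucc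
  14, 12), (.ofNat 10, 13), (.ofNat 15, 16), (.ofNat 25, 17), (.ofNat 5, 20), (.negSucc 242, 1125), (.ofNat 46,
  5000), (.ofNat 10, 18)])))) (.far (.negSucc 8) [(.ofNat 1, 2), (.ofNat 1, 4), (.negSucc 0, 11), (.ofNat 1, 17),
  (.ofNat 1, 19), (.ofNat 9, 5000)]))) (.far (.ofNat 0) [(.ofNat 1, 1125)])))) (.far (.negSucc 28) [(.ofNat 52, 1),
  (.ofNat 24, 2), (.negSucc 104, 4), (.ofNat 67, 7), (.ofNat 14, 10), (.ofNat 81, 11), (.ofNat 105, 12), (.ofNat 10,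
  16), (.ofNat 91, 17), (.ofNat 29, 18), (.ofNat 52, 19), (.ofNat 5, 20), (.ofNat 243, 13)])) (.far (.ofNat 0)
  [(.ofNat 1, 7), (.ofNat 1, 15), (.ofNat 1, 12)])) (.far (.ofNat 0) [(.ofNat 1, 17), (.ofNat 1, 11)])) (.far (.ofNat
  0) [(.ofNat 1, 1), (.ofNat 1, 17), (.ofNat 1, 10)])) (.far (.negSucc 19) [(.ofNat 7, 1), (.ofNat 7, 2), (.ofNat 7,
  4), (.ofNat 20, 14), (.ofNat 7, 15), (.ofNat 27, 17), (.ofNat 14, 20), (.ofNat 17, 19)])) (.far (.negSucc 26)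
  [(.negSucc 5, 1), (.negSucc 14, 2), (.ofNat 21, 4), (.ofNat 9, 5), (.ofNat 4, 11), (.ofNat 15, 12), (.ofNat 12,
  16), (.ofNat 21, 17), (.ofNat 3, 19), (.ofNat 8, 20), (.ofNat 21, 7)])) (.far (.negSucc 8) [(.negSucc 5, 1),
  (.negSucc 2, 2), (.ofNat 3, 3), (.ofNat 1, 7), (.ofNat 6, 11), (.ofNat 5, 13), (.ofNat 1, 15), (.ofNat 5, 16),
  (.ofNat 7, 17), (.ofNat 3, 18), (.ofNat 1, 19), (.ofNat 9, 6)])) (.far (.negSucc 26) [(.negSucc 3, 1), (.negSucc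
  11, 2), (.ofNat 19, 4), (.ofNat 19, 7), (.ofNat 4, 10), (.ofNat 8, 11), (.ofNat 15, 12), (.ofNat 4, 13), (.ofNat 8,
  16), (.ofNat 23, 17), (.ofNat 8, 20), (.ofNat 15, 5)]))) (.far (.negSucc 26) [(.negSucc 7, 1), (.negSucc 15, 2),
  (.ofNat 4, 5), (.ofNat 8, 7), (.ofNat 10, 11), (.ofNat 5, 13), (.ofNat 7, 16), (.ofNat 17, 17), (.ofNat 2, 18),
  (.ofNat 2, 19), (.ofNat 3, 20), (.ofNat 19, 4)])) (.far (.negSucc 26) [(.negSucc 6, 1), (.negSucc 13, 2), (.ofNat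
  14, 11), (.ofNat 26, 12), (.ofNat 13, 14), (.ofNat 24, 15), (.ofNat 3, 16), (.ofNat 15, 19), (.ofNat 24, 18)]))
  (.far (.negSucc 8) [(.negSucc 1, 1), (.negSucc 4, 2), (.ofNat 2, 7), (.ofNat 4, 11), (.ofNat 4, 14), (.ofNat 4,
  15), (.ofNat 2, 16), (.ofNat 6, 17), (.ofNat 3, 19), (.ofNat 9, 3)])) (.far (.negSucc 138) [(.negSucc 131, 1),
  (.negSucc 96, 2), (.ofNat 7, 3), (.ofNat 21, 10), (.ofNat 14, 11), (.ofNat 111, 12), (.ofNat 14, 13), (.ofNat 243,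
  16), (.ofNat 14, 17), (.ofNat 7, 18), (.ofNat 49, 19)])) (.far (.negSucc 485) [(.ofNat 359, 1), (.negSucc 126, 2),
  (.ofNat 275, 5), (.ofNat 507, 7), (.ofNat 275, 9), (.ofNat 201, 11), (.ofNat 634, 13), (.ofNat 1268, 14), (.ofNat
  718, 15), (.ofNat 1247, 16), (.ofNat 2187, 17), (.ofNat 380, 18)])) (.far (.negSucc 728) [(.negSucc 582, 1),
  (.negSucc 582, 2), (.ofNat 146, 6), (.ofNat 146, 7), (.ofNat 146, 9), (.ofNat 583, 12), (.ofNat 292, 14), (.ofNat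
  146, 15), (.ofNat 292, 17), (.ofNat 146, 20)])) (.far (.negSucc 191) [(.negSucc 161, 1), (.negSucc 242, 2), (.ofNat
  10, 3), (.ofNat 51, 6), (.ofNat 122, 7), (.ofNat 162, 11), (.ofNat 30, 12), (.ofNat 122, 15), (.ofNat 91, 16),
  (.ofNat 91, 18), (.ofNat 30, 19)])) (.far (.negSucc 1639) [(.negSucc 3279, 2), (.ofNat 1640, 6), (.ofNat 4921, 7),
  (.ofNat 6561, 12), (.ofNat 4921, 15), (.ofNat 3280, 16), (.ofNat 1640, 17), (.ofNat 1640, 19)])) (.far (.negSucc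
  10) [(.negSucc 21, 2), (.ofNat 11, 6), (.ofNat 32, 7), (.ofNat 70, 11), (.ofNat 43, 12), (.ofNat 32, 15), (.ofNat
  22, 16), (.ofNat 81, 17), (.ofNat 11, 19)])))

/-- a certificate -/
noncomputable def c23 : Hd × Tr :=
  ((9600, [], [(1, 0), (2, 0)]), (.bf 7 25 (.bf 8 35 (.bf 9 0 (.bf 3 30 (.bf 1 72 (.bf 2 112 (.bm 3 1 (.bm 18 2 (.bm
  5 1 (.bm 6 1 (.bm 8 1 (.bm 20 1 (.bm 9 1 (.bf 2 108 (.bm 1003 0 (.far (.ofNat 0) [(.negSucc 0, 1003)]) (.bm 4200 2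
  (.bm 4200 1 (.far (.ofNat 59) [(.ofNat 8, 1), (.negSucc 7, 2), (.negSucc 11, 3), (.ofNat 1, 5), (.ofNat 1, 9),
  (.ofNat 18, 11), (.ofNat 26, 12), (.ofNat 6, 13), (.ofNat 21, 14), (.ofNat 13, 15), (.ofNat 3, 18), (.ofNat 4, 19),
  (.negSucc 80, 4200)]) (.bf 7 20 (.bf 3 0 (.far (.ofNat 0) [(.ofNat 1, 1003)]) (.bm 4 1 (.bm 4 0 (.far (.ofNat 0)
  [(.ofNat 20, 1), (.ofNat 20, 7), (.ofNat 40, 11), (.ofNat 40, 12), (.ofNat 61, 15), (.ofNat 20, 16), (.ofNat 81,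
  1025), (.ofNat 61, 4200), (.negSucc 60, 4)]) (.bm 19 1 (.bm 11 0 (.bm 1003 218 (.bm 1025 45 (.bf 8 25 (.bf 3 24
  (.bm 12 0 (.bm 1025 44 (.bm 3 0 (.bf 7 15 (.bf 7 0 (.far (.ofNat 4) [(.ofNat 1, 1), (.negSucc 0, 2), (.negSucc 2,
  3), (.ofNat 3, 4), (.negSucc 1, 11), (.negSucc 0, 12), (.ofNat 1, 13), (.ofNat 2, 14), (.ofNat 1, 19), (.ofNat 2,
  20), (.negSucc 8, 4200)]) (.bf 8 10 (.bf 3 18 (.bm 6 0 (.far (.ofNat 7) [(.ofNat 4, 1), (.negSucc 21, 3), (.ofNat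
  9, 4), (.ofNat 9, 5), (.ofNat 9, 9), (.negSucc 18, 11), (.negSucc 14, 12), (.ofNat 4, 20), (.negSucc 26, 4200),
  (.negSucc 19, 6)]) (.bm 7 0 (.bm 8 0 (.bm 20 0 (.bm 9 0 (.far (.ofNat 162) [(.ofNat 81, 1), (.negSucc 80, 2),
  (.negSucc 80, 4), (.negSucc 40, 5), (.negSucc 80, 7), (.negSucc 202, 8), (.negSucc 242, 9), (.ofNat 202, 11),
  (.ofNat 81, 12), (.ofNat 122, 17), (.ofNat 41, 19), (.negSucc 40, 20)]) (.far (.ofNat 54) [(.ofNat 6, 1), (.negSucc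
  17, 3), (.ofNat 6, 4), (.ofNat 2, 6), (.negSucc 6, 7), (.ofNat 5, 8), (.ofNat 2, 10), (.ofNat 8, 11), (.ofNat 7,
  12), (.ofNat 4, 13), (.ofNat 22, 14), (.ofNat 2, 19), (.ofNat 5, 20), (.negSucc 80, 4200), (.ofNat 5, 9)])) (.far
  (.ofNat 52) [(.ofNat 9, 1), (.negSucc 1, 2), (.negSucc 17, 3), (.ofNat 11, 4), (.negSucc 1, 5), (.ofNat 7, 6),
  (.negSucc 4, 7), (.ofNat 2, 8), (.ofNat 13, 11), (.ofNat 5, 12), (.ofNat 7, 13), (.ofNat 25, 14), (.ofNat 14, 17),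
  (.ofNat 5, 19), (.negSucc 80, 4200), (.ofNat 9, 20)])) (.far (.ofNat 5) [(.negSucc 0, 2), (.negSucc 1, 3), (.ofNat
  1, 4), (.ofNat 1, 6), (.negSucc 0, 7), (.ofNat 2, 11), (.ofNat 1, 12), (.ofNat 1, 13), (.ofNat 3, 14), (.negSucc 8,
  4200), (.ofNat 1, 8)])) (.far (.ofNat 275) [(.ofNat 211, 1), (.negSucc 242, 2), (.negSucc 193, 3), (.ofNat 105, 4),
  (.negSucc 104, 6), (.negSucc 33, 11), (.ofNat 462, 12), (.ofNat 95, 17), (.ofNat 122, 19), (.ofNat 53, 20),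
  (.negSucc 728, 4200), (.ofNat 381, 7)]))) (.far (.ofNat 135) [(.negSucc 26, 2), (.negSucc 53, 3), (.ofNat 27, 4),
  (.ofNat 27, 9), (.ofNat 13, 11), (.ofNat 54, 12), (.ofNat 54, 14), (.ofNat 20, 20), (.negSucc 242, 4200)])) (.far
  (.ofNat 4) [(.ofNat 1, 1), (.negSucc 0, 2), (.negSucc 2, 3), (.ofNat 3, 4), (.negSucc 1, 11), (.negSucc 0, 12),
  (.ofNat 1, 13), (.ofNat 2, 14), (.ofNat 1, 19), (.ofNat 2, 20), (.negSucc 8, 4200)]))) (.far (.ofNat 4) [(.ofNat 1,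
  1), (.negSucc 0, 2), (.negSucc 2, 3), (.ofNat 3, 4), (.ofNat 6, 11), (.negSucc 0, 12), (.ofNat 1, 13), (.ofNat 2,
  14), (.ofNat 8, 17), (.ofNat 1, 19), (.ofNat 2, 20), (.negSucc 8, 4200)])) (.bf 7 10 (.far (.negSucc 242)
  [(.negSucc 38, 1), (.negSucc 39, 2), (.ofNat 141, 3), (.ofNat 42, 4), (.negSucc 63, 11), (.negSucc 60, 12), (.ofNat
  21, 13), (.ofNat 41, 16), (.ofNat 20, 18), (.ofNat 10, 19), (.ofNat 12, 20), (.ofNat 182, 4200)]) (.bf 8 20 (.bf 8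
  5 (.far (.ofNat 0) [(.ofNat 1, 11), (.ofNat 1, 17)]) (.bm 7 0 (.bm 20 0 (.bm 10 0 (.far (.negSucc 80) [(.ofNat 12,
  1), (.negSucc 18, 2), (.ofNat 62, 3), (.ofNat 31, 4), (.negSucc 18, 5), (.negSucc 11, 6), (.negSucc 30, 7), (.ofNat
  6, 11), (.negSucc 30, 12), (.negSucc 2, 20), (.negSucc 49, 10)]) (.bm 13 0 (.bm 14 0 (.far (.negSucc 18) [(.ofNat
  6, 3), (.negSucc 3, 4), (.negSucc 0, 6), (.ofNat 2, 7), (.ofNat 3, 10), (.negSucc 3, 11), (.negSucc 1, 12),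
  (.negSucc 1, 13), (.negSucc 7, 14), (.ofNat 1, 16), (.negSucc 0, 19), (.negSucc 2, 20), (.ofNat 27, 4200)]) (.far
  (.ofNat 19) [(.ofNat 5, 1), (.ofNat 1, 2), (.negSucc 5, 3), (.ofNat 4, 4), (.ofNat 1, 5), (.negSucc 1, 7), (.ofNat
  1, 9), (.ofNat 3, 10), (.ofNat 5, 11), (.ofNat 2, 12), (.ofNat 3, 13), (.ofNat 7, 17), (.ofNat 1, 19), (.ofNat 4,
  20), (.negSucc 26, 4200), (.ofNat 9, 14)])) (.far (.negSucc 19) [(.ofNat 8, 1), (.ofNat 1, 2), (.ofNat 5, 3),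
  (.ofNat 3, 4), (.ofNat 7, 7), (.ofNat 9, 10), (.ofNat 4, 11), (.ofNat 4, 15), (.ofNat 8, 16), (.ofNat 26, 17),
  (.ofNat 4, 19), (.ofNat 6, 20), (.ofNat 27, 4200), (.ofNat 9, 13)]))) (.far (.negSucc 80) [(.ofNat 7, 1), (.ofNat
  29, 3), (.ofNat 29, 4), (.ofNat 7, 7), (.ofNat 7, 11), (.negSucc 21, 12), (.ofNat 15, 13), (.ofNat 22, 16), (.ofNat
  66, 17), (.ofNat 7, 19), (.ofNat 66, 4200), (.ofNat 22, 20)])) (.far (.negSucc 8) [(.negSucc 2, 1), (.negSucc 1,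
  2), (.ofNat 4, 3), (.negSucc 1, 12), (.ofNat 1, 16), (.ofNat 2, 17), (.ofNat 1, 19), (.ofNat 7, 4200), (.ofNat 2,
  7)]))) (.far (.negSucc 35) [(.ofNat 4, 1), (.ofNat 8, 2), (.ofNat 8, 4), (.ofNat 4, 7), (.negSucc 27, 11),
  (.negSucc 3, 12), (.ofNat 4, 16), (.ofNat 8, 19), (.ofNat 10, 20), (.negSucc 242, 1025), (.ofNat 36, 4200)]))))
  (.far (.ofNat 0) [(.ofNat 1, 1025)])) (.far (.ofNat 4) [(.negSucc 1, 2), (.negSucc 5, 4), (.ofNat 1, 7), (.ofNat 1,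
  10), (.ofNat 2, 11), (.ofNat 3, 13), (.ofNat 2, 14), (.ofNat 7, 15), (.ofNat 1, 16), (.negSucc 0, 20), (.ofNat 1,
  4200), (.ofNat 9, 12)])) (.far (.ofNat 0) [(.negSucc 0, 1003)])) (.far (.negSucc 39) [(.ofNat 5, 1), (.ofNat 10,
  2), (.ofNat 5, 4), (.ofNat 5, 7), (.negSucc 29, 11), (.ofNat 5, 15), (.ofNat 5, 16), (.ofNat 10, 19), (.ofNat 10,
  20), (.negSucc 242, 1025), (.ofNat 46, 4200)])) (.far (.negSucc 570) [(.ofNat 71, 1), (.ofNat 143, 2), (.ofNat 71,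
  4), (.ofNat 71, 7), (.negSucc 427, 11), (.ofNat 71, 15), (.ofNat 71, 16), (.ofNat 143, 19), (.ofNat 143, 20),
  (.ofNat 642, 4200), (.ofNat 6561, 1025)])) (.far (.negSucc 4363) [(.negSucc 2053, 1), (.negSucc 1796, 2), (.ofNat
  257, 4), (.ofNat 1027, 9), (.negSucc 1026, 11), (.ofNat 2054, 12), (.ofNat 1027, 17), (.negSucc 769, 19), (.ofNat
  770, 20), (.ofNat 2311, 4200), (.ofNat 59049, 1003)])) (.far (.ofNat 5) [(.ofNat 6, 1), (.negSucc 0, 2), (.ofNat 9,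
  4), (.ofNat 1, 6), (.ofNat 5, 13), (.ofNat 9, 14), (.ofNat 2, 15), (.ofNat 4, 16), (.ofNat 27, 17), (.ofNat 3, 19),
  (.ofNat 7, 20), (.negSucc 17, 4200), (.ofNat 17, 11)])) (.far (.negSucc 242) [(.ofNat 5, 1), (.ofNat 52, 2),
  (.ofNat 33, 4), (.ofNat 12, 7), (.ofNat 24, 10), (.ofNat 7, 12), (.ofNat 50, 14), (.ofNat 153, 17), (.ofNat 35,
  18), (.ofNat 53, 20), (.ofNat 212, 4200), (.ofNat 83, 19)]))) (.far (.negSucc 77) [(.negSucc 35, 1), (.negSucc 67,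
  2), (.ofNat 16, 5), (.ofNat 34, 7), (.ofNat 44, 11), (.ofNat 11, 13), (.ofNat 28, 16), (.ofNat 78, 17), (.ofNat 20,
  18), (.ofNat 11, 19), (.ofNat 22, 20), (.negSucc 43, 4200), (.ofNat 81, 4)]))) (.far (.negSucc 161) [(.ofNat 23,
  1), (.ofNat 46, 2), (.ofNat 23, 7), (.ofNat 127, 11), (.ofNat 23, 12), (.ofNat 46, 15), (.ofNat 23, 16), (.ofNat
  243, 17), (.ofNat 46, 19), (.ofNat 35, 20), (.ofNat 208, 4200)]))) (.far (.negSucc 234) [(.ofNat 8, 1), (.ofNat 8,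
  2), (.ofNat 8, 7), (.ofNat 8, 15), (.ofNat 8, 16), (.ofNat 8, 19), (.ofNat 243, 4200)]))) (.far (.negSucc 121)
  [(.negSucc 121, 1), (.negSucc 96, 2), (.negSucc 23, 6), (.ofNat 24, 10), (.ofNat 122, 12), (.ofNat 243, 16),
  (.ofNat 49, 19)])) (.far (.negSucc 60) [(.negSucc 60, 1), (.negSucc 40, 2), (.ofNat 41, 7), (.ofNat 20, 8), (.ofNat
  81, 12), (.ofNat 41, 15), (.ofNat 61, 16), (.ofNat 61, 9)])) (.far (.negSucc 8) [(.ofNat 27, 1), (.ofNat 9, 7),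
  (.ofNat 13, 11), (.ofNat 9, 13), (.ofNat 18, 14), (.ofNat 18, 15), (.ofNat 18, 16), (.ofNat 27, 17), (.ofNat 4,
  19), (.ofNat 25, 20)])) (.far (.negSucc 21) [(.negSucc 10, 1), (.negSucc 10, 2), (.ofNat 5, 5), (.ofNat 11, 12),
  (.ofNat 22, 13), (.ofNat 11, 14), (.ofNat 11, 16), (.ofNat 5, 17), (.ofNat 3, 20), (.ofNat 27, 8)])) (.far
  (.negSucc 26) [(.negSucc 14, 1), (.negSucc 7, 2), (.ofNat 8, 3), (.ofNat 4, 7), (.ofNat 16, 11), (.ofNat 15, 13),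
  (.ofNat 4, 15), (.ofNat 15, 16), (.ofNat 20, 17), (.ofNat 8, 18), (.ofNat 4, 19), (.ofNat 27, 6)])) (.far (.negSucc
  80) [(.negSucc 17, 1), (.negSucc 17, 2), (.ofNat 35, 7), (.ofNat 71, 12), (.ofNat 18, 13), (.ofNat 28, 15), (.ofNat
  26, 16), (.ofNat 18, 17), (.ofNat 63, 5)])) (.far (.negSucc 8) [(.negSucc 4, 1), (.negSucc 5, 2), (.negSucc 4, 3),
  (.ofNat 1, 7), (.ofNat 5, 11), (.ofNat 3, 12), (.ofNat 6, 15), (.ofNat 4, 19), (.ofNat 7, 18)])) (.far (.negSucc 8)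
  [(.negSucc 1, 1), (.negSucc 4, 2), (.ofNat 2, 7), (.ofNat 4, 11), (.ofNat 4, 14), (.ofNat 4, 15), (.ofNat 2, 16),
  (.ofNat 6, 17), (.ofNat 3, 19), (.ofNat 9, 3)])) (.far (.negSucc 432) [(.negSucc 383, 1), (.negSucc 285, 2),
  (.ofNat 49, 10), (.ofNat 16, 11), (.ofNat 335, 12), (.ofNat 49, 13), (.ofNat 729, 16), (.ofNat 16, 17), (.ofNat
  148, 19)])) (.far (.negSucc 445) [(.ofNat 789, 1), (.negSucc 136, 2), (.ofNat 206, 5), (.ofNat 377, 7), (.ofNat 26,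
  11), (.ofNat 515, 13), (.ofNat 1029, 14), (.ofNat 686, 15), (.ofNat 892, 16), (.ofNat 2187, 17), (.ofNat 206, 18),
  (.ofNat 17, 19)])) (.far (.negSucc 242) [(.negSucc 145, 1), (.negSucc 145, 2), (.ofNat 97, 9), (.ofNat 49, 10),
  (.ofNat 194, 12), (.ofNat 49, 13), (.ofNat 146, 14), (.ofNat 49, 15), (.ofNat 194, 17), (.ofNat 97, 20)])) (.far
  (.negSucc 0) [(.negSucc 0, 1), (.negSucc 0, 2)])) (.far (.negSucc 690) [(.ofNat 345, 1), (.negSucc 1035, 2),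
  (.ofNat 345, 6), (.ofNat 1496, 7), (.ofNat 2187, 12), (.ofNat 1957, 15), (.ofNat 1036, 16), (.ofNat 863, 17),
  (.ofNat 691, 19), (.ofNat 86, 20)])) (.far (.negSucc 38) [(.ofNat 39, 1), (.negSucc 38, 2), (.ofNat 52, 7), (.ofNat
  185, 11), (.ofNat 91, 12), (.ofNat 104, 15), (.ofNat 39, 16), (.ofNat 243, 17), (.ofNat 39, 19), (.ofNat 10,
  20)])))

/-- certificates -/
noncomputable def CL0 : List (Hd × Tr) :=
  [c0, c1, c2, c3, c4, c5, c6, c7, c8, c9, c10, c11, c12, c13, c14, c15, c16, c17, c18, c19, c20, c21, c22, c23]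

theorem okC0 : okL TAB.HS.D (TAB.Sm2.mkRows TAB.HS.A TAB.HS.B) P Z CL0 = true := by decide +kernel

/-- a certificate -/
noncomputable def c24 : Hd × Tr :=
  ((6000, [], [(1, 0), (2, 0)]), (.bf 7 32 (.bf 8 42 (.bf 9 2 (.bf 3 21 (.bf 1 108 (.bf 2 96 (.bm 3 1 (.bm 18 2 (.bm
  4 1 (.bm 19 1 (.bm 8 1 (.bm 20 2 (.bf 1 96 (.bm 1002 0 (.far (.ofNat 0) [(.negSucc 0, 1002)]) (.bm 1003 0 (.far
  (.ofNat 0) [(.negSucc 0, 1003)]) (.bm 1048 5 (.far (.ofNat 1) [(.ofNat 1, 1), (.ofNat 1, 2), (.negSucc 8, 1048)])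
  (.bm 1125 4 (.far (.ofNat 0) [(.negSucc 0, 1125)]) (.bm 3000 2 (.bm 3000 1 (.far (.ofNat 4) [(.negSucc 0, 1),
  (.negSucc 1, 2), (.ofNat 2, 11), (.ofNat 1, 12), (.ofNat 3, 14), (.ofNat 1, 19), (.negSucc 8, 3000)]) (.bf 3 0
  (.far (.ofNat 0) [(.ofNat 1, 1003)]) (.bm 5 1 (.bm 9 1 (.bm 3 0 (.bf 1 48 (.bm 10 1 (.bm 11 0 (.bm 12 0 (.bf 7 17
  (.bf 1 36 (.bm 10 0 (.far (.ofNat 12) [(.negSucc 18, 1), (.negSucc 23, 2), (.negSucc 133, 3), (.ofNat 12, 7),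
  (.negSucc 101, 11), (.negSucc 108, 12), (.ofNat 12, 19), (.ofNat 729, 1125), (.negSucc 181, 3000), (.negSucc 128,
  10)]) (.bm 14 0 (.bm 1125 6 (.far (.negSucc 9) [(.ofNat 3, 1), (.ofNat 5, 3), (.ofNat 8, 10), (.negSucc 2, 11),
  (.negSucc 4, 14), (.ofNat 15, 3000), (.negSucc 80, 1125)]) (.bf 7 12 (.far (.negSucc 20) [(.negSucc 5, 1),
  (.negSucc 1, 2), (.ofNat 1, 7), (.negSucc 3, 10), (.negSucc 3, 11), (.negSucc 8, 12), (.negSucc 10, 14), (.ofNat 1,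
  19), (.ofNat 81, 1125), (.ofNat 18, 3000)]) (.bf 8 2 (.far (.ofNat 0) [(.ofNat 1, 1125)]) (.far (.negSucc 728)
  [(.negSucc 264, 1), (.negSucc 109, 2), (.negSucc 76, 3), (.negSucc 10, 5), (.ofNat 11, 8), (.negSucc 187, 10),
  (.negSucc 109, 11), (.negSucc 375, 12), (.negSucc 430, 14), (.ofNat 55, 19), (.ofNat 497, 3000)])))) (.far (.ofNat
  19) [(.ofNat 4, 1), (.negSucc 1, 2), (.negSucc 5, 3), (.ofNat 3, 10), (.ofNat 4, 11), (.ofNat 7, 12), (.ofNat 3,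
  15), (.negSucc 26, 3000), (.ofNat 6, 14)]))) (.far (.ofNat 18) [(.ofNat 4, 1), (.negSucc 8, 3), (.negSucc 4, 10),
  (.negSucc 3, 11), (.ofNat 9, 14), (.negSucc 26, 3000)])) (.far (.ofNat 41) [(.negSucc 6, 1), (.negSucc 16, 2),
  (.negSucc 29, 3), (.negSucc 11, 10), (.ofNat 59, 11), (.ofNat 11, 12), (.ofNat 15, 15), (.ofNat 40, 17), (.ofNat 8,
  19), (.negSucc 80, 3000)])) (.far (.ofNat 57) [(.ofNat 7, 1), (.negSucc 6, 2), (.negSucc 17, 3), (.ofNat 15, 11),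
  (.ofNat 16, 14), (.ofNat 6, 15), (.ofNat 4, 19), (.ofNat 77, 1125), (.negSucc 80, 3000), (.ofNat 22, 12)])) (.far
  (.ofNat 19) [(.ofNat 1, 1), (.negSucc 2, 2), (.negSucc 4, 3), (.ofNat 2, 6), (.ofNat 7, 12), (.ofNat 7, 14),
  (.ofNat 3, 15), (.ofNat 1, 18), (.ofNat 1, 19), (.negSucc 26, 3000), (.ofNat 8, 11)])) (.far (.ofNat 14) [(.ofNat
  17, 1), (.negSucc 5, 2), (.negSucc 9, 3), (.ofNat 4, 12), (.ofNat 5, 15), (.ofNat 13, 17), (.ofNat 3, 19),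
  (.negSucc 26, 3000), (.ofNat 15, 10)])) (.far (.ofNat 2) [(.ofNat 1, 1), (.negSucc 0, 3), (.ofNat 1, 14), (.ofNat
  1, 17), (.negSucc 2, 3000)])) (.bf 1 0 (.far (.negSucc 242) [(.negSucc 164, 1), (.negSucc 153, 2), (.ofNat 239, 3),
  (.negSucc 60, 5), (.ofNat 95, 6), (.ofNat 4, 7), (.ofNat 31, 8), (.negSucc 29, 9), (.ofNat 161, 11), (.ofNat 57,
  15), (.ofNat 77, 19), (.ofNat 93, 3000)]) (.bm 4 0 (.far (.negSucc 24) [(.negSucc 6, 1), (.negSucc 5, 2), (.ofNat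
  10, 3), (.negSucc 0, 5), (.ofNat 3, 7), (.ofNat 4, 15), (.ofNat 1, 19), (.ofNat 27, 3000), (.negSucc 8, 4)]) (.bm 7
  0 (.bm 10 0 (.far (.negSucc 7) [(.negSucc 1, 1), (.negSucc 4, 2), (.ofNat 8, 3), (.ofNat 4, 4), (.negSucc 1, 7),
  (.ofNat 3, 11), (.ofNat 1, 16), (.ofNat 1, 17), (.ofNat 2, 18), (.negSucc 8, 3000), (.negSucc 5, 10)]) (.bm 11 0
  (.bm 12 0 (.bf 7 27 (.bf 3 12 (.bf 2 32 (.far (.negSucc 242) [(.negSucc 73, 1), (.negSucc 42, 2), (.ofNat 111, 3),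
  (.negSucc 0, 5), (.ofNat 26, 6), (.ofNat 57, 7), (.ofNat 1, 8), (.ofNat 16, 11), (.negSucc 73, 12), (.ofNat 73,
  17), (.ofNat 21, 19), (.ofNat 223, 3000)]) (.bm 18 1 (.bm 18 0 (.far (.negSucc 728) [(.negSucc 228, 1), (.negSucc
  121, 2), (.ofNat 347, 3), (.negSucc 81, 4), (.ofNat 148, 7), (.ofNat 31, 10), (.negSucc 4, 11), (.negSucc 188, 12),
  (.ofNat 46, 16), (.ofNat 148, 17), (.ofNat 102, 19), (.ofNat 688, 3000), (.negSucc 40, 18)]) (.bm 5 0 (.far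
  (.negSucc 242) [(.negSucc 242, 1), (.negSucc 154, 2), (.ofNat 44, 3), (.negSucc 21, 7), (.negSucc 132, 12), (.ofNat
  22, 18), (.ofNat 11, 19), (.negSucc 87, 5)]) (.bm 6 0 (.bm 19 0 (.bm 8 0 (.far (.ofNat 85) [(.ofNat 210, 1),
  (.ofNat 140, 2), (.negSucc 62, 3), (.negSucc 110, 4), (.ofNat 82, 5), (.negSucc 242, 6), (.negSucc 6, 7), (.negSucc
  81, 8), (.negSucc 187, 11), (.ofNat 15, 12), (.negSucc 54, 18), (.negSucc 14, 19), (.ofNat 86, 3000)]) (.far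
  (.negSucc 26) [(.negSucc 10, 1), (.negSucc 7, 2), (.ofNat 8, 3), (.negSucc 0, 4), (.ofNat 3, 5), (.negSucc 1, 6),
  (.ofNat 1, 7), (.negSucc 2, 11), (.negSucc 9, 12), (.negSucc 1, 18), (.ofNat 2, 19), (.ofNat 16, 3000), (.ofNat 5,
  8)])) (.far (.negSucc 2) [(.negSucc 0, 1), (.negSucc 0, 2), (.ofNat 1, 3), (.negSucc 0, 6), (.negSucc 1, 12),
  (.ofNat 1, 3000), (.ofNat 1, 19)])) (.far (.negSucc 80) [(.negSucc 33, 1), (.negSucc 21, 2), (.ofNat 34, 3),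
  (.ofNat 2, 4), (.negSucc 6, 5), (.ofNat 20, 7), (.ofNat 14, 11), (.negSucc 19, 12), (.ofNat 4, 13), (.ofNat 31,
  17), (.ofNat 5, 18), (.ofNat 5, 19), (.ofNat 74, 3000), (.ofNat 21, 6)])))) (.far (.ofNat 0) [(.negSucc 0, 1),
  (.negSucc 1, 2), (.negSucc 0, 3), (.ofNat 1, 4), (.ofNat 1, 11), (.negSucc 0, 12), (.negSucc 2, 3000), (.ofNat 1,
  18)]))) (.far (.negSucc 728) [(.negSucc 404, 1), (.negSucc 301, 2), (.ofNat 228, 3), (.negSucc 73, 4), (.negSucc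
  73, 5), (.ofNat 133, 6), (.ofNat 52, 7), (.ofNat 29, 11), (.negSucc 109, 12), (.ofNat 37, 13), (.ofNat 162, 17),
  (.ofNat 596, 3000)])) (.far (.negSucc 242) [(.negSucc 165, 1), (.negSucc 118, 2), (.ofNat 52, 3), (.negSucc 16, 5),
  (.ofNat 22, 6), (.ofNat 47, 7), (.ofNat 17, 8), (.ofNat 94, 11), (.negSucc 143, 12), (.ofNat 119, 17), (.ofNat 60,
  19), (.ofNat 112, 3000)])) (.far (.ofNat 6) [(.negSucc 25, 1), (.negSucc 59, 2), (.negSucc 6, 3), (.ofNat 20, 4),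
  (.ofNat 9, 5), (.ofNat 37, 7), (.ofNat 29, 11), (.ofNat 4, 15), (.ofNat 8, 18), (.negSucc 76, 3000), (.ofNat 81,
  12)])) (.far (.ofNat 8) [(.negSucc 104, 1), (.negSucc 131, 2), (.ofNat 62, 3), (.ofNat 27, 4), (.ofNat 53, 6),
  (.ofNat 44, 7), (.negSucc 15, 9), (.ofNat 129, 14), (.ofNat 75, 17), (.ofNat 10, 18), (.ofNat 49, 19), (.negSucc
  242, 3000), (.ofNat 129, 11)]))) (.far (.negSucc 26) [(.negSucc 11, 1), (.negSucc 9, 2), (.ofNat 12, 3), (.ofNat 2,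
  11), (.ofNat 4, 16), (.ofNat 6, 17), (.ofNat 5, 19), (.ofNat 17, 3000), (.ofNat 12, 7)]))))) (.far (.negSucc 8)
  [(.negSucc 8, 1), (.negSucc 6, 2), (.negSucc 1, 5), (.ofNat 1, 7), (.ofNat 1, 15), (.ofNat 1, 16), (.ofNat 5, 9)]))
  (.far (.negSucc 2186) [(.negSucc 819, 1), (.negSucc 819, 2), (.ofNat 1111, 7), (.ofNat 1247, 12), (.ofNat 256, 15),
  (.ofNat 137, 16), (.ofNat 1367, 1048), (.ofNat 1367, 5)])))) (.far (.negSucc 0) [(.ofNat 1, 1003), (.ofNat 1,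
  3000)])))))) (.far (.negSucc 254) [(.ofNat 165, 1), (.negSucc 183, 2), (.negSucc 59, 3), (.ofNat 11, 5), (.ofNat
  301, 7), (.negSucc 10, 8), (.ofNat 155, 13), (.ofNat 249, 14), (.ofNat 263, 16), (.ofNat 729, 17), (.ofNat 170,
  18), (.negSucc 91, 20)])) (.far (.negSucc 1) [(.ofNat 2, 1), (.negSucc 0, 2), (.negSucc 0, 3), (.ofNat 2, 7),
  (.ofNat 1, 11), (.ofNat 1, 13), (.ofNat 1, 14), (.ofNat 1, 16), (.ofNat 2, 17), (.ofNat 3, 20)])) (.far (.negSucc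
  2) [(.negSucc 1, 1), (.negSucc 1, 2), (.ofNat 1, 13), (.ofNat 1, 14), (.ofNat 1, 16), (.ofNat 3, 8)])) (.far
  (.negSucc 26) [(.negSucc 26, 1), (.negSucc 26, 2), (.negSucc 6, 4), (.ofNat 20, 7), (.ofNat 7, 14), (.ofNat 20,
  15), (.ofNat 20, 19)])) (.far (.negSucc 242) [(.negSucc 53, 1), (.negSucc 123, 2), (.ofNat 60, 7), (.ofNat 76, 11),
  (.ofNat 33, 13), (.ofNat 47, 16), (.ofNat 94, 17), (.ofNat 7, 18), (.ofNat 3, 19), (.ofNat 152, 4)])) (.far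
  (.negSucc 8) [(.negSucc 4, 1), (.negSucc 5, 2), (.negSucc 4, 3), (.ofNat 5, 11), (.ofNat 1, 12), (.ofNat 6, 15),
  (.ofNat 4, 19), (.ofNat 7, 18)])) (.far (.negSucc 8) [(.negSucc 1, 1), (.negSucc 4, 2), (.ofNat 2, 7), (.ofNat 4,
  11), (.ofNat 4, 14), (.ofNat 4, 15), (.ofNat 2, 16), (.ofNat 6, 17), (.ofNat 3, 19), (.ofNat 9, 3)])) (.far
  (.negSucc 47) [(.negSucc 45, 1), (.negSucc 33, 2), (.ofNat 1, 3), (.ofNat 4, 8), (.ofNat 5, 10), (.ofNat 37, 12),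
  (.ofNat 4, 13), (.ofNat 81, 16), (.ofNat 1, 18), (.ofNat 16, 19)])) (.far (.negSucc 19) [(.ofNat 12, 1), (.negSucc
  9, 2), (.ofNat 2, 5), (.ofNat 17, 7), (.ofNat 8, 9), (.ofNat 7, 11), (.ofNat 27, 13), (.ofNat 39, 14), (.ofNat 14,
  15), (.ofNat 35, 16), (.ofNat 81, 17), (.ofNat 15, 18)])) (.far (.negSucc 0) [(.negSucc 0, 1), (.negSucc 0, 2)]))
  (.far (.negSucc 0) [(.negSucc 0, 1), (.negSucc 0, 2)])) (.far (.negSucc 655) [(.negSucc 582, 1), (.negSucc 728, 2),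
  (.ofNat 73, 6), (.ofNat 510, 7), (.ofNat 510, 15), (.ofNat 146, 16), (.ofNat 73, 17), (.ofNat 365, 19)])) (.far
  (.negSucc 124) [(.negSucc 110, 1), (.negSucc 138, 2), (.ofNat 14, 6), (.ofNat 97, 7), (.ofNat 229, 11), (.ofNat 97,
  15), (.ofNat 28, 16), (.ofNat 243, 17), (.ofNat 69, 19)])))

/-- a certificate -/
noncomputable def c25 : Hd × Tr :=
  ((443520, [(1005, 39425)], [(1005, 39425)]), (.far (.negSucc 14) [(.negSucc 6, 3), (.negSucc 9, 4), (.negSucc 2,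
  5), (.negSucc 3, 6), (.ofNat 6, 7), (.ofNat 18, 8), (.ofNat 15, 9), (.negSucc 33, 11), (.ofNat 16, 16), (.negSucc
  20, 17), (.negSucc 0, 18), (.ofNat 1, 19), (.negSucc 80, 1005)]))

/-- a certificate -/
noncomputable def c26 : Hd × Tr :=
  ((3000, [], [(1, 0), (2, 0)]), (.bf 7 49 (.bf 8 49 (.bf 9 4 (.bf 3 6 (.bf 1 144 (.bf 2 64 (.bm 3 1 (.bm 18 1 (.bm 4
  1 (.bm 5 1 (.bm 7 0 (.bm 19 1 (.bm 8 1 (.bm 9 1 (.bm 10 3 (.bm 12 1 (.bm 12 0 (.far (.negSucc 26) [(.negSucc 25,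
  1), (.negSucc 23, 2), (.negSucc 2, 5), (.ofNat 1, 10), (.ofNat 4, 11), (.ofNat 4, 18), (.ofNat 6, 19), (.negSucc
  23, 12)]) (.bf 3 0 (.bf 2 0 (.far (.ofNat 1) [(.negSucc 0, 2), (.ofNat 1, 17)]) (.far (.ofNat 0) [(.negSucc 0, 1),
  (.negSucc 0, 2), (.negSucc 0, 4), (.negSucc 0, 7), (.negSucc 0, 9), (.ofNat 1, 12)])) (.far (.negSucc 63)
  [(.negSucc 46, 1), (.negSucc 80, 2), (.negSucc 16, 4), (.ofNat 17, 7), (.ofNat 74, 12), (.negSucc 16, 19)]))) (.far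
  (.negSucc 0) [(.negSucc 0, 1), (.negSucc 0, 2), (.ofNat 1, 12)])) (.far (.negSucc 0) [(.ofNat 2, 1), (.negSucc 0,
  2), (.negSucc 2, 4), (.ofNat 1, 7), (.ofNat 2, 10)])) (.far (.negSucc 8) [(.negSucc 6, 1), (.negSucc 6, 2),
  (.negSucc 1, 5), (.ofNat 2, 7), (.ofNat 4, 9)])) (.far (.negSucc 2) [(.negSucc 0, 1), (.negSucc 1, 2), (.ofNat 1,
  6), (.negSucc 0, 19), (.ofNat 2, 8)])) (.far (.negSucc 26) [(.negSucc 19, 1), (.negSucc 11, 2), (.negSucc 4, 4),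
  (.ofNat 7, 7), (.ofNat 5, 14), (.ofNat 4, 18), (.ofNat 15, 19)])) (.far (.negSucc 8) [(.negSucc 5, 1), (.negSucc 7,
  2), (.ofNat 2, 3), (.ofNat 4, 11), (.ofNat 2, 18), (.ofNat 2, 19), (.ofNat 7, 7)])) (.far (.negSucc 26) [(.negSucc
  13, 1), (.negSucc 13, 2), (.ofNat 13, 7), (.ofNat 14, 5)])) (.far (.negSucc 26) [(.negSucc 10, 1), (.negSucc 10,
  2), (.ofNat 11, 7), (.ofNat 7, 11), (.ofNat 7, 17), (.ofNat 2, 18), (.ofNat 16, 4)])) (.far (.negSucc 26)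
  [(.negSucc 16, 1), (.negSucc 19, 2), (.ofNat 10, 7), (.ofNat 13, 11), (.ofNat 7, 19), (.ofNat 12, 18)])) (.far
  (.negSucc 2) [(.negSucc 1, 1), (.negSucc 0, 2), (.ofNat 1, 7), (.ofNat 1, 3)])) (.far (.negSucc 0) [(.negSucc 0,
  1), (.negSucc 0, 2)])) (.far (.negSucc 242) [(.negSucc 84, 1), (.negSucc 157, 2), (.ofNat 85, 5), (.ofNat 158, 7),
  (.ofNat 170, 14), (.ofNat 85, 16), (.ofNat 219, 17), (.ofNat 12, 18)])) (.far (.negSucc 0) [(.negSucc 0, 1),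
  (.negSucc 0, 2)])) (.far (.negSucc 0) [(.negSucc 0, 1), (.negSucc 0, 2)])) (.far (.negSucc 26) [(.negSucc 20, 1),
  (.negSucc 26, 2), (.ofNat 16, 7), (.ofNat 10, 15), (.ofNat 2, 17), (.ofNat 10, 19)])) (.far (.negSucc 80)
  [(.negSucc 42, 1), (.negSucc 54, 2), (.ofNat 38, 7), (.ofNat 20, 8), (.ofNat 64, 11), (.ofNat 81, 17), (.ofNat 26,
  19)])))

/-- certificates -/
noncomputable def CL1 : List (Hd × Tr) :=
  [c24, c25, c26]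

theorem okC1 : okL TAB.HS.D (TAB.Sm2.mkRows TAB.HS.A TAB.HS.B) P Z CL1 = true := by decide +kernel

/-- the enumeration -/
theorem lst0 {K : Type} [Group K] [Finite K] (h : In K TAB.HS.D (TAB.Sm2.mkRows TAB.HS.A TAB.HS.B)) :
    Lst K SV :=
  lst_of_enum (E := E) h ok1 (H940.Eng.D.ords_hs base) (fun _ => List.not_mem_nil) List.mem_cons_self (dv_iff.1
  (by decide +kernel)) okB1 (l1 := []) rfl (W := [W0].flatten) (by decide +kernel) <| forall_flatten <|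
    fa_cons (fun _ h => ⟨_, okD0, h⟩) <| fa_nil

/-- the heads -/
def FL : List Hd :=
  [(1008000, [], []), (576000, [], []), (288000, [], []), (192000, [], []), (144000, [], []), (115200, [], []),
  (96000, [], []), (72000, [], []), (64000, [], []), (57600, [], []), (48000, [], []), (38400, [], [(1, 0)]),
  (443520, [], [(1, 0)]), (36000, [], [(1, 0), (2, 0)]), (443520, [], [(2, 0)]), (32000, [], []), (28800, [], [(1,
  0), (2, 0)]), (24000, [], [(1, 0), (2, 0)]), (19200, [], [(1, 0), (2, 0)]), (18000, [], [(1, 0), (2, 0)]), (16000,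
  [], []), (12800, [], []), (12000, [], [(1, 0), (2, 0)]), (9600, [], [(1, 0), (2, 0)]), (6000, [], [(1, 0), (2,
  0)]), (443520, [(1005, 39425)], [(1005, 39425)]), (3000, [], [(1, 0), (2, 0)])]

/-- scripts -/
noncomputable def S0 : List ((ℕ × ℕ) × Ps) :=
  [((7920, 44), (.ky 0)), ((443520, 77), (.ky 1)), ((443520, 154), (.ky 2)), ((443520, 231), (.ky 3)), ((443520,
  308), (.ky 4)), ((443520, 385), (.ky 5)), ((443520, 462), (.ky 6)), ((443520, 616), (.ky 7)), ((443520, 693), (.ky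
  8)), ((443520, 770), (.ky 9)), ((443520, 924), (.ky 10)), ((443520, 1155), (.br 1 (.kx 12) (.ky 11))), ((443520,
  1232), (.br 2 (.kx 14) (.br 1 (.kx 12) (.ky 13)))), ((443520, 1386), (.ky 15)), ((443520, 1540), (.br 2 (.kx 14)
  (.br 1 (.kx 12) (.ky 16)))), ((443520, 1848), (.br 2 (.kx 14) (.br 1 (.kx 12) (.ky 17)))), ((443520, 2310), (.br 2
  (.kx 14) (.br 1 (.kx 12) (.ky 18)))), ((443520, 2464), (.br 2 (.kx 14) (.br 1 (.kx 12) (.ky 19)))), ((443520,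
  2772), (.ky 20)), ((443520, 3465), (.ky 21)), ((443520, 3696), (.br 2 (.kx 14) (.br 1 (.kx 12) (.ky 22)))),
  ((443520, 4620), (.br 2 (.kx 14) (.br 1 (.kx 12) (.ky 23)))), ((443520, 7392), (.br 2 (.kx 14) (.br 1 (.kx 12) (.ky
  24)))), ((443520, 9856), (.kx 25)), ((443520, 14784), (.br 2 (.kx 14) (.br 1 (.kx 12) (.ky 26))))]

theorem okC : ∀ x ∈ FL, ∃ CL, okL TAB.HS.D (TAB.Sm2.mkRows TAB.HS.A TAB.HS.B) P Z CL = true ∧ x ∈ CL.map Prod.fst := by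
  rw [show FL = [CL0.map Prod.fst, CL1.map Prod.fst].flatten by decide +kernel]
  exact forall_flatten <| fa_cons (fun _ h => ⟨_, okC0, h⟩) <| fa_cons (fun _ h => ⟨_, okC1, h⟩) <| fa_nil

/-- **the list** -/
theorem lst {K : Type} [Group K] [Finite K] (h : In K TAB.HS.D (TAB.Sm2.mkRows TAB.HS.A TAB.HS.B)) :
    Lst K L :=
  lst_of_cert h (lst0 h) (l := E.l) (by decide +kernel) (SG := [1, 2]) (by decide +kernel) okC (SS := [S0].flatten)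
  (by decide +kernel) (by decide +kernel)

end Cfsg.Agent.SM.Sp.NHS
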