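import Cfsg.Agent.SM.Sp.NSuzD

/-!
# SM (S3570), sporadic socles: Suz, enumeration (helper26; generated by notes/SM/sp26/gen2.py.txt)
-/

set_option autoImplicit false
set_option Elab.async false

namespace Cfsg.Agent.SM.Sp.NSuz

open Cfsg Cfsg.Agent.TAB.Eng Cfsg.Agent.H940.Eng Cfsg.Agent.TH.Spor

theorem okB1 : okB E ⟨13, 13, [(2, 1), (3, 1), (13, 1)]⟩ = true := by decide +kernel

/-- pieces -/
def W0 : List (ℕ × ℕ) :=
  [(1092, 1), (1092, 7), (1092, 13), (1092, 91), (5616, 1), (5616, 13), (7800, 1), (7800, 13), (9828, 1), (9828, 7),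
  (9828, 13), (9828, 91), (62400, 1), (62400, 13), (4245696, 1), (4245696, 7), (4245696, 13), (4245696, 91),
  (6065280, 1), (6065280, 13)]

theorem okD0 : okD E [(5, 2), (3, 7), (2, 13)] W0 = true := by decide +kernel

/-- pieces -/
def W1 : List (ℕ × ℕ) :=
  [(17971200, 1), (17971200, 13), (251596800, 1), (251596800, 7)]

theorem okD1 : okD E [(5, 2), (3, 7), (2, 13)] W1 = true := by decide +kernel

/-- pieces -/
def W2 : List (ℕ × ℕ) :=
  [(251596800, 13), (251596800, 91)]

theorem okD2 : okD E [(5, 2), (3, 7), (2, 13)] W2 = true := by decide +kernel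

end Cfsg.Agent.SM.Sp.NSuz
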