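import Cfsg.Agent.SM.Sp.Enum
import Cfsg.Agent.TAB.Suz.Dat

/-!
# SM (S3570), sporadic socles: Suz, data (helper26; generated by notes/SM/sp26/gen2.py.txt)
-/

set_option autoImplicit false
set_option Elab.async false

namespace Cfsg.Agent.SM.Sp.NSuz

open Cfsg Cfsg.Agent.TAB.Eng Cfsg.Agent.H940.Eng Cfsg.Agent.TH.Spor

/-- local data -/
def loc : List LD :=
  [⟨13, 13, [(2, 1), (3, 1), (13, 1)]⟩, ⟨11, 11, [(2, 1), (5, 1), (11, 1)]⟩, ⟨7, 504, [(2, 3), (3, 2), (7, 1)]⟩]

/-- the pairs which remain -/
def L : List (ℕ × ℕ) :=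
  [(13685760, 1782), (251596800, 32760), (251596800, 232960), (251596800, 1397760), (251596800, 2795520)]

/-- the candidates -/
def SV : List (ℕ × ℕ) :=
  [(13685760, 1782), (251596800, 32760), (251596800, 232960), (251596800, 1397760), (251596800, 2795520), (443520,
  924), (443520, 4928), (443520, 9856), (4245696, 936), (4245696, 1872), (6065280, 936), (6065280, 1872), (6065280,
  11232), (6065280, 22464), (17971200, 936), (17971200, 1872), (17971200, 11232), (17971200, 22464), (19958400, 924),
  (19958400, 1925), (19958400, 3850), (19958400, 4928), (19958400, 5775), (19958400, 9856), (19958400, 11550),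
  (19958400, 24948), (19958400, 36960), (19958400, 51975), (19958400, 73920), (19958400, 103950), (19958400, 133056),
  (19958400, 155925), (239500800, 924), (239500800, 1925), (239500800, 3850), (239500800, 4928), (239500800, 5775),
  (239500800, 9856), (239500800, 11550), (239500800, 24948), (239500800, 36960), (239500800, 51975), (239500800,
  73920), (239500800, 103950), (239500800, 105600), (239500800, 133056), (239500800, 155925), (239500800, 266112),
  (239500800, 311850), (251596800, 1365), (251596800, 2730), (251596800, 16380), (251596800, 81900), (251596800,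
  116480), (251596800, 163800)]

/-- the data -/
def E : Ed :=
  ⟨448345497600, [(13, 1), (11, 1), (7, 1), (5, 2), (3, 7), (2, 13)], H940.Eng.D.o_suz, loc, 143, [144], [(13, 16),
  (11, 9), (7, 29)], [60, 168, 360, 504, 660, 1092, 2520, 5616, 6048, 7800, 7920, 9828, 20160, 25920, 62400, 95040,
  181440, 443520, 604800, 1451520, 1814400, 3265920, 4245696, 6065280, 13685760, 17971200, 19958400, 174182400,
  239500800, 251596800], SV⟩

theorem ok1 : okEd TAB.Sz.dat (TAB.Sm2.mkRows TAB.Sz.rowA TAB.Sz.rowB) E = true := by decide +kernel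

/-- the types of prime order -/
def P : List (ℕ × ℕ × ℕ) :=
  [(13, 16, 68976230400), (11, 9, 40758681600), (7, 29, 5337446400), (5, 14, 1494484992), (5, 34, 249080832), (3, 4,
  12812800), (3, 6, 138378240), (3, 36, 45760), (2, 1, 135135), (2, 31, 2779920)]

/-- the types -/
def Z : List Ze :=
  [(1, 2, 135135, [1]), (2, 4, 145945800, [1]), (3, 6, 1037836800, [4, 1]), (4, 3, 12812800, [4]), (5, 20,
  22417274880, [34, 1]), (6, 3, 138378240, [6]), (7, 12, 1556755200, [36, 1]), (8, 12, 18681062400, [4, 1]), (9, 11,
  40758681600, [9]), (10, 14, 16012339200, [29, 31]), (11, 8, 7005398400, [1]), (12, 10, 22417274880, [14, 31]), (13,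
  15, 29889699840, [14, 36]), (14, 5, 1494484992, [14]), (15, 6, 6227020800, [6, 31]), (16, 13, 68976230400, [16]),
  (17, 21, 42699571200, [29, 36]), (18, 15, 19926466560, [34, 6]), (19, 12, 12454041600, [6, 31]), (20, 9,
  16605388800, [4]), (21, 18, 49816166400, [4, 1]), (22, 4, 1556755200, [31]), (23, 8, 14010796800, [1]), (24, 12,
  9340531200, [36, 1]), (25, 10, 11208637440, [34, 1]), (26, 12, 6227020800, [4, 1]), (27, 24, 18681062400, [36, 1]),
  (28, 6, 129729600, [36, 1]), (29, 7, 5337446400, [29]), (30, 8, 2335132800, [1]), (31, 2, 2779920, [31]), (32, 6,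
  691891200, [4, 1]), (33, 4, 291891600, [1]), (34, 5, 249080832, [34]), (35, 4, 9729720, [1]), (36, 3, 45760, [36])]

end Cfsg.Agent.SM.Sp.NSuz
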