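import Cfsg.Agent.SM.Sp.Tree
import Cfsg.Agent.SM.Sp.Ch
import Cfsg.Agent.H418.Frob

/-!
# SM (S3570), sporadic socles: the rows of a table, orders which do not occur (helper26)
-/

set_option autoImplicit false

namespace Cfsg.Agent.SM.Sp

open Cfsg Cfsg.Agent.TAB.Eng Cfsg.Agent.TAB.Use Cfsg.Agent.SB.SporL Cfsg.Agent.TH Cfsg.Agent.TH.Spor Finset

/-- the test for a sum of different characters of degree `g > 1` -/
noncomputable def gdT (dg : List ℕ) (L : List (ℕ × ℤ)) (g : ℕ) : Bool :=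
  Nat.blt 1 g && allL (fun q => Nat.beq (ntd dg 0 q.1) g && decide (q.2 = 1)) L && decide (L.map Prod.fst).Nodup

/-- the common degree of the constituents -/
noncomputable def gd (dg : List ℕ) (L : List (ℕ × ℤ)) : ℕ :=
  List.rec 0 (fun p _ _ => frc (ntd dg 0 p.1) fun g => cond (gdT dg L g) g 0) L

theorem gd_spec {dg : List ℕ} {L : List (ℕ × ℤ)} (h : gd dg L ≠ 0) : gdT dg L (gd dg L) = true := by
  cases L with
  | nil => exact absurd rfl h
  | cons p L =>
    have h1 : gd dg (p :: L) = cond (gdT dg (p :: L) (ntd dg 0 p.1)) (ntd dg 0 p.1) 0 :=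
      frc_eq (ntd dg 0 p.1) fun g => cond (gdT dg (p :: L) g) g 0
    rw [h1] at h ⊢
    cases h2 : gdT dg (p :: L) (ntd dg 0 p.1) with
    | true => exact h2
    | false =>
      rw [h2] at h
      exact absurd rfl h

/-- the rows of a table -/
noncomputable def rows (dg : List ℕ) (R : Rows) : List Ro := mapL (fun r => (gd dg r.1, r.2)) R.rel

/-- evaluate rows -/
noncomputable def frcRo (L : List Ro) : (List Ro → Bool) → Bool :=
  List.rec (fun κ => κ []) (fun r _ ih κ => frc r.1 fun x => frcLZ r.2 fun y => ih fun L' => κ ((x, y) :: L')) L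

theorem frcRo_eq (L : List Ro) (κ : List Ro → Bool) : frcRo L κ = κ L := by
  induction L generalizing κ with
  | nil => rfl
  | cons r L ih =>
    show (frc r.1 fun x => frcLZ r.2 fun y => frcRo L fun L' => κ ((x, y) :: L')) = _
    rw [frc_eq, frcLZ_eq, ih]

/-- the head of a certificate: order, lower bounds, upper bounds -/
abbrev Hd : Type := ℕ × Bs × Bs

/-- a certificate -/
noncomputable def okC (N nD : ℕ) (RL : List Ro) (Z : List Ze) (P : List (ℕ × ℕ × ℕ)) (x : Hd × Tr) : Bool :=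
  frc (Nat.div N x.1.1) fun n => iniL x.1.1 n P fun F => run x.1.1 n nD RL Z x.2 F x.1.2.1 x.1.2.2

/-- the certificates -/
noncomputable def okL (D : Dat) (R : Rows) (P : List (ℕ × ℕ × ℕ)) (Z : List Ze) (CL : List (Hd × Tr)) : Bool :=
  frc D.N fun N => frc D.n fun nD => frcL R.deg fun dg => frcRo (rows dg R) fun RL => allL (okC N nD RL Z P) CL

/-- the rows which are irreducible characters of degree `≠ 1` -/
noncomputable def okSG (R : Rows) (SG : List ℕ) : Bool :=
  allL (fun i => Nat.blt i 1000 && List.rec false (fun p L _ => allL (fun _ => false) L && decide (p.2 = 1) &&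
    Nat.blt p.1 R.n && !Nat.beq (ntd R.deg 0 p.1) 1) (ntd R.rel ([], []) i).1) SG

/-- the degrees of the non-trivial characters are at least `md` -/
noncomputable def okMd (R : Rows) (md : ℕ) : Bool :=
  Nat.blt 1 md && List.rec false (fun _ L _ => allL (Nat.ble md) L) R.deg

variable {K : Type} [Group K] [Finite K] {D : Dat} {T : TD K D} {R : Rows} {Z : List Ze}

theorem ntd_mapL {α β : Type} (f : α → β) (l : List α) (d : α) (i : ℕ) : ntd (mapL f l) (f d) i = f (ntd l d i) := by
  induction l generalizing i with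
  | nil => rfl
  | cons a l ih => cases i with
    | zero => rfl
    | succ i => exact ih i

theorem row_lt (dg : List ℕ) {i : ℕ} (h : Nat.blt i 1000 = true) :
    row (rows dg R) Z i = (gd dg (ntd R.rel ([], []) i).1, (ntd R.rel ([], []) i).2) := by
  rw [row, h, cond_true]
  exact ntd_mapL (fun r : List (ℕ × ℤ) × List ℤ => (gd dg r.1, r.2)) R.rel ([], []) i

theorem row_add (RL : List Ro) (d : ℕ) : row RL Z (1000 + d) = (1, frob Z d) := by
  have h : Nat.blt (1000 + d) 1000 = false := by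
    rw [← Bool.not_eq_true, Nat.blt_eq]
    omega
  rw [row, h, cond_false]
  exact congrArg (fun x => (1, frob Z x)) (Nat.add_sub_cancel_left 1000 d)

theorem exists_mult {χ : K → ℂ} (h : IsIrrCharacter K χ) (A : Subgroup K) [Fintype A] :
    ∃ m : ℕ, ∑ s : A, χ s = (Nat.card A * m : ℕ) := by
  obtain ⟨n, ρ, h1⟩ := Characters.Core.isCharacter_comp A.subtype (Characters.Core.isIrr_isCharacter h)
  have h0 : (Nat.card A : ℂ) ≠ 0 := Nat.cast_ne_zero.2 Nat.card_pos.ne'
  have := invertibleOfNonzero h0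
  have h2 := ρ.card_inv_mul_sum_char_eq_finrank
  rw [h1, inv_mul_eq_iff_eq_mul₀ h0] at h2
  exact ⟨Module.finrank ℂ ρ.invariants, by rw [Nat.cast_mul]; exact h2⟩

/-- the multiplicities -/
theorem exists_mults {χ : ℕ → K → ℂ} (hE : Enum K R.n R.d χ) (A : Subgroup K) [Fintype A] :
    ∃ m : ℕ → ℕ, (∀ j < R.n, ∑ s : A, χ j s = (Nat.card A * m j : ℕ)) ∧
      ∑ j ∈ range R.n, R.d j * m j = A.index ∧ ∃ j < R.n, R.d j = 1 ∧ m j = 1 := by
  choose! m hm using fun j (hj : j < R.n) => exists_mult (hE.irr j hj) A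
  exact ⟨m, hm, (boxCh K).2 A R.n χ R.d m hE.irr hE.inj hE.all hE.deg hm⟩

omit [Finite K] in
theorem val_eq {χ : ℕ → K → ℂ} (hR : Rel T R χ) (A : Subgroup K) [Fintype A] (i : ℕ) :
    ((val T A (ntd R.rel ([], []) i).2 : ℤ) : ℂ) =
      ((ntd R.rel ([], []) i).1.map fun p => (p.2 : ℂ) * ∑ s : A, χ p.1 s).sum := by
  have h1 : ∀ L : List (ℕ × ℤ), (L.map fun p => (p.2 : ℂ) * ∑ s : A, χ p.1 s).sum =
      ∑ s : A, (L.map fun p => (p.2 : ℂ) * χ p.1 s).sum := fun L => by
    induction L with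
    | nil => simp
    | cons p L ih =>
      simp only [List.map_cons, List.sum_cons]
      rw [ih, Finset.sum_add_distrib, Finset.mul_sum]
  rcases ntd_mem R.rel ([], []) i with h | h
  · rw [h]
    simp [val, nth_nil]
  · rw [h1, Finset.sum_congr rfl fun (s : A) _ => hR _ h (s : K),
      sum_num A fun t => (((ntd R.rel ([], []) i).2.getD t 0 : ℤ) : ℂ), val]
    push_cast
    exact Finset.sum_congr rfl fun t _ => by rw [nsmul_eq_mul, nth_eq]

omit [Finite K] in
theorem val_mult {χ : ℕ → K → ℂ} (hR : Rel T R χ) (hi : okIdx R = true) {A : Subgroup K} [Fintype A] {m : ℕ → ℕ}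
    (hm : ∀ j < R.n, ∑ s : A, χ j s = (Nat.card A * m j : ℕ)) (i : ℕ) :
    (∀ p ∈ (ntd R.rel ([], []) i).1, p.1 < R.n) ∧ val T A (ntd R.rel ([], []) i).2 =
      Nat.card A * ((ntd R.rel ([], []) i).1.map fun p => p.2 * (m p.1 : ℤ)).sum := by
  have h1 : ∀ p ∈ (ntd R.rel ([], []) i).1, p.1 < R.n := by
    rcases ntd_mem R.rel ([], []) i with h | h
    · rw [h]
      exact fun _ h => absurd h List.not_mem_nil
    · rw [okIdx, frc_eq] at hi
      exact fun p hp => Nat.blt_eq ▸ allL_spec (allL_spec hi _ h) p hp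
  refine ⟨h1, Int.cast_injective (α := ℂ) ?_⟩
  rw [val_eq hR]
  generalize (ntd R.rel ([], []) i).1 = L at h1
  induction L with
  | nil => simp
  | cons p L ih =>
    rw [List.map_cons, List.sum_cons, ih fun q hq => h1 q (List.mem_cons_of_mem _ hq), hm _ (h1 p List.mem_cons_self),
      List.map_cons, List.sum_cons]
    push_cast
    ring

omit [Finite K] in
theorem nth_frob (d : ℕ) (W : List Ze) : ∀ i k, (∀ z ∈ W, ZOk D z) → W.map Prod.fst = List.range' i k → ∀ u < k,
    nth (mapL (fun z : Ze => cond (dv z.2.1 d) (Int.ofNat 1) (Int.ofNat 0)) W) u =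
      if D.ord (u + i) ∣ d then 1 else 0 := by
  induction W with
  | nil =>
    intro i k _ h1 u hu
    obtain rfl : k = 0 := by simpa using congrArg List.length h1.symm
    cases hu
  | cons z W ih =>
    intro i k hZ h1 u hu
    cases k with
    | zero => cases hu
    | succ k =>
    obtain ⟨h3, h4⟩ := List.cons.inj h1
    cases u with
    | zero =>
      show cond (dv z.2.1 d) (Int.ofNat 1) (Int.ofNat 0) = _
      rw [zero_add, ← h3, (hZ z List.mem_cons_self).2.1]
      cases h5 : dv z.2.1 d with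
      | true => rw [if_pos (dv_iff.1 h5)]; rfl
      | false => rw [if_neg (dv_false h5)]; rfl
    | succ u =>
      rw [show u + 1 + i = u + (i + 1) by omega]
      exact ih (i + 1) k (fun z' hz' => hZ z' (List.mem_cons_of_mem _ hz')) h4 u (by omega)

theorem val_frob (hZ : ZS D Z) (A : Subgroup K) (d : ℕ) : val T A (frob Z d) = Nat.card {x : A // x ^ d = 1} := by
  classical
  have := Fintype.ofFinite A
  have h1 : ∀ t < D.n, nth (frob Z d) t = if D.ord t ∣ d then 1 else 0 := fun t ht => by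
    cases t with
    | zero => rw [hZ.zero, if_pos (one_dvd d)]; rfl
    | succ t => exact nth_frob d Z 1 _ hZ.ok hZ.seq t (by omega)
  rw [val, Finset.sum_congr rfl fun t ht => by rw [h1 t (mem_range.1 ht), ← nsmul_eq_mul],
    ← sum_num (T := T) A fun t => if D.ord t ∣ d then (1 : ℤ) else 0, Nat.card_eq_fintype_card, Fintype.card_subtype,
    Finset.card_filter]
  push_cast
  exact Finset.sum_congr rfl fun x _ => by
    simp only [← T.ord, Subgroup.orderOf_coe, orderOf_dvd_iff_pow_eq_one]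

theorem hy_of' (hm : T.Mass) (hu : Unif T) (hT : TAB.Use.Tab T R) (hi : okIdx R = true) (hZ : ZS D Z) (A : Subgroup K) :
    Hy T A (rows R.deg R) Z := by
  classical
  obtain ⟨χ, hE, hR⟩ := hT
  have := Fintype.ofFinite A
  obtain ⟨m, h1, h2, j, h3, h4, h5⟩ := exists_mults hE A
  have key : ∀ i, (∃ d, i = 1000 + d) ∨ Nat.blt i 1000 = true := fun i => by
    rw [Nat.blt_eq]
    exact (le_or_gt 1000 i).imp Nat.exists_eq_add_of_le id
  have good : ∀ i, gd R.deg (ntd R.rel ([], []) i).1 ≠ 0 → ∃ s : ℕ, val T A (ntd R.rel ([], []) i).2 =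
      (Nat.card A * s : ℕ) ∧ s * gd R.deg (ntd R.rel ([], []) i).1 ≤ A.index - 1 := fun i h => by
    have h6 := gd_spec h
    obtain ⟨h7, h8⟩ := val_mult hR hi h1 i
    generalize gd R.deg (ntd R.rel ([], []) i).1 = g at h6 ⊢
    generalize (ntd R.rel ([], []) i).1 = L at h6 h7 h8
    simp only [gdT, Bool.and_eq_true, Nat.blt_eq, decide_eq_true_eq] at h6
    obtain ⟨⟨h9, h10⟩, h11⟩ := h6
    have h12 : ∀ p ∈ L, R.d p.1 = g ∧ p.2 = 1 := fun p hp => by
      have h12 := allL_spec h10 p hp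
      rw [Bool.and_eq_true, Nat.beq_eq, Spor.ntd_eq, decide_eq_true_eq] at h12
      exact h12
    refine ⟨∑ x ∈ (L.map Prod.fst).toFinset, m x, ?_, ?_⟩
    · rw [h8, List.sum_toFinset _ h11, Nat.cast_mul, Nat.cast_list_sum, List.map_map, List.map_map]
      exact congrArg _ (congrArg _ (List.map_congr_left fun p hp => by rw [(h12 p hp).2, one_mul]; rfl))
    · have h13 : j ∉ (L.map Prod.fst).toFinset := fun h13 => by
        obtain ⟨p, hp, rfl⟩ := List.mem_map.1 (List.mem_toFinset.1 h13)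
        exact h9.ne' ((h12 p hp).1.symm.trans h4)
      have h14 := Finset.sum_le_sum_of_subset (f := fun x => R.d x * m x)
        (show insert j (L.map Prod.fst).toFinset ⊆ range R.n from Finset.insert_subset (mem_range.2 h3) fun x hx => by
          obtain ⟨p, hp, rfl⟩ := List.mem_map.1 (List.mem_toFinset.1 hx)
          exact mem_range.2 (h7 p hp))
      rw [Finset.sum_insert h13, h2, h4, h5, Finset.sum_congr rfl (g := fun x => m x * g) fun x hx => by
        obtain ⟨p, hp, rfl⟩ := List.mem_map.1 (List.mem_toFinset.1 hx)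
        rw [(h12 p hp).1, mul_comm], ← Finset.sum_mul] at h14
      omega
  refine ⟨hm, hu, hZ, fun i h => ?_, fun i h => ?_, fun i h => ?_⟩
  · rcases key i with ⟨d, rfl⟩ | h6
    · rw [row_add, val_frob hZ]
      exact Int.natCast_nonneg _
    · rw [row_lt _ h6] at h ⊢
      obtain ⟨s, h7, -⟩ := good i h
      exact h7 ▸ Int.natCast_nonneg _
  · rcases key i with ⟨d, rfl⟩ | h6
    · rw [row_add] at h
      exact absurd h (lt_irrefl _)
    · rw [row_lt _ h6] at h ⊢
      obtain ⟨s, h7, h8⟩ := good i (Nat.ne_zero_of_lt h)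
      exact h7 ▸ Nat.cast_le.2 (Nat.mul_le_mul_left _ ((Nat.le_div_iff_mul_le (Nat.zero_lt_of_lt h)).2 h8))
  · rcases key i with ⟨d, rfl⟩ | h6
    · have h7 : rmod (Nat.card A) (1000 + d) = d := by
        have h : Nat.blt (1000 + d) 1000 = false := by
          rw [← Bool.not_eq_true, Nat.blt_eq]
          omega
        rw [rmod, h, cond_false]
        exact Nat.add_sub_cancel_left 1000 d
      rw [h7] at h ⊢
      rw [row_add, val_frob hZ]
      exact Int.natCast_dvd_natCast.2 (H418.Frob.frobenius_dvd d h)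
    · rw [row_lt _ h6, rmod, h6, cond_true]
      exact ⟨_, (val_mult hR hi h1 i).2⟩

/-- no subgroup has the order and the bounds -/
def Dead (T : TD K D) (R : Rows) (Z : List Ze) (h : Hd) : Prop :=
  ∀ A : Subgroup K, Nat.card A = h.1 → BL T A (rows R.deg R) Z h.2.1 → BH T A (rows R.deg R) Z h.2.2 → False

theorem div_card (hm : T.Mass) (A : Subgroup K) : D.N / Nat.card A = A.index := by
  rw [← hm.1]
  exact Nat.div_eq_of_eq_mul_right Nat.card_pos A.card_mul_index.symm

theorem dead_of (hm : T.Mass) (hu : Unif T) (hT : TAB.Use.Tab T R) (hi : okIdx R = true) (hZ : ZS D Z)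
    {P : List (ℕ × ℕ × ℕ)} (hP : okP D P = true) {CL : List (Hd × Tr)} (hL : okL D R P Z CL = true) :
    ∀ h ∈ CL.map Prod.fst, Dead T R Z h := by
  intro h hh A h1 h2 h3
  obtain ⟨x, hx, rfl⟩ := List.mem_map.1 hh
  rw [okL, frc_eq, frc_eq, frcL_eq, frcRo_eq] at hL
  have h4 := allL_spec hL x hx
  rw [okC, frc_eq, ← h1] at h4
  change iniL _ (D.N / Nat.card A) _ (fun F => run _ (D.N / Nat.card A) _ _ _ _ _ _ _) = true at h4
  rw [div_card hm] at h4
  obtain ⟨F, h5, h6⟩ := iniL_spec hm hu hP h4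
  exact (hy_of' hm hu hT hi hZ A).run _ h5 h2 h3 h6

theorem zero_or (hT : TAB.Use.Tab T R) {SG : List ℕ} (h : okSG R SG = true) {X Y : Subgroup K} (hP : Ex78.Pd X Y) {i : ℕ}
    (hi : i ∈ SG) : val T X (row (rows R.deg R) Z i).2 = 0 ∨ val T Y (row (rows R.deg R) Z i).2 = 0 := by
  obtain ⟨χ, hE, hR⟩ := hT
  have := Fintype.ofFinite X
  have := Fintype.ofFinite Y
  have h1 := allL_spec h i hi
  rw [Bool.and_eq_true] at h1
  have h2 := val_eq hR X i
  have h3 := val_eq hR Y i
  rw [row_lt _ h1.1]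
  have h4 := h1.2
  generalize (ntd R.rel ([], []) i).1 = L at h2 h3 h4
  cases L with
  | nil => cases h4
  | cons p L =>
  have h5 : (allL (fun _ => false) L && decide (p.2 = 1) && Nat.blt p.1 R.n && !Nat.beq (ntd R.deg 0 p.1) 1) = true := h4
  simp only [Bool.and_eq_true, decide_eq_true_eq, Nat.blt_eq] at h5
  obtain rfl : L = [] := List.eq_nil_iff_forall_not_mem.2 fun q hq => Bool.false_ne_true (allL_spec h5.1.1.1 q hq)
  have h6 : χ p.1 1 ≠ 1 := by
    rw [hE.deg _ h5.1.2, Ne, Nat.cast_eq_one]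
    exact fun h6 => ne_of_not_beq h5.2 ((Spor.ntd_eq _ _).trans h6)
  simp only [List.map_cons, List.map_nil, List.sum_cons, List.sum_nil, h5.1.1.2, Int.cast_one, one_mul, add_zero] at h2 h3
  exact ((boxCh K).1 X Y _ hP (hE.irr _ h5.1.2) h6).imp (fun h => Int.cast_eq_zero.1 (h2.trans h))
    fun h => Int.cast_eq_zero.1 (h3.trans h)

theorem md_lt (hT : TAB.Use.Tab T R) {md : ℕ} (h : okMd R md = true) {A : Subgroup K} (hA : A ≠ ⊤) : md < A.index := by
  obtain ⟨χ, hE, -⟩ := hT
  have := Fintype.ofFinite A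
  obtain ⟨m, -, h2, j, h3, h4, h5⟩ := exists_mults hE A
  rw [okMd, Bool.and_eq_true, Nat.blt_eq] at h
  obtain ⟨dg, rel⟩ := R
  cases dg with
  | nil => cases h.2
  | cons d L =>
  have h6 : ∀ i < L.length, md ≤ Rows.d ⟨d :: L, rel⟩ (i + 1) := fun i hi => by
    have h7 := allL_spec (show allL (Nat.ble md) L = true from h.2) _ (List.getElem_mem hi)
    show md ≤ (d :: L).getD (i + 1) 0
    rw [List.getD_cons_succ, List.getD_eq_getElem _ _ hi]
    exact Nat.le_of_ble_eq_true h7
  obtain rfl : j = 0 := by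
    cases j with
    | zero => rfl
    | succ j => exact absurd (h4 ▸ h6 j (Nat.lt_of_succ_lt_succ h3)) (not_le.2 h.1)
  rw [show Rows.n ⟨d :: L, rel⟩ = L.length + 1 from rfl, Finset.sum_range_succ', h4, h5] at h2
  obtain ⟨i, hi, h7⟩ := Finset.exists_ne_zero_of_sum_ne_zero (s := range L.length)
    (f := fun i => Rows.d ⟨d :: L, rel⟩ (i + 1) * m (i + 1)) fun h7 => hA (Subgroup.index_eq_one.1 (by rw [← h2, h7]))
  have h8 := Finset.single_le_sum (f := fun i => Rows.d ⟨d :: L, rel⟩ (i + 1) * m (i + 1)) (fun _ _ => Nat.zero_le _) hi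
  have h9 := (h6 i (mem_range.1 hi)).trans
    (Nat.le_mul_of_pos_right _ (Nat.pos_of_ne_zero (right_ne_zero_of_mul h7)))
  omega

end Cfsg.Agent.SM.Sp
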