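import Cfsg.Agent.TH.Spor.EngB

/-!
# SM (S3570), sporadic socles: branch and bound for the numbers of the elements of a subgroup (helper26)

A state bounds the fixed points of the types of prime order and the values of some rows.
-/

set_option autoImplicit false

namespace Cfsg.Agent.SM.Sp

open Cfsg Cfsg.Agent.TAB.Eng Cfsg.Agent.TAB.Use Cfsg.Agent.SB.SporL Cfsg.Agent.TH Cfsg.Agent.TH.Spor Finset

universe u

/-- type, modulus, lower and upper bound for the fixed points -/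
abbrev Fe : Type := ℕ × ℕ × ℕ × ℕ

/-- bounds for rows -/
abbrev Bs : Type := List (ℕ × ℕ)

/-- rows: a degree and the values -/
abbrev Ro : Type := ℕ × List ℤ

/-- certificates -/
inductive Tr : Type
  | far (lam : ℤ) (ce : List (ℤ × ℕ)) : Tr
  | emp : Tr
  | bf (q l : ℕ) (s t : Tr) : Tr
  | bm (i l : ℕ) (s t : Tr) : Tr

/-- look up a type -/
noncomputable def lkF {β : Type} (F : List Fe) (q : ℕ) (d : β) (κ : ℕ → ℕ → ℕ → β) : β :=
  List.rec d (fun e _ ih => cond (Nat.beq e.1 q) (κ e.2.1 e.2.2.1 e.2.2.2) ih) F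

theorem lkF_ind {β : Type} {P : β → Prop} {F : List Fe} {q : ℕ} {d : β} {κ : ℕ → ℕ → ℕ → β} (h0 : P d)
    (h : ∀ e ∈ F, e.1 = q → P (κ e.2.1 e.2.2.1 e.2.2.2)) : P (lkF F q d κ) := by
  induction F with
  | nil => exact h0
  | cons e F ih =>
    show P (cond (Nat.beq e.1 q) (κ e.2.1 e.2.2.1 e.2.2.2) (lkF F q d κ))
    cases h1 : Nat.beq e.1 q with
    | true => exact h e List.mem_cons_self (Nat.eq_of_beq_eq_true h1)
    | false => exact ih fun e' he' => h e' (List.mem_cons_of_mem _ he')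

/-- look up a row -/
noncomputable def lkB (L : Bs) (i : ℕ) (d : Bool) (κ : ℕ → Bool) : Bool :=
  List.rec d (fun e _ ih => cond (Nat.beq e.1 i) (κ e.2) ih) L

theorem lkB_spec {L : Bs} {i : ℕ} {d : Bool} {κ : ℕ → Bool} (h : lkB L i d κ = true) :
    d = true ∨ ∃ b, (i, b) ∈ L ∧ κ b = true := by
  induction L with
  | nil => exact Or.inl h
  | cons e L ih =>
    have h1 : cond (Nat.beq e.1 i) (κ e.2) (lkB L i d κ) = true := h
    cases h2 : Nat.beq e.1 i with
    | true =>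
      rw [h2] at h1
      exact Or.inr ⟨e.2, Nat.eq_of_beq_eq_true h2 ▸ List.mem_cons_self, h1⟩
    | false =>
      rw [h2] at h1
      exact (ih h1).imp id fun ⟨b, h3, h4⟩ => ⟨b, List.mem_cons_of_mem _ h3, h4⟩

/-- the solutions of `x ^ d = 1` -/
noncomputable def frob (Z : List Ze) (d : ℕ) : List ℤ :=
  Int.ofNat 1 :: mapL (fun z => cond (dv z.2.1 d) (Int.ofNat 1) (Int.ofNat 0)) Z

/-- the row with the number `i` -/
noncomputable def row (RL : List Ro) (Z : List Ze) (i : ℕ) : Ro :=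
  cond (Nat.blt i 1000) (ntd RL (0, []) i) (1, frob Z (Nat.sub i 1000))

/-- the modulus of the row -/
noncomputable def rmod (a i : ℕ) : ℕ := cond (Nat.blt i 1000) a (Nat.sub i 1000)

/-- the bound which is used with the multiplier `y` -/
noncomputable def bnd (a n : ℕ) (Lo Hi : Bs) (y : ℤ) (i g : ℕ) (κ : ℕ → Bool) : Bool :=
  Int.rec (fun _ => lkB Lo i (cond (Nat.beq g 0) false (κ 0)) κ)
    (fun _ => lkB Hi i (cond (Nat.blt 1 g) (κ (Nat.mul a (Nat.div (Nat.sub n 1) g))) false) κ) y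

/-- the combination of the rows -/
noncomputable def acc (a n : ℕ) (RL : List Ro) (Z : List Ze) (Lo Hi : Bs) (ce : List (ℤ × ℕ)) :
    List ℤ → ℤ → (List ℤ → ℤ → Bool) → Bool :=
  List.rec (fun V k κ => κ V k) (fun p _ ih V k κ => Prod.rec (fun g w => bnd a n Lo Hi p.1 p.2 g fun b =>
    frcLZ (axz p.1 V w) fun V' => frcZ (Int.add k (Int.mul p.1 (Int.ofNat b))) fun k' => ih V' k' κ)
      (row RL Z p.2)) ce

/-- the upper bound for the fixed points -/
noncomputable def gF (n : ℕ) (F : List Fe) (L : List ℕ) : ℕ :=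
  List.rec n (fun q _ ih => mn (lkF F q n fun _ _ h => h) ih) L

/-- the upper bound for the number of elements -/
noncomputable def hiB (a n : ℕ) (F : List Fe) (z : Ze) : ℕ :=
  cond (dv z.2.1 a) (mn (Nat.div (Nat.mul (gF n F z.2.2.2) z.2.2.1) n) (Nat.sub a 1)) 0

/-- the lower bound -/
noncomputable def loB (n : ℕ) (F : List Fe) (z : Ze) : ℕ :=
  lkF F z.1 0 fun _ l _ => Nat.div (Nat.add (Nat.mul l z.2.2.1) (Nat.sub n 1)) n

/-- the maximum over the box is negative -/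
noncomputable def bx (a n : ℕ) (F : List Fe) (Z : List Ze) : List ℤ → ℕ → ℕ → Bool :=
  List.rec (fun _ x y => Nat.blt x y) (fun z _ ih V x y => List.rec false (fun w V' _ => Int.rec
    (fun m => frc (Nat.add x (Nat.mul (hiB a n F z) m)) fun x' => ih V' x' y)
    (fun m => frc (Nat.add y (Nat.mul (loB n F z) (Nat.succ m))) fun y' => ih V' x y') w) V) Z

/-- a certificate of Farkas -/
noncomputable def far (a n nD : ℕ) (RL : List Ro) (Z : List Ze) (F : List Fe) (Lo Hi : Bs) (lam : ℤ)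
    (ce : List (ℤ × ℕ)) : Bool :=
  acc a n RL Z Lo Hi ce (List.replicate nD lam) (Int.mul lam (Int.ofNat a)) fun V k => List.rec false (fun v V' _ =>
    Int.rec (fun x => bx a n F Z V' x 0) (fun y => bx a n F Z V' 0 (Nat.succ y)) (Int.sub v k)) V

/-- the check of a certificate -/
noncomputable def run (a n nD : ℕ) (RL : List Ro) (Z : List Ze) (t : Tr) : List Fe → Bs → Bs → Bool :=
  Tr.rec (fun lam ce F Lo Hi => far a n nD RL Z F Lo Hi lam ce)
    (fun F _ _ => anyL (fun e => Nat.blt e.2.2.2 e.2.2.1) F)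
    (fun q l _ _ s t F Lo Hi => lkF F q false fun st lo hi => cond (Nat.beq (Nat.mod lo st) (Nat.mod l st))
      (cond (s ((q, st, lo, l) :: F) Lo Hi) (frc (Nat.add l st) fun l' => t ((q, st, l', hi) :: F) Lo Hi) false) false)
    (fun i l _ _ s t F Lo Hi => frc (rmod a i) fun m => cond (dv m a) (frc (Nat.mul m l) fun b =>
      cond (s F Lo ((i, b) :: Hi)) (frc (Nat.add b m) fun b' => t F ((i, b') :: Lo) Hi) false) false) t

theorem run_bf (a n nD : ℕ) (RL : List Ro) (Z : List Ze) (q l : ℕ) (s t : Tr) (F : List Fe) (Lo Hi : Bs) :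
    run a n nD RL Z (.bf q l s t) F Lo Hi = lkF F q false fun st lo hi => cond (Nat.beq (Nat.mod lo st) (Nat.mod l st))
      (cond (run a n nD RL Z s ((q, st, lo, l) :: F) Lo Hi)
        (frc (Nat.add l st) fun l' => run a n nD RL Z t ((q, st, l', hi) :: F) Lo Hi) false) false := rfl

theorem run_bm (a n nD : ℕ) (RL : List Ro) (Z : List Ze) (i l : ℕ) (s t : Tr) (F : List Fe) (Lo Hi : Bs) :
    run a n nD RL Z (.bm i l s t) F Lo Hi = frc (rmod a i) fun m => cond (dv m a) (frc (Nat.mul m l) fun b =>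
      cond (run a n nD RL Z s F Lo ((i, b) :: Hi))
        (frc (Nat.add b m) fun b' => run a n nD RL Z t F ((i, b') :: Lo) Hi) false) false := rfl

/-- a multiple of `u` -/
noncomputable def fnd (u p n k : ℕ) : ℕ :=
  Nat.rec 0 (fun i ih => cond (Nat.beq (Nat.mod (Nat.mul u i) p) (Nat.mod n p)) (Nat.mul u i) ih) k

theorem fnd_spec (u p n k : ℕ) : ∃ i, i ≤ k - 1 ∧ fnd u p n k = u * i := by
  induction k with
  | zero => exact ⟨0, le_rfl, rfl⟩
  | succ k ih =>
    show ∃ i, i ≤ k ∧ cond (Nat.beq (Nat.mod (Nat.mul u k) p) (Nat.mod n p)) (Nat.mul u k) (fnd u p n k) = u * i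
    cases Nat.beq (Nat.mod (Nat.mul u k) p) (Nat.mod n p) with
    | true => exact ⟨k, le_rfl, rfl⟩
    | false =>
      obtain ⟨i, h1, h2⟩ := ih
      exact ⟨i, h1.trans (Nat.sub_le _ _), h2⟩

/-- an evaluated entry -/
noncomputable def mkF (q st r B : ℕ) (κ : Fe → Bool) : Bool :=
  frc st fun st' => frc (Nat.sub B (Nat.mod (Nat.sub B r) st')) fun h => κ (q, st', r, h)

theorem mkF_eq (q st r B : ℕ) (κ : Fe → Bool) : mkF q st r B κ = κ (q, st, r, B - (B - r) % st) := by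
  rw [mkF, frc_eq, frc_eq]
  rfl

/-- the first bounds for the type `(prime, type, size)` -/
noncomputable def ini (a n : ℕ) (e : ℕ × ℕ × ℕ) (κ : Fe → Bool) : Bool :=
  cond (dv e.1 a) (frc (Nat.div n (Nat.gcd n e.2.2)) fun u =>
    frc (mn n (Nat.div (Nat.mul n (Nat.sub a 1)) e.2.2)) fun B => cond (dv e.1 u) (mkF e.2.1 u 0 B κ)
      (frc (fnd u e.1 n e.1) fun r => cond (Nat.beq (Nat.mod r e.1) (Nat.mod n e.1))
        (mkF e.2.1 (Nat.mul u e.1) r B κ) false)) (κ (e.2.1, 1, 0, 0))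

/-- the first state -/
noncomputable def iniL (a n : ℕ) (P : List (ℕ × ℕ × ℕ)) : (List Fe → Bool) → Bool :=
  List.rec (fun κ => κ []) (fun e _ ih κ => ini a n e fun x => ih fun F => κ (x :: F)) P

/-- the list of types of prime order -/
noncomputable def okP (D : Dat) (P : List (ℕ × ℕ × ℕ)) : Bool :=
  allL (fun e => isPr e.1 && Nat.beq (D.ord e.2.1) e.1 && Nat.beq (D.cnt e.2.1) e.2.2 && Nat.blt 0 e.2.2 &&
    Nat.blt e.2.1 D.n) P

/-! ### the meaning -/

variable {K : Type u} [Group K] {D : Dat}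

/-- the value of a row -/
noncomputable def val (T : TD K D) (A : Subgroup K) (w : List ℤ) : ℤ := ∑ t ∈ range D.n, (num T A t : ℤ) * nth w t

/-- an entry is correct -/
def FOk (T : TD K D) (A : Subgroup K) (e : Fe) : Prop :=
  ∃ x, T.ty x = e.1 ∧ (orderOf x).Prime ∧ e.2.2.1 ≡ fix A x [MOD e.2.1] ∧ e.2.2.1 ≤ fix A x ∧ fix A x ≤ e.2.2.2

/-- the lower bounds hold -/
def BL (T : TD K D) (A : Subgroup K) (RL : List Ro) (Z : List Ze) (Lo : Bs) : Prop :=
  ∀ e ∈ Lo, (e.2 : ℤ) ≤ val T A (row RL Z e.1).2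

/-- the upper bounds hold -/
def BH (T : TD K D) (A : Subgroup K) (RL : List Ro) (Z : List Ze) (Hi : Bs) : Prop :=
  ∀ e ∈ Hi, val T A (row RL Z e.1).2 ≤ (e.2 : ℤ)

/-- the situation -/
structure Hy (T : TD K D) (A : Subgroup K) (RL : List Ro) (Z : List Ze) : Prop where
  mass : T.Mass
  unif : Unif T
  zs : ZS D Z
  lo : ∀ i, (row RL Z i).1 ≠ 0 → 0 ≤ val T A (row RL Z i).2
  hi : ∀ i, 1 < (row RL Z i).1 →
    val T A (row RL Z i).2 ≤ ((Nat.card A * ((A.index - 1) / (row RL Z i).1) : ℕ) : ℤ)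
  dvd : ∀ i, rmod (Nat.card A) i ∣ Nat.card A → (rmod (Nat.card A) i : ℤ) ∣ val T A (row RL Z i).2

variable {T : TD K D} {A : Subgroup K} {RL : List Ro} {Z : List Ze} {F : List Fe} {Lo Hi : Bs}

theorem cond_ff {a b : Bool} (h : cond a b false = true) : a = true ∧ b = true := by
  cases a
  · cases h
  · exact ⟨rfl, h⟩

theorem Hy.bnd (H : Hy T A RL Z) (hL : BL T A RL Z Lo) (hH : BH T A RL Z Hi) {y : ℤ} {i : ℕ} {κ : ℕ → Bool}
    (h : bnd (Nat.card A) A.index Lo Hi y i (row RL Z i).1 κ = true) :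
    ∃ b, κ b = true ∧ y * b ≤ y * val T A (row RL Z i).2 := by
  cases y with
  | ofNat y =>
    rcases lkB_spec h with h1 | ⟨b, h1, h2⟩
    · refine ⟨0, ?_, mul_le_mul_of_nonneg_left (H.lo i fun h2 => ?_) (Int.natCast_nonneg y)⟩
      · revert h1
        cases Nat.beq (row RL Z i).1 0
        exacts [id, nofun]
      · rw [h2] at h1
        cases h1
    · exact ⟨b, h2, mul_le_mul_of_nonneg_left (hL _ h1) (Int.natCast_nonneg y)⟩
  | negSucc y =>
    rcases lkB_spec h with h1 | ⟨b, h1, h2⟩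
    · obtain ⟨h2, h3⟩ := cond_ff h1
      exact ⟨_, h3, mul_le_mul_of_nonpos_left (H.hi i (Nat.blt_eq ▸ h2)) (Int.negSucc_lt_zero y).le⟩
    · exact ⟨b, h2, mul_le_mul_of_nonpos_left (hH _ h1) (Int.negSucc_lt_zero y).le⟩

theorem Hy.acc (H : Hy T A RL Z) (hL : BL T A RL Z Lo) (hH : BH T A RL Z Hi) {κ : List ℤ → ℤ → Bool}
    (ce : List (ℤ × ℕ)) : ∀ (V : List ℤ) (k : ℤ), V.length = D.n → k ≤ val T A V →
      acc (Nat.card A) A.index RL Z Lo Hi ce V k κ = true → ∃ V' k', κ V' k' = true ∧ k' ≤ val T A V' := by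
  induction ce with
  | nil => exact fun V k _ h1 h2 => ⟨V, k, h2, h1⟩
  | cons p ce ih =>
    intro V k hV h1 h2
    obtain ⟨b, h3, h4⟩ := H.bnd hL hH (κ := fun b => frcLZ (axz p.1 V (row RL Z p.2).2) fun V' =>
      frcZ (Int.add k (Int.mul p.1 (Int.ofNat b))) fun k' => Sp.acc (Nat.card A) A.index RL Z Lo Hi ce V' k' κ) h2
    rw [frcLZ_eq, frcZ_eq] at h3
    refine ih _ _ ((length_axz _ _ _).trans hV) ?_ h3
    rw [val, Finset.sum_congr rfl fun t ht => congrArg _ (nth_axz p.1 V _ (hV ▸ mem_range.1 ht))]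
    simp only [mul_add, Finset.sum_add_distrib, mul_left_comm _ p.1, ← Finset.mul_sum]
    exact add_le_add h1 h4

variable [Finite K]

theorem index_pos' (A : Subgroup K) : 0 < A.index := Nat.pos_of_ne_zero Subgroup.index_ne_zero_of_finite

theorem Hy.gF (H : Hy T A RL Z) (hF : ∀ e ∈ F, FOk T A e) (x : K) (L : List ℕ)
    (hL : ∀ q ∈ L, ∃ e, D.pwf (T.ty x) e = q) : fix A x ≤ gF A.index F L := by
  induction L with
  | nil => exact fix_le_index A x
  | cons q L ih =>
    refine le_mn (lkF_ind (P := fun b => fix A x ≤ b) (fix_le_index A x) fun e he h1 => ?_)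
      (ih fun q' hq' => hL q' (List.mem_cons_of_mem _ hq'))
    obtain ⟨k, hk⟩ := hL q List.mem_cons_self
    obtain ⟨y, h2, h3, -, -, h4⟩ := hF e he
    rw [H.unif.fix_eq h3 (h2.trans (h1.trans (hk.symm.trans (T.pow x k).symm)))] at h4
    exact (fix_le_pow A x k).trans h4

theorem Hy.hiB (H : Hy T A RL Z) (hF : ∀ e ∈ F, FOk T A e) {z : Ze} (hz : ZOk D z) :
    num T A z.1 ≤ hiB (Nat.card A) A.index F z := by
  obtain ⟨h0, h1, h2, h3, h4⟩ := hz
  refine cond_le (fun _ => le_mn ((Nat.le_div_iff_mul_le (index_pos' A)).2 ?_) (num_le_pred (h1 ▸ h2))) fun h5 => ?_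
  · rw [mul_comm, ← h3]
    exact num_mul_le H.mass h0 fun x hx => H.gF hF x _ (hx ▸ h4)
  · have h6 := num_mul_le (A := A) H.mass h0 (G := 0) fun x hx =>
      (fix_eq_zero (by rw [T.ord, hx, h1]; exact dv_false h5)).le
    rw [zero_mul, Nat.le_zero, Nat.mul_eq_zero] at h6
    exact (h6.resolve_left (index_pos' A).ne').le

theorem Hy.loB (H : Hy T A RL Z) (hF : ∀ e ∈ F, FOk T A e) {z : Ze} (hz : ZOk D z) :
    loB A.index F z ≤ num T A z.1 := by
  refine lkF_ind (P := fun b => b ≤ num T A z.1) (Nat.zero_le _) fun e he h1 => ?_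
  obtain ⟨y, h2, h3, -, h4, -⟩ := hF e he
  have h5 := le_num_mul H.mass hz.1 fun x hx => h4.trans (H.unif.fix_eq (A := A) h3 (h2.trans (h1.trans hx.symm))).le
  have h6 := index_pos' A
  refine Nat.le_of_lt_succ ((Nat.div_lt_iff_lt_mul h6).2 ?_)
  show e.2.2.1 * z.2.2.1 + (A.index - 1) < (num T A z.1 + 1) * A.index
  rw [add_mul, one_mul, mul_comm (num T A z.1), ← hz.2.2.2.1]
  omega

theorem Hy.bx (H : Hy T A RL Z) (hF : ∀ e ∈ F, FOk T A e) (W : List Ze) : ∀ (i k : ℕ) (V : List ℤ) (x y : ℕ),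
    (∀ z ∈ W, ZOk D z) → W.map Prod.fst = List.range' i k → bx (Nat.card A) A.index F W V x y = true →
      (x : ℤ) + ∑ u ∈ range k, (num T A (u + i) : ℤ) * nth V u < y := by
  induction W with
  | nil =>
    intro i k V x y _ h1 h2
    obtain rfl : k = 0 := by simpa using congrArg List.length h1.symm
    have h3 : x < y := Nat.blt_eq ▸ h2
    simpa using h3
  | cons z W ih =>
    intro i k V x y hZ h1 h2
    cases k with
    | zero => cases h1
    | succ k =>
    cases V with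
    | nil => cases h2
    | cons w V =>
    obtain ⟨h3, h4⟩ := List.cons.inj h1
    have hz := hZ z List.mem_cons_self
    have h6 := H.hiB hF hz
    have h7 := H.loB hF hz
    have h11 : ∀ u, u + 1 + i = u + (i + 1) := fun u => by omega
    rw [Finset.sum_range_succ', zero_add]
    simp only [nth_succ, nth_zero, h11]
    rw [h3] at h6 h7
    cases w with
    | ofNat m =>
      have h12 := ih (i + 1) k V _ y (fun z' hz' => hZ z' (List.mem_cons_of_mem _ hz')) h4
        ((frc_eq (x + Sp.hiB (Nat.card A) A.index F z * m) fun x' =>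
          Sp.bx (Nat.card A) A.index F W V x' y).symm.trans h2)
      have h13 : (num T A i : ℤ) * m ≤ (Sp.hiB (Nat.card A) A.index F z : ℤ) * m :=
        mul_le_mul_of_nonneg_right (Nat.cast_le.2 h6) (Int.natCast_nonneg m)
      rw [Int.ofNat_eq_natCast]
      push_cast at h12
      linarith
    | negSucc m =>
      have h12 := ih (i + 1) k V x _ (fun z' hz' => hZ z' (List.mem_cons_of_mem _ hz')) h4
        ((frc_eq (y + Sp.loB A.index F z * (m + 1)) fun y' =>
          Sp.bx (Nat.card A) A.index F W V x y').symm.trans h2)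
      have h13 : (Sp.loB A.index F z : ℤ) * (m + 1) ≤ (num T A i : ℤ) * (m + 1) :=
        mul_le_mul_of_nonneg_right (Nat.cast_le.2 h7) (by positivity)
      rw [Int.negSucc_eq]
      push_cast at h12
      linarith

omit [Finite K] in
theorem num_zero (hZ : ZS D Z) : num T A 0 = 1 := by
  rw [num_def, Nat.card_eq_one_iff_exists]
  exact ⟨⟨1, (hZ.ty_zero _).2 rfl⟩, fun s => Subtype.ext (Subtype.ext ((hZ.ty_zero _).1 s.2))⟩

theorem Hy.far (H : Hy T A RL Z) (hF : ∀ e ∈ F, FOk T A e) (hL : BL T A RL Z Lo) (hH : BH T A RL Z Hi) {lam : ℤ}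
    {ce : List (ℤ × ℕ)} : ¬ far (Nat.card A) A.index D.n RL Z F Lo Hi lam ce = true := by
  intro hs
  have h5 : val T A (List.replicate D.n lam) = lam * Nat.card A := by
    rw [card_eq_sum (T := T) A, Nat.cast_sum, Finset.mul_sum]
    exact Finset.sum_congr rfl fun t ht => by rw [nth_eq, List.getD_replicate _ (mem_range.1 ht), mul_comm]
  obtain ⟨V, k, h1, h2⟩ := H.acc hL hH ce _ _ List.length_replicate h5.ge hs
  cases V with
  | nil => cases h1
  | cons v V =>
  have h3 : (Int.rec (fun x => Sp.bx (Nat.card A) A.index F Z V x 0)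
      (fun y => Sp.bx (Nat.card A) A.index F Z V 0 (y + 1)) (v - k) : Bool) = true := h1
  have h4 : v - k + ∑ u ∈ range (D.n - 1), (num T A (u + 1) : ℤ) * nth V u < 0 := by
    generalize v - k = r at h3
    cases r with
    | ofNat m => exact H.bx hF Z 1 _ V m 0 H.zs.ok H.zs.seq h3
    | negSucc m =>
      have h5 := H.bx hF Z 1 _ V 0 (m + 1) H.zs.ok H.zs.seq h3
      rw [Int.negSucc_eq]
      push_cast at h5
      linarith
  obtain ⟨j, hj⟩ : ∃ j, D.n = j + 1 := ⟨_, (Nat.succ_pred_eq_of_pos H.zs.pos).symm⟩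
  rw [val, hj, Finset.sum_range_succ'] at h2
  rw [hj, Nat.add_sub_cancel] at h4
  simp only [nth_succ, nth_zero, num_zero H.zs] at h2
  push_cast at h2
  linarith

theorem Hy.run (H : Hy T A RL Z) (t : Tr) : ∀ {F : List Fe} {Lo Hi : Bs}, (∀ e ∈ F, FOk T A e) → BL T A RL Z Lo →
    BH T A RL Z Hi → ¬ run (Nat.card A) A.index D.n RL Z t F Lo Hi = true := by
  induction t with
  | far lam ce => exact fun hF hL hH => H.far hF hL hH
  | emp =>
    intro F _ _ hF _ _ h
    obtain ⟨e, he, h1⟩ := anyL_spec h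
    obtain ⟨x, -, -, -, h2, h3⟩ := hF e he
    exact absurd (h2.trans h3) (not_le.2 (Nat.blt_eq ▸ h1))
  | bf q l s t ihs iht =>
    intro F Lo Hi hF hL hH
    rw [run_bf]
    refine lkF_ind (P := fun b => ¬ b = true) Bool.false_ne_true fun e he h1 h2 => ?_
    obtain ⟨h3, h4⟩ := cond_ff h2
    obtain ⟨h5, h6⟩ := cond_ff h4
    rw [frc_eq] at h6
    obtain ⟨x, h7, h8, h9, h10, h11⟩ := hF e he
    have h12 : l ≡ fix A x [MOD e.2.1] := Nat.ModEq.trans (Nat.eq_of_beq_eq_true h3).symm h9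
    rcases le_or_gt (fix A x) l with h13 | h13
    · refine ihs (List.forall_mem_cons.2 ⟨?_, hF⟩) hL hH h5
      exact ⟨x, h7.trans h1, h8, h9, h10, h13⟩
    · refine iht (List.forall_mem_cons.2 ⟨?_, hF⟩) hL hH h6
      refine ⟨x, h7.trans h1, h8, Nat.ModEq.trans (Nat.add_mod_right l e.2.1) h12, ?_, h11⟩
      have h14 := Nat.le_of_dvd (Nat.sub_pos_of_lt h13) ((Nat.modEq_iff_dvd' h13.le).1 h12)
      show l + e.2.1 ≤ _
      omega
  | bm i l s t ihs iht =>
    intro F Lo Hi hF hL hH h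
    rw [run_bm, frc_eq] at h
    obtain ⟨h1, h2⟩ := cond_ff h
    rw [frc_eq] at h2
    obtain ⟨h3, h4⟩ := cond_ff h2
    rw [frc_eq] at h4
    obtain ⟨m, hm⟩ := H.dvd i (dv_iff.1 h1)
    rcases le_or_gt m l with h5 | h5
    · refine ihs hF hL (List.forall_mem_cons.2 ⟨?_, hH⟩) h3
      show _ ≤ ((rmod (Nat.card A) i * l : ℕ) : ℤ)
      rw [hm, Nat.cast_mul]
      exact mul_le_mul_of_nonneg_left h5 (Int.natCast_nonneg _)
    · refine iht hF (List.forall_mem_cons.2 ⟨?_, hL⟩) hH h4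
      show ((rmod (Nat.card A) i * l + rmod (Nat.card A) i : ℕ) : ℤ) ≤ _
      rw [hm, Nat.cast_add, Nat.cast_mul, ← mul_add_one]
      exact mul_le_mul_of_nonneg_left h5 (Int.natCast_nonneg _)

theorem le_round {f r st B : ℕ} (h1 : r ≡ f [MOD st]) (h2 : r ≤ f) (h3 : f ≤ B) : f ≤ B - (B - r) % st := by
  obtain ⟨k, hk⟩ := (Nat.modEq_iff_dvd' h2).1 h1
  have h4 := Nat.div_add_mod (B - r) st
  have h5 : st * k ≤ st * ((B - r) / st) := by
    rcases Nat.eq_zero_or_pos st with rfl | h0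
    · simp
    · exact Nat.mul_le_mul_left _ ((Nat.le_div_iff_mul_le h0).2 (by rw [mul_comm]; omega))
  omega

theorem fix_modEq (A : Subgroup K) {x : K} {p : ℕ} (hp : p.Prime) (hx : orderOf x = p) : A.index ≡ fix A x [MOD p] := by
  have := Fact.mk hp
  have h1 : IsPGroup p (Subgroup.zpowers x) := IsPGroup.of_card (n := 1) (by rw [Nat.card_zpowers, hx, pow_one])
  have h2 := h1.card_modEq_card_fixedPoints (K ⧸ A)
  refine h2.trans (Eq.subst (motive := fun n => _ ≡ n [MOD p]) (Nat.card_congr (Equiv.subtypeEquivRight fun β => ?_))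
    (Nat.ModEq.refl _))
  exact ⟨fun h => h ⟨x, Subgroup.mem_zpowers x⟩, fun h y => smul_eq_of_zpowers h y y.2⟩

theorem ini_spec (hm : T.Mass) (hu : Unif T) {e : ℕ × ℕ × ℕ} (hp : e.1.Prime) (h1 : D.ord e.2.1 = e.1)
    (h2 : D.cnt e.2.1 = e.2.2) (h3 : 0 < e.2.2) (h4 : e.2.1 < D.n) {κ : Fe → Bool}
    (h : ini (Nat.card A) A.index e κ = true) : ∃ x, FOk T A x ∧ κ x = true := by
  obtain ⟨p, q, ct⟩ := e
  dsimp only at hp h1 h2 h3 h4
  obtain ⟨⟨x, hx⟩⟩ := (Nat.card_pos_iff.1 ((hm.2 q h4).trans h2 ▸ h3)).1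
  have h5 : orderOf x = p := by rw [T.ord, hx, h1]
  have h6 : fix A x * ct = A.index * num T A q := h2 ▸
    le_antisymm (le_num_mul hm h4 fun _ hy => (hu.fix_eq (h5 ▸ hp) (hx.trans hy.symm)).le)
      (num_mul_le hm h4 fun _ hy => (hu.fix_eq (h5 ▸ hp) (hx.trans hy.symm)).ge)
  have h0 : 0 < Nat.gcd A.index ct := Nat.gcd_pos_of_pos_right _ h3
  have h7 : A.index / Nat.gcd A.index ct ∣ fix A x := by
    refine (Nat.coprime_div_gcd_div_gcd h0).dvd_of_dvd_mul_right ⟨num T A q, ?_⟩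
    refine Nat.eq_of_mul_eq_mul_right h0 ?_
    rw [mul_assoc, Nat.div_mul_cancel (Nat.gcd_dvd_right _ _), mul_right_comm,
      Nat.div_mul_cancel (Nat.gcd_dvd_left _ _), h6]
  have h8 : fix A x ≤ mn A.index (A.index * (Nat.card A - 1) / ct) :=
    le_mn (fix_le_index A x) ((Nat.le_div_iff_mul_le h3).2
      (h6 ▸ Nat.mul_le_mul_left _ (num_le_pred (h1 ▸ hp.one_lt.ne'))))
  have h9 : 0 < A.index / Nat.gcd A.index ct :=
    Nat.div_pos (Nat.le_of_dvd (index_pos' A) (Nat.gcd_dvd_left _ _)) h0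
  rw [ini] at h
  dsimp only at h
  cases h10 : dv p (Nat.card A) with
  | false =>
    rw [h10, cond_false] at h
    have h11 := fix_eq_zero (A := A) (h5 ▸ dv_false h10)
    exact ⟨_, ⟨x, hx, h5 ▸ hp, Nat.modEq_one, Nat.zero_le _, h11.le⟩, h⟩
  | true =>
    rw [h10, cond_true, frc_eq, frc_eq] at h
    change Nat.div _ _ ∣ _ at h7
    change 0 < Nat.div _ _ at h9
    generalize Nat.div A.index (Nat.gcd A.index ct) = u at h h7 h9
    cases h11 : dv p u with
    | true =>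
      rw [h11, cond_true, mkF_eq] at h
      have h12 : 0 ≡ fix A x [MOD u] := (Nat.modEq_zero_iff_dvd.2 h7).symm
      exact ⟨_, ⟨x, hx, h5 ▸ hp, h12, Nat.zero_le _, le_round h12 (Nat.zero_le _) h8⟩, h⟩
    | false =>
      rw [h11, cond_false, frc_eq] at h
      obtain ⟨h12, h13⟩ := cond_ff h
      rw [mkF_eq] at h13
      obtain ⟨i, hi, h14⟩ := fnd_spec u p A.index p
      rw [h14] at h12 h13
      have h15 : u * i ≡ fix A x [MOD u * p] :=
        (Nat.modEq_and_modEq_iff_modEq_mul ((hp.coprime_iff_not_dvd.2 (dv_false h11)).symm)).1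
          ⟨(Nat.modEq_zero_iff_dvd.2 (dvd_mul_right u i)).trans (Nat.modEq_zero_iff_dvd.2 h7).symm,
            Nat.ModEq.trans (Nat.eq_of_beq_eq_true h12) (fix_modEq A hp h5)⟩
      have h16 : u * i ≤ fix A x := by
        have h17 : u * i < u * p := Nat.mul_lt_mul_of_pos_left (by have := hp.pos; omega) h9
        rw [← Nat.mod_eq_of_lt h17, h15]
        exact Nat.mod_le _ _
      exact ⟨_, ⟨x, hx, h5 ▸ hp, h15, h16, le_round h15 h16 h8⟩, h13⟩

theorem iniL_spec (hm : T.Mass) (hu : Unif T) {P : List (ℕ × ℕ × ℕ)} (hP : okP D P = true) :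
    ∀ {κ : List Fe → Bool}, iniL (Nat.card A) A.index P κ = true → ∃ F, (∀ e ∈ F, FOk T A e) ∧ κ F = true := by
  induction P with
  | nil => exact fun h => ⟨[], fun _ h => absurd h List.not_mem_nil, h⟩
  | cons e P ih =>
    intro κ h
    obtain ⟨h1, h2⟩ := allL_cons hP
    simp only [Bool.and_eq_true, Nat.beq_eq, Nat.blt_eq] at h1
    obtain ⟨x, h3, h4⟩ := ini_spec hm hu (isPr_spec h1.1.1.1.1) h1.1.1.1.2 h1.1.1.2 h1.1.2 h1.2 h
    obtain ⟨F, h5, h6⟩ := ih h2 h4
    exact ⟨x :: F, List.forall_mem_cons.2 ⟨h3, h5⟩, h6⟩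

end Cfsg.Agent.SM.Sp
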